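import Cfsg.Agent.Lib.SuzukiRankOne.CharFamily

/-!
Values at an involution of the exceptional characters and the resulting inequality.

Blueprint: `blueprint/bender/B2.md`, section 1.
-/

set_option autoImplicit false
set_option linter.unusedSectionVars false
set_option linter.unusedVariables false

namespace CfsgLib.SuzukiRankOne

open MulAction Cfsg CfsgLib.RankOne CfsgLib.CharTheory
open scoped ComplexConjugate

universe u v w

variable {G : Type u} {Ω : Type v} [Group G] [Finite G] [MulAction G Ω] [FaithfulSMul G Ω] {a : Ω} {t : G}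
  {Q : Subgroup G}

/-- A character equal to its degree at the involution. -/
def IsTriv {s : G} (hs : s ∈ involutionsIn (stabilizer G a : Set G)) (ξ : stabilizer G a → ℂ) : Prop :=
  ξ ⟨s, hs.1⟩ = ξ 1

/-- A character non-trivial on the involutions of the point stabiliser. -/
def IsNon {s : G} (hs : s ∈ involutionsIn (stabilizer G a : Set G)) (ξ : stabilizer G a → ℂ) : Prop :=
  ξ ⟨s, hs.1⟩ * ((qZ G a : ℂ) - 1) = - ξ 1

variable [Fintype G] [Fintype (stabilizer G a)]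

omit [Fintype (stabilizer G a)] in
theorem qZ_ne (hS : IsRankOneSetup G Ω a t Q) (h2 : Four G) : (qZ G a : ℂ) - 1 ≠ 0 ∧ (qZ G a : ℂ) ≠ 0 := by
  obtain ⟨s, h1, h1', h1''⟩ := exists_invol hS
  have h := card_pairWith_invol hS h2 (x := s) ⟨mem_stabilizer_iff.mpr h1, h1', h1''⟩
  refine ⟨?_, Nat.cast_ne_zero.mpr (by omega)⟩
  rw [sub_ne_zero]
  exact_mod_cast (by omega : qZ G a ≠ 1)

/-- Values of an induced function. -/
theorem ind_at (hS : IsRankOneSetup G Ω a t Q) (h2 : Four G) {s : G}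
    (hs : s ∈ involutionsIn (stabilizer G a : Set G)) {f : stabilizer G a → ℂ}
    (hf : IsClassFunction (stabilizer G a) f) (h : Supp a f) :
    indFun (stabilizer G a) f s = f ⟨s, hs.1⟩ ∧ wt s (indFun (stabilizer G a) f) =
      ((qZ G a : ℂ) - 2) / (((Nat.card Q : ℂ) + 1) * ((qZ G a : ℂ) - 1)) * f ⟨s, hs.1⟩ :=
  ⟨ind_val hS hf h ⟨s, hs.1⟩ (invol_sup hS hs), class_identity hS h2 hs hf h⟩

/-- The real form of a forced value. -/
theorem bd_of_val (hS : IsRankOneSetup G Ω a t Q) {s : G} (hs2 : s * s = 1) {X : G → ℂ}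
    (hX : IsIrrCharacter G X) {m : ℝ} (h : Val a Q s X (m : ℂ)) : Bd a Q s X m := by
  obtain ⟨σ, hσ, h⟩ := h
  obtain ⟨k, -, hk⟩ := irr_degree_pos hX
  set q : ℝ := (qZ G a : ℝ) with hq
  set N : ℝ := (Nat.card Q : ℝ) with hN
  obtain ⟨τ, hτ, hστ⟩ : ∃ τ : ℝ, (τ = 1 ∨ τ = -1) ∧ σ = (τ : ℂ) := by
    rcases hσ with e | e
    · exact ⟨1, Or.inl rfl, by simp [e]⟩
    · exact ⟨-1, Or.inr rfl, by simp [e]⟩
  have h' : (X s).re = τ * (m * q / (2 * (q - 1))) + ((q - 2) / 2) * (k : ℝ) / ((N + 1) * (q - 1)) := by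
    rw [h, hk, hστ, show (qZ G a : ℂ) = (q : ℂ) by simp [hq], show (Nat.card Q : ℂ) = (N : ℂ) by simp [hN],
      show ((k : ℕ) : ℂ) = ((k : ℝ) : ℂ) by simp,
      show (τ : ℂ) * (m : ℂ) * (q : ℂ) / (2 * ((q : ℂ) - 1)) + ((q : ℂ) - 2) / (((N : ℂ) + 1) * ((q : ℂ) - 1)) *
        ((k : ℝ) : ℂ) / 2 = ((τ * (m * q / (2 * (q - 1))) + ((q - 2) / 2) * (k : ℝ) / ((N + 1) * (q - 1)) : ℝ) : ℂ) by
          push_cast; ring,
      Complex.ofReal_re]
  unfold Bd
  rw [h', hk, Complex.natCast_re, ← hq, ← hN]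
  have hτ2 : τ * τ = 1 := by rcases hτ with e | e <;> simp [e]
  rw [show (m * q / (q - 1)) ^ 2 = 4 * (m * q / (2 * (q - 1))) ^ 2 by
    rw [mul_comm (2 : ℝ) (q - 1), ← div_div (m * q) (q - 1) 2]; ring]
  generalize m * q / (2 * (q - 1)) = A
  generalize ((q - 2) / 2) * (k : ℝ) / ((N + 1) * (q - 1)) = B
  nlinarith [sq_nonneg (A + 16 * τ * B), mul_self_nonneg A]

variable (hS : IsRankOneSetup G Ω a t Q) (h2 : Four G) {s : G} (hs : s ∈ involutionsIn (stabilizer G a : Set G))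
include hS h2

omit h2 in
/-- A trivial-on-involutions base has equal values. -/
theorem lift_val_eq {F : Fam G a} {ε : ℂ} {X : Fin F.n → G → ℂ} (hX : Lift F ε X)
    (ht : ∀ i, IsTriv hs (F.b i)) (i j : Fin F.n) : X i s = X j s := by
  have hsupp : Supp a (F.b i - F.b j) := by
    simpa using supp_diff hS (F.van i) (F.van j) 1 (by rw [one_mul]; exact F.deg i j)
  have h : indFun (stabilizer G a) (F.b i - F.b j) s = (F.b i - F.b j) ⟨s, hs.1⟩ :=
    ind_val hS (isClassFunction_sub (isClassFunction_irr (F.irr i)) (isClassFunction_irr (F.irr j))) hsupp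
      ⟨s, hs.1⟩ (invol_sup hS hs)
  rw [hX.eq, Pi.sub_apply (F.b i), ht i, ht j, F.deg i j, sub_self] at h
  have hε : ε ≠ 0 := by rcases hX.sign with e | e <;> simp [e]
  simp only [Pi.smul_apply, Pi.sub_apply, smul_eq_mul, mul_eq_zero, hε, false_or, sub_eq_zero] at h
  exact h

omit h2 in
/-- The equations at the involution for an adjoined character. -/
theorem adj_eqs (h2 : Four G) {F : Fam G a} {ε : ℂ} {X : Fin F.n → G → ℂ} (hX : Lift F ε X)
    (ht : ∀ i, IsTriv hs (F.b i)) {ξ : stabilizer G a → ℂ} {d : ℕ} (hξ : Mem F ξ d) {X' : G → ℂ} {β : ℕ}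
    (hA : Adj F ε X ξ d X' β) {v : ℂ} (hv : ξ ⟨s, hs.1⟩ - (d : ℂ) * F.b F.i0 1 = v) :
    ε * (1 - 2 * (β : ℂ)) * (X' s - (d : ℂ) * X F.i0 s) = v ∧
      (v ≠ 0 → X' s + (d : ℂ) * X F.i0 s =
        ((qZ G a : ℂ) - 2) / (((Nat.card Q : ℂ) + 1) * ((qZ G a : ℂ) - 1)) * X' 1) := by
  classical
  set i₀ := F.i0
  have hsupp : Supp a (ξ - (d : ℂ) • F.b i₀) := supp_diff hS hξ.van (F.van i₀) _ hξ.deg
  obtain ⟨h1, h3⟩ := ind_at hS h2 hs (classFun_sub_smul hξ.irr (F.irr i₀) (d : ℂ)) hsupp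
  have hfs : (ξ - (d : ℂ) • F.b i₀) ⟨s, hs.1⟩ = v := by
    rw [← hv, Pi.sub_apply, Pi.smul_apply, smul_eq_mul, ht i₀]
  have hP : ∀ i, X i 1 = X i₀ 1 := fun i => hX.deg hS i i₀
  have hu : ∀ i, X i s = X i₀ s := fun i => lift_val_eq hS hs hX ht i i₀
  have hn : (β : ℂ) * F.n = 2 * (β : ℂ) * d := by
    rcases hA.beta with e | ⟨e, e'⟩
    · simp [e]
    · rw [e, e']; push_cast; ring
  have hP0 : X i₀ 1 ≠ 0 := irr_ne_zero (hX.irr i₀)
  have hd : (d : ℂ) ≠ 0 := Nat.cast_ne_zero.mpr (by have := hξ.pos; omega)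
  rw [hA.eq, hfs] at h1 h3
  simp only [Pi.smul_apply, Pi.add_apply, Pi.sub_apply, Finset.sum_apply, smul_eq_mul, hu, Finset.sum_const,
    Finset.card_univ, Fintype.card_fin, nsmul_eq_mul] at h1
  simp only [wt_smul, wt_add, wt_sub, wt_sum, wt_irr s (hX.irr _), wt_irr s hA.irr, hu, hP, Finset.sum_const,
    Finset.card_univ, Fintype.card_fin, nsmul_eq_mul, hA.deg] at h3
  have e1 : ε * (1 - 2 * (β : ℂ)) * (X' s - (d : ℂ) * X i₀ s) = v := by
    linear_combination h1 - ε * X i₀ s * hn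
  refine ⟨e1, fun hv0 => mul_left_cancel₀ hv0 ?_⟩
  have h4 : ε * (1 - 2 * (β : ℂ)) * (X' s ^ 2 - (d : ℂ) ^ 2 * X i₀ s ^ 2) =
      ((qZ G a : ℂ) - 2) / (((Nat.card Q : ℂ) + 1) * ((qZ G a : ℂ) - 1)) * v * ((d : ℂ) * X i₀ 1) := by
    rw [← h3]
    field_simp
    linear_combination (-(ε * (d : ℂ) * X i₀ s ^ 2)) * hn
  calc v * (X' s + (d : ℂ) * X i₀ s) = ε * (1 - 2 * (β : ℂ)) * (X' s ^ 2 - (d : ℂ) ^ 2 * X i₀ s ^ 2) := by
        rw [← e1]; ring
    _ = _ := by rw [h4, hA.deg]; ring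

/-- An adjoined non-trivial character forces the values. -/
theorem val_non {F : Fam G a} {ε : ℂ} {X : Fin F.n → G → ℂ} (hX : Lift F ε X)
    (ht : ∀ i, IsTriv hs (F.b i)) {ξ : stabilizer G a → ℂ} {d : ℕ} (hξ : Mem F ξ d) (hn : IsNon hs ξ)
    {X' : G → ℂ} {β : ℕ} (hA : Adj F ε X ξ d X' β) :
    Val a Q s X' (ξ 1) ∧ ∀ i, Val a Q s (X i) (F.b i 1) := by
  obtain ⟨hq1, hq0⟩ := qZ_ne hS h2
  have hξs : ξ ⟨s, hs.1⟩ = - ξ 1 / ((qZ G a : ℂ) - 1) := by rw [eq_div_iff hq1]; exact hn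
  set v : ℂ := - ξ 1 * (qZ G a : ℂ) / ((qZ G a : ℂ) - 1) with hvdef
  obtain ⟨e1, e2⟩ := adj_eqs hS hs h2 hX ht hξ hA (v := v) (by
    rw [hξs, ← hξ.deg, hvdef]; field_simp; ring)
  have hv0 : v ≠ 0 := div_ne_zero (mul_ne_zero (neg_ne_zero.mpr (irr_ne_zero hξ.irr)) hq0) hq1
  have e3 := e2 hv0
  set σ : ℂ := ε * (1 - 2 * (β : ℂ)) with hσdef
  have hσ : σ = 1 ∨ σ = -1 := by
    rcases hX.sign with e | e <;> rcases hA.beta with e' | ⟨e', -⟩ <;> rw [hσdef, e, e'] <;> norm_num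
  have hσσ := sign_mul_self hσ
  have hdiff : X' s - (d : ℂ) * X F.i0 s = σ * v := by rw [← e1, ← mul_assoc, hσσ, one_mul]
  refine ⟨⟨-σ, by rcases hσ with e | e <;> simp [e], ?_⟩, fun i => ⟨σ, hσ, ?_⟩⟩
  · have : X' s = (σ * v + ((qZ G a : ℂ) - 2) / (((Nat.card Q : ℂ) + 1) * ((qZ G a : ℂ) - 1)) * X' 1) / 2 := by
      linear_combination (hdiff + e3) / 2
    rw [this, hvdef]; field_simp
  · have hd : (d : ℂ) ≠ 0 := Nat.cast_ne_zero.mpr (by have := hξ.pos; omega)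
    have hm : (d : ℂ) * X F.i0 s =
        (((qZ G a : ℂ) - 2) / (((Nat.card Q : ℂ) + 1) * ((qZ G a : ℂ) - 1)) * X' 1 - σ * v) / 2 := by
      linear_combination (e3 - hdiff) / 2
    rw [hA.deg, hvdef, hξ.deg] at hm
    rw [lift_val_eq hS hs hX ht i F.i0, hX.deg hS i F.i0, F.deg i F.i0]
    apply mul_left_cancel₀ hd
    rw [hm]
    field_simp
    ring

/-- An adjoined trivial character. -/
theorem val_triv {F : Fam G a} {ε : ℂ} {X : Fin F.n → G → ℂ} (hX : Lift F ε X)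
    (ht : ∀ i, IsTriv hs (F.b i)) {ξ : stabilizer G a → ℂ} {d : ℕ} (hξ : Mem F ξ d) (htr : IsTriv hs ξ)
    (hb : Val a Q s (X F.i0) (F.b F.i0 1)) {X' : G → ℂ} {β : ℕ} (hA : Adj F ε X ξ d X' β) :
    Val a Q s X' (ξ 1) := by
  obtain ⟨e1, -⟩ := adj_eqs hS hs h2 hX ht hξ hA (v := 0) (by rw [htr, hξ.deg, sub_self])
  have hne : ε * (1 - 2 * (β : ℂ)) ≠ 0 := by
    rcases hX.sign with e | e <;> rcases hA.beta with e' | ⟨e', -⟩ <;> rw [e, e'] <;> norm_num
  obtain ⟨σ, hσ, hx⟩ := hb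
  refine ⟨σ, hσ, ?_⟩
  rw [sub_eq_zero.mp ((mul_eq_zero.mp e1).resolve_left hne), hx, hξ.deg, hA.deg]
  ring

omit h2

/-- Adjoined characters of one family are different. -/
theorem adj_ne_same {F : Fam G a} {ε : ℂ} {X : Fin F.n → G → ℂ} (hX : Lift F ε X) {ξ η : stabilizer G a → ℂ}
    {d d' : ℕ} (hξ : Mem F ξ d) (hη : Mem F η d') (hne : ξ ≠ η) {X' X'' : G → ℂ} {β β' : ℕ}
    (hA : Adj F ε X ξ d X' β) (hA' : Adj F ε X η d' X'' β') : X' ≠ X'' := by
  classical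
  intro e
  subst e
  let i₀ := F.i0
  have h : classInner (indFun (stabilizer G a) (ξ - (d : ℂ) • F.b F.i0))
      (indFun (stabilizer G a) (η - (d' : ℂ) • F.b F.i0)) = (d : ℂ) * d' := by
    rw [ind_iso hS (classFun_sub_smul hη.irr (F.irr i₀) _) (supp_diff hS hξ.van (F.van i₀) _ hξ.deg)
      (supp_diff hS hη.van (F.van i₀) _ hη.deg)]
    simp only [classInner_sub_left, classInner_sub_right, classInner_smul_left, classInner_smul_right, map_natCast,
      classInner_irr_ne hξ.irr hη.irr hne, classInner_irr_ne hξ.irr (F.irr i₀) (hξ.new i₀),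
      classInner_irr_ne (F.irr i₀) hη.irr (fun e => hη.new i₀ e.symm), classInner_irr_self (F.irr i₀)]
    ring
  have z1 : ∀ i, classInner X' (X i) = 0 := fun i => classInner_irr_ne hA.irr (hX.irr i) (hA.new i)
  have z2 : ∀ i, classInner (X i) X' = 0 := fun i => classInner_irr_ne (hX.irr i) hA.irr fun e => hA.new i e.symm
  have z3 : classInner X' (∑ i, X i) = 0 := by rw [classInner_sum_right]; simp [z1]
  have z4 : classInner (∑ i, X i) X' = 0 := by rw [classInner_sum_left]; simp [z2]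
  rw [hA.eq, hA'.eq] at h
  simp only [classInner_smul_left, classInner_smul_right, classInner_add_left, classInner_add_right,
    classInner_sub_left, classInner_sub_right, map_natCast, map_sub, map_mul, map_one, map_ofNat,
    conj_sign hX.sign, lift_sum_sum hX, lift_inner_sum hX, lift_inner_sum' hX, z1, z2, z3, z4,
    classInner_irr_self hA.irr, classInner_irr_self (hX.irr F.i0)] at h
  have h' : (β : ℂ) * β' * F.n - β * d' - d * β' + (1 - 2 * (β : ℂ)) * (1 - 2 * (β' : ℂ)) = 0 := by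
    linear_combination h - ((β : ℂ) * β' * F.n - β * d' - d * β' + d * d' +
      (1 - 2 * (β : ℂ)) * (1 - 2 * (β' : ℂ))) * sign_mul_self hX.sign
  have hd := hξ.pos
  have hd' := hη.pos
  rcases hA.beta with e | ⟨e, en⟩ <;> rcases hA'.beta with e' | ⟨e', en'⟩ <;> subst e e'
  · norm_num at h'
  · push_cast at h'
    have : ((d + 1 : ℕ) : ℂ) = 0 := by push_cast; linear_combination -h'
    exact absurd (Nat.cast_eq_zero.mp this) (by omega)
  · push_cast at h'
    have : ((d' + 1 : ℕ) : ℂ) = 0 := by push_cast; linear_combination -h'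
    exact absurd (Nat.cast_eq_zero.mp this) (by omega)
  · push_cast at h'
    have : ((F.n + 1 : ℕ) : ℂ) = ((d + d' : ℕ) : ℂ) := by push_cast; linear_combination h'
    have := Nat.cast_injective (R := ℂ) this
    omega

/-- An adjoined character of one family is not in the lift of another. -/
theorem adj_ne_lift {F F' : Fam G a} (hne : ∀ i j, F.b i ≠ F'.b j) {ε ε' : ℂ} {X : Fin F.n → G → ℂ}
    {Y : Fin F'.n → G → ℂ} (hX : Lift F ε X) (hY : Lift F' ε' Y) {ξ : stabilizer G a → ℂ} {d : ℕ}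
    (hξ : Mem F ξ d) (hξ' : ∀ j, ξ ≠ F'.b j) {X' : G → ℂ} {β : ℕ} (hA : Adj F ε X ξ d X' β) (j : Fin F'.n) :
    X' ≠ Y j := by
  classical
  intro e
  obtain ⟨l, hl⟩ : ∃ l : Fin F'.n, l ≠ j := by
    haveI : Nontrivial (Fin F'.n) := Fin.nontrivial_iff_two_le.mpr F'.hn
    exact exists_ne j
  set i₀ := F.i0
  have hs' : Supp a (F'.b j - F'.b l) := by
    simpa using supp_diff hS (F'.van j) (F'.van l) 1 (by rw [one_mul]; exact F'.deg j l)
  have h : classInner (indFun (stabilizer G a) (ξ - (d : ℂ) • F.b i₀))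
      (indFun (stabilizer G a) (F'.b j - F'.b l)) = 0 := by
    rw [ind_iso hS (isClassFunction_sub (isClassFunction_irr (F'.irr j)) (isClassFunction_irr (F'.irr l)))
      (supp_diff hS hξ.van (F.van i₀) _ hξ.deg) hs']
    simp only [classInner_sub_left, classInner_sub_right, classInner_smul_left,
      classInner_irr_ne hξ.irr (F'.irr j) (hξ' j), classInner_irr_ne hξ.irr (F'.irr l) (hξ' l),
      classInner_irr_ne (F.irr i₀) (F'.irr j) (hne _ _), classInner_irr_ne (F.irr i₀) (F'.irr l) (hne _ _)]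
    ring
  have z : ∀ i k, classInner (X i) (Y k) = 0 := fun i k =>
    classInner_irr_ne (hX.irr i) (hY.irr k) (lift_disjoint hS hne hX hY i k)
  have z' : ∀ k, classInner (∑ i, X i) (Y k) = 0 := fun k => by rw [classInner_sum_left]; simp [z]
  rw [hA.eq, hY.eq] at h
  simp only [classInner_smul_left, classInner_smul_right, classInner_add_left,
    classInner_sub_left, classInner_sub_right, z, z', e, classInner_irr_self (hY.irr j),
    classInner_irr_ne (hY.irr j) (hY.irr l) fun e => hl (hY.inj e).symm, conj_sign hY.sign] at h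
  rcases hX.sign with h1 | h1 <;> rcases hY.sign with h1' | h1' <;> rcases hA.beta with h3 | ⟨h3, -⟩ <;>
    subst h1 h1' h3 <;> norm_num at h

/-- Adjoined characters of different families are different. -/
theorem adj_ne_adj {F F' : Fam G a} (hne : ∀ i j, F.b i ≠ F'.b j) {ε ε' : ℂ} {X : Fin F.n → G → ℂ}
    {Y : Fin F'.n → G → ℂ} (hX : Lift F ε X) (hY : Lift F' ε' Y) {ξ η : stabilizer G a → ℂ} {d d' : ℕ}
    (hξ : Mem F ξ d) (hη : Mem F' η d') (hξ' : ∀ j, ξ ≠ F'.b j) (hη' : ∀ i, η ≠ F.b i) (hne' : ξ ≠ η)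
    {X' Y' : G → ℂ} {β β' : ℕ} (hA : Adj F ε X ξ d X' β) (hA' : Adj F' ε' Y η d' Y' β') : X' ≠ Y' := by
  classical
  intro e
  set i₀ := F.i0
  set j₀ := F'.i0
  have h : classInner (indFun (stabilizer G a) (ξ - (d : ℂ) • F.b i₀))
      (indFun (stabilizer G a) (η - (d' : ℂ) • F'.b j₀)) = 0 := by
    rw [ind_iso hS (classFun_sub_smul hη.irr (F'.irr j₀) _) (supp_diff hS hξ.van (F.van i₀) _ hξ.deg)
      (supp_diff hS hη.van (F'.van j₀) _ hη.deg)]
    simp only [classInner_sub_left, classInner_sub_right, classInner_smul_left, classInner_smul_right,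
      classInner_irr_ne hξ.irr hη.irr hne', classInner_irr_ne hξ.irr (F'.irr j₀) (hξ' j₀),
      classInner_irr_ne (F.irr i₀) hη.irr (fun e => hη' i₀ e.symm),
      classInner_irr_ne (F.irr i₀) (F'.irr j₀) (hne _ _)]
    ring
  have z : ∀ i k, classInner (X i) (Y k) = 0 := fun i k =>
    classInner_irr_ne (hX.irr i) (hY.irr k) (lift_disjoint hS hne hX hY i k)
  have z1 : ∀ k, classInner X' (Y k) = 0 := fun k =>
    classInner_irr_ne hA.irr (hY.irr k) (adj_ne_lift hS hne hX hY hξ hξ' hA k)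
  have z2 : ∀ i, classInner (X i) Y' = 0 := fun i =>
    classInner_irr_ne (hX.irr i) hA'.irr fun e' =>
      adj_ne_lift hS (fun j i e => hne i j e.symm) hY hX hη hη' hA' i e'.symm
  rw [hA.eq, hA'.eq] at h
  simp only [classInner_smul_left, classInner_smul_right, classInner_add_left, classInner_add_right,
    classInner_sub_left, classInner_sub_right, classInner_sum_left, classInner_sum_right, z, z1, z2,
    Finset.sum_const_zero, mul_zero, sub_zero, zero_add, conj_sign hY.sign, map_sub, map_mul, map_one, map_ofNat,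
    map_natCast] at h
  rw [e, classInner_irr_self hA'.irr] at h
  rcases hX.sign with h1 | h1 <;> rcases hY.sign with h1' | h1' <;> rcases hA.beta with h3 | ⟨h3, -⟩ <;>
    rcases hA'.beta with h4 | ⟨h4, -⟩ <;> subst h1 h1' h3 h4 <;> norm_num at h

include h2 hs

/-- The inequality for a system of families. -/
theorem family_bound {ι : Type w} [Fintype ι] (F : ι → Fam G a) (M : ι → Finset (stabilizer G a → ℂ))
    (d : ι → (stabilizer G a → ℂ) → ℕ)
    (hb : ∀ i j, i ≠ j → ∀ k l, (F i).b k ≠ (F j).b l)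
    (hm : ∀ i, ∀ ξ ∈ M i, Mem (F i) ξ (d i ξ))
    (hcross : ∀ i j, i ≠ j → ∀ ξ ∈ M i, (∀ k, ξ ≠ (F j).b k) ∧ ξ ∉ M j)
    (hval : ∀ i (ε : ℂ) (X : Fin (F i).n → G → ℂ), Lift (F i) ε X →
      (∀ k, Val a Q s (X k) ((F i).b k 1)) ∧
        ∀ ξ ∈ M i, ∀ (X' : G → ℂ) (β : ℕ), Adj (F i) ε X ξ (d i ξ) X' β → Val a Q s X' (ξ 1)) :
    15 / 64 * ((qZ G a : ℝ) / ((qZ G a : ℝ) - 1)) ^ 2 *
        ∑ i, ((F i).n * ((F i).b (F i).i0 1).re ^ 2 + ∑ ξ ∈ M i, (ξ 1).re ^ 2) ≤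
      (Nat.card Q : ℝ) * (Nat.card ↥(D a t ⊓ Subgroup.centralizer {t}) : ℝ) *
        (1 + 15 * (((qZ G a : ℝ) - 2) / 2) ^ 2 / (((Nat.card Q : ℝ) + 1) * ((qZ G a : ℝ) - 1))) := by
  classical
  choose ε X hX using fun i => exists_lift hS (F i)
  choose Y β hY using fun i (ξ : M i) => exists_adj hS (hX i) (hm i ξ ξ.2)
  let Φ : (Σ i, Fin (F i).n ⊕ M i) → IrrCharacter G := fun p => match p with
    | ⟨i, .inl k⟩ => ⟨X i k, (hX i).irr k⟩
    | ⟨i, .inr ξ⟩ => ⟨Y i ξ, (hY i ξ).irr⟩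
  let m : (Σ i, Fin (F i).n ⊕ M i) → ℝ := fun p => match p with
    | ⟨i, .inl k⟩ => ((F i).b k 1).re
    | ⟨_, .inr ξ⟩ => ((ξ : stabilizer G a → ℂ) 1).re
  have hinj : Function.Injective Φ := by
    rintro ⟨i, k | ξ⟩ ⟨j, l | η⟩ e <;> have e' := congrArg Subtype.val e <;> dsimp only [Φ] at e' <;>
      by_cases hij : i = j
    · subst hij; rw [(hX i).inj e']
    · exact absurd e' (lift_disjoint hS (hb i j hij) (hX i) (hX j) k l)
    · subst hij; exact absurd e'.symm ((hY i η).new k)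
    · exact absurd e'.symm (adj_ne_lift hS (hb j i (Ne.symm hij)) (hX j) (hX i) (hm j η η.2)
        (hcross j i (Ne.symm hij) η η.2).1 (hY j η) k)
    · subst hij; exact absurd e' ((hY i ξ).new l)
    · exact absurd e' (adj_ne_lift hS (hb i j hij) (hX i) (hX j) (hm i ξ ξ.2)
        (hcross i j hij ξ ξ.2).1 (hY i ξ) l)
    · subst hij
      by_contra hne
      exact adj_ne_same hS (hX i) (hm i ξ ξ.2) (hm i η η.2)
        (fun h => hne (by rw [Subtype.ext h])) (hY i ξ) (hY i η) e'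
    · exact absurd e' (adj_ne_adj hS (hb i j hij) (hX i) (hX j) (hm i ξ ξ.2) (hm j η η.2)
        (hcross i j hij ξ ξ.2).1 (hcross j i (Ne.symm hij) η η.2).1
        (fun h => (hcross i j hij ξ ξ.2).2 (h ▸ η.2)) (hY i ξ) (hY j η))
  have hreal : ∀ {η : stabilizer G a → ℂ}, IsIrrCharacter (stabilizer G a) η → ((η 1).re : ℂ) = η 1 := by
    intro η hη
    obtain ⟨k, -, hk⟩ := irr_degree_pos hη
    simp [hk]
  have h := bound_sum hS h2 hs Φ hinj m (by
    rintro ⟨i, k | ξ⟩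
    · refine bd_of_val hS hs.2.2 ((hX i).irr k) ?_
      show Val a Q s (X i k) ((((F i).b k 1).re : ℝ) : ℂ)
      rw [hreal ((F i).irr k)]
      exact (hval i _ _ (hX i)).1 k
    · refine bd_of_val hS hs.2.2 (hY i ξ).irr ?_
      show Val a Q s (Y i ξ) ((((ξ : stabilizer G a → ℂ) 1).re : ℝ) : ℂ)
      rw [hreal (hm i ξ ξ.2).irr]
      exact (hval i _ _ (hX i)).2 ξ ξ.2 _ _ (hY i ξ))
  refine le_of_eq_of_le ?_ h
  congr 1
  rw [Fintype.sum_sigma]
  refine Finset.sum_congr rfl fun i _ => ?_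
  rw [Fintype.sum_sum_type]
  congr 1
  · show _ = ∑ k, ((F i).b k 1).re ^ 2
    rw [Finset.sum_congr rfl fun k _ => by rw [(F i).deg k (F i).i0]]
    simp
  · show _ = ∑ ξ : M i, ((ξ : stabilizer G a → ℂ) 1).re ^ 2
    exact (Finset.sum_coe_sort (M i) fun ξ => (ξ 1).re ^ 2).symm

end CfsgLib.SuzukiRankOne
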