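import Cfsg.Agent.Lib.SuzukiRankOne.KernelBase

/-!
Counting the characters of the involutions moved by the stabiliser of a character of `O`.

Blueprint: `blueprint/bender/B2.md`, section 2.
-/

set_option autoImplicit false
set_option linter.unusedSectionVars false
set_option linter.style.haveILetI false

namespace CfsgLib.SuzukiRankOne

open MulAction Cfsg CfsgLib.RankOne CfsgLib.CharTheory
open CfsgLib.AfterFT.SplitRankOne (invGroup)
open scoped ComplexConjugate

universe u v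

variable {G : Type u} {Ω : Type v} [Group G] [Finite G] [MulAction G Ω] [FaithfulSMul G Ω] {a : Ω} {t : G}
  {Q S O : Subgroup G} (hS : IsRankOneSetup G Ω a t Q) (h2 : Four G)
include hS h2

theorem even_four_le_q : Even (qZ G a) ∧ 4 ≤ qZ G a := by
  haveI := Fact.mk Nat.prime_two
  have hP : IsPGroup 2 (invGroup hS h2) := fun g => ⟨1, Subtype.ext (by
    rw [pow_one, sq]; exact g.2.2)⟩
  obtain ⟨n, hn⟩ := IsPGroup.iff_card.mp hP
  rw [card_invGroup hS h2] at hn
  obtain ⟨s₁, hs₁, s₂, hs₂, hne⟩ := two_le_card_invol hS h2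
  have h : 2 ≤ qZ G a - 1 := by
    rw [qZ, Nat.add_sub_cancel]
    haveI : Nontrivial {x : G // x ∈ involutionsIn (stabilizer G a : Set G)} :=
      ⟨⟨s₁, hs₁⟩, ⟨s₂, hs₂⟩, fun e => hne (congrArg Subtype.val e)⟩
    exact Finite.one_lt_card
  have h2n : 2 ≤ n := by
    by_contra hlt
    interval_cases n <;> omega
  exact ⟨hn ▸ (Nat.even_pow.mpr ⟨even_two, by omega⟩),
    hn ▸ (show 4 ≤ 2 ^ n from (Nat.pow_le_pow_right Nat.zero_lt_two h2n : 2 ^ 2 ≤ 2 ^ n))⟩

/-- An element centralising one involution fixes two characters of the involutions. -/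
theorem fixed_two (hsp : Split Q S O) {x : stabilizer G a}
    (hone : Nat.card {z : G // z ∈ involutionsIn (stabilizer G a : Set G) ∧ z * x = x * z} = 1) :
    Nat.card {χ : IrrCharacter (invGroup hS h2) // cZ hS h2 x χ = χ} = 2 := by
  classical
  rw [show Nat.card {χ : IrrCharacter (invGroup hS h2) // cZ hS h2 x χ = χ} =
      Nat.card {z : invGroup hS h2 // aZ hS h2 x z = z} by
    rw [← card_fixed_irr_abelian (invGroup_ab hS h2 hsp) (aZ hS h2 x)]
    exact Nat.card_congr (Equiv.subtypeEquivRight fun χ =>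
      ⟨fun e => congrArg Subtype.val e, fun e => Subtype.ext e⟩)]
  obtain ⟨hsub, ⟨⟨z₀, hzI, hzx⟩⟩⟩ := Nat.card_eq_one_iff_unique.mp hone
  let z' : invGroup hS h2 := ⟨z₀, hzI.1, hzI.2.2⟩
  have hfix : aZ hS h2 x z' = z' := Subtype.ext (by
    show (x : G) * z₀ * (x : G)⁻¹ = z₀
    rw [← hzx, mul_inv_cancel_right])
  refine Nat.card_eq_two_iff.mpr ⟨⟨1, map_one _⟩, ⟨z', hfix⟩, fun e => ?_, ?_⟩
  · exact hzI.2.1 (congrArg (fun w : {z : invGroup hS h2 // aZ hS h2 x z = z} => ((w : invGroup hS h2) : G)) e).symm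
  · refine Set.eq_univ_of_forall fun w => ?_
    by_cases hw : ((w : invGroup hS h2) : G) = 1
    · exact Or.inl (Subtype.ext (Subtype.ext hw))
    · refine Or.inr (Set.mem_singleton_iff.mpr (Subtype.ext (Subtype.ext ?_)))
      have hwx : ((w : invGroup hS h2) : G) * x = x * ((w : invGroup hS h2) : G) :=
        (mul_inv_eq_iff_eq_mul.mp (congrArg Subtype.val w.2)).symm
      exact (congrArg (fun y : {z : G // z ∈ involutionsIn (stabilizer G a : Set G) ∧ z * x = x * z} => (y : G))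
        (hsub.elim ⟨_, ⟨w.1.2.1, hw, w.1.2.2⟩, hwx⟩ ⟨z₀, hzI, hzx⟩) :)

variable (hsp : Split Q S O)
include hsp

/-- A character fixed by one element of a group of prime order is fixed by all. -/
theorem fix_all {M : Subgroup (stabilizer G a)} {p : ℕ} (hp : p.Prime) (hcard : Nat.card M = p)
    {χ : IrrCharacter (invGroup hS h2)} {d : stabilizer G a} (hd : d ∈ M) (hd1 : d ≠ 1)
    (hfix : cZ hS h2 d χ = χ) {x : stabilizer G a} (hx : x ∈ M) : cZ hS h2 x χ = χ := by
  haveI := Fact.mk hp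
  have hmem : (⟨x, hx⟩ : M) ∈ Subgroup.zpowers (⟨d, hd⟩ : M) :=
    mem_zpowers_of_prime_card hcard fun h => hd1 (congrArg Subtype.val h)
  obtain ⟨n, hn⟩ := (IsOfFinOrder.mem_powers_iff_mem_zpowers (isOfFinOrder_of_finite _)).mpr hmem
  have hn' : d ^ n = x := by simpa using congrArg Subtype.val hn
  rw [← hn']
  clear hn hn'
  induction n with
  | zero => rw [pow_zero, cZ_one hS h2 hsp]
  | succ n ih => rw [pow_succ, cZ_mul hS h2 hsp, ih, hfix]

/-- The trivial character is fixed. -/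
theorem cZ_triv (g : stabilizer G a) : cZ hS h2 g (triv1 hS h2) = triv1 hS h2 := rfl

/-- The free characters are many. -/
theorem free_card (hI : IHyp.{u, v} (Nat.card G)) {ν : IrrCharacter O} (hν : (ν : O → ℂ) ≠ fun _ => 1) :
    (Mst hS h2 hsp ν = ⊥ → Nat.card {χ // Free hS h2 hsp χ ν} = qZ G a) ∧
      qZ G a ≤ Nat.card {χ // Free hS h2 hsp χ ν} + 2 := by
  classical
  haveI := Fintype.ofFinite (invGroup hS h2)
  have htot : Nat.card (IrrCharacter (invGroup hS h2)) = qZ G a := by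
    rw [card_irr_abelian (invGroup_ab hS h2 hsp), card_invGroup hS h2]
  have hbot : Mst hS h2 hsp ν = ⊥ → Nat.card {χ // Free hS h2 hsp χ ν} = qZ G a := fun hb => by
    have hall : ∀ χ, Free hS h2 hsp χ ν := fun χ d hd e _ => by
      have : d ∈ Mst hS h2 hsp ν := ⟨hd, e⟩
      rwa [hb, Subgroup.mem_bot] at this
    rw [Nat.card_congr (Equiv.subtypeUnivEquiv hall), htot]
  refine ⟨hbot, ?_⟩
  rcases mst_cases hS h2 hsp hI hν with hb | ⟨p, hp, -, hcard, -, hone⟩
  · rw [hbot hb]; omega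
  have hne : Mst hS h2 hsp ν ≠ ⊥ := fun e => hp.ne_one (by rw [← hcard, e, Subgroup.card_bot])
  haveI := (Subgroup.nontrivial_iff_ne_bot _).mpr hne
  obtain ⟨⟨x, hx⟩, hx1⟩ := exists_ne (1 : Mst hS h2 hsp ν)
  rw [← htot, ← fixed_two hS h2 hsp (hone x hx fun e => hx1 (Subtype.ext e))]
  simp only [Nat.card_eq_fintype_card, Fintype.card_subtype,
    ← Finset.card_univ (α := IrrCharacter (invGroup hS h2))]
  refine le_trans (Finset.card_le_card fun χ _ => ?_) (Finset.card_union_le _ _)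
  by_cases h : Free hS h2 hsp χ ν
  · exact Finset.mem_union_left _ (Finset.mem_filter.mpr ⟨Finset.mem_univ _, h⟩)
  · rw [Free] at h
    push Not at h
    obtain ⟨d, hd, e1, e2, hd1⟩ := h
    exact Finset.mem_union_right _ (Finset.mem_filter.mpr
      ⟨Finset.mem_univ _, fix_all hS h2 hsp hp hcard ⟨hd, e1⟩ hd1 e2 hx⟩)

/-- A free character non-trivial on the involutions. -/
theorem exists_free_non (hI : IHyp.{u, v} (Nat.card G)) {ν : IrrCharacter O} (hν : (ν : O → ℂ) ≠ fun _ => 1) :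
    ∃ χ, Free hS h2 hsp χ ν ∧ (χ : invGroup hS h2 → ℂ) ≠ fun _ => 1 := by
  classical
  haveI := Fintype.ofFinite (invGroup hS h2)
  have h := (free_card hS h2 hsp hI hν).2
  have := (even_four_le_q hS h2).2
  by_contra hall
  push Not at hall
  have hle : Nat.card {χ // Free hS h2 hsp χ ν} ≤ 1 := by
    haveI : Subsingleton {χ // Free hS h2 hsp χ ν} :=
      ⟨fun x y => Subtype.ext (Subtype.ext ((hall x x.2).trans (hall y y.2).symm))⟩
    exact Finite.card_le_one_iff_subsingleton.mpr inferInstance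
  omega

/-- Two free characters in different orbits. -/
theorem exists_free_pair (hI : IHyp.{u, v} (Nat.card G)) {ν : IrrCharacter O} (hν : (ν : O → ℂ) ≠ fun _ => 1)
    (hne : Mst hS h2 hsp ν ≠ ⊥) :
    ∃ χ χ', Free hS h2 hsp χ ν ∧ Free hS h2 hsp χ' ν ∧ ∀ d ∈ Mst hS h2 hsp ν, cZ hS h2 d χ ≠ χ' := by
  classical
  obtain ⟨χ, hχ, -⟩ := exists_free_non hS h2 hsp hI hν
  refine ⟨χ, ?_⟩
  by_contra hall
  push Not at hall
  obtain ⟨p, hp, hpo, hcard, hq, -⟩ := (mst_cases hS h2 hsp hI hν).resolve_left hne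
  have hle : Nat.card {χ // Free hS h2 hsp χ ν} ≤ p := by
    rw [← hcard]
    choose d hd hd' using fun c : {χ // Free hS h2 hsp χ ν} => hall c hχ c.2
    exact Nat.card_le_card_of_injective (fun c => (⟨d c, hd c⟩ : Mst hS h2 hsp ν)) fun x y e => Subtype.ext (by
      rw [← hd' x, ← hd' y, show d x = d y from congrArg Subtype.val e])
  have h := (free_card hS h2 hsp hI hν).2
  have hp3 : 3 ≤ p := by
    rcases hpo with ⟨k, hk⟩
    have := hp.two_le
    omega
  have key : p + 2 < 2 ^ p := by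
    clear h hle hq hcard hpo hp hne hall
    induction p, hp3 using Nat.le_induction with
    | base => norm_num
    | succ n hn ih => rw [pow_succ]; omega
  omega

/-- The non-trivial fixed character of the involutions. -/
theorem exists_fixed_chi (hI : IHyp.{u, v} (Nat.card G)) {ν : IrrCharacter O} (hν : (ν : O → ℂ) ≠ fun _ => 1)
    (hne : Mst hS h2 hsp ν ≠ ⊥) :
    ∃ χ₀ : IrrCharacter (invGroup hS h2), (χ₀ : invGroup hS h2 → ℂ) ≠ (fun _ => 1) ∧
      ∀ d ∈ Mst hS h2 hsp ν, cZ hS h2 d χ₀ = χ₀ := by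
  classical
  obtain ⟨p, hp, -, hcard, -, hone⟩ := (mst_cases hS h2 hsp hI hν).resolve_left hne
  haveI := (Subgroup.nontrivial_iff_ne_bot _).mpr hne
  obtain ⟨⟨x, hx⟩, hx1⟩ := exists_ne (1 : Mst hS h2 hsp ν)
  have hx1' : x ≠ 1 := fun e => hx1 (Subtype.ext e)
  have h2c := fixed_two hS h2 hsp (hone x hx hx1')
  haveI : Nontrivial {χ : IrrCharacter (invGroup hS h2) // cZ hS h2 x χ = χ} :=
    Finite.one_lt_card_iff_nontrivial.mp (by omega)
  obtain ⟨χ₀, hχ₀⟩ := exists_ne (⟨triv1 hS h2, cZ_triv hS h2 hsp x⟩ :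
    {χ : IrrCharacter (invGroup hS h2) // cZ hS h2 x χ = χ})
  exact ⟨χ₀.1, fun e => hχ₀ (Subtype.ext (Subtype.ext e)),
    fun d hd => fix_all hS h2 hsp hp hcard hx hx1' χ₀.2 hd⟩

end CfsgLib.SuzukiRankOne
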