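import Cfsg.Agent.Lib.SuzukiRankOne.AbelianChars
import Cfsg.Agent.Lib.SuzukiRankOne.CharBound
import Cfsg.Agent.Lib.SuzukiRankOne.KernelFree

/-!
An abelian regular normal subgroup has exponent at most four.

Blueprint: `blueprint/bender/B2.md`, section 3.
-/

set_option autoImplicit false
set_option linter.unusedSectionVars false
set_option linter.style.haveILetI false

namespace CfsgLib.SuzukiRankOne

open MulAction Cfsg CfsgLib.RankOne CfsgLib.CharTheory
open CfsgLib.AfterFT.SplitRankOne (invGroup)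
open scoped ComplexConjugate

universe u v

/-- The inequality fails in exponent at least eight. -/
theorem arith_abelian {q N V R : ℝ} (hV : 1 ≤ V) (hN : q ^ 3 ≤ N)
    (hcase : (q = 4 ∧ N - 1 ≤ R) ∨ (8 ≤ q ∧ 3 / 4 * N ≤ R))
    (h : 15 / 64 * (q / (q - 1)) ^ 2 * ((q - 1) * V * R) ≤
      N * V * (1 + 15 * ((q - 2) / 2) ^ 2 / ((N + 1) * (q - 1)))) : False := by
  have hq : 4 ≤ q := by rcases hcase with ⟨h1, -⟩ | ⟨h1, -⟩ <;> linarith
  have he : 0 < q - 1 := by linarith
  have hq3 : (64 : ℝ) ≤ q ^ 3 := by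
    have := pow_le_pow_left₀ (by norm_num) hq 3
    norm_num at this
    exact this
  have hN0 : 0 < N := by linarith
  have hL : 15 / 64 * (q / (q - 1)) ^ 2 * ((q - 1) * V * R) = V * (15 / 64 * q ^ 2 / (q - 1) * R) := by
    field_simp
  have hR : N * V * (1 + 15 * ((q - 2) / 2) ^ 2 / ((N + 1) * (q - 1))) =
      V * (N * (1 + 15 * ((q - 2) / 2) ^ 2 / ((N + 1) * (q - 1)))) := by ring
  rw [hL, hR] at h
  have h' := le_of_mul_le_mul_left h (by linarith)
  have hNN : N * (15 * ((q - 2) / 2) ^ 2 / ((N + 1) * (q - 1))) ≤ 15 * ((q - 2) / 2) ^ 2 / (q - 1) := by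
    rw [div_mul_eq_div_div]
    have h0 : N * (15 * ((q - 2) / 2) ^ 2 / (N + 1)) ≤ 15 * ((q - 2) / 2) ^ 2 := by
      rw [mul_div_assoc', div_le_iff₀ (by linarith)]
      nlinarith [sq_nonneg ((q - 2) / 2)]
    rw [mul_div_assoc']
    gcongr
  have h'' : 15 / 64 * q ^ 2 / (q - 1) * R ≤ N + 15 * ((q - 2) / 2) ^ 2 / (q - 1) := by linarith
  rw [div_mul_eq_mul_div, ← sub_nonneg] at h''
  have h3 : 15 / 64 * q ^ 2 * R ≤ N * (q - 1) + 15 * ((q - 2) / 2) ^ 2 := by
    have := mul_nonneg h'' he.le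
    field_simp at this
    nlinarith
  rcases hcase with ⟨h1, h2⟩ | ⟨h1, h2⟩
  · subst h1
    norm_num at h3 hN
    nlinarith
  · have h4 : 15 / 64 * q ^ 2 * (3 / 4 * N) ≤ 15 / 64 * q ^ 2 * R :=
      mul_le_mul_of_nonneg_left h2 (by positivity)
    have h5 : 15 * ((q - 2) / 2) ^ 2 ≤ N := by nlinarith
    nlinarith [mul_le_mul_of_nonneg_right (show q ≤ 45 / 256 * q ^ 2 by nlinarith) hN0.le]

variable {G : Type u} {Ω : Type v} [Group G] [Finite G] [MulAction G Ω] [FaithfulSMul G Ω] {a : Ω} {t : G}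
  {Q : Subgroup G} (hS : IsRankOneSetup G Ω a t Q) (h2 : Four G) (hab : ∀ x ∈ Q, ∀ y ∈ Q, x * y = y * x)
include hS h2 hab

/-- No exponent above four. -/
theorem no_long_exponent (hQ2 : IsPGroup 2 Q) {k : ℕ} (hk : 2 ≤ k) (hj : lev hab (k + 1) = Q)
    (hcard : ∀ i ≤ k + 1, Nat.card (lev hab i) = qZ G a ^ i) : False := by
  classical
  haveI := Fact.mk Nat.prime_two
  haveI := Fintype.ofFinite G
  haveI := Fintype.ofFinite (stabilizer G a)
  haveI := lA_normal hS h2 hab (k + 1) (a := a)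
  haveI := lA_normal hS h2 hab k (a := a)
  haveI := Fintype.ofFinite (lA hab a (k + 1))
  haveI := Fintype.ofFinite (lA hab a k)
  haveI := Fintype.ofFinite (invGroup hS h2)
  obtain ⟨hqe, hq4⟩ := even_four_le_q hS h2
  obtain ⟨f, hf⟩ : ∃ f, qZ G a = 2 ^ f := by
    obtain ⟨f, hf⟩ := IsPGroup.iff_card.mp (show IsPGroup 2 (invGroup hS h2) from fun g => ⟨1, Subtype.ext (by
      rw [pow_one, sq]; exact g.2.2)⟩)
    exact ⟨f, (card_invGroup hS h2).symm.trans hf⟩
  set q := qZ G a with hq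
  set W := Nat.card (Vt a t) - 1 with hWdef
  have hVle := (vt_bounds hS h2 hab hQ2 hf).1
  have hVodd : Odd (Nat.card (Vt a t)) := hS.odd_card.of_dvd_nat (Subgroup.card_dvd_of_le inf_le_left)
  have hW : W ≤ f - 1 := by omega
  have hWf : W = 0 ∨ 3 ≤ f := by
    obtain ⟨r, hr⟩ := hVodd
    omega
  set u := 2 ^ (f / 3) with hu
  have hu1 : 1 ≤ u := Nat.one_le_two_pow
  -- a base character
  obtain ⟨lam, hlam, hlamreal⟩ : ∃ lam : IrrCharacter (lA hab a k), Good hab t lam ∧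
      ¬ ∀ x, conj ((lam : lA hab a k → ℂ) x) = (lam : lA hab a k → ℂ) x := by
    by_contra hall
    push Not at hall
    have hb := card_bad_le hS h2 hab hQ2 hf (hcard k (by omega))
    rw [← hWdef, ← hu, ← hq] at hb
    have hle : Nat.card {θ : IrrCharacter (lA hab a k) // Good hab t θ} + 1 ≤ q := by
      refine le_trans ?_ (card_real_le hS h2 hab k)
      haveI := Fintype.ofFinite {θ : IrrCharacter (lA hab a k) // Good hab t θ}
      rw [Nat.card_eq_fintype_card (α := {θ : IrrCharacter (lA hab a k) // Good hab t θ}), ← Fintype.card_option,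
        ← Nat.card_eq_fintype_card]
      refine Nat.card_le_card_of_injective (fun o => o.elim ⟨⟨fun _ => 1, isIrrCharacter_one⟩, fun _ => map_one _⟩
        fun θ => ⟨θ.1, hall θ.1 θ.2⟩) ?_
      rintro (_ | θ) (_ | θ') e
      · rfl
      · exact absurd (congrArg Subtype.val (congrArg Subtype.val e :)).symm θ'.2.1
      · exact absurd (congrArg Subtype.val (congrArg Subtype.val e :)) θ.2.1
      · exact congrArg some (Subtype.ext (congrArg Subtype.val e :))
    have hs1 := num_small hW hWf hk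
    rw [← hu, ← hf] at hs1
    have hpow : q ^ k = q ^ (k - 1) * q := by rw [← pow_succ]; congr 1; omega
    have hqk : q ≤ q ^ (k - 1) := Nat.le_self_pow (by omega) q
    have h1 : (q - 1) * (W * (u ^ k - 1)) + 2 * (q - 1) ≤ (q - 1) * (2 * q ^ (k - 1)) := by
      rw [mul_comm 2 (q - 1), ← mul_add]
      refine Nat.mul_le_mul_left _ ?_
      rcases Nat.eq_zero_or_pos W with h0 | h0
      · rw [h0, zero_mul]; omega
      · have hmul : W * (u ^ k - 1) + W = W * u ^ k := by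
          rw [← Nat.mul_succ, Nat.succ_eq_add_one, Nat.sub_add_cancel (Nat.one_le_pow _ _ hu1)]
        omega
    have h3 : (q - 1) * (2 * q ^ (k - 1)) + 2 * q ^ (k - 1) = 2 * q ^ k := by
      rw [hpow]
      calc (q - 1) * (2 * q ^ (k - 1)) + 2 * q ^ (k - 1) = ((q - 1) + 1) * (2 * q ^ (k - 1)) := by ring
        _ = 2 * (q ^ (k - 1) * q) := by rw [Nat.sub_add_cancel (by omega)]; ring
    omega
  -- squaring
  let sq' : lA hab a (k + 1) →* lA hab a k :=
    { toFun := fun x => ⟨(x : stabilizer G a) * x, sq_mem_lev hS h2 hab x.2⟩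
      map_one' := Subtype.ext (by simp)
      map_mul' := fun x y => Subtype.ext (Subtype.ext (by
        show ((x : stabilizer G a) : G) * ((y : stabilizer G a) : G) *
          (((x : stabilizer G a) : G) * ((y : stabilizer G a) : G)) = _
        rw [mul_assoc, ← mul_assoc (((y : stabilizer G a) : G)),
          show ((y : stabilizer G a) : G) * ((x : stabilizer G a) : G) =
            ((x : stabilizer G a) : G) * ((y : stabilizer G a) : G) from hab _ y.2.1 _ x.2.1]
        show _ = ((x : stabilizer G a) : G) * (x : stabilizer G a) * (((y : stabilizer G a) : G) * (y : stabilizer G a))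
        group)) }
  have hker : Nat.card sq'.ker ≤ q := by
    rw [hq, ← card_invGroup hS h2]
    refine Nat.card_le_card_of_injective (fun x => ⟨((x.1 : stabilizer G a) : G), (x.1 : stabilizer G a).2, ?_⟩)
      fun x y e => Subtype.ext (Subtype.ext (Subtype.ext (congrArg Subtype.val e :)))
    exact congrArg (fun z : lA hab a k => ((z : stabilizer G a) : G)) (MonoidHom.mem_ker.mp x.2)
  have hsur : Function.Surjective sq' := by
    rw [← MonoidHom.range_eq_top]
    refine Subgroup.eq_top_of_le_card _ ?_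
    have h := sq'.ker.card_mul_index
    rw [Subgroup.index_ker, card_lA hS h2 hab, hcard (k + 1) le_rfl] at h
    rw [card_lA hS h2 hab, hcard k (by omega)]
    refine Nat.le_of_mul_le_mul_left (c := q) ?_ (by omega)
    calc q * q ^ k = q ^ (k + 1) := (pow_succ' q k).symm
      _ ≤ q * Nat.card sq'.range := by rw [← h]; exact Nat.mul_le_mul_right _ hker
  have hCQ : (lA hab a (k + 1)) = qA Q a := by
    show (lev hab (k + 1)).subgroupOf (stabilizer G a) = _
    rw [hj]
  have hidx : (lA hab a (k + 1)).index = Nat.card ↥(D a t) := by rw [hCQ, qA_index hS]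
  -- the inertia group of a good character
  have hinertia : ∀ θ : IrrCharacter (lA hab a (k + 1)), Good hab t θ → (lA hab a (k + 1)) = inertia (lA hab a (k + 1)) (θ : (lA hab a (k + 1)) → ℂ) := by
    intro θ hθ
    refine le_antisymm (le_inertia _ (isClassFunction_irr θ.2)) fun g hg => ?_
    obtain ⟨y, hy, d, hd, rfl⟩ := exists_qd hS g
    have hyC : y ∈ (lA hab a (k + 1)) := hCQ ▸ hy
    rw [mem_inertia, conjNormFun_mul, conjNormFun_of_mem (lA hab a (k + 1)) hyC (isClassFunction_irr θ.2)] at hg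
    rw [hθ.2 d hd hg, mul_one]
    exact hyC
  let Θ : Finset ((lA hab a (k + 1)) → ℂ) := (Finset.univ.filter fun θ : IrrCharacter (lA hab a (k + 1)) => Good hab t θ).image Subtype.val
  let L := overFin (lA hab a (k + 1)) Θ
  have hLmem : ∀ ξ ∈ L, IsIrrCharacter (stabilizer G a) ξ ∧ ∃ θ : IrrCharacter (lA hab a (k + 1)), Good hab t θ ∧
      classInner (fun c : (lA hab a (k + 1)) => ξ c) (θ : (lA hab a (k + 1)) → ℂ) ≠ 0 := by
    intro ξ hξ
    obtain ⟨hi, φ, hφ, hne⟩ := (mem_overFin (lA hab a (k + 1))).mp hξ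
    obtain ⟨θ, hθ, rfl⟩ := Finset.mem_image.mp hφ
    exact ⟨hi, θ, (Finset.mem_filter.mp hθ).2, hne⟩
  have hover : ∀ θ : IrrCharacter (lA hab a (k + 1)), Good hab t θ → ∃ ξ ∈ L, classInner (fun c : (lA hab a (k + 1)) => ξ c) (θ : (lA hab a (k + 1)) → ℂ) ≠ 0 := by
    intro θ hθ
    by_contra hall
    push Not at hall
    have h := sum_coeff_degree (lA hab a (k + 1)) (φ := (θ : (lA hab a (k + 1)) → ℂ))
    rw [Finset.sum_eq_zero fun ξ _ => ?_] at h
    · exact mul_ne_zero (Nat.cast_ne_zero.mpr Subgroup.index_ne_zero_of_finite) (irr_ne_zero θ.2) h.symm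
    · by_cases hne : classInner (fun c : (lA hab a (k + 1)) => (ξ : stabilizer G a → ℂ) c) (θ : (lA hab a (k + 1)) → ℂ) = 0
      · rw [hne, map_zero, zero_mul]
      · exact absurd (hall ξ ((mem_overFin (lA hab a (k + 1))).mpr
          ⟨ξ.2, θ, Finset.mem_image.mpr ⟨θ, Finset.mem_filter.mpr ⟨Finset.mem_univ _, hθ⟩, rfl⟩, hne⟩)) hne
  have hdeg : ∀ ξ ∈ L, VanOff a ξ ∧ ξ 1 = (Nat.card ↥(D a t) : ℂ) := by
    intro ξ hξ
    obtain ⟨hi, θ, hθ, hne⟩ := hLmem ξ hξ
    have hT := hinertia θ hθ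
    refine ⟨fun x hx hx1 => over_vanish (lA hab a (k + 1)) θ.2 (lA hab a (k + 1)) le_rfl hT hi hne fun hxC =>
      hx (Q_sup hS (show (x : G) ∈ Q by rw [hCQ] at hxC; exact hxC) fun e => hx1 (Subtype.ext e)), ?_⟩
    obtain ⟨d, hd⟩ := classInner_char_nat (isCharacter_restrict (isCharacter_of_irr hi) (lA hab a (k + 1))) (isCharacter_of_irr θ.2)
    have h1 := coeff_sq_le (lA hab a (k + 1)) θ.2 hi hd
    rw [← hT] at h1
    have hd1 : d * d ≤ 1 := Nat.le_of_mul_le_mul_right (by rwa [one_mul]) (Nat.pos_of_ne_zero Subgroup.index_ne_zero_of_finite)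
    have hd0 : d ≠ 0 := fun e => hne (by rw [hd, e, Nat.cast_zero])
    obtain rfl : d = 1 := by nlinarith [Nat.pos_of_ne_zero hd0]
    rw [clifford_degree (lA hab a (k + 1)) hi θ.2 hne, hd, ← hT, degree_one_of_commutative (lA_ab hS h2 hab (k + 1)) θ.2, Nat.cast_one,
      one_mul, mul_one, hidx]
  obtain ⟨s, hs, -⟩ := two_le_card_invol hS h2
  let ι0 : invGroup hS h2 →* (lA hab a (k + 1)) :=
    { toFun := fun z => ⟨⟨(z : G), z.2.1⟩, by
        show (z : G) ∈ lev hab (k + 1)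
        rw [hj]; exact invol_mem_Q hS z.2.1 z.2.2⟩
      map_one' := rfl
      map_mul' := fun _ _ => rfl }
  have htriv : ∀ ξ ∈ L, ∀ θ : IrrCharacter (lA hab a (k + 1)), classInner (fun c : (lA hab a (k + 1)) => ξ c) (θ : (lA hab a (k + 1)) → ℂ) ≠ 0 →
      (∀ z, (θ : (lA hab a (k + 1)) → ℂ) (ι0 z) = 1) → IsTriv hs ξ := by
    intro ξ hξ θ hne hone
    have hc := clifford (lA hab a (k + 1)) (hLmem ξ hξ).1 θ.2 hne
    have h1 := congrFun hc (ι0 ⟨s, hs.1, hs.2.2⟩)
    have h1' := congrFun hc 1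
    simp only [Pi.smul_apply, Finset.sum_apply] at h1 h1'
    show ξ ⟨s, hs.1⟩ = ξ 1
    rw [show ξ ⟨s, hs.1⟩ = _ from h1, show ξ 1 = _ from h1']
    congr 1
    refine Finset.sum_congr rfl fun ψ hψ => ?_
    obtain ⟨g, rfl⟩ := (mem_conjOrbit (lA hab a (k + 1))).mp hψ
    rw [conjNormFun_apply_one, degree_one_of_commutative (lA_ab hS h2 hab (k + 1)) θ.2]
    let z : invGroup hS h2 := ⟨(g : G) * s * (g : G)⁻¹, mul_mem (mul_mem g.2 hs.1) (inv_mem g.2), by
      calc (g : G) * s * (g : G)⁻¹ * (g * s * (g : G)⁻¹) = g * (s * s) * (g : G)⁻¹ := by group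
        _ = 1 := by rw [hs.2.2, mul_one, mul_inv_cancel]⟩
    exact hone z
  have hnon : ∀ ξ ∈ L, ∀ θ : IrrCharacter (lA hab a (k + 1)), classInner (fun c : (lA hab a (k + 1)) => ξ c) (θ : (lA hab a (k + 1)) → ℂ) ≠ 0 →
      (¬ ∀ z, (θ : (lA hab a (k + 1)) → ℂ) (ι0 z) = 1) → IsNon hs ξ := by
    intro ξ hξ θ hne hone
    have hi := (hLmem ξ hξ).1
    have hc := clifford (lA hab a (k + 1)) hi θ.2 hne
    have hsum : ∑ z : invGroup hS h2, ξ (ι0 z : stabilizer G a) = 0 := by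
      rw [Finset.sum_congr rfl fun z _ => congrFun hc (ι0 z)]
      simp only [Pi.smul_apply, Finset.sum_apply, ← Finset.smul_sum]
      rw [Finset.sum_comm, Finset.sum_eq_zero, smul_zero]
      intro ψ hψ
      obtain ⟨g, rfl⟩ := (mem_conjOrbit (lA hab a (k + 1))).mp hψ
      obtain ⟨φ, hφ⟩ := exists_hom_of_degree_one (isCharacter_of_irr θ.2)
        (degree_one_of_commutative (lA_ab hS h2 hab (k + 1)) θ.2)
      let φg : invGroup hS h2 →* ℂˣ := φ.comp ((MulAut.conjNormal (H := (lA hab a (k + 1))) g).toMonoidHom.comp ι0)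
      have e : ∀ z, conjNormFun (lA hab a (k + 1)) g (θ : (lA hab a (k + 1)) → ℂ) (ι0 z) = (φg z : ℂ) := fun z => by
        rw [conjNormFun_eq]
        exact congrFun hφ _
      rw [Finset.sum_congr rfl fun z _ => e z]
      have hne' : (fun z => (φg z : ℂ)) ≠ fun _ => 1 := fun h => hone fun z => by
        have hz : ∃ z', MulAut.conjNormal (H := (lA hab a (k + 1))) g (ι0 z') = ι0 z := by
          refine ⟨⟨(g : G)⁻¹ * z * g, mul_mem (mul_mem (inv_mem g.2) z.2.1) g.2, ?_⟩, Subtype.ext (Subtype.ext ?_)⟩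
          · calc (g : G)⁻¹ * z * g * ((g : G)⁻¹ * z * g) = (g : G)⁻¹ * ((z : G) * z) * g := by group
              _ = 1 := by rw [z.2.2, mul_one, inv_mul_cancel]
          · simp [ι0, MulAut.conjNormal_apply, mul_assoc]
        obtain ⟨z', hz'⟩ := hz
        rw [hφ]
        show (φ (ι0 z) : ℂ) = 1
        rw [← hz']
        exact congrFun h z'
      have h0 := classInner_irr_ne (isIrrCharacter_linear φg) isIrrCharacter_one hne'
      rw [classInner, mul_eq_zero, inv_eq_zero] at h0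
      have h0' := h0.resolve_left (Nat.cast_ne_zero.mpr Nat.card_pos.ne')
      simpa using h0'
    have hone' : (ι0 1 : stabilizer G a) = 1 := rfl
    rw [← Finset.add_sum_erase _ _ (Finset.mem_univ (1 : invGroup hS h2)), hone',
      Finset.sum_congr rfl (g := fun _ => ξ ⟨s, hs.1⟩) fun z hz => by
        have hz1 : (z : G) ≠ 1 := fun e => Finset.ne_of_mem_erase hz (Subtype.ext e)
        obtain ⟨m, hm, hm'⟩ := exists_conj_inverted hS hs (s2 := (z : G)) ⟨z.2.1, hz1, z.2.2⟩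
        rw [← isClassFunction_irr hi ⟨s, hs.1⟩ ⟨m⁻¹, inv_mem (D_le hS hm.1)⟩]
        exact congrArg ξ (Subtype.ext (by simp [ι0, ← hm'])),
      Finset.sum_const, Finset.card_erase_of_mem (Finset.mem_univ _), Finset.card_univ, ← Nat.card_eq_fintype_card,
      card_invGroup hS h2, nsmul_eq_mul, Nat.cast_sub (by omega), Nat.cast_one] at hsum
    show ξ ⟨s, hs.1⟩ * ((qZ G a : ℂ) - 1) = - ξ 1
    linear_combination hsum
  have hexcl : ∀ ξ ∈ L, IsTriv hs ξ → IsNon hs ξ → False := by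
    intro ξ hξ h1 h2'
    rw [IsNon, h1] at h2'
    have : ξ 1 * (qZ G a : ℂ) = 0 := by linear_combination h2'
    exact mul_ne_zero (irr_ne_zero (hLmem ξ hξ).1) (Nat.cast_ne_zero.mpr (by omega)) this
  -- two base members
  let θ₁ : IrrCharacter (lA hab a (k + 1)) := ⟨fun x => (lam : lA hab a k → ℂ) (sq' x), isIrrCharacter_comp_surjective lam.2 sq' hsur⟩
  let θ₂ : IrrCharacter (lA hab a (k + 1)) := ⟨fun x => conj ((θ₁ : (lA hab a (k + 1)) → ℂ) x), isIrrCharacter_conjChar θ₁.2⟩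
  have hsqd : ∀ (d : stabilizer G a) (x : (lA hab a (k + 1))), sq' (MulAut.conjNormal (H := (lA hab a (k + 1))) d x) =
      MulAut.conjNormal (H := lA hab a k) d (sq' x) := fun d x => Subtype.ext (by
    show (MulAut.conjNormal (H := (lA hab a (k + 1))) d x : stabilizer G a) * MulAut.conjNormal (H := (lA hab a (k + 1))) d x = _
    simp [sq', MulAut.conjNormal_apply, mul_assoc])
  have hfix₁ : ∀ d, conjNormFun (lA hab a (k + 1)) d (θ₁ : (lA hab a (k + 1)) → ℂ) = θ₁ →
      conjNormFun (lA hab a k) d (lam : lA hab a k → ℂ) = lam := fun d h => funext fun y => by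
    obtain ⟨x, rfl⟩ := hsur y
    have := congrFun h x
    rw [conjNormFun_eq] at this ⊢
    show (lam : lA hab a k → ℂ) _ = _
    rw [← hsqd]
    exact this
  have hone₁ : (θ₁ : (lA hab a (k + 1)) → ℂ) ≠ fun _ => 1 := fun e => hlam.1 (funext fun y => by
    obtain ⟨x, rfl⟩ := hsur y
    exact congrFun e x)
  have hg₁ : Good hab t θ₁ := ⟨hone₁, fun d hd h => hlam.2 d hd (hfix₁ d h)⟩
  have hbar : ∀ d, conjNormFun (lA hab a (k + 1)) d (θ₂ : (lA hab a (k + 1)) → ℂ) = fun x => conj (conjNormFun (lA hab a (k + 1)) d (θ₁ : (lA hab a (k + 1)) → ℂ) x) := fun d => rfl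
  have hg₂ : Good hab t θ₂ := by
    refine ⟨fun e => hone₁ (funext fun x => ?_), fun d hd h => hg₁.2 d hd (funext fun x => ?_)⟩
    · have := congrArg conj (congrFun e x)
      simpa [θ₂] using this
    · have := congrArg conj (congrFun h x)
      rw [hbar] at this
      simpa [θ₂] using this
  have htz : ∀ z : invGroup hS h2, sq' (ι0 z) = 1 := fun z => Subtype.ext (Subtype.ext z.2.2)
  obtain ⟨ξ₁, hξ₁, hne₁⟩ := hover θ₁ hg₁
  obtain ⟨ξ₂, hξ₂, hne₂⟩ := hover θ₂ hg₂
  have ht₁ : IsTriv hs ξ₁ := htriv ξ₁ hξ₁ θ₁ hne₁ fun z => by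
    show (lam : lA hab a k → ℂ) (sq' (ι0 z)) = 1
    rw [htz, degree_one_of_commutative (lA_ab hS h2 hab k) lam.2]
  have ht₂ : IsTriv hs ξ₂ := htriv ξ₂ hξ₂ θ₂ hne₂ fun z => by
    show conj ((lam : lA hab a k → ℂ) (sq' (ι0 z))) = 1
    rw [htz, degree_one_of_commutative (lA_ab hS h2 hab k) lam.2, map_one]
  have h12 : ξ₁ ≠ ξ₂ := by
    intro e
    subst e
    obtain ⟨g, hg⟩ := over_ne (lA hab a (k + 1)) θ₁.2 θ₂.2 (hLmem ξ₁ hξ₁).1 hne₁ hne₂
    obtain ⟨y, hy, d, hd, rfl⟩ := exists_qd hS g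
    rw [conjNormFun_mul, conjNormFun_of_mem (lA hab a (k + 1)) (show y ∈ (lA hab a (k + 1)) from hCQ ▸ hy) (isClassFunction_irr θ₁.2)] at hg
    have hdd : conjNormFun (lA hab a (k + 1)) (d * d) (θ₁ : (lA hab a (k + 1)) → ℂ) = θ₁ := by
      rw [conjNormFun_mul, hg, hbar, hg]
      exact funext fun x => Complex.conj_conj _
    have hd1 : d = 1 := Subtype.ext (D_mul_self hS hd (congrArg Subtype.val (hg₁.2 _ (mul_mem hd hd) hdd)))
    rw [hd1, conjNormFun_one] at hg
    refine hlamreal fun y => ?_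
    obtain ⟨x, rfl⟩ := hsur y
    exact (congrFun hg x).symm
  -- count
  have hR := card_bad_le hS h2 hab hQ2 hf (hcard (k + 1) le_rfl)
  rw [← hWdef, ← hu, ← hq] at hR
  set R := Nat.card {θ : IrrCharacter (lA hab a (k + 1)) // Good hab t θ}
  have hlarge := num_large hW hWf (show 3 ≤ k + 1 by omega)
  rw [← hu, ← hf, Nat.add_sub_cancel] at hlarge
  have hq3 : q ^ 3 ≤ q ^ (k + 1) := Nat.pow_le_pow_right (by omega) (by omega)
  have hbound : 8 * R + 8 + q ^ (k + 1) ≥ 8 * q ^ (k + 1) := by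
    have h1 : 4 * ((q - 1) * (W * (u ^ (k + 1) - 1))) ≤ q ^ (k + 1) :=
      calc 4 * ((q - 1) * (W * (u ^ (k + 1) - 1))) = (q - 1) * (4 * W * (u ^ (k + 1) - 1)) := by ring
        _ ≤ q * q ^ k := Nat.mul_le_mul (Nat.sub_le _ _) ((Nat.mul_le_mul_left _ (Nat.sub_le _ _)).trans hlarge)
        _ = q ^ (k + 1) := (pow_succ' q k).symm
    omega
  have hexnon : ∃ θ : IrrCharacter (lA hab a (k + 1)), Good hab t θ ∧ ¬ ∀ z, (θ : (lA hab a (k + 1)) → ℂ) (ι0 z) = 1 := by
    by_contra hall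
    push Not at hall
    have hle : R ≤ q ^ k := by
      rw [hq, ← hcard k (by omega), ← card_lA hS h2 hab k, ← card_irr_abelian (lA_ab hS h2 hab k)]
      have hlift : ∀ θ : {θ : IrrCharacter (lA hab a (k + 1)) // Good hab t θ}, ∃ μ : IrrCharacter (lA hab a k),
          ∀ x, (μ : lA hab a k → ℂ) (sq' x) = (θ.1 : (lA hab a (k + 1)) → ℂ) x := by
        intro θ
        obtain ⟨φ, hφ⟩ := exists_hom_of_degree_one (isCharacter_of_irr θ.1.2)
          (degree_one_of_commutative (lA_ab hS h2 hab (k + 1)) θ.1.2)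
        have hk' : sq'.ker ≤ φ.ker := fun x hx => by
          let z : invGroup hS h2 := ⟨((x : stabilizer G a) : G), (x : stabilizer G a).2,
            congrArg (fun z : lA hab a k => ((z : stabilizer G a) : G)) (MonoidHom.mem_ker.mp hx)⟩
          have h := hall θ.1 θ.2 z
          rw [hφ] at h
          exact MonoidHom.mem_ker.mpr (Units.ext h)
        refine ⟨⟨_, isIrrCharacter_linear (sq'.liftOfSurjective hsur ⟨φ, hk'⟩)⟩, fun x => ?_⟩
        rw [hφ]
        show ((sq'.liftOfSurjective hsur ⟨φ, hk'⟩) (sq' x) : ℂ) = _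
        rw [MonoidHom.liftOfRightInverse_comp_apply]
      choose μ hμ using hlift
      refine Nat.card_le_card_of_injective μ fun θ θ' e => Subtype.ext (Subtype.ext (funext fun x => ?_))
      rw [← hμ, ← hμ, e]
    have h4k : 4 * q ^ k ≤ q ^ (k + 1) := by rw [pow_succ, mul_comm (q ^ k)]; exact Nat.mul_le_mul_right _ hq4
    have h64 : 64 ≤ q ^ 3 := by
      calc 64 = 4 ^ 3 := by norm_num
        _ ≤ _ := Nat.pow_le_pow_left hq4 3
    omega
  -- the family
  let B := L.filter fun ξ => IsTriv hs ξ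
  let b : Fin B.card → stabilizer G a → ℂ := fun i => (B.equivFin.symm i : stabilizer G a → ℂ)
  have hbB : ∀ i, b i ∈ L ∧ IsTriv hs (b i) := fun i => Finset.mem_filter.mp (B.equivFin.symm i).2
  have hB2 : 2 ≤ B.card := by
    refine le_trans (le_of_eq ?_) (Finset.card_le_card (s := {ξ₁, ξ₂}) ?_)
    · rw [Finset.card_pair h12]
    · intro ξ hξ
      simp only [Finset.mem_insert, Finset.mem_singleton] at hξ
      rcases hξ with rfl | rfl
      · exact Finset.mem_filter.mpr ⟨hξ₁, ht₁⟩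
      · exact Finset.mem_filter.mpr ⟨hξ₂, ht₂⟩
  let F : Fam G a := ⟨B.card, hB2, b, fun i => (hLmem _ (hbB i).1).1,
    Subtype.val_injective.comp B.equivFin.symm.injective,
    fun i j => by rw [(hdeg _ (hbB i).1).2, (hdeg _ (hbB j).1).2], fun i => (hdeg _ (hbB i).1).1⟩
  let M := L.filter fun ξ => ¬ IsTriv hs ξ
  have hmem : ∀ ξ ∈ M, Mem F ξ 1 ∧ IsNon hs ξ := by
    intro ξ hξ
    obtain ⟨hξL, hnt⟩ := Finset.mem_filter.mp hξ
    obtain ⟨hi, θ, -, hne⟩ := hLmem ξ hξL
    exact ⟨⟨hi, (hdeg ξ hξL).1, fun i e => hnt (e ▸ (hbB i).2),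
      by rw [(hdeg ξ hξL).2, Nat.cast_one, one_mul]; exact ((hdeg _ (hbB F.i0).1).2).symm, le_rfl,
      by rw [mul_one]; exact hB2⟩, hnon ξ hξL θ hne fun h => hnt (htriv ξ hξL θ hne h)⟩
  obtain ⟨θ₀, hθ₀, hθ₀n⟩ := hexnon
  obtain ⟨ξ₀, hξ₀, hne₀⟩ := hover θ₀ hθ₀
  have hξ₀M : ξ₀ ∈ M := Finset.mem_filter.mpr ⟨hξ₀, fun h => hexcl ξ₀ hξ₀ h (hnon ξ₀ hξ₀ θ₀ hne₀ hθ₀n)⟩
  have hbd := family_bound hS h2 hs (fun _ : Unit => F) (fun _ => M) (fun _ _ => 1)
    (fun i j hij => absurd (Subsingleton.elim i j) hij) (fun _ ξ hξ => (hmem ξ hξ).1)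
    (fun i j hij => absurd (Subsingleton.elim i j) hij) fun _ ε X hX => by
      have ht : ∀ i, IsTriv hs (F.b i) := fun i => (hbB i).2
      obtain ⟨X₀, β₀, hA₀⟩ := exists_adj hS hX (hmem ξ₀ hξ₀M).1
      exact ⟨(val_non hS h2 hs hX ht (hmem ξ₀ hξ₀M).1 (hmem ξ₀ hξ₀M).2 hA₀).2, fun ξ hξ X' β hA =>
        (val_non hS h2 hs hX ht (hmem ξ hξ).1 (hmem ξ hξ).2 hA).1⟩
  -- the weight
  have hweight : (Nat.card ↥(D a t) : ℝ) * R =
      F.n * (F.b F.i0 1).re ^ 2 + ∑ ξ ∈ M, (ξ 1).re ^ 2 := by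
    rw [show F.b F.i0 1 = _ from (hdeg _ (hbB F.i0).1).2, Complex.natCast_re, Finset.sum_congr rfl fun ξ hξ => by
      rw [(hdeg ξ (Finset.mem_filter.mp hξ).1).2, Complex.natCast_re], Finset.sum_const, nsmul_eq_mul, ← add_mul]
    have hsplit : (F.n : ℝ) + (M.card : ℝ) = (L.card : ℝ) := by
      rw [← Nat.cast_add]
      exact congrArg Nat.cast (Finset.card_filter_add_card_filter_not (s := L) (fun ξ => IsTriv hs ξ))
    rw [hsplit]
    have hsum := sum_over_sq (lA hab a (k + 1)) Θ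
      (fun φ hφ => by obtain ⟨θ, -, rfl⟩ := Finset.mem_image.mp hφ; exact θ.2)
      (fun g φ hφ => by
        obtain ⟨θ, hθ, rfl⟩ := Finset.mem_image.mp hφ
        have hgood := (Finset.mem_filter.mp hθ).2
        refine Finset.mem_image.mpr ⟨⟨_, isIrr_conjNormFun (lA hab a (k + 1)) g θ.2⟩, Finset.mem_filter.mpr ⟨Finset.mem_univ _, ?_⟩, rfl⟩
        refine ⟨fun e => hgood.1 ?_, fun d hd h => ?_⟩
        · rw [← conjNormFun_inv (lA hab a (k + 1)) g (θ : (lA hab a (k + 1)) → ℂ), show conjNormFun (lA hab a (k + 1)) g (θ : (lA hab a (k + 1)) → ℂ) = fun _ => 1 from e]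
          rfl
        · obtain ⟨y, hy, d₀, hd₀, rfl⟩ := exists_qd hS g
          change conjNormFun (lA hab a (k + 1)) d (conjNormFun (lA hab a (k + 1)) (y * d₀) (θ : (lA hab a (k + 1)) → ℂ)) = conjNormFun (lA hab a (k + 1)) (y * d₀) (θ : (lA hab a (k + 1)) → ℂ) at h
          rw [conjNormFun_mul (lA hab a (k + 1)) y d₀, conjNormFun_of_mem (lA hab a (k + 1)) (show y ∈ (lA hab a (k + 1)) from hCQ ▸ hy) (isClassFunction_irr θ.2)] at h
          have h' := congrArg (conjNormFun (lA hab a (k + 1)) d₀⁻¹) h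
          rw [← conjNormFun_mul, ← conjNormFun_mul, conjNormFun_inv] at h'
          exact conj_eq_one_iff.mp (by
            have := hgood.2 _ (mul_mem hd₀ (mul_mem hd (inv_mem hd₀))) h'
            rwa [mul_assoc]))
    have e1 : ∀ φ ∈ Θ, φ 1 ^ 2 = (1 : ℂ) := fun φ hφ => by
      obtain ⟨θ, -, rfl⟩ := Finset.mem_image.mp hφ
      rw [degree_one_of_commutative (lA_ab hS h2 hab (k + 1)) θ.2, one_pow]
    rw [Finset.sum_congr rfl fun ξ hξ => by rw [(hdeg ξ hξ).2], Finset.sum_congr rfl e1, Finset.sum_const,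
      Finset.sum_const, nsmul_eq_mul, nsmul_eq_mul, mul_one, hidx,
      show Θ.card = R by
        rw [Finset.card_image_of_injective _ Subtype.val_injective, ← Fintype.card_subtype, ← Nat.card_eq_fintype_card]] at hsum
    have hsum' : ((L.card : ℝ) : ℂ) * ((Nat.card ↥(D a t) : ℝ) : ℂ) ^ 2 =
        ((Nat.card ↥(D a t) : ℝ) : ℂ) * ((R : ℝ) : ℂ) := by push_cast; exact hsum
    exact (by exact_mod_cast hsum'.symm)
  rw [Fintype.sum_unique, ← hweight, card_D hS, Nat.cast_mul, Nat.cast_sub (by omega), Nat.cast_one, ← hq] at hbd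
  have hN : Nat.card Q = q ^ (k + 1) := by rw [← hcard (k + 1) le_rfl, hj]
  have hV1 : (1 : ℝ) ≤ (Nat.card (Vt a t) : ℝ) := by exact_mod_cast Nat.card_pos
  refine arith_abelian (q := (q : ℝ)) (R := (R : ℝ)) hV1 ?_ ?_ hbd
  · rw [hN]; exact_mod_cast hq3
  · rcases Nat.lt_or_ge q 8 with hlt | hge
    · left
      have hq' : q = 4 := by
        rcases Nat.lt_or_ge f 3 with h | h
        · interval_cases f <;> omega
        · have := Nat.pow_le_pow_right Nat.zero_lt_two h
          omega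
      have hW0 : W = 0 := by
        rcases hWf with h | h
        · exact h
        · have := Nat.pow_le_pow_right Nat.zero_lt_two h
          omega
      refine ⟨by exact_mod_cast hq', ?_⟩
      rw [hW0, zero_mul, mul_zero, add_zero] at hR
      rw [hN, sub_le_iff_le_add]
      exact_mod_cast (by omega : q ^ (k + 1) ≤ R + 1)
    · right
      refine ⟨by exact_mod_cast hge, ?_⟩
      have h512 : 512 ≤ q ^ 3 := by
        calc 512 = 8 ^ 3 := by norm_num
          _ ≤ _ := Nat.pow_le_pow_left hge 3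
      rw [hN, div_mul_eq_mul_div, div_le_iff₀ (by norm_num)]
      exact_mod_cast (by omega : 3 * q ^ (k + 1) ≤ R * 4)

omit hab in
/-- An abelian regular normal subgroup is elementary abelian or of order `q ^ 2`. -/
theorem abelian_card (_ih : IHyp.{u, v} (Nat.card G)) (hQ2 : IsPGroup 2 Q)
    (hab : ∀ x ∈ Q, ∀ y ∈ Q, x * y = y * x) : (∀ x ∈ Q, x * x = 1) ∨ Nat.card Q = qZ G a ^ 2 := by
  obtain ⟨j, hj, hcard⟩ := exists_exponent hS h2 hab hQ2
  rcases Nat.lt_or_ge j 2 with hlt | hge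
  · left
    intro x hx
    rw [← hj] at hx
    have h := hx.2
    interval_cases j
    · rw [pow_zero, pow_one] at h
      rw [h, one_mul]
    · rwa [pow_one, sq] at h
  rcases Nat.lt_or_ge j 3 with hlt | hge'
  · right
    obtain rfl : j = 2 := by omega
    rw [← hcard 2 le_rfl, hj]
  exact (no_long_exponent hS h2 hab hQ2 (k := j - 1) (by omega)
    (by rw [Nat.sub_add_cancel (by omega)]; exact hj) (fun i hi => hcard i (by omega))).elim

end CfsgLib.SuzukiRankOne
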