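import Cfsg.Agent.Lib.SuzukiRankOne.KernelClass

/-!
The regular normal subgroup of the point stabiliser is a 2-group.

Blueprint: `blueprint/bender/B2.md`, section 2.
-/

set_option autoImplicit false
set_option linter.unusedSectionVars false
set_option linter.style.haveILetI false

namespace CfsgLib.SuzukiRankOne

open MulAction Cfsg CfsgLib.RankOne CfsgLib.CharTheory
open CfsgLib.AfterFT.SplitRankOne (invGroup)
open scoped ComplexConjugate

universe u v

/-- The inequality fails for `q ≥ 8`. -/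
theorem arith_big {q o N V J : ℝ} (hq : 8 ≤ q) (ho : 2 * q - 1 ≤ o) (hN : q * o ≤ N) (hV : 1 ≤ V)
    (hJ : J * (q * o) = N * ((q - 1) * V))
    (h : 15 / 64 * (q / (q - 1)) ^ 2 * (J * ((q - 2) * (o - 1))) ≤
      N * V * (1 + 15 * ((q - 2) / 2) ^ 2 / ((N + 1) * (q - 1)))) : False := by
  have hq0 : 0 < q := by linarith
  have ho0 : 0 < o := by linarith
  have he : 0 < q - 1 := by linarith
  have hN0 : 0 < N := lt_of_lt_of_le (mul_pos hq0 ho0) hN
  have hJ' : J = N * ((q - 1) * V) / (q * o) := by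
    rw [eq_div_iff (by positivity)]
    exact hJ
  subst hJ'
  have hNV : 0 < N * V := mul_pos hN0 (by linarith)
  have hL : 15 / 64 * (q / (q - 1)) ^ 2 * (N * ((q - 1) * V) / (q * o) * ((q - 2) * (o - 1))) =
      N * V * (15 / 64 * q * (q - 2) * (o - 1) / ((q - 1) * o)) := by
    field_simp
  rw [hL] at h
  have h' := le_of_mul_le_mul_left h hNV
  have hb : 15 * ((q - 2) / 2) ^ 2 / ((N + 1) * (q - 1)) ≤ 15 * ((q - 2) / 2) ^ 2 / (q * o * (q - 1)) := by
    apply div_le_div_of_nonneg_left (by positivity) (by positivity)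
    exact mul_le_mul_of_nonneg_right (by linarith) he.le
  have h'' := h'.trans (add_le_add le_rfl hb)
  rw [div_le_iff₀ (by positivity)] at h''
  have e : (1 + 15 * ((q - 2) / 2) ^ 2 / (q * o * (q - 1))) * ((q - 1) * o) =
      (q - 1) * o + 15 * ((q - 2) / 2) ^ 2 / q := by
    field_simp
  rw [e] at h''
  have hs : 15 * ((q - 2) / 2) ^ 2 / q ≤ 15 / 4 * q := by
    rw [div_le_iff₀ hq0]
    nlinarith
  nlinarith [mul_nonneg (sub_nonneg.mpr ho) (show 0 ≤ 15 / 64 * q * (q - 2) - (q - 1) by nlinarith),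
    mul_nonneg he.le (sub_nonneg.mpr hq), sq_nonneg (q - 8)]

/-- The inequality fails for `q = 4` unless `N` is small. -/
theorem arith_four {o N V J : ℝ} (hcase : (13 ≤ o ∧ 4 * o ≤ N) ∨ (o = 7 ∧ 112 ≤ N)) (hV : 1 ≤ V)
    (hJ : J * (4 * o) = N * (((4 : ℝ) - 1) * V))
    (h : 15 / 64 * ((4 : ℝ) / (4 - 1)) ^ 2 * (J * (4 * (o - 1))) ≤
      N * V * (1 + 15 * (((4 : ℝ) - 2) / 2) ^ 2 / ((N + 1) * (4 - 1)))) : False := by
  have ho0 : 0 < o := by rcases hcase with ⟨h1, -⟩ | ⟨h1, -⟩ <;> linarith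
  have hN0 : 0 < N := by rcases hcase with ⟨h1, h2⟩ | ⟨h1, h2⟩ <;> linarith
  have hJ' : J = N * (((4 : ℝ) - 1) * V) / (4 * o) := by
    rw [eq_div_iff (by positivity)]
    exact hJ
  subst hJ'
  have hNV : 0 < N * V := mul_pos hN0 (by linarith)
  have hL : 15 / 64 * ((4 : ℝ) / (4 - 1)) ^ 2 * (N * (((4 : ℝ) - 1) * V) / (4 * o) * (4 * (o - 1))) =
      N * V * (5 * (o - 1) / (4 * o)) := by
    field_simp
    ring
  rw [hL] at h
  have h' := le_of_mul_le_mul_left h hNV
  norm_num at h'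
  rw [div_le_iff₀ (by positivity)] at h'
  rcases hcase with ⟨h1, h2⟩ | ⟨h1, h2⟩
  · have hb : 15 / ((N + 1) * 3) ≤ 15 / (53 * 3 : ℝ) := by
      apply div_le_div_of_nonneg_left (by norm_num) (by norm_num)
      nlinarith
    nlinarith
  · subst h1
    have hb : 15 / ((N + 1) * 3) ≤ 15 / (113 * 3 : ℝ) := by
      apply div_le_div_of_nonneg_left (by norm_num) (by norm_num)
      nlinarith
    nlinarith

variable {G : Type u} {Ω : Type v} [Group G] [Finite G] [MulAction G Ω] [FaithfulSMul G Ω] {a : Ω} {t : G}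
  {Q S O : Subgroup G} (hS : IsRankOneSetup G Ω a t Q) (h2 : Four G) (hsp : Split Q S O)
include hS h2 hsp

/-- The weights of all classes together. -/
theorem weight_total [Fintype G] [Fintype (stabilizer G a)] (hI : IHyp.{u, v} (Nat.card G)) (f : ℕ)
    (hf : ∀ ν : IrrCharacter O, (ν : O → ℂ) ≠ (fun _ => 1) → f ≤ Nat.card {χ // Free hS h2 hsp χ ν}) :
    15 / 64 * ((qZ G a : ℝ) / ((qZ G a : ℝ) - 1)) ^ 2 *
        (((ZO hS h2 hsp).index : ℝ) * ((f : ℝ) * ((Nat.card O : ℝ) - 1))) ≤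
      (Nat.card Q : ℝ) * (Nat.card ↥(D a t ⊓ Subgroup.centralizer {t}) : ℝ) *
        (1 + 15 * (((qZ G a : ℝ) - 2) / 2) ^ 2 / (((Nat.card Q : ℝ) + 1) * ((qZ G a : ℝ) - 1))) := by
  classical
  haveI := ZO_normal hS h2 hsp
  haveI := qA_normal hS
  haveI := Fintype.ofFinite (ZO hS h2 hsp)
  haveI := Fintype.ofFinite (qA Q a)
  haveI := Fintype.ofFinite (invGroup hS h2)
  haveI := Fintype.ofFinite O
  obtain ⟨s, hs, -⟩ := two_le_card_invol hS h2
  let P := {ν : IrrCharacter O // (ν : O → ℂ) ≠ fun _ => 1}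
  let sd : Setoid P := ⟨fun x y => Rel hS hsp x.1 y.1,
    fun x => rel_refl hS h2 hsp x.1, fun h => rel_symm hS h2 hsp h, fun h h' => rel_trans hS h2 hsp h h'⟩
  haveI := Fintype.ofFinite (Quotient sd)
  choose F M dd hbase hmem hval hwt using fun i : Quotient sd => exists_class_family hS h2 hsp hI i.out.2 hs
  have hsep : ∀ (i j : Quotient sd) (ξ : stabilizer G a → ℂ), IsIrrCharacter (stabilizer G a) ξ →
      OverRel hS h2 hsp ξ i.out.1 → OverRel hS h2 hsp ξ j.out.1 → i = j := fun i j ξ hξ h h' =>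
    Quotient.out_equiv_out.mp (overRel_unique hS h2 hsp hξ h h')
  have hbound := family_bound hS h2 hs F M dd
    (fun i j hij k l e => hij (hsep i j _ ((F i).irr k) (hbase i k) (e ▸ hbase j l)))
    (fun i ξ hξ => (hmem i ξ hξ).1)
    (fun i j hij ξ hξ => ⟨fun k e => hij (hsep i j ξ (hmem i ξ hξ).1.irr (hmem i ξ hξ).2 (e ▸ hbase j k)),
      fun h => hij (hsep i j ξ (hmem i ξ hξ).1.irr (hmem i ξ hξ).2 (hmem j ξ h).2)⟩)
    (fun i ε X hX => hval i ε X hX)
  refine le_trans (mul_le_mul_of_nonneg_left ?_ (by positivity)) hbound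
  refine le_trans ?_ (Finset.sum_le_sum fun i _ => hwt i)
  rw [← Finset.mul_sum]
  refine mul_le_mul_of_nonneg_left ?_ (Nat.cast_nonneg _)
  set w : IrrCharacter (invGroup hS h2) × IrrCharacter O → ℝ := fun p => ((p.2 : O → ℂ) 1).re ^ 2 with hw
  have hdisj : ((Finset.univ : Finset (Quotient sd)) : Set (Quotient sd)).PairwiseDisjoint
      fun i : Quotient sd => pairs hS h2 hsp i.out.1 := by
    intro i _ j _ hij
    refine Finset.disjoint_left.mpr fun p h h' => hij ?_
    exact Quotient.out_equiv_out.mp (rel_trans hS h2 hsp ((mem_pairs hS h2 hsp).mp h).1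
      (rel_symm hS h2 hsp ((mem_pairs hS h2 hsp).mp h').1))
  rw [← Finset.sum_biUnion hdisj (f := w)]
  have hU : (Finset.univ : Finset (Quotient sd)).biUnion (fun i => pairs hS h2 hsp i.out.1) =
      Finset.univ.filter fun p : IrrCharacter (invGroup hS h2) × IrrCharacter O =>
        (p.2 : O → ℂ) ≠ (fun _ => 1) ∧ Free hS h2 hsp p.1 p.2 := by
    ext p
    simp only [Finset.mem_biUnion, Finset.mem_univ, true_and, Finset.mem_filter]
    constructor
    · rintro ⟨i, hp⟩
      obtain ⟨hr, hfr⟩ := (mem_pairs hS h2 hsp).mp hp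
      exact ⟨rel_one hS h2 hsp hr i.out.2, hfr⟩
    · rintro ⟨h1, hfr⟩
      exact ⟨Quotient.mk sd ⟨p.2, h1⟩, (mem_pairs hS h2 hsp).mpr
        ⟨(Quotient.exact (Quotient.out_eq (Quotient.mk sd ⟨p.2, h1⟩)) : Rel hS hsp _ p.2), hfr⟩⟩
  rw [hU, Finset.sum_filter, Fintype.sum_prod_type_right]
  let one : IrrCharacter O := ⟨fun _ => 1, isIrrCharacter_one⟩
  have hsumsq : ∑ ν : IrrCharacter O, ((ν : O → ℂ) 1).re ^ 2 = (Nat.card O : ℝ) := sum_re_sq_one
  rw [← Finset.add_sum_erase _ _ (Finset.mem_univ one)] at hsumsq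
  rw [show (Nat.card O : ℝ) - 1 = ∑ ν ∈ Finset.univ.erase one, ((ν : O → ℂ) 1).re ^ 2 by
    rw [← hsumsq]; simp [one], Finset.mul_sum]
  refine le_trans ?_ (Finset.sum_le_sum_of_subset_of_nonneg (Finset.subset_univ (Finset.univ.erase one))
    fun ν _ _ => Finset.sum_nonneg fun χ _ => by split <;> first | exact sq_nonneg _ | exact le_rfl)
  refine Finset.sum_le_sum fun ν hν => ?_
  have hν1 : (ν : O → ℂ) ≠ fun _ => 1 := fun e => Finset.ne_of_mem_erase hν (Subtype.ext e)
  simp only [hw, hν1, ne_eq, not_false_eq_true, true_and]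
  rw [← Finset.sum_filter, Finset.sum_const, nsmul_eq_mul]
  refine mul_le_mul_of_nonneg_right ?_ (sq_nonneg _)
  rw [← Fintype.card_subtype, ← Nat.card_eq_fintype_card]
  exact_mod_cast hf ν hν1

theorem card_ZO : Nat.card (ZO hS h2 hsp) = qZ G a * Nat.card O := by
  rw [← card_invGroup hS h2, ← Nat.card_prod]
  refine Nat.card_eq_of_bijective (pZO hS h2 hsp) ⟨fun c c' e => ?_, pZO_surjective hS h2 hsp⟩
  have h1 := (ZO_uniq hS h2 hsp c).exists.choose_spec
  have h1' := (ZO_uniq hS h2 hsp c').exists.choose_spec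
  refine Subtype.ext (Subtype.ext ?_)
  rw [h1, h1']
  exact congrArg (fun p : invGroup hS h2 × O => (p.1 : G) * p.2) e

omit hsp in
/-- No simple situation with `29` points. -/
theorem no_twenty_nine (hN : Nat.card Q = 28) (hG : Nat.card G = 29 * (28 * 3)) : False := by
  classical
  haveI : Fact (Nat.Prime 29) := ⟨by norm_num⟩
  let P : Sylow 29 G := default
  obtain ⟨k, hk⟩ := IsPGroup.iff_card.mp P.isPGroup'
  have hmul := (P : Subgroup G).card_mul_index
  have hnd := P.not_dvd_index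
  rw [hk, hG] at hmul
  have hk1 : k = 1 := by
    match k, hmul with
    | 0, hmul => exact absurd ⟨84, by omega⟩ hnd
    | 1, _ => rfl
    | k + 2, hmul =>
      exfalso
      have : 29 ^ 2 ∣ 29 * (28 * 3) := ⟨29 ^ k * (P : Subgroup G).index, by rw [← hmul, pow_add]; ring⟩
      norm_num at this
  subst hk1
  rw [pow_one] at hk hmul
  have hidx : (P : Subgroup G).index = 84 := by omega
  have hcount : Nat.card (Sylow 29 G) = 1 := by
    have h1 := card_sylow_modEq_one 29 G
    have h2' : Nat.card (Sylow 29 G) ∣ 84 := hidx ▸ P.card_dvd_index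
    have h3 := Nat.le_of_dvd (by norm_num) h2'
    have h4 : Nat.card (Sylow 29 G) % 29 = 1 := h1
    obtain h | h | h : Nat.card (Sylow 29 G) = 1 ∨ Nat.card (Sylow 29 G) = 30 ∨ Nat.card (Sylow 29 G) = 59 := by
      omega
    · exact h
    all_goals rw [h] at h2'; norm_num at h2'
  haveI : Subsingleton (Sylow 29 G) := (Nat.card_eq_one_iff_unique.mp hcount).1
  have hPn : (P : Subgroup G).Normal := Sylow.normal_of_subsingleton P
  haveI : Nontrivial (P : Subgroup G) := Finite.one_lt_card_iff_nontrivial.mp (by rw [hk]; norm_num)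
  obtain ⟨⟨x, hx⟩, hx1⟩ := exists_ne (1 : (P : Subgroup G))
  have hx1' : x ≠ 1 := fun e => hx1 (Subtype.ext e)
  have hxo : orderOf x = 29 := by
    rw [← Subgroup.orderOf_mk x hx]
    rcases (Nat.dvd_prime (Fact.out : Nat.Prime 29)).mp (hk ▸ orderOf_dvd_natCard (⟨x, hx⟩ : (P : Subgroup G))) with h | h
    · exact absurd (orderOf_eq_one_iff.mp h) hx1
    · exact h
  have hxA : x • a ≠ a := by
    intro e
    have hd := Subgroup.orderOf_dvd_natCard (stabilizer G a) (mem_stabilizer_iff.mpr e)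
    have hmul' := card_group' hS
    rw [hN, hG] at hmul'
    have hA : Nat.card (stabilizer G a) = 84 := by
      rw [card_stab' hS, hN]
      omega
    rw [hxo, hA] at hd
    norm_num at hd
  have hinv : ∀ s ∈ involutionsIn (stabilizer G a : Set G), s * x * s⁻¹ = x⁻¹ := by
    intro s hs
    have hmem : (⟨s * x * s⁻¹, hPn.conj_mem x hx s⟩ : (P : Subgroup G)) ∈
        Subgroup.zpowers (⟨x, hx⟩ : (P : Subgroup G)) := mem_zpowers_of_prime_card hk hx1
    obtain ⟨n, hn⟩ := Subgroup.mem_zpowers_iff.mp hmem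
    have hn' : x ^ n = s * x * s⁻¹ := by simpa using congrArg Subtype.val hn
    have hnn : x ^ (n * n - 1) = 1 := by
      rw [zpow_sub, zpow_mul, hn', conj_zpow, hn', zpow_one, mul_inv_eq_one]
      calc s * (s * x * s⁻¹) * s⁻¹ = (s * s) * x * (s * s)⁻¹ := by group
        _ = x := by rw [hs.2.2]; group
    have hdiv : (29 : ℤ) ∣ n * n - 1 := by
      have := orderOf_dvd_iff_zpow_eq_one.mpr hnn
      rwa [hxo] at this
    rw [show n * n - 1 = (n - 1) * (n + 1) by ring] at hdiv
    rcases (Int.prime_iff_natAbs_prime.mpr (by norm_num : Nat.Prime (29 : ℤ).natAbs)).dvd_or_dvd hdiv with h | h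
    · exfalso
      have h1 : x ^ (n - 1) = 1 := orderOf_dvd_iff_zpow_eq_one.mp (by rw [hxo]; exact h)
      rw [zpow_sub, zpow_one, mul_inv_eq_one] at h1
      rw [h1] at hn'
      have hc : s * x = x * s := (mul_inv_eq_iff_eq_mul.mp hn'.symm)
      refine hxA ((invol_sup hS hs).2 (x • a) ?_)
      rw [← mul_smul, hc, mul_smul, mem_stabilizer_iff.mp hs.1]
    · have h1 : x ^ (n + 1) = 1 := orderOf_dvd_iff_zpow_eq_one.mp (by rw [hxo]; exact h)
      rw [zpow_add, zpow_one, hn', mul_eq_one_iff_eq_inv] at h1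
      exact h1
  obtain ⟨s, hs, s', hs', hne⟩ := two_le_card_invol hS h2
  have hcomm : s * s' = s' * s := invol_central hS h2 hs (invol_mem_Q hS (mem_stabilizer_iff.mp hs'.1) hs'.2.2)
  have hs'' : s * s' ∈ involutionsIn (stabilizer G a : Set G) := ⟨mul_mem hs.1 hs'.1, fun e => hne (by
    rw [mul_eq_one_iff_eq_inv, inv_eq_of_mul_eq_one_right hs'.2.2] at e
    exact e), by
      calc s * s' * (s * s') = s * (s' * s) * s' := by group
        _ = s * s * (s' * s') := by rw [← hcomm]; group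
        _ = 1 := by rw [hs.2.2, hs'.2.2, one_mul]⟩
  have h := hinv _ hs''
  rw [show s * s' * x * (s * s')⁻¹ = s * (s' * x * s'⁻¹) * s⁻¹ by group, hinv s' hs',
    show s * x⁻¹ * s⁻¹ = (s * x * s⁻¹)⁻¹ by group, hinv s hs, inv_inv] at h
  have h2x : x ^ 2 = 1 := by rw [sq]; nth_rewrite 1 [h]; rw [inv_mul_cancel]
  have := orderOf_dvd_of_pow_eq_one h2x
  rw [hxo] at this
  norm_num at this

theorem O_eq_bot (hI : IHyp.{u, v} (Nat.card G)) : O = ⊥ := by
  classical
  haveI := Fintype.ofFinite G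
  haveI := Fintype.ofFinite (stabilizer G a)
  haveI := ZO_normal hS h2 hsp
  haveI := qA_normal hS
  by_contra hO
  have ho1 : 1 < Nat.card O := (Subgroup.one_lt_card_iff_ne_bot O).mpr hO
  obtain ⟨hqe, hq4⟩ := even_four_le_q hS h2
  obtain ⟨j, hj⟩ := dvd_O hS h2 hsp
  set q := qZ G a with hq
  set o := Nat.card O with ho
  have hoodd := hsp.odd
  have ho2 : 2 * q - 1 ≤ o := by
    rcases Nat.lt_or_ge j 2 with hlt | hge
    · interval_cases j
      · omega
      · obtain ⟨r, hr⟩ := hoodd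
        obtain ⟨r', hr'⟩ := hqe
        omega
    · have : (q - 1) * 2 ≤ (q - 1) * j := Nat.mul_le_mul_left _ hge
      omega
  set m := Nat.card (Qbar hS h2 hsp) with hm
  have hQcard : Nat.card Q = q * o * m := by
    have h := (ZOq hS h2 hsp).card_mul_index
    rw [Nat.card_congr (Subgroup.subgroupOfEquivOfLe (ZO_le_qA hS h2 hsp)).toEquiv, card_ZO hS h2 hsp,
      Nat.card_congr (Subgroup.subgroupOfEquivOfLe hS.le).toEquiv] at h
    exact h.symm
  have hm1 : 1 ≤ m := Nat.card_pos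
  set V := Nat.card ↥(D a t ⊓ Subgroup.centralizer {t}) with hV
  have hV1 : 1 ≤ V := Nat.card_pos
  have hJ : ((ZO hS h2 hsp).index : ℝ) * ((q : ℝ) * o) = (Nat.card Q : ℝ) * (((q : ℝ) - 1) * V) := by
    have h := congrArg (fun n : ℕ => (n : ℝ)) ((ZO hS h2 hsp).card_mul_index.trans (card_stab' hS))
    rw [card_ZO hS h2 hsp, Nat.cast_mul, Nat.cast_mul, Nat.cast_mul, Nat.cast_mul, Nat.cast_sub (by omega),
      Nat.cast_one] at h
    rw [← h]; ring
  have hNq : (q : ℝ) * o ≤ (Nat.card Q : ℝ) := by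
    rw [← Nat.cast_mul, hQcard]
    exact_mod_cast Nat.le_mul_of_pos_right _ hm1
  by_cases h8 : 8 ≤ q
  · have h := weight_total hS h2 hsp hI (q - 2) fun ν hν => by
      have := (free_card hS h2 hsp hI hν).2
      omega
    rw [Nat.cast_sub (by omega)] at h
    refine arith_big (q := (q : ℝ)) (o := (o : ℝ)) (V := (V : ℝ)) (by exact_mod_cast h8) ?_ hNq
      (by exact_mod_cast hV1) hJ h
    have : ((2 * q - 1 : ℕ) : ℝ) ≤ o := by exact_mod_cast ho2
    rw [Nat.cast_sub (by omega)] at this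
    push_cast at this
    exact this
  have hpow : q = 4 := by
    haveI := Fact.mk Nat.prime_two
    obtain ⟨n, hn⟩ := IsPGroup.iff_card.mp (show IsPGroup 2 (invGroup hS h2) from fun g => ⟨1, Subtype.ext (by
      rw [pow_one, sq]; exact g.2.2)⟩)
    rw [card_invGroup hS h2] at hn
    rcases Nat.lt_or_ge n 3 with hlt | hge
    · interval_cases n <;> omega
    · have := Nat.pow_le_pow_right Nat.zero_lt_two hge
      omega
  have hnoprime : ∀ l : ℕ, l.Prime → Odd l → q ≠ 2 ^ l := by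
    intro l hl hlo he
    rcases hlo with ⟨r, hr⟩
    have h3 : 3 ≤ l := by have := hl.two_le; omega
    have := Nat.pow_le_pow_right Nat.zero_lt_two h3
    omega
  have h := weight_total hS h2 hsp hI 4 fun ν hν => by
    rw [(free_card hS h2 hsp hI hν).1 ((mst_cases hS h2 hsp hI hν).resolve_right ?_)]
    · omega
    · rintro ⟨p, hp, hpo, -, he, -⟩
      exact hnoprime p hp hpo he
  rw [← hq, ← ho, ← hV] at h
  rw [hpow] at hj ho2 hQcard hJ hNq h
  push_cast at h hJ hNq
  have h34 : o = 7 ∨ 13 ≤ o := by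
    obtain ⟨r, hr⟩ := hoodd
    omega
  rcases h34 with h7 | h13
  · have hm4 : m = 1 ∨ 4 ≤ m := by
      have h3 := dvd_quot hS h2 hsp
      rw [← hq, hpow] at h3
      obtain ⟨i, hi⟩ := h3
      omega
    rcases hm4 with h1 | h4
    · rw [h7, h1] at hQcard
      have hD : Nat.card (D a t) ∣ o - 1 := by
        let f : D a t →* MulAut O :=
          { toFun := fun d => aO hS hsp ⟨d, D_le hS d.2⟩
            map_one' := MulEquiv.ext fun z => Subtype.ext (by simp [aO])
            map_mul' := fun c d => MulEquiv.ext fun z => Subtype.ext (by simp [aO]; group) }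
        refine dvd_card_sub_one f fun d hd z hz => ?_
        by_contra hz1
        obtain ⟨l, hl, hldvd⟩ := Nat.exists_prime_and_dvd (fun e => hd (orderOf_eq_one_iff.mp e))
        have hzc : Commute (d : G) z := mul_inv_eq_iff_eq_mul.mp (congrArg Subtype.val hz)
        have hxl : orderOf ((d : G) ^ (orderOf d / l)) = l := by
          rw [← Subgroup.orderOf_coe]
          exact orderOf_pow_orderOf_div (orderOf_pos _).ne' (by rwa [Subgroup.orderOf_coe])
        refine hnoprime l hl ?_ (prime_fix hS h2 hsp hI (pow_mem d.2 _) hl hxl z.2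
          (fun e => hz1 (Subtype.ext e)) (hzc.pow_left _).eq).1
        exact hS.odd_card.of_dvd_nat (hldvd.trans (orderOf_dvd_natCard d))
      rw [h7, card_D hS, ← hq, hpow] at hD
      have hVodd : Odd V := hS.odd_card.of_dvd_nat (Subgroup.card_dvd_of_le inf_le_left)
      have hV' : V = 1 := by
        have := Nat.le_of_dvd (by norm_num) hD
        obtain ⟨r, hr⟩ := hVodd
        omega
      refine no_twenty_nine hS h2 hQcard ?_
      rw [card_group' hS, hQcard, ← hq, hpow, ← hV, hV']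
    · refine arith_four (o := (o : ℝ)) (V := (V : ℝ)) (Or.inr ⟨by exact_mod_cast h7, ?_⟩)
        (by exact_mod_cast hV1) hJ h
      rw [hQcard, h7]
      exact_mod_cast (by omega : 112 ≤ 4 * 7 * m)
  · exact arith_four (o := (o : ℝ)) (V := (V : ℝ)) (Or.inl ⟨by exact_mod_cast h13, hNq⟩)
      (by exact_mod_cast hV1) hJ h

omit hsp in
/-- The regular normal subgroup is a 2-group. -/
theorem two_group (ih : IHyp.{u, v} (Nat.card G)) : IsPGroup 2 Q := by
  haveI := nilpotent_Q hS h2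
  obtain ⟨S, O, hsp⟩ := exists_split Q
  have hO := O_eq_bot hS h2 hsp ih
  refine hsp.two.to_le fun x hx => ?_
  obtain ⟨y, hy, z, hz, rfl⟩ := hsp.decomp x hx
  rw [hO, Subgroup.mem_bot] at hz
  rwa [hz, mul_one]

end CfsgLib.SuzukiRankOne
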