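import Cfsg.Agent.Lib.SuzukiRankOne.Induction
import Cfsg.Agent.Lib.SuzukiRankOne.KernelTwo
import Cfsg.Agent.Lib.SuzukiRankOne.AbelianExcl

/-!
Suzuki's theorem on split rank one groups in characteristic two.
-/

set_option autoImplicit false

namespace CfsgLib.SuzukiRankOne

open MulAction Cfsg CfsgLib.RankOne

universe u v

theorem parts : Parts.{u, v} := fun _ _ _ _ _ _ _ _ _ hS h2 ih =>
  ⟨two_group hS h2 ih, fun hQ2 hab => abelian_card hS h2 ih hQ2 hab⟩

/-- Every faithful split rank one set-up with a four group: `Q` is a 2-group of one of the three shapes and the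
group has a normal subgroup of odd index in one of the three families. -/
theorem concl {G : Type u} {Ω : Type v} [Group G] [Finite G] [MulAction G Ω] [FaithfulSMul G Ω] {a : Ω} {t : G}
    {Q : Subgroup G} (hS : IsRankOneSetup G Ω a t Q) (h2 : Four G) : Concl a t Q :=
  concl_of_parts parts hS h2

end CfsgLib.SuzukiRankOne
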