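import Mathlib.GroupTheory.Transfer
import Mathlib.GroupTheory.PGroup

/-!
Transfer of an element of prime order all whose conjugates in a subgroup of coprime index have one image.
-/

set_option autoImplicit false

namespace CfsgLib.SuzukiRankOne

open MulAction

universe u w

variable {G : Type u} [Group G] [Finite G] {A : Type w} [CommGroup A] {H : Subgroup G}

/-- The transfer of `x` is `α ^ [G : H]`. -/
theorem transfer_eq_of_fixed (θ : H →* A) {p : ℕ} (hp : p.Prime) {x : G} (hx : x ^ p = 1) {α : A}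
    (hα : α ^ p = 1) (hfix : ∀ g : G, ∀ h : g⁻¹ * x * g ∈ H, θ ⟨g⁻¹ * x * g, h⟩ = α) :
    MonoidHom.transfer θ x = α ^ H.index := by
  classical
  haveI : Fintype (Quotient (orbitRel (Subgroup.zpowers x) (G ⧸ H))) := Fintype.ofFinite _
  rw [MonoidHom.transfer_eq_prod_quotient_orbitRel_zpowers_quot, Subgroup.index_eq_sum_minimalPeriod H x,
    ← Finset.prod_pow_eq_pow_sum]
  refine Finset.prod_congr rfl fun q _ => ?_
  set k := Function.minimalPeriod (x • ·) q.out with hk
  have hdvd : k ∣ p := Function.IsPeriodicPt.minimalPeriod_dvd (by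
    show (fun c => x • c)^[p] q.out = q.out
    rw [smul_iterate]
    show x ^ p • q.out = q.out
    rw [hx, one_smul])
  have hmem := QuotientGroup.out_conj_pow_minimalPeriod_mem H x q.out
  rw [← hk] at hmem
  rcases (Nat.dvd_prime hp).mp hdvd with h | h
  · have he : q.out.out⁻¹ * x ^ k * q.out.out = q.out.out⁻¹ * x * q.out.out := by rw [h, pow_one]
    have hm : q.out.out⁻¹ * x * q.out.out ∈ H := he ▸ hmem
    rw [show (⟨_, hmem⟩ : H) = ⟨_, hm⟩ from Subtype.ext he, hfix _ hm, ← hk, h, pow_one]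
  · have he : q.out.out⁻¹ * x ^ k * q.out.out = 1 := by rw [h, hx, mul_one, inv_mul_cancel]
    rw [show (⟨_, hmem⟩ : H) = 1 from Subtype.ext he, map_one, ← hk, h, hα]

/-- A normal subgroup of odd index containing the given `2`-group. -/
theorem exists_normal_of_fixed (θ : H →* A) [Finite A] (hA : Odd (Nat.card A)) {p : ℕ} (hp : p.Prime) {x : G}
    (hx : x ^ p = 1) {α : A} (hα : α ^ p = 1) (hα1 : α ≠ 1) (hi : ¬ p ∣ H.index)
    (hfix : ∀ g : G, ∀ h : g⁻¹ * x * g ∈ H, θ ⟨g⁻¹ * x * g, h⟩ = α) (Q : Subgroup G) (hQ : IsPGroup 2 Q) :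
    ∃ L : Subgroup G, L.Normal ∧ L ≠ ⊤ ∧ Q ≤ L ∧ Odd L.index := by
  set f := MonoidHom.transfer θ
  refine ⟨f.ker, inferInstance, fun h => ?_, fun y hy => ?_, ?_⟩
  · have h1 : f x = 1 := MonoidHom.mem_ker.mp (h ▸ Subgroup.mem_top x)
    rw [show f x = α ^ H.index from transfer_eq_of_fixed θ hp hx hα hfix] at h1
    refine hα1 (orderOf_eq_one_iff.mp ?_)
    rcases (Nat.dvd_prime hp).mp (orderOf_dvd_of_pow_eq_one hα) with e | e
    · exact e
    · exact absurd (e ▸ orderOf_dvd_of_pow_eq_one h1) hi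
  · haveI : Fact (Nat.Prime 2) := ⟨Nat.prime_two⟩
    obtain ⟨k, hk⟩ := hQ ⟨y, hy⟩
    have h1 : f y ^ 2 ^ k = 1 := by
      rw [← map_pow, show y ^ 2 ^ k = 1 from congrArg Subtype.val hk, map_one]
    have h2 : f y ^ Nat.card A = 1 := pow_card_eq_one'
    have hc : Nat.Coprime (2 ^ k) (Nat.card A) := (Nat.coprime_two_left.mpr hA).pow_left k
    have := pow_gcd_eq_one.mpr ⟨h1, h2⟩
    rw [hc, pow_one] at this
    exact MonoidHom.mem_ker.mpr this
  · rw [Subgroup.index_ker]
    exact hA.of_dvd_nat (Subgroup.card_subgroup_dvd_card _)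

end CfsgLib.SuzukiRankOne
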