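import Cfsg.Agent.Lib.SuzukiRankOne.Galois

/-!
The involutions of a point stabiliser centralised by an element of `C_D(t)`.
-/

set_option autoImplicit false
set_option linter.unusedSectionVars false
set_option linter.style.haveILetI false

namespace CfsgLib.SuzukiRankOne

open MulAction Cfsg CfsgLib.RankOne
open CfsgLib.AfterFT.SplitRankOne (invGroup mem_invGroup)

universe u v

/-- The number of fixed points of an automorphism of a finite field. -/
theorem card_eq_fixed_pow {F : Type u} [Field F] [Finite F] (σ : F ≃+* F) :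
    Nat.card F = Nat.card {x : F // σ x = x} ^ orderOf σ := by
  classical
  haveI := Fintype.ofFinite F
  haveI : Finite (F ≃+* F) := DFunLike.finite _
  haveI := Fintype.ofFinite (Subgroup.zpowers σ)
  have h := FixedPoints.finrank_eq_card (Subgroup.zpowers σ) F
  rw [← Nat.card_eq_fintype_card, Nat.card_zpowers] at h
  have h2 := Module.natCard_eq_pow_finrank (K := FixedPoints.subfield (Subgroup.zpowers σ) F) (V := F)
  rw [h2, h]
  congr 1
  refine Nat.card_congr (Equiv.subtypeEquivRight fun x => ?_)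
  constructor
  · intro hx
    exact hx ⟨σ, Subgroup.mem_zpowers σ⟩
  · intro hx g
    have hle : Subgroup.zpowers σ ≤ MulAction.stabilizer (F ≃+* F) x :=
      Subgroup.zpowers_le.mpr (mem_stabilizer_iff.mpr hx)
    exact mem_stabilizer_iff.mp (hle g.2)

variable {G : Type u} {Ω : Type v} [Group G] [Finite G] [MulAction G Ω] [FaithfulSMul G Ω] {a : Ω} {t : G}
  {Q : Subgroup G}

/-- An element of prime order of `C_D(t)` not centralising all involutions of `G_a`. -/
theorem qZ_eq_pow (hS : IsRankOneSetup G Ω a t Q) (h2 : Four G) {w : G} (hwD : w ∈ D a t) (hwt : t * w = w * t)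
    {p : ℕ} (hp : p.Prime) (hw : orderOf w = p)
    (hne : ∃ z ∈ involutionsIn (stabilizer G a : Set G), w * z ≠ z * w) :
    qZ G a = (Nat.card {x : G // x ∈ involutionsIn (stabilizer G a : Set G) ∧ x * w = w * x} + 1) ^ p := by
  classical
  obtain ⟨⟨s, r⟩, ⟨hs, hr, he⟩, -⟩ := structure_eq hS
  obtain ⟨C, F, instF, finF, ι, κ, σ, -, hcard, -, hι, hadd, -, -, -, hV, hker⟩ := exists_galois hS h2 hs hr he
  let wV : Vt a t := ⟨w, Subgroup.mem_inf.mpr ⟨hwD, Subgroup.mem_centralizer_singleton_iff.mpr hwt.symm⟩⟩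
  have hσne : σ wV ≠ 1 := fun h => by
    obtain ⟨z, hz, hz'⟩ := hne
    exact hz' ((hker wV).mp h z hz)
  haveI := Fact.mk hp
  have hord : orderOf (σ wV) = p := orderOf_eq_prime (by
    rw [← map_pow, show wV ^ p = 1 from Subtype.ext (by
      rw [SubmonoidClass.coe_pow, ← hw]; exact pow_orderOf_eq_one w), map_one]) hσne
  have hfix : ∀ z : invGroup hS h2, σ wV (ι z) = ι z ↔ w * z = z * w := fun z => by
    let z' : invGroup hS h2 :=
      ⟨w * z * w⁻¹, CfsgLib.AfterFT.SplitRankOne.conj_mem_invGroup hS h2 hwD z.2⟩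
    rw [← hV wV z z' rfl]
    constructor
    · intro h
      exact mul_inv_eq_iff_eq_mul.mp (congrArg Subtype.val (hι.1 h))
    · intro h
      exact congrArg ι (Subtype.ext (mul_inv_eq_iff_eq_mul.mpr h))
  rw [← hcard, card_eq_fixed_pow (σ wV), hord]
  congr 1
  haveI := Fintype.ofFinite {x : G // x ∈ involutionsIn (stabilizer G a : Set G) ∧ x * w = w * x}
  haveI := Fintype.ofFinite {x : F // σ wV x = x}
  rw [Nat.card_eq_fintype_card, Nat.card_eq_fintype_card, ← Fintype.card_option]
  let e := Equiv.ofBijective ι hι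
  refine Fintype.card_congr (((e.subtypeEquiv (p := fun z : invGroup hS h2 => w * (z : G) = (z : G) * w) (q := fun x => σ wV x = x)
    fun z => (hfix z).symm).symm).trans
    { toFun := fun z => if h : ((z : invGroup hS h2) : G) = 1 then none else
        some ⟨_, ⟨z.1.2.1, h, z.1.2.2⟩, z.2.symm⟩
      invFun := fun o => o.elim ⟨1, by simp⟩ fun x => ⟨⟨x, x.2.1.1, x.2.1.2.2⟩, x.2.2.symm⟩
      left_inv := fun z => ?_
      right_inv := fun o => ?_ })
  · dsimp only
    split
    · exact Subtype.ext (Subtype.ext (by simpa using ‹((z.1 : invGroup hS h2) : G) = 1›.symm))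
    · rfl
  · cases o with
    | none => simp
    | some x => simp [x.2.1.2.1]

end CfsgLib.SuzukiRankOne
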