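import Cfsg.Agent.Lib.SuzukiRankOne.Defs
import Cfsg.Agent.Lib.RankOne.Central

/-!
The centraliser of an element of `C_D(t)`, modulo the kernel on its fixed points, is again a set-up.
-/

set_option autoImplicit false
set_option linter.unusedSectionVars false

namespace CfsgLib.SuzukiRankOne

open MulAction Cfsg CfsgLib.RankOne

universe u v

variable {G : Type u} {Ω : Type v} [Group G] [MulAction G Ω]

/-- The centraliser of an element. -/
abbrev cen (v : G) : Subgroup G := Subgroup.centralizer ({v} : Set G)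

/-- The fixed points of an element. -/
abbrev Fix (Ω : Type v) [MulAction G Ω] (v : G) : Type v := {c : Ω // v • c = c}

theorem cen_comm {v g : G} (hg : g ∈ cen v) : g * v = v * g :=
  Subgroup.mem_centralizer_singleton_iff.mp hg

theorem smul_fix {v : G} (g : cen v) (c : Fix Ω v) : v • (g : G) • (c : Ω) = (g : G) • (c : Ω) := by
  rw [← mul_smul, ← cen_comm g.2, mul_smul, c.2]

instance fixAction (v : G) : MulAction (cen v) (Fix Ω v) where
  smul g c := ⟨(g : G) • (c : Ω), smul_fix g c⟩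
  one_smul c := Subtype.ext (one_smul G (c : Ω))
  mul_smul g g' c := Subtype.ext (mul_smul (g : G) (g' : G) (c : Ω))

theorem coe_smul_fix {v : G} (g : cen v) (c : Fix Ω v) : ((g • c : Fix Ω v) : Ω) = (g : G) • (c : Ω) := rfl

/-- The action on the fixed points. -/
abbrev fixHom (Ω : Type v) [MulAction G Ω] (v : G) : cen v →* Equiv.Perm (Fix Ω v) :=
  MulAction.toPermHom (cen v) (Fix Ω v)

/-- The centraliser modulo the kernel on the fixed points. -/
abbrev Bar (Ω : Type v) [MulAction G Ω] (v : G) : Type u := cen v ⧸ (fixHom Ω v).ker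

/-- The projection to the quotient. -/
abbrev toBar (Ω : Type v) [MulAction G Ω] (v : G) : cen v →* Bar Ω v := QuotientGroup.mk' _

instance barAction (v : G) : MulAction (Bar Ω v) (Fix Ω v) :=
  MulAction.compHom (Fix Ω v) (QuotientGroup.kerLift (fixHom Ω v))

theorem toBar_smul {v : G} (g : cen v) (c : Fix Ω v) : toBar Ω v g • c = g • c := rfl

instance barFaithful (v : G) : FaithfulSMul (Bar Ω v) (Fix Ω v) :=
  ⟨fun {x y} h => QuotientGroup.kerLift_injective (fixHom Ω v) (Equiv.ext h)⟩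

/-- The image of `C_Q(v)`. -/
abbrev barQ (Ω : Type v) [MulAction G Ω] (Q : Subgroup G) (v : G) : Subgroup (Bar Ω v) :=
  (Q.subgroupOf (cen v)).map (toBar Ω v)

variable [Finite G] {a : Ω} {t : G} {Q : Subgroup G} (hS : IsRankOneSetup G Ω a t Q) {v : G}
  (hvD : v ∈ D a t) (hvt : t * v = v * t)

/-- The base point. -/
def fixA (hS : IsRankOneSetup G Ω a t Q) (hvD : v ∈ D a t) : Fix Ω v := ⟨a, ((mem_D hS).mp hvD).1⟩

/-- The swapping involution. -/
def fixT (hvt : t * v = v * t) : cen v := ⟨t, Subgroup.mem_centralizer_singleton_iff.mpr hvt⟩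

include hS hvD hvt

theorem fix_ta : v • t • a = t • a := ((mem_D hS).mp hvD).2

theorem fixed_three : ∃ b c d : Ω, b ≠ c ∧ b ≠ d ∧ c ≠ d ∧
    ∀ x ∈ ({v} : Set G), x • b = b ∧ x • c = c ∧ x • d = d := by
  obtain ⟨⟨s, r⟩, ⟨hs, hr, he⟩, -⟩ := structure_eq hS
  obtain ⟨ha, hb⟩ := (mem_D hS).mp hvD
  have hsv : s * v = v * s := (cent_s_of_cent_t hS hs hr he hvD hvt)
  have hst : s • t • a ≠ t • a := fun e => ta_ne hS (fix_unique hS hs.2.1 hs.2.2 e hs.1)
  have hsta : s • t • a ≠ a := fun e => ta_ne hS (smul_left_cancel s (e.trans hs.1.symm))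
  refine ⟨a, t • a, s • t • a, (ta_ne hS).symm, hsta.symm, hst.symm, ?_⟩
  rintro x rfl
  exact ⟨ha, hb, by rw [← mul_smul, ← hsv, mul_smul, hb]⟩

theorem sub_D : ({v} : Set G) ⊆ (D a t : Set G) := Set.singleton_subset_iff.mpr hvD

theorem barQ_mem {x : Bar Ω v} (hx : x ∈ barQ Ω Q v) : ∃ y : cen v, (y : G) ∈ Q ∧ toBar Ω v y = x := by
  obtain ⟨y, hy, rfl⟩ := hx
  exact ⟨y, hy, rfl⟩

theorem toBar_inj_Q {y : cen v} (hy : (y : G) ∈ Q) (h : toBar Ω v y = 1) : y = 1 := by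
  refine Subtype.ext (eq_one_of_fix_ta hS hy ?_)
  have h1 : toBar Ω v y • (⟨t • a, fix_ta hS hvD hvt⟩ : Fix Ω v) = ⟨t • a, fix_ta hS hvD hvt⟩ := by
    rw [h, one_smul]
  exact congrArg Subtype.val h1

theorem barQ_cancel {y y' : cen v} (hy : (y : G) ∈ Q) (hy' : (y' : G) ∈ Q) (h : toBar Ω v y = toBar Ω v y') :
    y = y' := by
  have h1 : toBar Ω v (y⁻¹ * y') = 1 := by rw [map_mul, map_inv, h, inv_mul_cancel]
  exact inv_mul_eq_one.mp (toBar_inj_Q hS hvD hvt (y := y⁻¹ * y')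
    (by rw [Subgroup.coe_mul, Subgroup.coe_inv]; exact mul_mem (inv_mem hy) hy') h1)

/-- Card of the image of `C_Q(v)`. -/
theorem card_barQ : Nat.card (barQ Ω Q v) = Nat.card ↥(cen v ⊓ Q) := by
  let f : ↥(cen v ⊓ Q) → barQ Ω Q v := fun y =>
    ⟨toBar Ω v ⟨y, (Subgroup.mem_inf.mp y.2).1⟩, ⟨_, (Subgroup.mem_inf.mp y.2).2, rfl⟩⟩
  refine (Nat.card_eq_of_bijective f ⟨fun y y' h => ?_, fun x => ?_⟩).symm
  · have := barQ_cancel hS hvD hvt (y := ⟨y, (Subgroup.mem_inf.mp y.2).1⟩) (y' := ⟨y', (Subgroup.mem_inf.mp y'.2).1⟩)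
      (Subgroup.mem_inf.mp y.2).2 (Subgroup.mem_inf.mp y'.2).2 (congrArg Subtype.val h)
    exact Subtype.ext (Subtype.mk.inj this)
  · obtain ⟨y, hy, e⟩ := barQ_mem hS hvD hvt x.2
    exact ⟨⟨y, Subgroup.mem_inf.mpr ⟨y.2, hy⟩⟩, Subtype.ext e⟩

/-- The fixed points form a set-up for the quotient. -/
theorem fixed_setup :
    IsRankOneSetup (Bar Ω v) (Fix Ω v) (fixA hS hvD) (toBar Ω v (fixT hvt)) (barQ Ω Q v) := by
  have hX := sub_D hS hvD hvt
  have h3 := fixed_three hS hvD hvt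
  have hfix : ∀ c : Fix Ω v, ∀ x ∈ ({v} : Set G), x • (c : Ω) = c := by
    rintro c x rfl
    exact c.2
  refine ⟨?_, ?_, ?_, ?_, ?_, ?_, ?_, ?_, ?_, ?_⟩
  · rw [is_two_pretransitive_iff]
    intro p q p' q' hpq hpq'
    obtain ⟨g, hg, e1, e2⟩ := cent_two_trans hS (X := {v}) hX h3 (b₁ := (p : Ω)) (b₂ := (q : Ω)) (c₁ := (p' : Ω))
      (c₂ := (q' : Ω)) (fun x hx => ⟨hfix p x hx, hfix q x hx, hfix p' x hx, hfix q' x hx⟩)
      (fun e => hpq (Subtype.ext e)) (fun e => hpq' (Subtype.ext e))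
    exact ⟨toBar Ω v ⟨g, hg⟩, Subtype.ext e1, Subtype.ext e2⟩
  · rw [← map_mul, show fixT hvt * fixT hvt = 1 from Subtype.ext hS.mul_self, map_one]
  · intro h
    have h1 : toBar Ω v (fixT hvt) • fixA hS hvD = fixA hS hvD := by rw [h, one_smul]
    exact hS.not_mem (congrArg Subtype.val h1)
  · intro h
    exact hS.not_mem (congrArg Subtype.val (mem_stabilizer_iff.mp h))
  · intro x hx
    obtain ⟨y, hy, rfl⟩ := barQ_mem hS hvD hvt hx
    exact Subtype.ext (mem_Q_a hS hy)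
  · intro h hh x hx
    obtain ⟨y, hy, rfl⟩ := barQ_mem hS hvD hvt hx
    obtain ⟨g, rfl⟩ := QuotientGroup.mk'_surjective _ h
    refine ⟨g * y * g⁻¹, ?_, by rw [map_mul, map_mul, map_inv]⟩
    show (g : G) * y * (g : G)⁻¹ ∈ Q
    exact conj_Q hS (congrArg Subtype.val (mem_stabilizer_iff.mp hh)) hy
  · rw [eq_bot_iff]
    rintro x ⟨hx, hx'⟩
    obtain ⟨y, hy, rfl⟩ := barQ_mem hS hvD hvt hx
    have h1 : y = 1 := Subtype.ext (eq_one_of_fix_ta hS hy (congrArg Subtype.val (mem_stabilizer_iff.mp hx')))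
    rw [h1, map_one]
    exact one_mem _
  · apply le_antisymm
    · refine sup_le (fun x hx => ?_) inf_le_left
      obtain ⟨y, hy, rfl⟩ := barQ_mem hS hvD hvt hx
      exact mem_stabilizer_iff.mpr (Subtype.ext (mem_Q_a hS hy))
    · intro x hx
      obtain ⟨g, rfl⟩ := QuotientGroup.mk'_surjective _ x
      have hga : (g : G) • a = a := congrArg Subtype.val (mem_stabilizer_iff.mp hx)
      obtain ⟨y, hy, d, hd, e⟩ := exists_decomp hS hga
      have hyv : y ∈ cen v := by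
        refine cent_Q_mem hS hX hy fun x hx => ?_
        rw [Set.mem_singleton_iff.mp hx]
        have h2 := smul_fix g (⟨t • a, fix_ta hS hvD hvt⟩ : Fix Ω v)
        rwa [show (g : G) • t • a = y • t • a by rw [e, mul_smul, ((mem_D hS).mp hd).2]] at h2
      have hdv : d ∈ cen v := by
        have := mul_mem (inv_mem hyv) g.2
        rwa [e, inv_mul_cancel_left] at this
      rw [show g = ⟨y, hyv⟩ * ⟨d, hdv⟩ from Subtype.ext e, map_mul]
      refine Subgroup.mul_mem_sup ⟨_, hy, rfl⟩ (Subgroup.mem_inf.mpr ⟨?_, ?_⟩)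
      · exact mem_stabilizer_iff.mpr (Subtype.ext ((mem_D hS).mp hd).1)
      · exact mem_stabilizer_iff.mpr (Subtype.ext ((mem_D hS).mp hd).2)
  · rw [card_barQ hS hvD hvt]
    exact cent_even hS hX h3
  · set Db : Subgroup (Bar Ω v) := stabilizer (Bar Ω v) (fixA hS hvD) ⊓
      stabilizer (Bar Ω v) (toBar Ω v (fixT hvt) • fixA hS hvD)
    have hle : Db ≤ ((D a t).subgroupOf (cen v)).map (toBar Ω v) := by
      intro x hx
      obtain ⟨g, rfl⟩ := QuotientGroup.mk'_surjective _ x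
      obtain ⟨h1, h2⟩ := Subgroup.mem_inf.mp hx
      exact ⟨g, (mem_D hS).mpr ⟨congrArg Subtype.val (mem_stabilizer_iff.mp h1),
        congrArg Subtype.val (mem_stabilizer_iff.mp h2)⟩, rfl⟩
    have h1 := (Subgroup.card_dvd_of_le hle).trans (Subgroup.card_map_dvd ((D a t).subgroupOf (cen v)) _)
    refine hS.odd_card.of_dvd_nat (h1.trans ?_)
    have h2 : Nat.card ((D a t).subgroupOf (cen v)) = Nat.card ↥(cen v ⊓ D a t) := by
      rw [← Subgroup.card_map_of_injective (Subgroup.subtype_injective _), Subgroup.subgroupOf_map_subtype, inf_comm]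
    rw [h2]
    exact Subgroup.card_dvd_of_le inf_le_right

theorem four_bar {z z' : G} (hz : z ∈ involutionsIn (stabilizer G a : Set G))
    (hz' : z' ∈ involutionsIn (stabilizer G a : Set G)) (hne : z ≠ z') (hzv : z * v = v * z) (hzv' : z' * v = v * z')
    (hcomm : z * z' = z' * z) : Four (Bar Ω v) := by
  have hQ : ∀ {y : G}, y ∈ involutionsIn (stabilizer G a : Set G) → y ∈ Q := fun hy =>
    invol_mem_Q hS (mem_stabilizer_iff.mp hy.1) hy.2.2
  let y : cen v := ⟨z, Subgroup.mem_centralizer_singleton_iff.mpr hzv⟩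
  let y' : cen v := ⟨z', Subgroup.mem_centralizer_singleton_iff.mpr hzv'⟩
  refine ⟨toBar Ω v y, toBar Ω v y', fun h => hz.2.1 (congrArg Subtype.val (toBar_inj_Q hS hvD hvt (hQ hz) h)),
    fun h => hz'.2.1 (congrArg Subtype.val (toBar_inj_Q hS hvD hvt (y := y') (hQ hz') h)),
    fun h => hne (congrArg Subtype.val (barQ_cancel hS hvD hvt (y := y) (y' := y') (hQ hz) (hQ hz') h)), ?_, ?_, ?_⟩
  · rw [← map_mul, show y * y = 1 from Subtype.ext hz.2.2, map_one]
  · rw [← map_mul, show y' * y' = 1 from Subtype.ext hz'.2.2, map_one]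
  · rw [← map_mul, ← map_mul, show y * y' = y' * y from Subtype.ext hcomm]

theorem qZ_bar :
    qZ (Bar Ω v) (fixA hS hvD) =
      Nat.card {x : G // x ∈ involutionsIn (stabilizer G a : Set G) ∧ x * v = v * x} + 1 := by
  unfold qZ
  congr 1
  let f : {x : G // x ∈ involutionsIn (stabilizer G a : Set G) ∧ x * v = v * x} →
      {x : Bar Ω v // x ∈ involutionsIn (stabilizer (Bar Ω v) (fixA hS hvD) : Set (Bar Ω v))} := fun x =>
    ⟨toBar Ω v ⟨x, Subgroup.mem_centralizer_singleton_iff.mpr x.2.2⟩,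
      mem_stabilizer_iff.mpr (Subtype.ext (mem_stabilizer_iff.mp x.2.1.1)),
      fun h => x.2.1.2.1 (congrArg Subtype.val (toBar_inj_Q hS hvD hvt
        (y := ⟨x, Subgroup.mem_centralizer_singleton_iff.mpr x.2.2⟩)
        (invol_mem_Q hS (mem_stabilizer_iff.mp x.2.1.1) x.2.1.2.2) h)),
      by rw [← map_mul, ← map_one (toBar Ω v)]; exact congrArg _ (Subtype.ext x.2.1.2.2)⟩
  refine (Nat.card_eq_of_bijective f ⟨fun x x' h => ?_, fun x => ?_⟩).symm
  · exact Subtype.ext (congrArg (fun y : cen v => (y : G)) (barQ_cancel hS hvD hvt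
      (invol_mem_Q hS (mem_stabilizer_iff.mp x.2.1.1) x.2.1.2.2)
      (invol_mem_Q hS (mem_stabilizer_iff.mp x'.2.1.1) x'.2.1.2.2) (congrArg Subtype.val h)))
  · obtain ⟨x, hxa, hx1, hx2⟩ := x
    obtain ⟨y, hy, rfl⟩ := barQ_mem hS hvD hvt (invol_mem_Q (fixed_setup hS hvD hvt) (mem_stabilizer_iff.mp hxa) hx2)
    have h : y * y = 1 := toBar_inj_Q hS hvD hvt (by rw [Subgroup.coe_mul]; exact mul_mem hy hy) (by rw [map_mul, hx2])
    refine ⟨⟨y, ⟨mem_stabilizer_iff.mpr (mem_Q_a hS hy), fun e => hx1 ?_, congrArg Subtype.val h⟩, cen_comm y.2⟩, rfl⟩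
    rw [show y = 1 from Subtype.ext e, map_one]

/-- The structure element lies in the centraliser. -/
theorem r_comm {s r : G} (hs : s ∈ involutionsIn (stabilizer G a : Set G)) (hr : r ∈ Q)
    (he : t * s * t = r⁻¹ * t * r) : r * v = v * r := by
  have hsv : s * v = v * s := cent_s_of_cent_t hS hs hr he hvD hvt
  obtain ⟨⟨s0, r0⟩, -, huniq⟩ := structure_eq hS
  have hva : v • a = a := ((mem_D hS).mp hvD).1
  have h1 := huniq (s, r) ⟨hs, hr, he⟩
  have h2 := huniq (s, v * r * v⁻¹) ⟨hs, conj_Q hS hva hr, ?_⟩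
  · rw [← h1, Prod.mk.injEq] at h2
    exact (mul_inv_eq_iff_eq_mul.mp h2.2).symm
  · have hs' : v * s * v⁻¹ = s := by rw [← hsv, mul_inv_cancel_right]
    have ht' : v * t * v⁻¹ = t := by rw [← hvt, mul_inv_cancel_right]
    calc t * s * t = v * t * v⁻¹ * (v * s * v⁻¹) * (v * t * v⁻¹) := by rw [hs', ht']
      _ = v * (t * s * t) * v⁻¹ := by group
      _ = (v * r * v⁻¹)⁻¹ * (v * t * v⁻¹) * (v * r * v⁻¹) := by rw [he]; group
      _ = (v * r * v⁻¹)⁻¹ * t * (v * r * v⁻¹) := by rw [ht']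

theorem rsq_of_bar (h : Rsq (fixA hS hvD) (toBar Ω v (fixT hvt)) (barQ Ω Q v)) : Rsq a t Q := by
  intro s r hs hr he
  have hsc : s ∈ cen v := Subgroup.mem_centralizer_singleton_iff.mpr (cent_s_of_cent_t hS hs hr he hvD hvt)
  have hrc : r ∈ cen v := Subgroup.mem_centralizer_singleton_iff.mpr (r_comm hS hvD hvt hs hr he)
  have hsQ : s ∈ Q := invol_mem_Q hS (mem_stabilizer_iff.mp hs.1) hs.2.2
  have h1 := h (toBar Ω v ⟨s, hsc⟩) (toBar Ω v ⟨r, hrc⟩)
    ⟨mem_stabilizer_iff.mpr (Subtype.ext (mem_stabilizer_iff.mp hs.1)),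
      fun e => hs.2.1 (congrArg Subtype.val (toBar_inj_Q hS hvD hvt (y := ⟨s, hsc⟩) hsQ e)),
      by rw [← map_mul, ← map_one (toBar Ω v)]; exact congrArg _ (Subtype.ext hs.2.2)⟩
    ⟨⟨r, hrc⟩, hr, rfl⟩
    (by rw [← map_inv, ← map_mul, ← map_mul, ← map_mul, ← map_mul]; exact congrArg _ (Subtype.ext he))
  rw [← map_mul] at h1
  exact congrArg Subtype.val (toBar_inj_Q hS hvD hvt (y := ⟨r, hrc⟩ * ⟨r, hrc⟩)
    (by rw [Subgroup.coe_mul]; exact mul_mem hr hr) h1)

theorem card_bar_lt (hv : v ≠ 1) : Nat.card (Bar Ω v) < Nat.card G := by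
  have hmem : (⟨v, Subgroup.mem_centralizer_singleton_iff.mpr rfl⟩ : cen v) ∈ (fixHom Ω v).ker :=
    MonoidHom.mem_ker.mpr (Equiv.ext fun c => Subtype.ext c.2)
  have h1 : 1 < Nat.card (fixHom Ω v).ker :=
    Finite.one_lt_card_iff_nontrivial.mpr ⟨⟨⟨_, hmem⟩, 1, fun e =>
      hv (congrArg (fun y : (fixHom Ω v).ker => ((y : cen v) : G)) e)⟩⟩
  have h2 := (fixHom Ω v).ker.card_eq_card_quotient_mul_card_subgroup
  have h3 : Nat.card (cen v) ≤ Nat.card G := Nat.card_le_card_of_injective _ Subtype.val_injective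
  have h4 : 0 < Nat.card (Bar Ω v) := Nat.card_pos
  change Nat.card (cen v) = Nat.card (Bar Ω v) * _ at h2
  nlinarith

end CfsgLib.SuzukiRankOne
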