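import Cfsg.Agent.Lib.SuzukiRankOne.Basics
import Cfsg.Agent.Lib.SuzukiRankOne.FixedSetup

/-!
No element of the two-point stabiliser centralises all involutions of the point stabiliser, unless `r * r = 1`.
-/

set_option autoImplicit false
set_option linter.unusedSectionVars false
set_option linter.style.haveILetI false

namespace CfsgLib.SuzukiRankOne

open MulAction Cfsg CfsgLib.RankOne

universe u v

variable {G : Type u} {Ω : Type v} [Group G] [Finite G] [MulAction G Ω] [FaithfulSMul G Ω] {a : Ω} {t : G}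
  {Q : Subgroup G} (hS : IsRankOneSetup G Ω a t Q) (h2 : Four G)

include hS

/-- An element of the two-point stabiliser centralising `Q` is trivial. -/
theorem eq_one_of_cent_Q {w : G} (hw : w ∈ D a t) (hc : ∀ x ∈ Q, x * w = w * x) : w = 1 := by
  refine eq_of_smul_eq_smul (α := Ω) fun c => ?_
  rw [one_smul]
  by_cases hca : c = a
  · rw [hca, ((mem_D hS).mp hw).1]
  · obtain ⟨x, hx, rfl⟩ := exists_Q_ta hS hca
    rw [← mul_smul, ← hc x hx, mul_smul, ((mem_D hS).mp hw).2]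

/-- A group of odd prime order acting on a subgroup of `Q` with a single iteration step. -/
theorem eq_one_of_shift {w x y : G} {p : ℕ} (hwp : w ^ p = 1) (hy : w * y = y * w) (hx : w * x * w⁻¹ = y * x) :
    y ^ p = 1 := by
  have key : ∀ i : ℕ, w ^ i * x * (w ^ i)⁻¹ = y ^ i * x := by
    intro i
    induction i with
    | zero => simp
    | succ i ih =>
      have hyi : w * y ^ i * w⁻¹ = y ^ i := by
        rw [(Commute.pow_right (show Commute w y from hy) i).eq, mul_inv_cancel_right]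
      calc w ^ (i + 1) * x * (w ^ (i + 1))⁻¹ = w * (w ^ i * x * (w ^ i)⁻¹) * w⁻¹ := by
            rw [pow_succ']; group
        _ = w * y ^ i * w⁻¹ * (w * x * w⁻¹) := by rw [ih]; group
        _ = y ^ (i + 1) * x := by rw [hyi, hx, pow_succ, mul_assoc]
  have h := key p
  rw [hwp, one_mul, inv_one, mul_one] at h
  exact mul_eq_right.mp h.symm

include h2

/-- An inverted element commutes with an element centralising all involutions of the stabiliser. -/
theorem inverted_comm {w k : G} (hw : w ∈ D a t)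
    (hcent : ∀ z ∈ involutionsIn (stabilizer G a : Set G), w * z = z * w) (hk : k ∈ invertedBy (D a t) t) :
    w * k = k * w := by
  obtain ⟨C, hC, -, hCn⟩ := Cfsg.Agent.S1131.result hS h2
  obtain ⟨⟨s, r⟩, ⟨hs, hr, he⟩, -⟩ := structure_eq hS
  have hmem : ∀ {g : G}, g ∈ C ↔ g ∈ invertedBy (D a t) t := fun {g} => by rw [← SetLike.mem_coe, hC]
  have hl : k⁻¹ * (w * k * w⁻¹) ∈ invertedBy (D a t) t :=
    hmem.mp (mul_mem (inv_mem (hmem.mpr hk)) (hCn w hw k (hmem.mpr hk)))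
  have hks := invol_conj_mem hS ((mem_D hS).mp hk.1).1 hs
  have h1 : s * (k⁻¹ * (w * k * w⁻¹)) = k⁻¹ * (w * k * w⁻¹) * s := by
    have e1 : w⁻¹ * s * w = s := by rw [mul_assoc, ← hcent s hs, inv_mul_cancel_left]
    have e2 : w * (k * s * k⁻¹) * w⁻¹ = k * s * k⁻¹ := by rw [hcent _ hks, mul_inv_cancel_right]
    symm
    calc k⁻¹ * (w * k * w⁻¹) * s = k⁻¹ * (w * k * (w⁻¹ * s * w) * k⁻¹ * w⁻¹) * (w * k * w⁻¹) := by group
      _ = k⁻¹ * (w * (k * s * k⁻¹) * w⁻¹) * (w * k * w⁻¹) := by rw [e1]; group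
      _ = _ := by rw [e2]; group
  have h3 := inverted_cent_s hS hs hr he hl h1
  rw [inv_mul_eq_one] at h3
  calc w * k = w * k * w⁻¹ * w := by group
    _ = k * w := by rw [← h3]

/-- The centraliser in `Q` of such an element has order `q²`. -/
theorem card_cent_of_fix {w : G} (ih : IHyp.{u, v} (Nat.card G)) (hw : w ∈ D a t) (hwt : t * w = w * t)
    (hw1 : w ≠ 1) (hcent : ∀ z ∈ involutionsIn (stabilizer G a : Set G), w * z = z * w) (hr : ¬ Rsq a t Q) :
    Nat.card ↥(cen w ⊓ Q) = qZ G a ^ 2 := by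
  obtain ⟨s₁, h₁, s₂, h₂, hne⟩ := two_le_card_invol hS h2
  have hB := fixed_setup hS hw hwt
  have h4 := four_bar hS hw hwt h₁ h₂ hne (hcent _ h₁).symm (hcent _ h₂).symm (invol_comm hS h2 h₁ h₂)
  have hq : qZ (Bar Ω w) (fixA hS hw) = qZ G a := by
    rw [qZ_bar hS hw hwt, qZ]
    congr 1
    exact Nat.card_congr (Equiv.subtypeEquivRight fun x => ⟨fun h => h.1, fun h => ⟨h, (hcent x h).symm⟩⟩)
  have hnr : ¬ Rsq (fixA hS hw) (toBar Ω w (fixT hwt)) (barQ Ω Q w) := fun h =>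
    hr (rsq_of_bar hS hw hwt h)
  obtain ⟨-, hsh, -⟩ := ih _ _ _ _ _ hB h4 (card_bar_lt hS hw hwt hw1)
  rcases hsh with hel | ⟨-, ⟨-, h⟩ | ⟨hc, -⟩⟩
  · exact absurd (fun s r _ hr' _ => hel r hr') hnr
  · exact absurd h hnr
  · rw [← card_barQ hS hw hwt, hc, hq]

/-- No element of `D` other than one centralises all involutions of the stabiliser. -/
theorem noW (ih : IHyp.{u, v} (Nat.card G)) (hQ2 : IsPGroup 2 Q)
    (hQ : Nat.card Q = qZ G a ^ 2 ∨ (Nat.card Q = qZ G a ^ 3 ∧ ∀ x ∈ Q, x * x * (x * x) = 1))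
    (hr : ¬ Rsq a t Q) : NoW a t := by
  classical
  intro d hd hcent
  by_contra hd1
  obtain ⟨⟨s, r⟩, ⟨hs, hrQ, he⟩, -⟩ := structure_eq hS
  have hp : (orderOf d).minFac.Prime := Nat.minFac_prime fun e => hd1 (orderOf_eq_one_iff.mp e)
  set p := (orderOf d).minFac
  set w := d ^ (orderOf d / p) with hwdef
  have hwo : orderOf w = p := orderOf_pow_orderOf_div (orderOf_pos d).ne' (Nat.minFac_dvd _)
  have hwD : w ∈ D a t := pow_mem hd _
  have hwc : ∀ z ∈ involutionsIn (stabilizer G a : Set G), w * z = z * w := fun z hz =>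
    (Commute.pow_left (show Commute d z from hcent z hz) _).eq
  have hwt : t * w = w * t := cent_t_of_cent_s hS hs hrQ he hwD (hwc s hs).symm
  have hw1 : w ≠ 1 := fun e => hp.one_lt.ne (by rw [← hwo, e, orderOf_one])
  have hwp : w ^ p = 1 := hwo ▸ pow_orderOf_eq_one w
  have hpodd : Odd p := hS.odd_card.of_dvd_nat (by
    rw [← hwo, ← Subgroup.orderOf_mk w hwD]; exact orderOf_dvd_natCard _)
  have hP := card_cent_of_fix hS h2 ih hwD hwt hw1 hwc hr
  rcases hQ with hQ | ⟨hQ, hsq⟩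
  · refine hw1 (eq_one_of_cent_Q hS hwD fun x hx => ?_)
    have h : cen w ⊓ Q = Q := Subgroup.eq_of_le_of_card_ge inf_le_right (by rw [hP, hQ])
    exact cen_comm (Subgroup.mem_inf.mp (h.symm ▸ hx)).1
  -- the commutators with `w`
  let δ : G → G := fun x => w * x * w⁻¹ * x⁻¹
  have hwa : w • a = a := ((mem_D hS).mp hwD).1
  have hδQ : ∀ x ∈ Q, δ x ∈ Q := fun x hx => mul_mem (conj_Q hS hwa hx) (inv_mem hx)
  have hδ_eq : ∀ x y : G, δ x = δ y ↔ x⁻¹ * y ∈ cen w := by
    intro x y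
    rw [Subgroup.mem_centralizer_singleton_iff]
    show w * x * w⁻¹ * x⁻¹ = w * y * w⁻¹ * y⁻¹ ↔ _
    constructor
    · intro h
      calc x⁻¹ * y * w = x⁻¹ * (w⁻¹ * (w * y * w⁻¹ * y⁻¹))⁻¹ * y := by group
        _ = x⁻¹ * (w⁻¹ * (w * x * w⁻¹ * x⁻¹))⁻¹ * y := by rw [h]
        _ = _ := by group
    · intro h
      calc w * x * w⁻¹ * x⁻¹ = w * x * w⁻¹ * (x⁻¹ * y * w) * w⁻¹ * y⁻¹ := by group
        _ = _ := by rw [h]; group
  have hfix : ∀ x ∈ Q, w * δ x = δ x * w → δ x = 1 := by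
    intro x hx h
    have h1 : δ x ^ p = 1 := eq_one_of_shift hS (x := x) hwp h (by show _ = w * x * w⁻¹ * x⁻¹ * x; group)
    obtain ⟨n, hn⟩ := hQ2 ⟨δ x, hδQ x hx⟩
    have h2' : δ x ^ 2 ^ n = 1 := by
      have := congrArg Subtype.val hn
      simpa using this
    have h3 := pow_gcd_eq_one.mpr ⟨h1, h2'⟩
    rwa [show Nat.gcd p (2 ^ n) = 1 from Nat.Coprime.pow_right n (Nat.coprime_two_right.mpr hpodd), pow_one] at h3
  -- the set of commutators
  let S := {y : G // ∃ x ∈ Q, δ x = y}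
  let P' : Subgroup Q := (cen w ⊓ Q).subgroupOf Q
  have hmemP : ∀ x y : Q, x⁻¹ * y ∈ P' ↔ ((x : G)⁻¹ * y ∈ cen w) := fun x y => by
    rw [Subgroup.mem_subgroupOf, Subgroup.mem_inf, Subgroup.coe_mul, Subgroup.coe_inv]
    exact ⟨fun h => h.1, fun h => ⟨h, mul_mem (inv_mem x.2) y.2⟩⟩
  have hScard : Nat.card S = qZ G a := by
    have h1 : Nat.card S = P'.index := by
      rw [Subgroup.index_eq_card]
      refine (Nat.card_eq_of_bijective (Quotient.lift (fun x : Q => (⟨δ x, x, x.2, rfl⟩ : S))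
        fun x y h => Subtype.ext ((hδ_eq _ _).mpr ((hmemP x y).mp (QuotientGroup.leftRel_apply.mp h)))) ⟨?_, ?_⟩).symm
      · intro x y h
        induction x using QuotientGroup.induction_on
        induction y using QuotientGroup.induction_on
        exact QuotientGroup.eq.mpr ((hmemP _ _).mpr ((hδ_eq _ _).mp (congrArg Subtype.val h)))
      · rintro ⟨y, x, hx, rfl⟩
        exact ⟨QuotientGroup.mk ⟨x, hx⟩, rfl⟩
    have h3 := P'.card_mul_index
    rw [Nat.card_congr (Subgroup.subgroupOfEquivOfLe (inf_le_right : cen w ⊓ Q ≤ Q)).toEquiv, hP, hQ, ← h1,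
      pow_succ _ 2] at h3
    exact Nat.eq_of_mul_eq_mul_left (pow_pos (by unfold qZ; omega) 2) h3
  -- the inverted elements
  obtain ⟨C, hC, -, -⟩ := Cfsg.Agent.S1131.result hS h2
  have hCI : ∀ {g : G}, g ∈ C → g ∈ invertedBy (D a t) t := fun {g} hg => by rwa [← SetLike.mem_coe, hC] at hg
  have hconjS : ∀ (k : C) (x : G), (k : G) * δ x * (k : G)⁻¹ = δ ((k : G) * x * (k : G)⁻¹) := by
    intro k x
    have h := inverted_comm hS h2 hwD hwc (hCI k.2)
    have e1 : (k : G)⁻¹ * w * k = w := by rw [mul_assoc, h, inv_mul_cancel_left]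
    show (k : G) * (w * x * w⁻¹ * x⁻¹) * (k : G)⁻¹ = w * (k * x * (k : G)⁻¹) * w⁻¹ * (k * x * (k : G)⁻¹)⁻¹
    calc (k : G) * (w * x * w⁻¹ * x⁻¹) * (k : G)⁻¹
        = k * ((k : G)⁻¹ * w * k * x * ((k : G)⁻¹ * w * k)⁻¹ * x⁻¹) * (k : G)⁻¹ := by rw [e1]
      _ = _ := by group
  -- a non-trivial commutator
  obtain ⟨x, hx, hxc⟩ : ∃ x ∈ Q, x ∉ cen w := by
    by_contra h
    push Not at h
    have e : cen w ⊓ Q = Q := inf_eq_right.mpr h
    rw [e, hQ] at hP
    exact absurd (Nat.pow_right_injective (by have := three_le_qZ hS h2; omega) hP) (by norm_num)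
  have hy1 : δ x ≠ 1 := fun e => hxc (by
    have := (hδ_eq 1 x).mp (by rw [e]; show w * 1 * w⁻¹ * 1⁻¹ = 1; group)
    simpa using this)
  have hyQ : δ x ∈ Q := hδQ x hx
  -- its square
  have hwy : ¬ w * δ x = δ x * w := fun h => hy1 (hfix x hx h)
  have hy2 : δ x * δ x ∈ involutionsIn (stabilizer G a : Set G) := by
    refine ⟨hS.le (mul_mem hyQ hyQ), fun e => hwy (hwc _ ⟨hS.le hyQ, hy1, e⟩), hsq _ hyQ⟩
  -- the orbit of the inverted elements
  let g : C → {y : S // (y : G) ≠ 1} := fun k =>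
    ⟨⟨(k : G) * δ x * (k : G)⁻¹, (k : G) * x * (k : G)⁻¹, conj_Q hS ((mem_D hS).mp (hCI k.2).1).1 hx,
      (hconjS k x).symm⟩, fun e => hy1 (conj_eq_one_iff.mp e)⟩
  have hginj : Function.Injective g := by
    intro k k' h
    have h' : (k : G) * δ x * (k : G)⁻¹ = (k' : G) * δ x * (k' : G)⁻¹ :=
      congrArg (fun y : {y : S // (y : G) ≠ 1} => ((y : S) : G)) h
    by_contra hne
    refine hy1 (inverted_cent_Q hS (hCI (k'⁻¹ * k).2) (fun e => hne (inv_mul_eq_one.mp (Subtype.ext e)).symm) hyQ ?_)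
    calc ((k'⁻¹ * k : C) : G) * δ x = (k' : G)⁻¹ * ((k : G) * δ x * (k : G)⁻¹) * k := by
          rw [Subgroup.coe_mul, Subgroup.coe_inv]; group
      _ = _ := by rw [h', Subgroup.coe_mul, Subgroup.coe_inv]; group
  have hgcard : Nat.card {y : S // (y : G) ≠ 1} ≤ Nat.card C := by
    have h1 : Nat.card C + 1 = qZ G a := by
      rw [← card_inverted_qZ hS]
      exact congrArg (· + 1) (Nat.card_congr (Equiv.setCongr hC))
    let j : Option {y : S // (y : G) ≠ 1} → S := fun o =>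
      o.elim ⟨1, 1, one_mem _, by show w * 1 * w⁻¹ * 1⁻¹ = 1; group⟩ fun y => y.1
    have hj : Function.Injective j := by
      rintro (_ | y) (_ | y') h
      · rfl
      · exact absurd (congrArg Subtype.val h).symm y'.2
      · exact absurd (congrArg Subtype.val h) y.2
      · exact congrArg some (Subtype.ext h)
    have h3 := Nat.card_le_card_of_injective j hj
    rw [Finite.card_option, hScard] at h3
    omega
  obtain ⟨k, hk⟩ := (hginj.bijective_of_nat_card_le hgcard).2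
    ⟨⟨w * δ x * w⁻¹, w * x * w⁻¹, conj_Q hS hwa hx, by
      show w * (w * x * w⁻¹) * w⁻¹ * (w * x * w⁻¹)⁻¹ = w * (w * x * w⁻¹ * x⁻¹) * w⁻¹
      group⟩, fun e => hy1 (conj_eq_one_iff.mp e)⟩
  have hk' : (k : G) * δ x * (k : G)⁻¹ = w * δ x * w⁻¹ :=
    congrArg (fun y : {y : S // (y : G) ≠ 1} => ((y : S) : G)) hk
  by_cases hk1 : (k : G) = 1
  · rw [hk1, one_mul, inv_one, mul_one, eq_comm, mul_inv_eq_iff_eq_mul] at hk'
    exact hwy hk'
  refine hy2.2.1 (inverted_cent_Q hS (hCI k.2) hk1 (mul_mem hyQ hyQ) (mul_inv_eq_iff_eq_mul.mp ?_))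
  calc (k : G) * (δ x * δ x) * (k : G)⁻¹ = (k : G) * δ x * (k : G)⁻¹ * ((k : G) * δ x * (k : G)⁻¹) := by group
    _ = w * (δ x * δ x) * w⁻¹ := by rw [hk']; group
    _ = δ x * δ x := by rw [hwc _ hy2, mul_inv_cancel_right]

end CfsgLib.SuzukiRankOne
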