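import Cfsg.Agent.Lib.SuzukiRankOne.CharTI

/-!
Exceptional characters of the point stabiliser of a split rank one group: base families, adjoined characters and
the values at an involution.

Blueprint: `blueprint/bender/B2.md`, section 1.
-/

set_option autoImplicit false
set_option linter.unusedSectionVars false
set_option linter.unusedVariables false

namespace CfsgLib.SuzukiRankOne

open MulAction Cfsg CfsgLib.RankOne CfsgLib.CharTheory
open scoped ComplexConjugate

universe u v w

section General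

variable {H : Type u} [Group H] [Fintype H]

/-- Orthogonal differences of irreducible characters have no common term. -/
theorem diff_disjoint {a b c d : H → ℂ} (ha : IsIrrCharacter H a) (hb : IsIrrCharacter H b)
    (hc : IsIrrCharacter H c) (hd : IsIrrCharacter H d) (hab : a ≠ b) (hcd : c ≠ d)
    (h : classInner (a - b) (c - d) = 0) : a ≠ c ∧ a ≠ d ∧ b ≠ c ∧ b ≠ d := by
  classical
  simp only [classInner_sub_left, classInner_sub_right, classInner_irr ha hc, classInner_irr ha hd,
    classInner_irr hb hc, classInner_irr hb hd] at h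
  refine ⟨?_, ?_, ?_, ?_⟩ <;> intro e <;> subst e <;> split_ifs at h <;> simp_all <;> norm_num at h

theorem conj_sign {ε : ℂ} (h : ε = 1 ∨ ε = -1) : conj ε = ε := by rcases h with rfl | rfl <;> simp

theorem sign_mul_self {ε : ℂ} (h : ε = 1 ∨ ε = -1) : ε * ε = 1 := by rcases h with rfl | rfl <;> simp

/-- The weighted coefficient functional at an element. -/
noncomputable def wt (s : H) (g : H → ℂ) : ℂ :=
  ∑ φ : IrrCharacter H, classInner g (φ : H → ℂ) * ((φ : H → ℂ) s ^ 2 / (φ : H → ℂ) 1)

theorem wt_irr (s : H) {X : H → ℂ} (hX : IsIrrCharacter H X) : wt s X = X s ^ 2 / X 1 := by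
  classical
  rw [wt, Finset.sum_eq_single ⟨X, hX⟩]
  · rw [classInner_irr_self hX, one_mul]
  · intro φ _ hne
    rw [classInner_irr_ne hX φ.2 fun e => hne (Subtype.ext e.symm), zero_mul]
  · exact fun h => absurd (Finset.mem_univ _) h

theorem wt_add (s : H) (f g : H → ℂ) : wt s (f + g) = wt s f + wt s g := by
  simp only [wt, classInner_add_left, add_mul, Finset.sum_add_distrib]

theorem wt_sub (s : H) (f g : H → ℂ) : wt s (f - g) = wt s f - wt s g := by
  simp only [wt, classInner_sub_left, sub_mul, Finset.sum_sub_distrib]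

theorem wt_smul (s : H) (r : ℂ) (g : H → ℂ) : wt s (r • g) = r * wt s g := by
  simp only [wt, classInner_smul_left, Finset.mul_sum, mul_assoc]

theorem wt_zero (s : H) : wt s (0 : H → ℂ) = 0 := by simp [wt]

theorem wt_sum (s : H) {ι : Type w} (S : Finset ι) (f : ι → H → ℂ) : wt s (∑ i ∈ S, f i) = ∑ i ∈ S, wt s (f i) := by
  classical
  induction S using Finset.induction with
  | empty => simp [wt_zero]
  | insert i S hi ih => rw [Finset.sum_insert hi, Finset.sum_insert hi, wt_add, ih]

/-- A generalized character is zero if its norm is. -/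
theorem eq_zero_of_norm_zero {θ : H → ℂ} (h : IsGeneralizedCharacter H θ) (h0 : classInner θ θ = 0) : θ = 0 := by
  obtain ⟨c, hθ, -, hsq⟩ := classInner_self_eq_sum_sq h
  rw [h0] at hsq
  have hs : ∑ ψ : IrrCharacter H, c ψ ^ 2 = 0 := by exact_mod_cast hsq.symm
  have hz := (Finset.sum_eq_zero_iff_of_nonneg fun ψ _ => sq_nonneg (c ψ)).mp hs
  rw [hθ]
  exact Finset.sum_eq_zero fun ψ hψ => by simp [pow_eq_zero_iff two_ne_zero |>.mp (hz ψ hψ)]

theorem norm_int {θ : H → ℂ} (h : IsGeneralizedCharacter H θ) : ∃ n : ℕ, classInner θ θ = n := by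
  obtain ⟨c, -, -, hsq⟩ := classInner_self_eq_sum_sq h
  refine ⟨(∑ ψ : IrrCharacter H, c ψ ^ 2).toNat, ?_⟩
  rw [hsq]
  exact_mod_cast congrArg (fun z : ℤ => (z : ℂ)) (Int.toNat_of_nonneg (Finset.sum_nonneg fun ψ _ => sq_nonneg (c ψ))).symm

end General

variable {G : Type u} {Ω : Type v} [Group G] [Finite G] [MulAction G Ω] [FaithfulSMul G Ω] {a : Ω} {t : G}
  {Q : Subgroup G}

/-- Vanishing at non-identity elements fixing a second point. -/
def VanOff (a : Ω) (ξ : stabilizer G a → ℂ) : Prop :=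
  ∀ x : stabilizer G a, (x : G) ∉ Sup G a → x ≠ 1 → ξ x = 0

/-- A function carried by the elements fixing only `a`. -/
def Supp (a : Ω) (f : stabilizer G a → ℂ) : Prop := ∀ x : stabilizer G a, (x : G) ∉ Sup G a → f x = 0

/-- The value forced at an involution. -/
def Val (a : Ω) (Q : Subgroup G) (s : G) (X : G → ℂ) (m : ℂ) : Prop :=
  ∃ σ : ℂ, (σ = 1 ∨ σ = -1) ∧
    X s = σ * m * (qZ G a : ℂ) / (2 * ((qZ G a : ℂ) - 1)) +
      ((qZ G a : ℂ) - 2) / (((Nat.card Q : ℂ) + 1) * ((qZ G a : ℂ) - 1)) * X 1 / 2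

/-- A base family of characters of the point stabiliser. -/
structure Fam (G : Type u) {Ω : Type v} [Group G] [MulAction G Ω] (a : Ω) where
  /-- the number of members -/
  n : ℕ
  hn : 2 ≤ n
  /-- the members -/
  b : Fin n → stabilizer G a → ℂ
  irr : ∀ i, IsIrrCharacter (stabilizer G a) (b i)
  inj : Function.Injective b
  deg : ∀ i j, b i 1 = b j 1
  van : ∀ i, VanOff a (b i)

/-- The first member. -/
def Fam.i0 (F : Fam G a) : Fin F.n := ⟨0, lt_of_lt_of_le Nat.zero_lt_two F.hn⟩

section Setting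

variable [Fintype G] [Fintype (stabilizer G a)]

/-- A lift of a base family. -/
structure Lift (F : Fam G a) (ε : ℂ) (X : Fin F.n → G → ℂ) : Prop where
  sign : ε = 1 ∨ ε = -1
  irr : ∀ i, IsIrrCharacter G (X i)
  inj : Function.Injective X
  eq : ∀ i j, indFun (stabilizer G a) (F.b i - F.b j) = ε • (X i - X j)

/-- A character that can be adjoined to a base family. -/
structure Mem (F : Fam G a) (ξ : stabilizer G a → ℂ) (d : ℕ) : Prop where
  irr : IsIrrCharacter (stabilizer G a) ξ
  van : VanOff a ξ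
  new : ∀ i, ξ ≠ F.b i
  deg : ξ 1 = (d : ℂ) * F.b F.i0 1
  pos : 1 ≤ d
  le : 2 * d ≤ F.n

variable (hS : IsRankOneSetup G Ω a t Q)
include hS

theorem supp_diff {ξ η : stabilizer G a → ℂ} (hξ : VanOff a ξ) (hη : VanOff a η) (r : ℂ) (h1 : ξ 1 = r * η 1) :
    Supp a (ξ - r • η) := fun x hx => by
  by_cases h : x = 1
  · subst h; simp [h1]
  · simp [hξ x hx h, hη x hx h]

theorem supp_one {f : stabilizer G a → ℂ} (hf : Supp a f) : f 1 = 0 := hf 1 (by simpa using one_not_sup hS)

theorem ind_iso {f f' : stabilizer G a → ℂ} (hf' : IsClassFunction (stabilizer G a) f') (h : Supp a f)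
    (h' : Supp a f') :
    classInner (indFun (stabilizer G a) f) (indFun (stabilizer G a) f') = classInner f f' :=
  classInner_indFun_of_TI (stabilizer G a) (Sup G a) (fun g hg x hx hx' => sup_TI g hg x hx hx') hf' h h'
    (supp_one hS h')

theorem ind_val {f : stabilizer G a → ℂ} (hf : IsClassFunction (stabilizer G a) f) (h : Supp a f)
    (x : stabilizer G a) (hx : (x : G) ∈ Sup G a) : indFun (stabilizer G a) f (x : G) = f x :=
  indFun_apply_of_TI (stabilizer G a) (Sup G a) (fun g hg x hx hx' => sup_TI g hg x hx hx') hf h (supp_one hS h) x hx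

theorem ind_one {f : stabilizer G a → ℂ} (h : Supp a f) : indFun (stabilizer G a) f 1 = 0 := by
  rw [indFun_apply_one, supp_one hS h, mul_zero]

omit hS in
theorem classFun_sub_smul {ξ η : stabilizer G a → ℂ} (hξ : IsIrrCharacter (stabilizer G a) ξ)
    (hη : IsIrrCharacter (stabilizer G a) η) (r : ℂ) : IsClassFunction (stabilizer G a) (ξ - r • η) :=
  isClassFunction_sub (isClassFunction_irr hξ) (isClassFunction_smul r (isClassFunction_irr hη))

omit hS in
theorem gen_sub_smul {ξ η : stabilizer G a → ℂ} (hξ : IsIrrCharacter (stabilizer G a) ξ)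
    (hη : IsIrrCharacter (stabilizer G a) η) (d : ℕ) :
    IsGeneralizedCharacter G (indFun (stabilizer G a) (ξ - (d : ℂ) • η)) :=
  isGenChar_indFun _ ⟨ξ, (d : ℂ) • η, isCharacter_of_irr hξ, isCharacter_nsmul (isCharacter_of_irr hη) d, rfl⟩

/-- Every base family has a lift. -/
theorem exists_lift (F : Fam G a) : ∃ ε X, Lift F ε X := by
  classical
  have hs : ∀ i j, Supp a (F.b i - F.b j) := fun i j => by
    simpa using supp_diff hS (F.van i) (F.van j) 1 (by rw [one_mul]; exact F.deg i j)
  have hc : ∀ i j, IsClassFunction (stabilizer G a) (F.b i - F.b j) := fun i j =>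
    isClassFunction_sub (isClassFunction_irr (F.irr i)) (isClassFunction_irr (F.irr j))
  obtain ⟨ε, hε, μ, hμ, hμinj, heq⟩ := exists_coherent_family F.i0
    (fun i => indFun (stabilizer G a) (F.b i - F.b F.i0))
    (by rw [indFun_sub, sub_self])
    (fun i => by simpa using gen_sub_smul (F.irr i) (F.irr F.i0) 1)
    (fun i => ind_one hS (hs i F.i0))
    (fun i j hi hj => by
      rw [ind_iso hS (hc j F.i0) (hs i F.i0) (hs j F.i0), classInner_sub_left, classInner_sub_right,
        classInner_sub_right, classInner_irr (F.irr i) (F.irr j), classInner_irr_self (F.irr F.i0),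
        classInner_irr_ne (F.irr i) (F.irr F.i0) fun e => hi (F.inj e),
        classInner_irr_ne (F.irr F.i0) (F.irr j) fun e => hj (F.inj e).symm]
      by_cases h : i = j
      · subst h; simp; norm_num
      · rw [if_neg h, if_neg fun e => h (F.inj e)]; ring)
  refine ⟨ε, μ, hε, hμ, hμinj, fun i j => ?_⟩
  rw [show F.b i - F.b j = (F.b i - F.b F.i0) - (F.b j - F.b F.i0) by abel, indFun_sub,
    show indFun (stabilizer G a) (F.b i - F.b F.i0) = _ from heq i,
    show indFun (stabilizer G a) (F.b j - F.b F.i0) = _ from heq j, ← smul_sub]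
  congr 1
  abel

omit hS in
theorem Lift.deg {F : Fam G a} {ε : ℂ} {X : Fin F.n → G → ℂ} (hX : Lift F ε X)
    (hS : IsRankOneSetup G Ω a t Q) (i j : Fin F.n) : X i 1 = X j 1 := by
  have h := congrFun (hX.eq i j) 1
  rw [ind_one hS (by simpa using supp_diff hS (F.van i) (F.van j) 1 (by rw [one_mul]; exact F.deg i j))] at h
  have hε : ε ≠ 0 := by rcases hX.sign with e | e <;> simp [e]
  simp only [Pi.smul_apply, Pi.sub_apply, smul_eq_mul, eq_comm (a := (0 : ℂ)), mul_eq_zero, hε, false_or,
    sub_eq_zero] at h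
  exact h

/-- Different families have disjoint lifts. -/
theorem lift_disjoint {F F' : Fam G a} (hne : ∀ i j, F.b i ≠ F'.b j) {ε ε' : ℂ} {X : Fin F.n → G → ℂ}
    {X' : Fin F'.n → G → ℂ} (hX : Lift F ε X) (hX' : Lift F' ε' X') (i : Fin F.n) (j : Fin F'.n) :
    X i ≠ X' j := by
  obtain ⟨k, hk⟩ : ∃ k : Fin F.n, k ≠ i := by
    haveI : Nontrivial (Fin F.n) := Fin.nontrivial_iff_two_le.mpr F.hn
    exact exists_ne i
  obtain ⟨l, hl⟩ : ∃ l : Fin F'.n, l ≠ j := by
    haveI : Nontrivial (Fin F'.n) := Fin.nontrivial_iff_two_le.mpr F'.hn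
    exact exists_ne j
  have h : classInner (indFun (stabilizer G a) (F.b i - F.b k)) (indFun (stabilizer G a) (F'.b j - F'.b l)) = 0 := by
    rw [ind_iso hS (isClassFunction_sub (isClassFunction_irr (F'.irr j)) (isClassFunction_irr (F'.irr l)))
      (by simpa using supp_diff hS (F.van i) (F.van k) 1 (by rw [one_mul]; exact F.deg i k))
      (by simpa using supp_diff hS (F'.van j) (F'.van l) 1 (by rw [one_mul]; exact F'.deg j l)),
      classInner_sub_left, classInner_sub_right, classInner_sub_right,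
      classInner_irr_ne (F.irr i) (F'.irr j) (hne _ _), classInner_irr_ne (F.irr i) (F'.irr l) (hne _ _),
      classInner_irr_ne (F.irr k) (F'.irr j) (hne _ _), classInner_irr_ne (F.irr k) (F'.irr l) (hne _ _)]
    ring
  rw [hX.eq, hX'.eq, classInner_smul_left, classInner_smul_right, ← mul_assoc, mul_eq_zero] at h
  refine (diff_disjoint (hX.irr i) (hX.irr k) (hX'.irr j) (hX'.irr l) (fun e => hk (hX.inj e).symm)
    (fun e => hl (hX'.inj e).symm) (h.resolve_left ?_)).1
  rcases hX.sign with e | e <;> rcases hX'.sign with e' | e' <;> simp [e, e']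

/-- The image of an adjoined character. -/
structure Adj (F : Fam G a) (ε : ℂ) (X : Fin F.n → G → ℂ) (ξ : stabilizer G a → ℂ) (d : ℕ) (X' : G → ℂ)
    (β : ℕ) : Prop where
  beta : β = 0 ∨ (β = 1 ∧ F.n = 2 * d)
  irr : IsIrrCharacter G X'
  new : ∀ i, X' ≠ X i
  deg : X' 1 = (d : ℂ) * X F.i0 1
  eq : indFun (stabilizer G a) (ξ - (d : ℂ) • F.b F.i0) =
    ε • ((β : ℂ) • ∑ i, X i - (d : ℂ) • X F.i0 + (1 - 2 * (β : ℂ)) • X')

omit hS in
theorem lift_inner_sum {F : Fam G a} {ε : ℂ} {X : Fin F.n → G → ℂ} (hX : Lift F ε X) (i : Fin F.n) :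
    classInner (X i) (∑ j, X j) = 1 := by
  classical
  rw [classInner_sum_right, Finset.sum_eq_single i, classInner_irr_self (hX.irr i)]
  · exact fun j _ hji => classInner_irr_ne (hX.irr i) (hX.irr j) fun e => hji (hX.inj e).symm
  · exact fun h => absurd (Finset.mem_univ _) h

omit hS in
theorem lift_inner_sum' {F : Fam G a} {ε : ℂ} {X : Fin F.n → G → ℂ} (hX : Lift F ε X) (i : Fin F.n) :
    classInner (∑ j, X j) (X i) = 1 := by
  rw [← classInner_comm, lift_inner_sum hX i, map_one]

omit hS in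
theorem lift_sum_sum {F : Fam G a} {ε : ℂ} {X : Fin F.n → G → ℂ} (hX : Lift F ε X) :
    classInner (∑ j, X j) (∑ j, X j) = F.n := by
  rw [classInner_sum_left, Finset.sum_congr rfl fun i _ => lift_inner_sum hX i]
  simp

/-- Adjoining a character of larger degree to a base family. -/
theorem exists_adj {F : Fam G a} {ε : ℂ} {X : Fin F.n → G → ℂ} (hX : Lift F ε X) {ξ : stabilizer G a → ℂ}
    {d : ℕ} (hξ : Mem F ξ d) : ∃ X' β, Adj F ε X ξ d X' β := by
  classical
  set i₀ := F.i0
  have hs : Supp a (ξ - (d : ℂ) • F.b i₀) := supp_diff hS hξ.van (F.van i₀) _ hξ.deg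
  have hcf := classFun_sub_smul hξ.irr (F.irr i₀) (d : ℂ)
  set Γ := indFun (stabilizer G a) (ξ - (d : ℂ) • F.b i₀) with hΓ
  have hgen : IsGeneralizedCharacter G Γ := gen_sub_smul hξ.irr (F.irr i₀) d
  obtain ⟨hΓc, hint⟩ := isGenChar_iff_coeff_int.mp hgen
  choose c hc using fun i => hint (X i) (hX.irr i)
  have hεε := sign_mul_self hX.sign
  obtain ⟨εi, hεi, hεc⟩ : ∃ z : ℤ, (z = 1 ∨ z = -1) ∧ ε = (z : ℂ) := by
    rcases hX.sign with e | e
    · exact ⟨1, Or.inl rfl, by simp [e]⟩
    · exact ⟨-1, Or.inr rfl, by simp [e]⟩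
  have hdiff : ∀ i, i ≠ i₀ → (c i : ℂ) = c i₀ + ε * d := by
    intro i hi
    have h : classInner Γ (indFun (stabilizer G a) (F.b i - F.b i₀)) = d := by
      rw [hΓ, ind_iso hS (isClassFunction_sub (isClassFunction_irr (F.irr i)) (isClassFunction_irr (F.irr i₀))) hs
        (by simpa using supp_diff hS (F.van i) (F.van i₀) 1 (by rw [one_mul]; exact F.deg i i₀))]
      simp only [classInner_sub_left, classInner_sub_right, classInner_smul_left,
        classInner_irr_ne hξ.irr (F.irr i) (hξ.new i), classInner_irr_ne hξ.irr (F.irr i₀) (hξ.new i₀),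
        classInner_irr_ne (F.irr i₀) (F.irr i) fun e => hi (F.inj e).symm, classInner_irr_self (F.irr i₀)]
      ring
    rw [hX.eq, classInner_smul_right, classInner_sub_right, hc, hc, conj_sign hX.sign] at h
    rw [← h, ← mul_assoc, hεε]; ring
  set β : ℤ := εi * c i₀ + d with hβ
  have hβc : (β : ℂ) = ε * c i₀ + d := by rw [hβ, hεc]; push_cast; ring
  set base : G → ℂ := (β : ℂ) • ∑ i, X i - (d : ℂ) • X i₀ with hbase
  have hcoef : ∀ i, classInner Γ (X i) = classInner (ε • base) (X i) := by
    intro i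
    rw [hbase, classInner_smul_left, classInner_sub_left, classInner_smul_left, classInner_smul_left,
      lift_inner_sum' hX, hc]
    by_cases hi : i = i₀
    · subst hi
      rw [classInner_irr_self (hX.irr _), hβc]
      linear_combination (-(c i₀ : ℂ)) * hεε
    · rw [classInner_irr_ne (hX.irr i₀) (hX.irr i) (fun e => hi (hX.inj e).symm), hdiff i hi, hβc]
      linear_combination (-(c i₀ : ℂ)) * hεε
  set Δ := Γ - ε • base with hΔ
  have hΔX : ∀ i, classInner Δ (X i) = 0 := fun i => by rw [hΔ, classInner_sub_left, hcoef, sub_self]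
  have hΔgen : IsGeneralizedCharacter G Δ := by
    refine isGenChar_sub hgen ?_
    rw [hεc, hbase]
    refine isGenChar_intSmul εi (isGenChar_sub (isGenChar_intSmul β
      (isGenChar_sum _ _ fun i _ => isGenChar_of_char (isCharacter_of_irr (hX.irr i)))) ?_)
    exact isGenChar_of_char (isCharacter_nsmul (isCharacter_of_irr (hX.irr i₀)) d)
  have hΔbase : classInner Δ base = 0 := by
    rw [hbase, classInner_sub_right, classInner_smul_right, classInner_smul_right, classInner_sum_right]
    simp [hΔX]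
  have hbase2 : classInner base base = ((F.n : ℤ) * β ^ 2 - 2 * β * d + (d : ℤ) ^ 2 : ℤ) := by
    rw [hbase]
    simp only [classInner_sub_left, classInner_sub_right, classInner_smul_left, classInner_smul_right,
      lift_sum_sum hX, lift_inner_sum hX, lift_inner_sum' hX, classInner_irr_self (hX.irr i₀),
      map_intCast, map_natCast]
    push_cast; ring
  have hΓ2 : classInner Γ Γ = 1 + (d : ℂ) ^ 2 := by
    rw [hΓ, ind_iso hS hcf hs hs]
    simp only [classInner_sub_left, classInner_sub_right, classInner_smul_left, classInner_smul_right,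
      map_natCast, classInner_irr_self hξ.irr, classInner_irr_self (F.irr i₀),
      classInner_irr_ne hξ.irr (F.irr i₀) (hξ.new i₀),
      classInner_irr_ne (F.irr i₀) hξ.irr (fun e => hξ.new i₀ e.symm)]
    ring
  obtain ⟨m, hm⟩ := norm_int hΔgen
  have hnorm : (m : ℤ) = 1 - ((F.n : ℤ) * β ^ 2 - 2 * β * d) := by
    have h : classInner Γ Γ = classInner base base + classInner Δ Δ := by
      conv_lhs => rw [show Γ = Δ + ε • base by rw [hΔ]; abel]
      rw [classInner_add_left, classInner_add_right, classInner_add_right, classInner_smul_left, classInner_smul_left,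
        classInner_smul_right, classInner_smul_right, hΔbase,
        show classInner base Δ = 0 by rw [← classInner_comm, hΔbase, map_zero], conj_sign hX.sign,
        ← mul_assoc, hεε]
      ring
    rw [hΓ2, hbase2, hm] at h
    have h' : ((m : ℤ) : ℂ) = ((1 - ((F.n : ℤ) * β ^ 2 - 2 * β * d) : ℤ) : ℂ) := by
      push_cast at h ⊢; linear_combination -h
    exact_mod_cast h'
  have hn2 : (2 * d : ℤ) ≤ F.n := by exact_mod_cast hξ.le
  have hd1 : (1 : ℤ) ≤ d := by exact_mod_cast hξ.pos
  have hβ01 : β = 0 ∨ β = 1 := by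
    by_contra hcon
    push Not at hcon
    have h2 : 2 ≤ β * (β - 1) := by
      rcases lt_or_gt_of_ne hcon.1 with h | h
      · nlinarith
      · have : 2 ≤ β := by omega
        nlinarith
    nlinarith [mul_le_mul_of_nonneg_right hn2 (sq_nonneg β)]
  have hΓ1 : Γ 1 = 0 := ind_one hS hs
  have hdegs : ∀ i, X i 1 = X i₀ 1 := fun i => hX.deg hS i i₀
  have hΔ1 : Δ 1 = -ε * ((β : ℂ) * F.n - d) * X i₀ 1 := by
    rw [hΔ, Pi.sub_apply, hΓ1, hbase]
    simp [hdegs]
    ring
  have hP : X i₀ 1 ≠ 0 := irr_ne_zero (hX.irr i₀)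
  have hε0 : ε ≠ 0 := fun e => by simp [e] at hεε
  have hm1 : m = 1 ∧ (β = 1 → (F.n : ℤ) = 2 * d) := by
    rcases hβ01 with e | e <;> rw [e] at hnorm
    · exact ⟨by omega, fun h => by omega⟩
    · have hcases : (m = 1 ∧ (F.n : ℤ) = 2 * d) ∨ (m = 0 ∧ (F.n : ℤ) = 2 * d + 1) := by omega
      rcases hcases with h | ⟨h0, hn⟩
      · exact ⟨h.1, fun _ => h.2⟩
      · exfalso
        have hz : Δ = 0 := eq_zero_of_norm_zero hΔgen (by rw [hm, h0, Nat.cast_zero])
        rw [hz, e] at hΔ1
        simp only [Pi.zero_apply, Int.cast_one, one_mul, eq_comm (a := (0 : ℂ)), mul_eq_zero, neg_eq_zero, hε0,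
          hP, or_false, false_or, sub_eq_zero] at hΔ1
        have h' : F.n = d := by exact_mod_cast hΔ1
        omega
  have hirr := irr_or_neg_of_norm_one hΔgen (by rw [hm, hm1.1, Nat.cast_one])
  set σ : ℂ := 1 - 2 * (β : ℂ) with hσ
  have hσ2 : σ * σ = 1 := by rcases hβ01 with e | e <;> rw [hσ, e] <;> norm_num
  set X' : G → ℂ := (ε * σ) • Δ with hX'
  have hΔ' : Δ = (ε * σ) • X' := by
    rw [hX', smul_smul, show ε * σ * (ε * σ) = 1 by linear_combination hεε + (ε * ε) * hσ2, one_smul]
  have hX'1 : X' 1 = (d : ℂ) * X i₀ 1 := by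
    rw [hX', Pi.smul_apply, smul_eq_mul, hΔ1]
    rcases hβ01 with e | e
    · rw [hσ, e]; push_cast
      linear_combination (d : ℂ) * X i₀ 1 * hεε
    · have hn : (F.n : ℂ) = 2 * (d : ℂ) := by exact_mod_cast hm1.2 e
      rw [hσ, e, hn]; push_cast
      linear_combination (d : ℂ) * X i₀ 1 * hεε
  have hX'irr : IsIrrCharacter G X' := by
    obtain ⟨k, hk0, hk⟩ := irr_degree_pos (hX.irr i₀)
    have hes : ε * σ = 1 ∨ ε * σ = -1 := by
      rcases hX.sign with e | e <;> rcases hβ01 with e' | e' <;> rw [hσ, e, e'] <;> norm_num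
    have hneg : ∀ W : G → ℂ, IsIrrCharacter G W → W 1 = -((d : ℂ) * (k : ℂ)) → False := fun W hW hW1 => by
      obtain ⟨l, hl, hl1⟩ := irr_degree_pos hW
      rw [hl1] at hW1
      have h : ((l + d * k : ℕ) : ℂ) = 0 := by push_cast; linear_combination hW1
      have : l + d * k = 0 := by exact_mod_cast h
      omega
    rcases hes with e | e <;> rcases hirr with h | h
    · rwa [hX', e, one_smul]
    · refine (hneg _ h ?_).elim
      rw [hX', e, one_smul] at hX'1
      rw [Pi.neg_apply, hX'1, hk]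
    · refine (hneg _ h ?_).elim
      rw [hX', e, neg_one_smul, Pi.neg_apply] at hX'1
      rw [← hk, ← hX'1, neg_neg]
    · rwa [hX', e, neg_one_smul]
  refine ⟨X', β.toNat, ?_, hX'irr, fun i e => ?_, hX'1, ?_⟩
  · rcases hβ01 with h | h
    · left; simp [h]
    · right
      refine ⟨by simp [h], ?_⟩
      have := hm1.2 h
      exact_mod_cast this
  · have h1 := classInner_irr_self (hX.irr i)
    rw [← e] at h1
    have h2 : classInner X' (X i) = 0 := by rw [hX', classInner_smul_left, hΔX, mul_zero]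
    rw [← e, h1] at h2
    exact one_ne_zero h2
  · have hb : ((β.toNat : ℕ) : ℂ) = (β : ℂ) := by
      rcases hβ01 with h | h <;> simp [h]
    rw [hb, smul_add, ← hbase, smul_smul, ← hσ, ← hΔ', hΔ]
    abel

end Setting

end CfsgLib.SuzukiRankOne
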