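import Cfsg.Agent.Lib.SuzukiRankOne.Galois
import Cfsg.Agent.S1132
import Cfsg.Agent.S1137
import Cfsg.Agent.S1138

/-!
Small facts used in the assembly of Suzuki's theorem: the number `q`, the inverted elements, and the possible
orders of the regular normal subgroup.
-/

set_option autoImplicit false
set_option linter.unusedSectionVars false

namespace CfsgLib.SuzukiRankOne

open MulAction Cfsg CfsgLib.RankOne
open CfsgLib.AfterFT.SplitRankOne (invGroup)

universe u v

variable {G : Type u} {Ω : Type v} [Group G] [Finite G] [MulAction G Ω] [FaithfulSMul G Ω] {a : Ω} {t : G}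
  {Q : Subgroup G} (hS : IsRankOneSetup G Ω a t Q)

include hS

/-- An involution of the point stabiliser lies in `Q`. -/
theorem invol_mem {z : G} (hz : z ∈ involutionsIn (stabilizer G a : Set G)) : z ∈ Q :=
  invol_mem_Q hS (mem_stabilizer_iff.mp hz.1) hz.2.2

/-- Conjugates of involutions by elements of the stabiliser. -/
theorem invol_conj_mem {g z : G} (hg : g • a = a) (hz : z ∈ involutionsIn (stabilizer G a : Set G)) :
    g * z * g⁻¹ ∈ involutionsIn (stabilizer G a : Set G) :=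
  ⟨hS.le (conj_Q hS hg (invol_mem hS hz)), fun e => hz.2.1 (conj_eq_one_iff.mp e),
    by rw [show g * z * g⁻¹ * (g * z * g⁻¹) = g * (z * z) * g⁻¹ by group, hz.2.2, mul_one, mul_inv_cancel]⟩

/-- `r * r = 1` propagates from one solution of the structure equation. -/
theorem rsq_of_one {s r : G} (hs : s ∈ involutionsIn (stabilizer G a : Set G)) (hr : r ∈ Q)
    (he : t * s * t = r⁻¹ * t * r) (h : r * r = 1) : Rsq a t Q := by
  intro s' r' hs' hr' he'
  obtain ⟨p, -, huniq⟩ := structure_eq hS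
  have e := (huniq (s', r') ⟨hs', hr', he'⟩).trans (huniq (s, r) ⟨hs, hr, he⟩).symm
  rw [show r' = r from congrArg Prod.snd e, h]

theorem three_le_qZ (h2 : Four G) : 3 ≤ qZ G a := by
  obtain ⟨s₁, h₁, s₂, h₂, hne⟩ := two_le_card_invol hS h2
  haveI : Nontrivial {x : G // x ∈ involutionsIn (stabilizer G a : Set G)} :=
    ⟨⟨⟨s₁, h₁⟩, ⟨s₂, h₂⟩, fun e => hne (congrArg Subtype.val e)⟩⟩
  have := Finite.one_lt_card (α := {x : G // x ∈ involutionsIn (stabilizer G a : Set G)})
  unfold qZ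
  omega

theorem card_inverted_qZ : Nat.card (invertedBy (D a t) t) + 1 = qZ G a := by
  rw [card_inverted hS]
  rfl

/-- An inverted element other than one. -/
theorem exists_inverted (h2 : Four G) : ∃ k ∈ invertedBy (D a t) t, k ≠ 1 := by
  obtain ⟨s₁, h₁, s₂, h₂, hne⟩ := two_le_card_invol hS h2
  obtain ⟨k, hk, e⟩ := exists_conj_inverted hS h₁ h₂
  refine ⟨k, hk, ?_⟩
  rintro rfl
  exact hne (by simpa using e)

/-- Involutions of the stabiliser commute. -/
theorem invol_comm (h2 : Four G) {z z' : G} (hz : z ∈ involutionsIn (stabilizer G a : Set G))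
    (hz' : z' ∈ involutionsIn (stabilizer G a : Set G)) : z * z' = z' * z :=
  invol_central hS h2 hz (invol_mem hS hz')

/-- The elements of square one in `Q`. -/
theorem card_sq_one : Nat.card {x : Q // x * x = 1} = qZ G a := by
  classical
  rw [qZ, ← Finite.card_option]
  refine Nat.card_congr
    { toFun := fun x => if h : ((x.1 : Q) : G) = 1 then none else
        some ⟨(x.1 : G), hS.le x.1.2, h, congrArg Subtype.val x.2⟩
      invFun := fun o => o.elim ⟨1, mul_one 1⟩ fun z => ⟨⟨z, invol_mem hS z.2⟩, Subtype.ext z.2.2.2⟩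
      left_inv := fun x => ?_
      right_inv := fun o => ?_ }
  · dsimp only
    split
    · exact Subtype.ext (Subtype.ext (by simpa using ‹((x.1 : Q) : G) = 1›.symm))
    · rfl
  · cases o with
    | none => simp
    | some z => simp [z.2.2.1]

/-- The possible orders of `Q`, when its squares are not all trivial. -/
theorem card_cases (hQ2 : IsPGroup 2 Q) (h2 : Four G)
    (hab : (∀ x ∈ Q, ∀ y ∈ Q, x * y = y * x) → (∀ x ∈ Q, x * x = 1) ∨ Nat.card Q = qZ G a ^ 2)
    (hne : ¬ ∀ x ∈ Q, x * x = 1) :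
    Nat.card Q = qZ G a ^ 2 ∨ (Nat.card Q = qZ G a ^ 3 ∧ (∀ x ∈ Q, x * x * (x * x) = 1) ∧
      ∃ x ∈ Q, ∃ y ∈ Q, x * y ≠ y * x) := by
  classical
  by_cases hc : ∀ x ∈ Q, ∀ y ∈ Q, x * y = y * x
  · exact Or.inl ((hab hc).resolve_left hne)
  push Not at hc
  obtain ⟨x, hx, y, hy, hxy⟩ := hc
  have hT : IsPGroup 2 (⊤ : Subgroup Q) := hQ2.of_equiv Subgroup.topEquiv.symm
  obtain ⟨S, hS'⟩ := hT.exists_le_sylow
  have hSt : (S : Subgroup Q) = ⊤ := top_le_iff.mp hS'
  rcases Cfsg.Agent.S1132.result hS h2 S with hcomm | hsuz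
  · exfalso
    have hmem : ∀ z : Q, z ∈ (S : Subgroup Q) := fun z => hSt ▸ Subgroup.mem_top z
    exact hxy (congrArg (fun z : (S : Subgroup Q) => ((z : Q) : G))
      (hcomm.is_comm.comm ⟨⟨x, hx⟩, hmem _⟩ ⟨⟨y, hy⟩, hmem _⟩))
  let e : (S : Subgroup Q) ≃* Q := (MulEquiv.subgroupCongr hSt).trans Subgroup.topEquiv
  obtain ⟨h1, h1'⟩ := Cfsg.Agent.S1137.result hsuz
  obtain ⟨-, -, h3, h4⟩ := Cfsg.Agent.S1138.result hsuz
  have hcent : Nat.card (Subgroup.center (S : Subgroup Q)) = qZ G a := by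
    rw [← card_sq_one hS]
    refine Nat.card_congr (e.toEquiv.subtypeEquiv fun z => ⟨fun hz => ?_, fun hz => ?_⟩)
    · show e z * e z = 1
      rw [← map_mul, h1' z hz, map_one]
    · have hz' : z * z = 1 := e.injective (by rw [map_mul, map_one]; exact hz)
      by_cases hz1 : z = 1
      · rw [hz1]; exact one_mem _
      · exact ((h1 z).mp ⟨hz1, hz'⟩).1
  rw [hcent, Nat.card_congr e.toEquiv] at h3
  rcases h3 with h3 | h3
  · exact Or.inl h3
  refine Or.inr ⟨h3, fun z hz => ?_, x, hx, y, hy, hxy⟩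
  have h5 := Monoid.pow_exponent_eq_one (e.symm ⟨z, hz⟩)
  rw [h4, ← map_pow, MulEquiv.map_eq_one_iff] at h5
  have h6 : z ^ 4 = 1 := by
    rw [← SubmonoidClass.coe_pow (⟨z, hz⟩ : Q), h5, OneMemClass.coe_one]
  simpa [pow_succ, mul_assoc] using h6

end CfsgLib.SuzukiRankOne
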