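import Cfsg.Agent.Lib.SuzukiRankOne.UnitaryNormal
import Cfsg.Agent.Lib.SuzukiRankOne.UnitaryModel
import Mathlib.FieldTheory.Finite.GaloisField

/-! Suzuki's theorem, the case `r² = 1`: the group is `PSU₃(q)` up to odd index. -/

set_option autoImplicit false
set_option linter.unusedSectionVars false
set_option linter.style.haveILetI false

namespace CfsgLib.SuzukiRankOne

open MulAction Cfsg CfsgLib.RankOne CfsgLib.Dickson

universe u v

variable {G : Type u} {Ω : Type v} [Group G] [Finite G] [MulAction G Ω] [FaithfulSMul G Ω] {a : Ω} {t : G}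
  {Q : Subgroup G}

theorem sl2_map_up {F F' : Type} [Field F] [Field F'] [CharP F 2] [CharP F' 2] (e : F' →+* F) :
    (∀ x, Matrix.SpecialLinearGroup.map e (up x) = up (e x)) ∧
      Matrix.SpecialLinearGroup.map e (wSL : SL2 F') = wSL ∧
      ∀ x : F'ˣ, Matrix.SpecialLinearGroup.map e (dia x) = dia (Units.map (e : F' →* F) x) := by
  refine ⟨fun x => ?_, ?_, fun x => ?_⟩ <;> apply ext_entries <;> simp

/-- Transport of a chart along an isomorphism of fields. -/
def Chart.transport {F F' : Type} [Field F] [CharP F 2] [Field F'] [CharP F' 2] (C : Chart a t Q F)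
    (e : F' ≃+* F) : Chart a t Q F' where
  φ := C.φ.comp (Matrix.SpecialLinearGroup.map (e : F' →+* F))
  w := by rw [MonoidHom.comp_apply, (sl2_map_up _).2.1, C.w]
  mem x := by rw [MonoidHom.comp_apply, (sl2_map_up _).1]; exact C.mem _
  invol x hx hx2 := by
    obtain ⟨l, rfl⟩ := C.invol x hx hx2
    exact ⟨e.symm l, by simp [(sl2_map_up (e : F' →+* F)).1]⟩
  dia_mem x := by rw [MonoidHom.comp_apply, (sl2_map_up _).2.2]; exact C.dia_mem _
  dia_surj c hc := by
    obtain ⟨x, rfl⟩ := C.dia_surj c hc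
    refine ⟨Units.map (e.symm : F →* F') x, ?_⟩
    rw [MonoidHom.comp_apply, (sl2_map_up _).2.2]
    congr 2
    exact Units.ext (by simp)
  inj := by
    rw [MonoidHom.coe_comp]
    refine C.inj.comp fun g g' h => ?_
    apply Subtype.ext
    ext i j
    exact e.injective (congrArg (fun m : SL2 F => m.1 i j) h)
  conj d hd x := by
    obtain ⟨x', hx'⟩ := C.conj d hd (Units.map (e : F' →* F) x)
    refine ⟨Units.map (e.symm : F →* F') x', ?_⟩
    simp only [MonoidHom.comp_apply, (sl2_map_up (e : F' →+* F)).2.2]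
    refine hx'.trans ?_
    congr 2
    exact Units.ext (by simp)

/-- Frames over a given field. -/
theorem exists_frame_over (hS : IsRankOneSetup G Ω a t Q) (h2 : Four G)
    (hsq : ∀ x ∈ Q, x * x * (x * x) = 1) (hr : Rsq a t Q) (hq : Nat.card Q = qZ G a ^ 3)
    {F : Type} [Field F] [Fintype F] [CharP F 2] (hF : Fintype.card F = qZ G a) (h4 : 4 ≤ Fintype.card F)
    {ε : F} (hε : ∀ τ, τ * τ + τ ≠ ε) : Nonempty (Frame a t Q F ε) := by
  have h := uhyp_of_rsq hS h2 hr
  obtain ⟨F₁, iF, iFt, iC, -, hcard, ⟨C₁⟩⟩ := h.exists_chart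
  have e : F ≃+* F₁ := FiniteField.ringEquivOfCardEq (hF.trans hcard.symm)
  let C := C₁.transport e
  obtain ⟨c₀, hout, hinj, hcov⟩ := C.exists_base hS (by rw [hq, hF])
  let B : UBase a t Q F :=
    { toChart := C
      setup := hS
      c₀ := c₀
      out := hout
      inj₀ := hinj
      cover := hcov
      central := fun x y hy => h.z_mem (C.mem x) (by rw [← map_mul, up_sq, map_one]) hy
      sq := fun y hy => by
        obtain ⟨l, hl⟩ := C.invol _ (Q.mul_mem hy hy) (hsq y hy)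
        exact ⟨l, hl.symm⟩ }
  obtain ⟨B', hB'⟩ := B.exists_normal h4 hε
  exact ⟨⟨B', hB'⟩⟩

/-- Suzuki's theorem in the unitary case. -/
theorem unitary (hS : IsRankOneSetup G Ω a t Q) (h2 : Four G) (_hQ2 : IsPGroup 2 Q)
    (hsq : ∀ x ∈ Q, x * x * (x * x) = 1) (hr : Rsq a t Q) (hq : Nat.card Q = qZ G a ^ 3) :
    ∃ L : Subgroup G, L.Normal ∧ Odd L.index ∧ ∃ (F : Type) (_ : Field F) (_ : Fintype F) (n : ℕ),
      2 ≤ n ∧ Fintype.card F = (2 ^ n) ^ 2 ∧ Nonempty (L ≃* Cfsg.PSU 3 F (2 ^ n)) := by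
  classical
  haveI : Fact (Nat.Prime 2) := ⟨Nat.prime_two⟩
  obtain ⟨F₀, iF, iFt, iC, h4, hcard, ⟨C⟩⟩ := (uhyp_of_rsq hS h2 hr).exists_chart
  have hcard' : Fintype.card F₀ = qZ G a := hcard
  obtain ⟨ε, hε⟩ := exists_eps (F := F₀)
  obtain ⟨n, -, hn⟩ := FiniteField.card F₀ 2
  have hn2 : 2 ≤ (n : ℕ) := by
    by_contra hc
    have : (2:ℕ) ^ (n : ℕ) ≤ 2 ^ 1 := Nat.pow_le_pow_right (by norm_num) (by omega)
    omega
  obtain ⟨hnorm, hodd⟩ := C.normal_closure hS
  let K := GaloisField 2 ((n : ℕ) * 2)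
  letI : Fintype K := Fintype.ofFinite K
  have hK : Fintype.card K = (2 ^ (n : ℕ)) ^ 2 := by
    rw [← Nat.card_eq_fintype_card, GaloisField.card 2 _ (by omega), ← pow_mul]
  obtain ⟨-, σ, hσ⟩ := CfsgLib.UnitaryBasic.frob_exists hK
  let c : CfsgLib.PSUBorel.Conj K := ⟨2 ^ (n : ℕ), σ, hK, hσ⟩
  obtain ⟨Ω', iA, iFS, a', t', Q', hS', h2', -, hsq', hr', hq', hqc, hsimple⟩ :=
    exists_model c (show 4 ≤ 2 ^ (n : ℕ) by rw [← hn]; exact h4)
  have hF' : Fintype.card F₀ = qZ (CfsgLib.PSUBorel.SUs c 3 ⧸ Subgroup.center (CfsgLib.PSUBorel.SUs c 3)) a' := by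
    rw [hqc, hn]
  obtain ⟨B⟩ := exists_frame_over hS h2 hsq hr hq hcard' h4 hε
  obtain ⟨B'⟩ := exists_frame_over hS' h2' hsq' hr' hq' hF' h4 hε
  obtain ⟨e⟩ := nonempty_iso B B' h4
  obtain ⟨E⟩ := CfsgLib.PSUBorel.exists_iso c (n := 3)
  let eP : (CfsgLib.PSUBorel.SUs c 3 ⧸ Subgroup.center (CfsgLib.PSUBorel.SUs c 3)) ≃* Cfsg.PSU 3 K (2 ^ (n : ℕ)) :=
    QuotientGroup.congr _ _ E (by
      ext x
      constructor
      · rintro ⟨y, hy, rfl⟩
        exact Subgroup.mem_center_iff.mpr fun z => by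
          obtain ⟨z', rfl⟩ := E.surjective z
          show E z' * E y = E y * E z'
          rw [← map_mul, ← map_mul, Subgroup.mem_center_iff.mp hy z']
      · intro hx
        refine ⟨E.symm x, Subgroup.mem_center_iff.mpr fun z => E.injective ?_, by simp⟩
        simp [Subgroup.mem_center_iff.mp hx (E z)])
  have htop : Subgroup.closure ((Q' : Set _) ∪ {t'}) = ⊤ := by
    haveI := (B'.toChart.normal_closure hS').1
    refine (IsSimpleGroup.eq_bot_or_eq_top_of_normal _ inferInstance).resolve_left fun h => ?_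
    exact hS'.ne_one (by
      have : t' ∈ Subgroup.closure ((Q' : Set _) ∪ {t'}) := Subgroup.subset_closure (Or.inr rfl)
      rwa [h, Subgroup.mem_bot] at this)
  exact ⟨_, hnorm, hodd, K, inferInstance, inferInstance, n, hn2, hK,
    ⟨e.trans ((MulEquiv.subgroupCongr htop).trans (Subgroup.topEquiv.trans eP))⟩⟩

end CfsgLib.SuzukiRankOne
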