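import Cfsg.Agent.Lib.SuzukiRankOne.Defs
import Cfsg.Agent.Lib.PSU3Min.Line
import Cfsg.Agent.S0283
import Cfsg.Agent.Lib.SuzukiRankOne.Unitary

/-! `PSU₃(q)`, `q` even, on the cosets of its Borel subgroup: the element of the torus centralising the involutions
at a point, carried over to every rank one group with `r² = 1`. -/

set_option autoImplicit false
set_option linter.unusedSectionVars false
set_option linter.style.haveILetI false

namespace CfsgLib.SuzukiRankOne

open MulAction Cfsg CfsgLib.RankOne CfsgLib.PSUBorel CfsgLib.PSU3Min Matrix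
open CfsgLib.Dickson (up)
open OnePoint

variable {F : Type} [Field F] [Fintype F] (c : Conj F) [CharP F 2]

local notation "S3" => SUs c 3
local notation "PU" => SUs c 3 ⧸ Subgroup.center (SUs c 3)

/-- The model theorem with the element of the torus. -/
theorem exists_model_torus (hq : 4 ≤ c.q) :
    ∃ (Ω : Type) (_ : MulAction PU Ω) (_ : FaithfulSMul PU Ω) (a : Ω) (t : PU) (Q : Subgroup PU),
      IsRankOneSetup PU Ω a t Q ∧ Four PU ∧ IsPGroup 2 Q ∧ (∀ x ∈ Q, x * x * (x * x) = 1) ∧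
      Rsq a t Q ∧ Nat.card Q = qZ PU a ^ 3 ∧ qZ PU a = c.q ∧ IsSimpleGroup PU ∧
      ∃ d : PU, d ≠ 1 ∧ d • a = a ∧ d • t • a = t • a ∧
        ∀ z ∈ involutionsIn (stabilizer PU a : Set PU), d * z = z * d := by
  classical
  haveI : Fact (Nat.Prime 2) := ⟨Nat.prime_two⟩
  obtain ⟨E⟩ := exists_iso c (n := 3)
  have hsimpleSU : IsSimpleGroup (Cfsg.PSU 3 F c.q) :=
    Cfsg.Agent.S0283.result c.card 3 le_rfl (by omega)
  let eP : PU ≃* Cfsg.PSU 3 F c.q :=
    QuotientGroup.congr _ _ E (by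
      ext x
      constructor
      · rintro ⟨y, hy, rfl⟩
        exact Subgroup.mem_center_iff.mpr fun z => by
          obtain ⟨z', rfl⟩ := E.surjective z
          show E z' * E y = E y * E z'
          rw [← map_mul, ← map_mul, Subgroup.mem_center_iff.mp hy z']
      · intro hx
        refine ⟨E.symm x, Subgroup.mem_center_iff.mpr fun z => E.injective ?_, by simp⟩
        simp [Subgroup.mem_center_iff.mp hx (E z)])
  haveI hsimple : IsSimpleGroup PU := eP.isSimpleGroup
  let π : S3 →* PU := QuotientGroup.mk' _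
  have hπs : Function.Surjective π := QuotientGroup.mk'_surjective _
  have hπker : ∀ x, π x = 1 ↔ x ∈ Subgroup.center S3 := fun x => QuotientGroup.eq_one_iff x
  -- the root subgroup `SL₂(q)`
  have hb : (1 : F) ≠ 0 := one_ne_zero
  have hb0 : c.σ (1 : F) = -1 := by rw [map_one, CharTwo.neg_eq]
  have h2F : (2 : F) = 0 := CharTwo.two_eq_zero
  haveI : CharP (Fix c) 2 := (Fix c).subtype.charP Subtype.val_injective 2
  obtain ⟨wF, hwF⟩ : ∃ w : Matrix.SpecialLinearGroup (Fin 2) (Fix c), w.1 = !![0, 1; 1, 0] :=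
    ⟨⟨_, by simp [Matrix.det_fin_two, CharTwo.neg_eq]⟩, rfl⟩
  let t₀ : S3 := emb2 c hb hb0 wF
  let s₀ : S3 := emb2 c hb hb0 (up 1)
  have hww : wF * wF = 1 := by
    apply Dickson.ext_entries <;> simp [Dickson.mul_entry, hwF]
  have ht2 : t₀ * t₀ = 1 := by rw [← map_mul, hww, map_one]
  have hts : t₀ * s₀ * t₀ = s₀ * t₀ * s₀ := by
    simp only [t₀, s₀, ← map_mul]
    congr 1
    apply Dickson.ext_entries <;> simp [Dickson.mul_entry, hwF, CharTwo.add_self_eq_zero]
  have ht20 : t₀.1.1 2 0 = 1 := by simp [t₀, emb2, hwF]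
  have htB : t₀ ∉ BG c := fun h => by
    have := ((mem_BG_iff c).mp h).2.1
    rw [ht20] at this
    exact one_ne_zero this
  let Bb : Subgroup PU := (BG c).map π
  have hmemB : ∀ g, π g ∈ Bb ↔ g ∈ BG c := fun g => by
    refine ⟨?_, fun h => Subgroup.mem_map_of_mem π h⟩
    rintro ⟨b, hb', e⟩
    have : b⁻¹ * g ∈ Subgroup.center S3 := by rw [← hπker, map_mul, map_inv, e, inv_mul_cancel]
    simpa using mul_mem hb' (center_le_BG c this)
  let Q : Subgroup PU := (UG c).map π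
  -- `π` is injective on `UG`
  have hcop : ∀ u ∈ UG c, π u = 1 → u = 1 := by
    intro u hu e
    obtain ⟨k, hk⟩ := exists_ppow c 2 hu
    have hz := (hπker u).1 e
    have h3 : orderOf u ∣ 3 := by
      refine dvd_trans ?_ (card_center c).1
      rw [← Subgroup.orderOf_mk u hz]
      exact orderOf_dvd_natCard _
    have h2' : orderOf u ∣ 2 ^ k := orderOf_dvd_of_pow_eq_one hk
    refine orderOf_eq_one_iff.1 (Nat.dvd_one.1 ?_)
    have hco : Nat.Coprime (2 ^ k) 3 := Nat.Coprime.pow_left _ (by norm_num)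
    exact hco ▸ Nat.dvd_gcd h2' h3
  have hinjU : ∀ u ∈ UG c, ∀ v ∈ UG c, π u = π v → u = v := fun u hu v hv e =>
    inv_mul_eq_one.1 (hcop _ (mul_mem (inv_mem hu) hv) (by rw [map_mul, map_inv, e, inv_mul_cancel]))
  have hcardQ : Nat.card Q = c.q ^ 3 := by
    rw [← card_UG c]
    refine (Nat.card_congr (Equiv.ofBijective (fun u : UG c => (⟨π u, Subgroup.mem_map_of_mem π u.2⟩ : Q))
      ⟨fun u v e => Subtype.ext (hinjU _ u.2 _ v.2 (congrArg Subtype.val e)), ?_⟩)).symm
    rintro ⟨_, u, hu, rfl⟩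
    exact ⟨⟨u, hu⟩, rfl⟩
  have hcardB : Nat.card Bb ∣ c.q ^ 3 * (c.q ^ 2 - 1) := (card_BG c 2) ▸ Subgroup.card_map_dvd (BG c) π
  let Ω := PU ⧸ Bb
  let a : Ω := ((1 : PU) : Ω)
  have hstab : stabilizer PU a = Bb := by
    ext x
    rw [mem_stabilizer_iff]
    show ((x * 1 : PU) : Ω) = ((1 : PU) : Ω) ↔ _
    rw [mul_one, QuotientGroup.eq, mul_one, inv_mem_iff]
  have hfree : ∀ u ∈ UG c, ∀ g : S3, g ∉ BG c → π u • ((π g : PU) : Ω) = ((π g : PU) : Ω) → u = 1 := by
    intro u hu g hg e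
    have e' : ((π u * π g : PU) : Ω) = ((π g : PU) : Ω) := e
    rw [QuotientGroup.eq, ← map_mul, ← map_inv, ← map_mul, hmemB] at e'
    by_contra hu1
    obtain ⟨k, hk⟩ := exists_ppow c 2 (inv_mem hu)
    have e2 : g⁻¹ * u⁻¹ * g ∈ BG c := by
      have : (u * g)⁻¹ * g = g⁻¹ * u⁻¹ * g := by group
      rwa [this] at e'
    have hU : g⁻¹ * u⁻¹ * g ∈ UG c := mem_UG_of_ppow c 2 e2 (k := k) (by
      rw [show g⁻¹ * u⁻¹ * g = g⁻¹ * u⁻¹ * g⁻¹⁻¹ by rw [inv_inv], conj_pow, hk, mul_one, mul_inv_cancel])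
    exact hg (ti c (inv_mem hu) (inv_ne_one.2 hu1) hU)
  have hQstab : Q ≤ stabilizer PU a := by
    rw [hstab]
    exact Subgroup.map_mono (UG_le c)
  have hcardΩ : Nat.card Ω = c.q ^ 3 + 1 := by
    rw [← index_BG c 2, ← Subgroup.index_eq_card]
    exact (Subgroup.index_map_eq (BG c) hπs (fun x hx => center_le_BG c ((hπker x).1 hx)))
  haveI : Finite Ω := inferInstance
  have htrans : ∀ b : Ω, b ≠ a → ∀ b' : Ω, b' ≠ a → ∃ x ∈ Q, x • b = b' := by
    intro b hb1 b' hb'
    obtain ⟨g', rfl⟩ := QuotientGroup.mk_surjective b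
    obtain ⟨g, rfl⟩ := hπs g'
    have hg : g ∉ BG c := fun h => hb1 (QuotientGroup.eq.2 (by rw [mul_one, inv_mem_iff, hmemB]; exact h))
    let f : Q → {ω : Ω // ω ≠ a} := fun x => ⟨(x : PU) • ((π g : PU) : Ω), fun e => hb1 (by
      rw [← mem_stabilizer_iff.1 (hQstab x.2)] at e
      exact smul_left_cancel (x : PU) e)⟩
    have hcard : Nat.card Q = Nat.card {ω : Ω // ω ≠ a} := by
      have h := Nat.card_congr (Equiv.optionSubtypeNe a)
      rw [Finite.card_option, hcardΩ] at h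
      omega
    have hf : Function.Bijective f := (Nat.bijective_iff_injective_and_card f).2 ⟨by
      rintro ⟨_, u, hu, rfl⟩ ⟨_, v, hv, rfl⟩ e
      have e' : π u • ((π g : PU) : Ω) = π v • ((π g : PU) : Ω) := congrArg Subtype.val e
      have := hfree (v⁻¹ * u) (mul_mem (inv_mem hv) hu) g hg (by
        rw [map_mul, map_inv, mul_smul, e', inv_smul_smul])
      exact Subtype.ext (congrArg π (inv_mul_eq_one.1 this).symm), hcard⟩
    obtain ⟨x, hx⟩ := hf.2 ⟨b', hb'⟩
    exact ⟨x, x.2, congrArg Subtype.val hx⟩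
  let t : PU := π t₀
  have htt : t * t = 1 := by rw [← map_mul, ht2, map_one]
  have hta : t ∉ stabilizer PU a := by rw [hstab, hmemB]; exact htB
  have htane : t • a ≠ a := fun e => hta (mem_stabilizer_iff.2 e)
  have hta' : t • a = ((π t₀ : PU) : Ω) := by
    show ((t * 1 : PU) : Ω) = _
    rw [mul_one]
  have hS : IsRankOneSetup PU Ω a t Q :=
    { two_transitive := by
        rw [is_two_pretransitive_iff]
        have key : ∀ p q : Ω, p ≠ q → ∃ g : PU, g • a = p ∧ g • t • a = q := by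
          intro p q hpq
          obtain ⟨g, rfl⟩ := exists_smul_eq PU a p
          obtain ⟨x, hx, e⟩ := htrans _ htane (g⁻¹ • q) (fun e => hpq (by rw [← e, smul_inv_smul]))
          exact ⟨g * x, by rw [mul_smul, mem_stabilizer_iff.1 (hQstab hx)], by rw [mul_smul, e, smul_inv_smul]⟩
        intro p q p' q' h h'
        obtain ⟨g, e1, e2⟩ := key p q h
        obtain ⟨g', e1', e2'⟩ := key p' q' h'
        exact ⟨g' * g⁻¹, by rw [mul_smul, ← e1, inv_smul_smul, e1'], by rw [mul_smul, ← e2, inv_smul_smul, e2']⟩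
      mul_self := htt
      ne_one := fun e => hta (by rw [e]; exact one_mem _)
      not_mem := hta
      le := hQstab
      conj_mem := by
        intro h hh x hx
        rw [hstab] at hh
        obtain ⟨g, hg, rfl⟩ := hh
        obtain ⟨u, hu, rfl⟩ := hx
        exact ⟨g * u * g⁻¹, conj_UG c hg hu, by rw [map_mul, map_mul, map_inv]⟩
      inf_eq_bot := by
        rw [Subgroup.eq_bot_iff_forall]
        rintro _ ⟨⟨u, hu, rfl⟩, hfix⟩
        rw [hfree u hu t₀ htB (by rw [← hta']; exact hfix), map_one]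
      sup_eq := by
        refine le_antisymm (sup_le hQstab inf_le_left) fun h hh => ?_
        have hha : h • a = a := mem_stabilizer_iff.1 hh
        obtain ⟨x, hx, e⟩ := htrans _ htane (h • t • a) (fun e => htane (smul_left_cancel h (e.trans hha.symm)))
        rw [show h = x * (x⁻¹ * h) by group]
        refine Subgroup.mul_mem_sup hx ⟨Subgroup.mul_mem _ (Subgroup.inv_mem _ (hQstab hx)) hh, ?_⟩
        show (x⁻¹ * h) • t • a = t • a
        rw [mul_smul, ← e, inv_smul_smul]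
      even_card := by
        obtain ⟨f, hf, e⟩ := exists_pow_q c 2
        rw [hcardQ, e]
        exact (Nat.even_pow.2 ⟨Nat.even_pow.2 ⟨even_two, hf.ne'⟩, by norm_num⟩)
      odd_card := by
        obtain ⟨f, hf, e⟩ := exists_pow_q c 2
        have hodd : Odd (c.q ^ 2 - 1) := by
          have h1 : Even (c.q ^ 2) := Nat.even_pow.2 ⟨e ▸ Nat.even_pow.2 ⟨even_two, hf.ne'⟩, two_ne_zero⟩
          have h0 : 0 < c.q ^ 2 := by positivity
          rcases h1 with ⟨m, hm⟩
          exact ⟨m - 1, by omega⟩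
        refine hodd.of_dvd_nat ?_
        set D' := stabilizer PU a ⊓ stabilizer PU (t • a) with hD'
        have hdis : ∀ x ∈ Q, x ∈ D' → x = 1 := by
          rintro _ ⟨u, hu, rfl⟩ hD
          rw [hfree u hu t₀ htB (by rw [← hta']; exact hD.2), map_one]
        have hinj : Function.Injective (fun p : Q × D' =>
            (⟨(p.1 : PU) * p.2, mul_mem (hstab ▸ hQstab p.1.2) (hstab ▸ p.2.2.1)⟩ : Bb)) := by
          rintro ⟨x, d⟩ ⟨x', d'⟩ e
          have e' : (x : PU) * d = x' * d' := congrArg Subtype.val e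
          have h1 : (x' : PU)⁻¹ * x = 1 := hdis _ (mul_mem (inv_mem x'.2) x.2) (by
            rw [show (x' : PU)⁻¹ * x = (d' : PU) * (d : PU)⁻¹ by
              rw [eq_mul_inv_iff_mul_eq, mul_assoc, e', inv_mul_cancel_left]]
            exact mul_mem d'.2 (inv_mem d.2))
          have h2 : x' = x := Subtype.ext (inv_mul_eq_one.1 h1)
          subst h2
          exact Prod.ext rfl (Subtype.ext (mul_left_cancel e'))
        have hsurj : Function.Surjective (fun p : Q × D' =>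
            (⟨(p.1 : PU) * p.2, mul_mem (hstab ▸ hQstab p.1.2) (hstab ▸ p.2.2.1)⟩ : Bb)) := by
          rintro ⟨h, hh⟩
          rw [← hstab] at hh
          have hha : h • a = a := mem_stabilizer_iff.1 hh
          obtain ⟨x, hx, e⟩ := htrans _ htane (h • t • a) (fun e => htane (smul_left_cancel h (e.trans hha.symm)))
          refine ⟨⟨⟨x, hx⟩, ⟨x⁻¹ * h, Subgroup.mul_mem _ (Subgroup.inv_mem _ (hQstab hx)) hh, ?_⟩⟩, Subtype.ext (by simp)⟩
          show (x⁻¹ * h) • t • a = t • a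
          rw [mul_smul, ← e, inv_smul_smul]
        have hc := Nat.card_eq_of_bijective _ ⟨hinj, hsurj⟩
        rw [Nat.card_prod, hcardQ] at hc
        exact Nat.dvd_of_mul_dvd_mul_left (pow_pos (by omega) 3) (hc ▸ hcardB) }
  haveI hfaith : FaithfulSMul PU Ω := by
    have hcore : Bb.normalCore = ⊥ := by
      refine (IsSimpleGroup.eq_bot_or_eq_top_of_normal _ inferInstance).resolve_right fun e => hta ?_
      rw [hstab]
      exact Subgroup.normalCore_le Bb (e ▸ Subgroup.mem_top t)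
    refine ⟨fun {x y} hxy => inv_mul_eq_one.1 ?_⟩
    have : x⁻¹ * y ∈ (MulAction.toPermHom PU Ω).ker := by
      refine Equiv.ext fun ω => ?_
      show (x⁻¹ * y) • ω = ω
      rw [mul_smul, ← hxy, inv_smul_smul]
    rw [← Subgroup.normalCore_eq_ker, hcore, Subgroup.mem_bot] at this
    exact this
  have hinvU : ∀ u ∈ UG c, u * u = 1 ↔ u ∈ ZG c := by
    intro u hu
    constructor
    · intro e
      refine ⟨hu, ?_⟩
      have h02 := mul02 c u u
      rw [e, UU_diag c hu, UU_diag c hu, (UG_rel c hu).1, coe_one] at h02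
      simp at h02
      have : u.1.1 0 1 * c.σ (u.1.1 0 1) = 0 := by linear_combination h02 + (u.1.1 0 2) * h2F
      exact (mul_eq_zero.1 this).elim id (fun h => (map_eq_zero c.σ).1 h)
    · intro hz
      obtain ⟨x, rfl⟩ := emb2_surj c hb hb0 hz
      rw [← map_mul, Dickson.up_mul, CharTwo.add_self_eq_zero, Dickson.up_zero, map_one]
  have hinvQ : ∀ z : PU, z ∈ Q → z * z = 1 → ∃ x : Fix c, π (emb2 c hb hb0 (up x)) = z := by
    rintro _ ⟨u, hu, rfl⟩ e
    have h1 : u * u = 1 := hcop _ (mul_mem hu hu) (by rw [map_mul]; exact e)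
    obtain ⟨x, hx⟩ := emb2_surj c hb hb0 ((hinvU u hu).1 h1)
    exact ⟨x, by rw [hx]⟩
  have hzQ : ∀ x : Fix c, π (emb2 c hb hb0 (up x)) ∈ Q ∧
      π (emb2 c hb hb0 (up x)) * π (emb2 c hb hb0 (up x)) = 1 := fun x =>
    ⟨Subgroup.mem_map_of_mem π (ZG_le c (emb2_up c hb hb0 x)), by
      rw [← map_mul, ← map_mul, Dickson.up_mul, CharTwo.add_self_eq_zero, Dickson.up_zero, map_one, map_one]⟩
  have hzinj : ∀ x y : Fix c, π (emb2 c hb hb0 (up x)) = π (emb2 c hb hb0 (up y)) → x = y := fun x y e => by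
    have := emb2_inj c hb hb0 (hinjU _ (ZG_le c (emb2_up c hb hb0 x)) _ (ZG_le c (emb2_up c hb hb0 y)) e)
    simpa using congrArg (fun m : Matrix.SpecialLinearGroup (Fin 2) (Fix c) => m.1 0 1) this
  have hmemI : ∀ z : PU, z ∈ involutionsIn (stabilizer PU a : Set PU) →
      ∃ x : Fix c, x ≠ 0 ∧ π (emb2 c hb hb0 (up x)) = z := by
    rintro z ⟨hz, hz1, hz2⟩
    obtain ⟨x, hx⟩ := hinvQ z (invol_mem_Q hS hz hz2) hz2
    exact ⟨x, fun e => hz1 (by rw [← hx, e, Dickson.up_zero, map_one, map_one]), hx⟩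
  have hIof : ∀ x : Fix c, x ≠ 0 → π (emb2 c hb hb0 (up x)) ∈ involutionsIn (stabilizer PU a : Set PU) :=
    fun x hx => ⟨hQstab (hzQ x).1, fun e => hx (hzinj x 0 (by rw [e, Dickson.up_zero, map_one, map_one])), (hzQ x).2⟩
  have hqZ : qZ PU a = c.q := by
    rw [← card_Fix c hb hb0, qZ]
    have e : Nat.card {x : Fix c // x ≠ 0} =
        Nat.card {z : PU // z ∈ involutionsIn (stabilizer PU a : Set PU)} :=
      Nat.card_congr (Equiv.ofBijective (fun x => ⟨_, hIof x.1 x.2⟩)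
        ⟨fun x y e => Subtype.ext (hzinj _ _ (congrArg Subtype.val e)), fun z => by
          obtain ⟨x, hx, e⟩ := hmemI z.1 z.2
          exact ⟨⟨x, hx⟩, Subtype.ext e⟩⟩)
    rw [← e, ← Nat.card_congr (Equiv.optionSubtypeNe (0 : Fix c)), Finite.card_option]
  have hfour : Four PU := by
    have h1 : 2 ≤ Nat.card {x : Fix c // x ≠ 0} := by
      have := card_Fix c hb hb0
      have h2 := Nat.card_congr (Equiv.optionSubtypeNe (0 : Fix c))
      rw [Finite.card_option] at h2
      omega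
    obtain ⟨⟨x, hx⟩, ⟨y, hy⟩, hne⟩ := (Finite.one_lt_card_iff_nontrivial.1 h1).exists_pair_ne
    exact ⟨_, _, (hIof x hx).2.1, (hIof y hy).2.1, fun e => hne (Subtype.ext (hzinj x y e)), (hzQ x).2, (hzQ y).2,
      by simp only [← map_mul, Dickson.up_mul, add_comm]⟩
  have hp : IsPGroup 2 Q := IsPGroup.map (isPGroup_UU c 2) π
  -- the element of the torus of the norm one scalars
  obtain ⟨g, hg⟩ := IsCyclic.exists_generator (α := Fˣ)
  have hgo : orderOf g = c.q ^ 2 - 1 := by rw [orderOf_eq_card_of_forall_mem_zpowers hg, card_units c]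
  set l : Fˣ := g ^ (c.q - 1) with hl
  have hfac : c.q ^ 2 - 1 = (c.q + 1) * (c.q - 1) := by
    simpa using Nat.sq_sub_sq c.q 1
  have hlo : orderOf l = c.q + 1 := by
    rw [hl, orderOf_pow' g (by omega), hgo, hfac, Nat.gcd_eq_right (Dvd.intro_left _ rfl),
      Nat.mul_div_cancel _ (by omega)]
  have hσ : c.σ (l : F) = ((l⁻¹ : Fˣ) : F) := by
    rw [c.hσ, ← Units.val_pow_eq_pow_val]
    congr 1
    exact eq_inv_of_mul_eq_one_left (by rw [← pow_succ, ← hlo, pow_orderOf_eq_one])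
  have hl0 : (l : F) ≠ 0 := l.ne_zero
  let h₀ : S3 := dg c l
  have hh : h₀.1.1 = Matrix.diagonal ![(l : F), c.σ l / l, (c.σ l)⁻¹] := rfl
  have hcomm : ∀ M : Matrix.SpecialLinearGroup (Fin 2) (Fix c), h₀ * emb2 c hb hb0 M = emb2 c hb hb0 M * h₀ := by
    intro M
    refine SUs_ext c (Matrix.ext fun i j => ?_)
    rw [coe_mul, coe_mul, hh, Matrix.diagonal_mul, Matrix.mul_diagonal]
    fin_cases i <;> fin_cases j <;> simp [emb2, hσ, mul_comm]
  refine ⟨Ω, inferInstance, hfaith, a, t, Q, hS, hfour, hp, ?_, ?_, by rw [hcardQ, hqZ], hqZ, hsimple,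
    π h₀, fun e => ?_, ?_, ?_, ?_⟩
  rotate_left 2
  · have hc : h₀ ^ 3 = 1 := by
      have hz := (hπker h₀).1 e
      refine orderOf_dvd_iff_pow_eq_one.1 (dvd_trans ?_ (card_center c).1)
      rw [← Subgroup.orderOf_mk h₀ hz]
      exact orderOf_dvd_natCard _
    have h1 := congrArg (fun x : S3 => x.1.1 0 0) hc
    simp [pow_succ, coe_mul, coe_one, hh] at h1
    have h3 : l ^ 3 = 1 := Units.ext (by simpa [pow_succ] using h1)
    have := Nat.le_of_dvd (by norm_num) (hlo ▸ orderOf_dvd_of_pow_eq_one h3)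
    omega
  · exact mem_stabilizer_iff.1 (by rw [hstab]; exact Subgroup.mem_map_of_mem π (dg_mem c l))
  · have hfa : π h₀ • a = a :=
      mem_stabilizer_iff.1 (by rw [hstab]; exact Subgroup.mem_map_of_mem π (dg_mem c l))
    rw [← mul_smul, show π h₀ * t = t * π h₀ by rw [← map_mul, ← map_mul, hcomm], mul_smul, hfa]
  · intro z hz
    obtain ⟨x, -, rfl⟩ := hmemI z hz
    rw [← map_mul, ← map_mul, hcomm]
  · rintro _ ⟨u, hu, rfl⟩
    have hz : u * u ∈ ZG c := ⟨mul_mem hu hu, by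
      rw [mul01 c (UG_le c hu), UU_diag c hu, UU_diag c hu, one_mul, mul_one, CharTwo.add_self_eq_zero]⟩
    rw [← map_mul, ← map_mul, (hinvU _ hz.1).2 hz, map_one]
  · intro s r hs hr he
    have hs0 := hIof 1 one_ne_zero
    obtain ⟨p, -, hp⟩ := structure_eq hS
    have h1 := hp (s, r) ⟨hs, hr, he⟩
    have h2 := hp (π s₀, π s₀) ⟨hs0, (hzQ 1).1, by
      have hi : (π s₀)⁻¹ = π s₀ := inv_eq_of_mul_eq_one_right (hzQ 1).2
      show π t₀ * π s₀ * π t₀ = (π s₀)⁻¹ * π t₀ * π s₀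
      rw [hi]
      simpa only [map_mul] using congrArg π hts⟩
    have : r = π s₀ := congrArg Prod.snd (h1.trans h2.symm)
    rw [this]
    exact (hzQ 1).2

section transport

universe u v

variable {G : Type u} {Ω : Type v} [Group G] [Finite G] [MulAction G Ω] [FaithfulSMul G Ω] {a : Ω} {t : G}
  {Q : Subgroup G}

/-- With `r² = 1` and `q³` as the order of `Q`, an element of the two-point stabiliser other than the identity
centralises all involutions fixing the point. -/
theorem exists_torus_cent (hS : IsRankOneSetup G Ω a t Q) (h2 : Four G)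
    (hsq : ∀ x ∈ Q, x * x * (x * x) = 1) (hr : Rsq a t Q) (hq : Nat.card Q = qZ G a ^ 3) : ¬ NoW a t := by
  classical
  haveI : Fact (Nat.Prime 2) := ⟨Nat.prime_two⟩
  obtain ⟨F₀, iF, iFt, iC, h4, hcard, -⟩ := (uhyp_of_rsq hS h2 hr).exists_chart
  have hcard' : Fintype.card F₀ = qZ G a := hcard
  obtain ⟨ε, hε⟩ := exists_eps (F := F₀)
  obtain ⟨n, -, hn⟩ := FiniteField.card F₀ 2
  let K := GaloisField 2 ((n : ℕ) * 2)
  letI : Fintype K := Fintype.ofFinite K
  have hn2 : (n : ℕ) ≠ 0 := n.ne_zero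
  have hK : Fintype.card K = (2 ^ (n : ℕ)) ^ 2 := by
    rw [← Nat.card_eq_fintype_card, GaloisField.card 2 _ (by omega), ← pow_mul]
  obtain ⟨-, σ, hσ⟩ := CfsgLib.UnitaryBasic.frob_exists hK
  let c : CfsgLib.PSUBorel.Conj K := ⟨2 ^ (n : ℕ), σ, hK, hσ⟩
  obtain ⟨Ω', iA, iFS, a', t', Q', hS', h2', -, hsq', hr', hq', hqc, hsimple, d, hd1, hda, hdt, hdc⟩ :=
    exists_model_torus c (show 4 ≤ 2 ^ (n : ℕ) by rw [← hn]; exact h4)
  have hF' : Fintype.card F₀ = qZ (CfsgLib.PSUBorel.SUs c 3 ⧸ Subgroup.center (CfsgLib.PSUBorel.SUs c 3)) a' := by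
    rw [hqc, hn]
  obtain ⟨B⟩ := exists_frame_over hS h2 hsq hr hq hcard' h4 hε
  obtain ⟨B'⟩ := exists_frame_over hS' h2' hsq' hr' hq' hF' h4 hε
  -- the model is generated by `Q'` and `t'`
  have htop : Subgroup.closure ((Q' : Set (CfsgLib.PSUBorel.SUs c 3 ⧸ Subgroup.center (CfsgLib.PSUBorel.SUs c 3))) ∪
      {t'}) = ⊤ := by
    refine ((hsimple.eq_bot_or_eq_top_of_normal _ (B'.toChart.normal_closure hS').1)).resolve_left fun e => ?_
    exact hS'.ne_one (Subgroup.mem_bot.1 (e ▸ Subgroup.subset_closure (Or.inr rfl)))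
  let Φ := pointEquiv B B'
  let f : G →* Equiv.Perm Ω' := (Equiv.permCongrHom Φ).toMonoidHom.comp (MulAction.toPermHom G Ω)
  let f' : (CfsgLib.PSUBorel.SUs c 3 ⧸ Subgroup.center (CfsgLib.PSUBorel.SUs c 3)) →* Equiv.Perm Ω' :=
    MulAction.toPermHom _ Ω'
  have hfapp : ∀ (x : G) (ω : Ω), f x (Φ ω) = Φ (x • ω) := fun x ω => by
    simp [f, Equiv.permCongrHom, Equiv.permCongr_apply]
  have hf : Function.Injective f := fun x y e => eq_of_smul_eq_smul fun ω : Ω => by
    have := congrArg (fun p : Equiv.Perm Ω' => p (Φ ω)) e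
    simp only [hfapp] at this
    exact Φ.injective this
  have key : ∀ x x', (∀ ω, Φ (x • ω) = x' • Φ ω) → f x = f' x' := fun x x' hx => Equiv.ext fun ω => by
    obtain ⟨ω, rfl⟩ := Φ.surjective ω
    rw [hfapp, hx]
    rfl
  have hQ' : ∀ y ∈ Q', f' y ∈ f.range := by
    intro y hy
    rcases B'.toUBase.mem_cases hy with ⟨x, rfl⟩ | ⟨g, rfl⟩
    · exact ⟨_, key _ _ (pointEquiv_phi B B' _)⟩
    · exact ⟨_, key _ _ (pointEquiv_X B B' h4 g)⟩
  have hrange : ∀ y, f' y ∈ f.range := fun y => by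
    have hle : Subgroup.closure ((Q' : Set _) ∪ {t'}) ≤ f.range.comap f' := by
      refine (Subgroup.closure_le _).2 ?_
      rintro z (hz | rfl)
      · exact hQ' z hz
      · refine ⟨t, key _ _ fun ω => ?_⟩
        have := pointEquiv_phi B B' wSL ω
        rwa [B.w, B'.w] at this
    exact hle (htop ▸ Subgroup.mem_top y)
  obtain ⟨x, hx⟩ := hrange d
  have hfix : ∀ {ω : Ω}, d • Φ ω = Φ ω → x • ω = ω := fun {ω} h => Φ.injective (by
    rw [← hfapp, hx]
    exact h)
  have hΦa : Φ a = a' := by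
    have := pointEquiv_pt B B' ∞
    rwa [Chart.pt_infty, Chart.pt_infty] at this
  intro hW
  refine hd1 ?_
  have hx1 : x = 1 := by
    refine hW x ((CfsgLib.RankOne.mem_D hS).2 ⟨hfix (by rw [hΦa, hda]), hfix (by
      show d • Φ (t • a) = Φ (t • a)
      rw [show Φ (t • a) = t' • a' from pointEquiv_ta B B', hdt])⟩) fun s hs => ?_
    obtain ⟨θ, rfl⟩ := B.toChart.invol s (invol_mem_Q hS hs.1 hs.2.2) hs.2.2
    apply hf
    rw [map_mul, map_mul, hx, key _ _ (pointEquiv_phi B B' (up θ)), ← map_mul, ← map_mul]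
    by_cases h1 : B'.φ (up θ) = 1
    · rw [h1, mul_one, one_mul]
    · rw [hdc _ ⟨hS'.le (B'.mem θ), h1, by rw [← map_mul, up_sq, map_one]⟩]
  rw [hx1, map_one] at hx
  exact eq_of_smul_eq_smul fun ω : Ω' => by
    have h := Equiv.congr_fun hx ω
    rw [one_smul]
    exact h.symm

end transport

end CfsgLib.SuzukiRankOne
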