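import Cfsg.Agent.Lib.SuzukiRankOne.UnitaryChart
import Mathlib.GroupTheory.PGroup

/-! Suzuki's theorem, the case `r² = 1`: `SL₂(q)` is semiregular outside the basic line. -/

set_option autoImplicit false
set_option linter.unusedSectionVars false
set_option linter.style.haveILetI false

namespace CfsgLib.SuzukiRankOne

open MulAction Cfsg CfsgLib.RankOne CfsgLib.Dickson OnePoint

universe u v

section line

variable {F : Type} [Field F] [Finite F] [CharP F 2] [DecidableEq F]

theorem exists_mob_infty (p : OnePoint F) : ∃ h : SL2 F, mob h ∞ = p := by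
  cases p with
  | infty => exact ⟨1, mob_one _⟩
  | coe x => exact ⟨up x * wSL, by rw [mob_mul, mob_w_infty, mob_up, zero_add]⟩

theorem exists_mob_fix_of_invol {g : SL2 F} (hg : g * g = 1) : ∃ p, mob g p = p := by
  by_cases hc : g.1 1 0 = 0
  · exact ⟨∞, by simp [mob, OnePoint.smul_infty_eq_self_iff, hc]⟩
  have h10 : g.1 1 0 * (g.1 0 0 + g.1 1 1) = 0 := by
    have := congrArg (fun m : SL2 F => m.1 1 0) hg
    simp [mul_entry] at this
    linear_combination this
  have hd : g.1 0 0 = g.1 1 1 := CharTwo.add_eq_zero.1 ((mul_eq_zero.1 h10).resolve_left hc)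
  obtain ⟨x, hx⟩ : ∃ x : F, x ^ 2 = g.1 0 1 / g.1 1 0 :=
    Finite.injective_iff_surjective.1 CharTwo.sq_injective _
  refine ⟨x, ?_⟩
  simp only [mob]
  rw [← Matrix.GeneralLinearGroup.fixpointPolynomial_aeval_eq_zero_iff]
  simp [Matrix.GeneralLinearGroup.fixpointPolynomial, hd]
  rw [hx, mul_div_cancel₀ _ hc, sub_self]

theorem exists_inverting {g : SL2 F} :
    ∃ u : SL2 F, u ≠ 1 ∧ u * u = 1 ∧ u * g * u = g⁻¹ := by
  have key : ∀ u : SL2 F, u.1 0 0 = u.1 1 1 →
      (u * g).1 0 0 = (u * g).1 1 1 → u * g * u = g⁻¹ := by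
    intro u h1 h2
    have hsq : ∀ m : SL2 F, m.1 0 0 = m.1 1 1 → m * m = 1 := fun m hm => by
      have hd := det2 m
      rw [hm] at hd
      apply ext_entries <;> simp [mul_entry, hm]
      · linear_combination hd
      · linear_combination (m.1 0 1 * m.1 1 1) * (CharTwo.two_eq_zero (R := F))
      · linear_combination (m.1 1 0 * m.1 1 1) * (CharTwo.two_eq_zero (R := F))
      · linear_combination hd
    rw [eq_inv_iff_mul_eq_one, mul_assoc, mul_assoc]
    have := hsq _ h2
    rwa [mul_assoc] at this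
  have hd := det2 g
  by_cases hc : g.1 1 0 = 0
  · by_cases hb : g.1 0 1 = 0
    · refine ⟨wSL, fun e => ?_, wSL_sq, key _ (by simp) (by simp [mul_entry, hc, hb])⟩
      simpa using congrArg (fun m : SL2 F => m.1 0 1) e
    · have hmem : (wSL * up ((g.1 0 0 + g.1 1 1) / g.1 0 1) * wSL : SL2 F) =
          lo ((g.1 0 0 + g.1 1 1) / g.1 0 1) := w_up_w _
      by_cases hy : g.1 0 0 + g.1 1 1 = 0
      · refine ⟨g, fun e => hb ?_, ?_, ?_⟩
        · simp [e]
        · have hd0 : g.1 0 0 = g.1 1 1 := CharTwo.add_eq_zero.1 hy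
          rw [hd0, hc, mul_zero, add_zero] at hd
          apply ext_entries <;> simp [mul_entry, hd0, hc]
          · linear_combination hd
          · linear_combination (g.1 0 1 * g.1 1 1) * (CharTwo.two_eq_zero (R := F))
          · linear_combination hd
        · have hd0 : g.1 0 0 = g.1 1 1 := CharTwo.add_eq_zero.1 hy
          rw [hd0, hc, mul_zero, add_zero] at hd
          obtain ⟨i00, i01, i10, i11⟩ := inv_entries g
          have hgg : g * g = 1 := by
            apply ext_entries <;> simp [mul_entry, hd0, hc]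
            · linear_combination hd
            · linear_combination (g.1 0 1 * g.1 1 1) * (CharTwo.two_eq_zero (R := F))
            · linear_combination hd
          rw [hgg, one_mul]
          exact eq_inv_of_mul_eq_one_left hgg
      · set y := (g.1 0 0 + g.1 1 1) / g.1 0 1 with hydef
        refine ⟨lo y, fun e => div_ne_zero hy hb ?_, by rw [lo_mul, CharTwo.add_self_eq_zero]; exact ext_entries (by simp) (by simp) (by simp) (by simp), key _ (by simp) ?_⟩
        · have := congrArg (fun m : SL2 F => m.1 1 0) e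
          simpa [hydef] using this
        · simp [mul_entry, hydef]
          field_simp
          linear_combination (- g.1 1 1) * (CharTwo.two_eq_zero (R := F))
  · by_cases hy : g.1 0 0 + g.1 1 1 = 0
    · have hd0 : g.1 0 0 = g.1 1 1 := CharTwo.add_eq_zero.1 hy
      rw [hd0] at hd
      have hgg : g * g = 1 := by
        apply ext_entries <;> simp [mul_entry, hd0]
        · linear_combination hd
        · linear_combination (g.1 0 1 * g.1 1 1) * (CharTwo.two_eq_zero (R := F))
        · linear_combination (g.1 1 0 * g.1 1 1) * (CharTwo.two_eq_zero (R := F))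
        · linear_combination hd
      refine ⟨g, fun e => hc ?_, hgg, ?_⟩
      · simp [e]
      · rw [hgg, one_mul]
        exact eq_inv_of_mul_eq_one_left hgg
    · set y := (g.1 0 0 + g.1 1 1) / g.1 1 0 with hydef
      refine ⟨up y, fun e => div_ne_zero hy hc ?_, up_sq y, key _ (by simp) ?_⟩
      · have := congrArg (fun m : SL2 F => m.1 0 1) e
        simpa [hydef] using this
      · simp [mul_entry, hydef]
        field_simp
        linear_combination (g.1 0 0) * (CharTwo.two_eq_zero (R := F))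

theorem exists_conj_dia_of_fix {g : SL2 F} (hg : g ≠ 1) (hodd : g * g ≠ 1) {p : OnePoint F}
    (hp : mob g p = p) : ∃ h : SL2 F, ∃ e : Fˣ, h⁻¹ * g * h = dia e := by
  obtain ⟨h, rfl⟩ := exists_mob_infty p
  set g' := h⁻¹ * g * h with hg'
  have h1 : mob g' ∞ = ∞ := by rw [hg', mob_mul, mob_mul, hp, ← mob_mul, inv_mul_cancel, mob_one]
  have h10 : g'.1 1 0 = 0 := by
    simpa [mob, OnePoint.smul_infty_eq_self_iff] using h1
  rcases bruhat g' with ⟨x, e, he⟩ | ⟨x, e, r, he⟩
  · have he1 : (e : F) * e + 1 ≠ 0 := fun e0 => by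
      have : (e : F) = 1 := CharTwo.sq_injective (by simpa [sq] using CharTwo.add_eq_zero.1 e0)
      rw [show e = 1 from Units.ext this, dia_one, mul_one] at he
      refine hodd ?_
      have hgg : g = h * up x * h⁻¹ := by rw [← he, hg']; group
      rw [hgg, show h * up x * h⁻¹ * (h * up x * h⁻¹) = h * (up x * up x) * h⁻¹ by group, up_sq, mul_one,
        mul_inv_cancel]
    refine ⟨h * up (x / ((e : F) * e + 1)), e, ?_⟩
    rw [mul_inv_rev, show ∀ u v : SL2 F, u * h⁻¹ * g * (h * v) = u * g' * v from fun u v => by rw [hg']; group, he,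
      up_inv2, ← mul_assoc, up_mul, mul_assoc, dia_up, ← mul_assoc, up_mul]
    have : x / ((e : F) * e + 1) + x + (e : F) * e * (x / ((e : F) * e + 1)) = 0 := by
      rw [show x / ((e : F) * e + 1) + x + (e : F) * e * (x / ((e : F) * e + 1)) =
        x / ((e : F) * e + 1) * ((e : F) * e + 1) + x by ring, div_mul_cancel₀ _ he1, CharTwo.add_self_eq_zero]
    rw [this, up_zero, one_mul]
  · exfalso
    rw [he] at h10
    simp [mul_entry] at h10

end line

variable {G : Type u} {Ω : Type v} [Group G] [Finite G] [MulAction G Ω] [FaithfulSMul G Ω] {a : Ω} {t : G}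
  {Q : Subgroup G} {F : Type} [Field F] [Fintype F] [CharP F 2]
  (hS : IsRankOneSetup G Ω a t Q) (C : Chart a t Q F)

namespace Chart

/-- Membership in the basic line. -/
def OnLine (ω : Ω) : Prop := ∃ p, C.pt p = ω

theorem onLine_a : C.OnLine a := ⟨∞, C.pt_infty⟩

theorem onLine_ta : C.OnLine (t • a) := ⟨_, C.pt_zero⟩

include hS

theorem pt_injective : Function.Injective C.pt := by
  have hne : ∀ x, C.φ (up x) • t • a ≠ a := fun x e =>
    ta_ne hS (smul_left_cancel (C.φ (up x)) (e.trans (C.up_fix hS x).symm))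
  intro p q e
  cases p with
  | infty =>
    cases q with
    | infty => rfl
    | coe y => exact absurd e.symm (hne y)
  | coe x =>
    cases q with
    | infty => exact absurd e (hne x)
    | coe y =>
      have := C.inj (Q_ta_inj hS (C.mem x) (C.mem y) e)
      exact congrArg _ (by simpa using congrArg (fun m : SL2 F => m.1 0 1) this)

theorem onLine_smul (g : SL2 F) {ω : Ω} : C.OnLine (C.φ g • ω) ↔ C.OnLine ω := by
  classical
  constructor
  · rintro ⟨p, hp⟩
    exact ⟨mob g⁻¹ p, by rw [← C.smul_pt hS, hp, map_inv, inv_smul_smul]⟩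
  · rintro ⟨p, rfl⟩
    exact ⟨mob g p, (C.smul_pt hS g p).symm⟩

omit hS in
theorem dia_pow (e : Fˣ) : dia e ^ (Fintype.card F - 1) = 1 := by
  have : ∀ n : ℕ, dia e ^ n = dia (e ^ n) := by
    intro n
    induction n with
    | zero => rw [pow_zero, pow_zero, dia_one]
    | succ n ih => rw [pow_succ, ih, dia_mul, ← pow_succ]
  classical
  rw [this, ← Fintype.card_units, pow_card_eq_one, dia_one]

theorem free {g : SL2 F} {ω : Ω} (hω : ¬ C.OnLine ω) (hfix : C.φ g • ω = ω) : g = 1 := by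
  classical
  by_contra hg
  have hinvol : ∀ u : SL2 F, u ≠ 1 → u * u = 1 → C.φ u • ω ≠ ω := by
    intro u hu1 hu2 e
    obtain ⟨p, hp⟩ := exists_mob_fix_of_invol hu2
    refine hω ⟨p, fix_unique hS (fun e => hu1 (C.inj (by rw [e, map_one]))) ?_ ?_ e⟩
    · rw [← map_mul, hu2, map_one]
    · rw [C.smul_pt hS, hp]
  -- the order of `g` divides `q - 1`
  obtain ⟨u, hu1, hu2, hug⟩ := exists_inverting (g := g)
  have hui : u⁻¹ = u := inv_eq_of_mul_eq_one_right hu2
  have hne : ω ≠ C.φ u • ω := fun e => hinvol u hu1 hu2 e.symm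
  obtain ⟨h, h1, h2⟩ := two_pt hS (ta_ne hS).symm hne
  have hgu : C.φ g • C.φ u • ω = C.φ u • ω := by
    have hug' : g * u = u * g⁻¹ := by
      rw [← hug, ← mul_assoc, ← mul_assoc, hu2, one_mul]
    rw [← mul_smul, ← map_mul, hug', map_mul, mul_smul, map_inv, inv_smul_eq_iff.2 hfix.symm]
  set d := h⁻¹ * C.φ g * h with hd
  have hdD : d ∈ D a t := by
    rw [mem_D hS, hd, mul_smul, mul_smul, h1, hfix, ← h1, inv_smul_smul, mul_smul, mul_smul, h2, hgu, ← h2,
      inv_smul_smul]
    exact ⟨rfl, rfl⟩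
  set w := h⁻¹ * C.φ u * h with hw
  have hwa : w • a = t • a := by rw [hw, mul_smul, mul_smul, h1, ← h2, inv_smul_smul]
  have hwb : w • t • a = a := by
    rw [hw, mul_smul, mul_smul, h2, ← mul_smul (C.φ u), ← map_mul, hu2, map_one, one_smul, ← h1, inv_smul_smul]
  have ht := hS.mul_self
  have hw2 : w * w = 1 := by
    rw [hw, show h⁻¹ * C.φ u * h * (h⁻¹ * C.φ u * h) = h⁻¹ * (C.φ u * C.φ u) * h by group, ← map_mul, hu2,
      map_one, mul_one, inv_mul_cancel]
  have htw : t * w ∈ invertedBy (D a t) t := by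
    refine ⟨?_, ?_⟩
    · rw [mem_D hS, mul_smul, hwa, smul_smul_t hS, mul_smul, hwb]
      exact ⟨rfl, rfl⟩
    · show t * (t * w) * t⁻¹ = (t * w)⁻¹
      rw [mul_inv_rev, inv_t hS, inv_eq_of_mul_eq_one_right hw2]
      simp [← mul_assoc, ht]
  obtain ⟨e, he⟩ := C.dia_surj _ htw
  obtain ⟨f, hf⟩ : ∃ f : F, f ^ 2 = (e : F) := Finite.injective_iff_surjective.1 CharTwo.sq_injective (e : F)
  have hf0 : f ≠ 0 := fun e0 => e.ne_zero (by rw [← hf, e0]; simp)
  set k := C.φ (dia (Units.mk0 f hf0)) with hk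
  have hkk : k * k = t * w := by
    rw [hk, ← map_mul, dia_mul, ← he]
    congr 2
    exact Units.ext (by simp [← hf, sq])
  have hkt : t * k * t = k⁻¹ := by
    rw [← (C.dia_mem _).2, inv_t hS]
  have hwk : k * w * k⁻¹ = t := by
    have : w = t * (k * k) := by rw [hkk, ← mul_assoc, ht, one_mul]
    rw [this]
    calc k * (t * (k * k)) * k⁻¹ = k * t * k := by group
      _ = t * (t * k * t) * k := by simp [mul_assoc, ← mul_assoc t t, ht]
      _ = t := by rw [hkt]; group
  have hinv : k * d * k⁻¹ ∈ invertedBy (D a t) t := by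
    refine ⟨mul_mem (mul_mem (C.dia_mem _).1 hdD) (inv_mem (C.dia_mem _).1), ?_⟩
    show t * (k * d * k⁻¹) * t⁻¹ = (k * d * k⁻¹)⁻¹
    have hwd : w * d * w⁻¹ = d⁻¹ := by
      rw [hw, hd, show h⁻¹ * C.φ u * h * (h⁻¹ * C.φ g * h) * (h⁻¹ * C.φ u * h)⁻¹ =
        h⁻¹ * (C.φ u * C.φ g * (C.φ u)⁻¹) * h by group, ← map_inv, ← map_mul, ← map_mul, hui, hug, map_inv]
      group
    rw [← hwk, show k * w * k⁻¹ * (k * d * k⁻¹) * (k * w * k⁻¹)⁻¹ = k * (w * d * w⁻¹) * k⁻¹ by group, hwd]
    group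
  obtain ⟨e', he'⟩ := C.dia_surj _ hinv
  have hpow : g ^ (Fintype.card F - 1) = 1 := by
    refine C.inj ?_
    rw [map_pow, map_one, show C.φ g = h * k⁻¹ * C.φ (dia e') * (h * k⁻¹)⁻¹ by rw [he', hd]; group, conj_pow,
      ← map_pow, dia_pow, map_one, mul_one, mul_inv_cancel]
  -- reduce to a prime order
  have hp : (orderOf g).minFac.Prime := Nat.minFac_prime (fun e => hg (orderOf_eq_one_iff.mp e))
  set p := (orderOf g).minFac with hpdef
  set g₀ := g ^ (orderOf g / p) with hg₀
  have hord : orderOf g₀ = p := orderOf_pow_orderOf_div (orderOf_pos g).ne' (Nat.minFac_dvd _)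
  have hfix₀ : C.φ g₀ • ω = ω := by
    rw [hg₀, map_pow]
    exact (mem_stabilizer_iff.1 (pow_mem (mem_stabilizer_iff.2 hfix : C.φ g ∈ stabilizer G ω) _))
  have hg₀1 : g₀ ≠ 1 := fun e => hp.one_lt.ne' (by rw [← hord, e, orderOf_one])
  have hpdvd : p ∣ Fintype.card F - 1 := (Nat.minFac_dvd _).trans (orderOf_dvd_of_pow_eq_one hpow)
  obtain ⟨n, -, hn⟩ := FiniteField.card F 2
  have hp2 : p ≠ 2 := by
    intro e
    rw [e] at hpdvd
    have h2 : 2 ∣ Fintype.card F := hn ▸ dvd_pow_self 2 n.ne_zero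
    have := Fintype.one_lt_card (α := F)
    omega
  have hnot2 : g₀ * g₀ ≠ 1 := fun e => by
    have h : orderOf g₀ ∣ 2 := orderOf_dvd_of_pow_eq_one (by rw [pow_two, e])
    rw [hord] at h
    exact hp2 ((Nat.prime_dvd_prime_iff_eq hp Nat.prime_two).1 h)
  haveI := Fact.mk hp
  letI : MulAction (SL2 F) (OnePoint F) :=
    { smul := mob, one_smul := mob_one, mul_smul := mob_mul }
  have hfp : (fixedPoints (Subgroup.zpowers g₀) (OnePoint F)).Nonempty := by
    by_contra hc
    rw [Set.not_nonempty_iff_eq_empty] at hc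
    have hP : IsPGroup p (Subgroup.zpowers g₀) := IsPGroup.of_card (n := 1) (by rw [Nat.card_zpowers, hord, pow_one])
    have hmod := hP.card_modEq_card_fixedPoints (OnePoint F)
    have e1 : Nat.card (OnePoint F) = Fintype.card F + 1 :=
      Finite.card_option.trans (by rw [Nat.card_eq_fintype_card])
    rw [e1, hc, Nat.card_coe_set_eq, Set.ncard_empty, Nat.modEq_zero_iff_dvd] at hmod
    have := Fintype.one_lt_card (α := F)
    have h2 : p ∣ 2 := by
      have := Nat.dvd_sub hmod hpdvd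
      rwa [show Fintype.card F + 1 - (Fintype.card F - 1) = 2 by omega] at this
    exact hp2 ((Nat.prime_dvd_prime_iff_eq hp Nat.prime_two).1 h2)
  obtain ⟨x, hx⟩ := hfp
  have hx' : mob g₀ x = x := hx ⟨g₀, Subgroup.mem_zpowers g₀⟩
  obtain ⟨m, e₁, hm⟩ := exists_conj_dia_of_fix hg₀1 hnot2 hx'
  have hfix' : C.φ (dia e₁) • (C.φ m)⁻¹ • ω = (C.φ m)⁻¹ • ω := by
    rw [← hm, ← map_inv, ← mul_smul, ← map_mul, show m⁻¹ * g₀ * m * m⁻¹ = m⁻¹ * g₀ by group, map_mul,
      mul_smul, hfix₀]
  have hne1 : C.φ (dia e₁) ≠ 1 := fun e => hg₀1 (by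
    have := C.inj (e.trans (map_one C.φ).symm)
    rw [← hm] at this
    simpa [mul_assoc] using congrArg (fun z => m * z * m⁻¹) this)
  have hoff : ¬ C.OnLine ((C.φ m)⁻¹ • ω) := by rw [← map_inv, C.onLine_smul hS]; exact hω
  rcases inverted_fix hS (C.dia_mem e₁) hne1 hfix' with e | e
  · exact hoff (by rw [e]; exact C.onLine_a)
  · exact hoff (by rw [e]; exact C.onLine_ta)

theorem card_offLine : Nat.card {ω : Ω // ¬ C.OnLine ω} = Nat.card Q - Fintype.card F := by
  classical
  haveI := finite_points hS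
  letI := Fintype.ofFinite Ω
  have h1 : Nat.card {ω : Ω // C.OnLine ω} = Fintype.card F + 1 := by
    rw [show Fintype.card F + 1 = Nat.card (OnePoint F) from
      (Finite.card_option.trans (by rw [Nat.card_eq_fintype_card])).symm]
    exact (Nat.card_congr (Equiv.ofInjective _ (C.pt_injective hS))).symm
  have h2 := Nat.card_congr (Equiv.sumCompl (fun ω : Ω => C.OnLine ω))
  rw [Nat.card_sum, h1, card_points hS] at h2
  omega

include C in
theorem dvd_offLine : Fintype.card F * (Fintype.card F ^ 2 - 1) ∣ Nat.card Q - Fintype.card F := by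
  classical
  haveI := finite_points hS
  rw [← C.card_offLine hS, ← CfsgLib.SLCard.card_SL_two]
  letI : MulAction (SL2 F) {ω : Ω // ¬ C.OnLine ω} :=
    { smul := fun g ω => ⟨C.φ g • ω.1, by rw [C.onLine_smul hS]; exact ω.2⟩
      one_smul := fun ω => Subtype.ext (by show C.φ 1 • ω.1 = ω.1; rw [map_one, one_smul])
      mul_smul := fun g g' ω => Subtype.ext (by show C.φ (g * g') • ω.1 = _; rw [map_mul, mul_smul]; rfl) }
  have hstab : ∀ ω : {ω : Ω // ¬ C.OnLine ω}, stabilizer (SL2 F) ω = ⊥ := fun ω => by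
    rw [Subgroup.eq_bot_iff_forall]
    exact fun g hg => C.free hS ω.2 (congrArg Subtype.val hg)
  rw [Nat.card_congr (MulAction.selfEquivOrbitsQuotientProd hstab), Nat.card_prod]
  exact Dvd.intro_left _ rfl

theorem exists_base (hq : Nat.card Q = Fintype.card F ^ 3) :
    ∃ c₀ : Ω, (∀ g, ¬ C.OnLine (C.φ g • c₀)) ∧ (∀ g g', C.φ g • c₀ = C.φ g' • c₀ → g = g') ∧
      ∀ ω, ¬ C.OnLine ω → ∃ g, C.φ g • c₀ = ω := by
  classical
  haveI := finite_points hS
  have hcard : Nat.card {ω : Ω // ¬ C.OnLine ω} = Nat.card (SL2 F) := by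
    rw [C.card_offLine hS, CfsgLib.SLCard.card_SL_two, hq, Nat.mul_sub, ← pow_succ', mul_one]
  obtain ⟨⟨c₀, hc₀⟩⟩ : Nonempty {ω : Ω // ¬ C.OnLine ω} :=
    (Nat.card_pos_iff.1 (hcard ▸ Nat.card_pos)).1
  have hinj : ∀ g g', C.φ g • c₀ = C.φ g' • c₀ → g = g' := fun g g' e => by
    refine inv_mul_eq_one.1 (C.free hS (g := g⁻¹ * g') hc₀ ?_)
    rw [map_mul, mul_smul, ← e, map_inv, inv_smul_smul]
  let f : SL2 F → {ω : Ω // ¬ C.OnLine ω} := fun g => ⟨C.φ g • c₀, by rw [C.onLine_smul hS]; exact hc₀⟩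
  have hf : Function.Bijective f :=
    (Nat.bijective_iff_injective_and_card f).2 ⟨fun g g' e => hinj g g' (congrArg Subtype.val e), hcard.symm⟩
  exact ⟨c₀, fun g => (f g).2, hinj, fun ω hω => by
    obtain ⟨g, hg⟩ := hf.2 ⟨ω, hω⟩
    exact ⟨g, congrArg Subtype.val hg⟩⟩

end Chart

end CfsgLib.SuzukiRankOne
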