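import Cfsg.Agent.Lib.SuzukiRankOne.Defs
import Cfsg.Agent.Lib.SuzukiRankOne.UnitaryOrbit

/-! Suzuki's theorem, the case `r² = 1`: the order of the regular normal subgroup. -/

set_option autoImplicit false
set_option linter.unusedSectionVars false
set_option linter.style.haveILetI false

namespace CfsgLib.SuzukiRankOne

open MulAction Cfsg CfsgLib.RankOne

universe u v

variable {G : Type u} {Ω : Type v} [Group G] [Finite G] [MulAction G Ω] [FaithfulSMul G Ω] {a : Ω} {t : G}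
  {Q : Subgroup G}

theorem uhyp_of_rsq (hS : IsRankOneSetup G Ω a t Q) (h2 : Four G) (hr : Rsq a t Q) : UHyp a t Q := by
  obtain ⟨⟨s, r⟩, ⟨hs, hrQ, he⟩, -⟩ := structure_eq hS
  exact ⟨hS, h2, s, hs, str_of_sq hS h2 hs hrQ he (hr s r hs hrQ he)⟩

/-- If `r² = 1` then `q (q² - 1)` divides `|Q| - q`. -/
theorem free_dvd (hS : IsRankOneSetup G Ω a t Q) (h2 : Four G) (_hQ2 : IsPGroup 2 Q) (hr : Rsq a t Q) :
    qZ G a * (qZ G a ^ 2 - 1) ∣ Nat.card Q - qZ G a := by
  obtain ⟨F, iF, iFt, iC, -, hcard, ⟨C⟩⟩ := (uhyp_of_rsq hS h2 hr).exists_chart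
  have h : qZ G a = Fintype.card F := hcard.symm
  rw [h]
  exact C.dvd_offLine hS

end CfsgLib.SuzukiRankOne
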