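import Cfsg.Agent.Lib.SuzukiRankOne.TransferFixed
import Cfsg.Agent.S1135

/-!
Tools for the local part of the transfer argument.
-/

set_option autoImplicit false
set_option linter.unusedSectionVars false
set_option linter.style.haveILetI false

namespace CfsgLib.SuzukiRankOne

open MulAction Cfsg CfsgLib.RankOne

universe u v

section General

variable {B : Type u} [Group B] [Finite B]

/-- An element commuting with `g * g` commutes with `g`, for `g` of odd order. -/
theorem comm_of_comm_sq {g n : B} (hg : Odd (orderOf g)) (h : Commute (g * g) n) : Commute g n := by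
  obtain ⟨m, hm⟩ := hg
  have e : g = (g * g) ^ (m + 1) := by
    rw [← pow_two, ← pow_mul, show 2 * (m + 1) = orderOf g + 1 by omega, pow_succ, pow_orderOf_eq_one, one_mul]
  rw [e]
  exact h.pow_left _

/-- An element of a subgroup that contains `g * g` contains `g`, for `g` of odd order. -/
theorem mem_of_sq_mem {L : Subgroup B} {g : B} (hg : Odd (orderOf g)) (h : g * g ∈ L) : g ∈ L := by
  obtain ⟨m, hm⟩ := hg
  have e : g = (g * g) ^ (m + 1) := by
    rw [← pow_two, ← pow_mul, show 2 * (m + 1) = orderOf g + 1 by omega, pow_succ, pow_orderOf_eq_one, one_mul]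
  rw [e]
  exact pow_mem h _

/-- The elements of a `p`-group have odd order for odd `p`. -/
theorem odd_orderOf_of_pgroup {p : ℕ} (hodd : Odd p) {A : Subgroup B} (hA : IsPGroup p A) {g : B} (hg : g ∈ A) :
    Odd (orderOf g) := by
  obtain ⟨k, hk⟩ := hA ⟨g, hg⟩
  exact (hodd.pow (n := k)).of_dvd_nat (orderOf_dvd_of_pow_eq_one (congrArg Subtype.val hk))

/-- A `p`-element normalising a subgroup of order `p` centralises it. -/
theorem comm_of_pow_norm {p : ℕ} (hp : p.Prime) {g y : B} (hy : orderOf y = p) {e : ℕ} (hg : g ^ p ^ e = 1)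
    (h : g * y * g⁻¹ ∈ Subgroup.zpowers y) : Commute g y := by
  haveI := Fact.mk hp
  obtain ⟨k, hk⟩ := Subgroup.mem_zpowers_iff.mp h
  have hn : ∀ n : ℕ, g ^ n * y * (g ^ n)⁻¹ = y ^ (k ^ n) := by
    intro n
    induction n with
    | zero => simp
    | succ n ih =>
      calc g ^ (n + 1) * y * (g ^ (n + 1))⁻¹ = g * (g ^ n * y * (g ^ n)⁻¹) * g⁻¹ := by rw [pow_succ']; group
        _ = (g * y * g⁻¹) ^ (k ^ n) := by rw [ih, conj_zpow]
        _ = y ^ (k ^ (n + 1)) := by rw [← hk, ← zpow_mul, pow_succ']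
  have h1 := hn (p ^ e)
  rw [hg, one_mul, inv_one, mul_one] at h1
  have h2 : y ^ (1 : ℤ) = y ^ (k ^ p ^ e) := by rw [zpow_one]; exact h1
  rw [zpow_eq_zpow_iff_modEq, hy, ← ZMod.intCast_eq_intCast_iff, Int.cast_one, Int.cast_pow,
    ZMod.pow_card_pow] at h2
  have h3 : y ^ k = y ^ (1 : ℤ) := by
    rw [zpow_eq_zpow_iff_modEq, hy, ← ZMod.intCast_eq_intCast_iff, Int.cast_one]
    exact h2.symm
  rw [hk, zpow_one] at h3
  exact mul_inv_eq_iff_eq_mul.mp h3

/-- An element of order dividing four normalising a subgroup of odd order normalises one of its Sylow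
subgroups. -/
theorem exists_invariant_sylow_four {p : ℕ} [Fact p.Prime] {K : Subgroup B} {x : B} (hK : Odd (Nat.card K))
    (hx : x ^ 4 = 1) (hn : ∀ k ∈ K, x * k * x⁻¹ ∈ K) :
    ∃ R : Subgroup B, R ≤ K ∧ IsPGroup p R ∧ Nat.card R = p ^ (Nat.card K).factorization p ∧
      ∀ k ∈ R, x * k * x⁻¹ ∈ R := by
  haveI : Fact (Nat.Prime 2) := ⟨Nat.prime_two⟩
  have hxN : x ∈ Subgroup.normalizer (K : Set B) := by
    rw [Subgroup.mem_normalizer_iff_map_conj_eq]
    refine Subgroup.eq_of_le_of_card_ge ?_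
      (Subgroup.card_map_of_injective (MulAut.conj x).injective).ge
    rintro _ ⟨k, hk, rfl⟩
    exact hn k hk
  let φ : Subgroup.zpowers x →* MulAut K :=
    K.normalizerMonoidHom.comp (Subgroup.inclusion (Subgroup.zpowers_le.2 hxN))
  letI : MulDistribMulAction (Subgroup.zpowers x) K := MulDistribMulAction.compHom K φ
  have hPg : IsPGroup 2 (Subgroup.zpowers x) := by
    obtain ⟨i, -, hi⟩ := (Nat.dvd_prime_pow Nat.prime_two).1
      (show orderOf x ∣ 2 ^ 2 from orderOf_dvd_of_pow_eq_one hx)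
    exact IsPGroup.of_card (n := i) (by rw [Nat.card_zpowers, hi])
  have hcount : ¬ 2 ∣ Nat.card (Sylow p K) := fun h => Nat.not_even_iff_odd.mpr hK (even_iff_two_dvd.mpr
    (h.trans ((Sylow.card_dvd_index default).trans (Subgroup.index_dvd_card _))))
  obtain ⟨S, hS⟩ := hPg.nonempty_fixed_point_of_prime_not_dvd_card (Sylow p K) hcount
  refine ⟨(S : Subgroup K).map K.subtype, Subgroup.map_subtype_le _, S.isPGroup'.map _, ?_, ?_⟩
  · rw [Subgroup.card_map_of_injective K.subtype_injective, S.card_eq_multiplicity]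
  · rintro _ ⟨k, hk, rfl⟩
    have h1 : (⟨x, Subgroup.mem_zpowers x⟩ : Subgroup.zpowers x) • S = S := hS ⟨x, Subgroup.mem_zpowers x⟩
    refine ⟨(⟨x, Subgroup.mem_zpowers x⟩ : Subgroup.zpowers x) • k, ?_, rfl⟩
    show (⟨x, Subgroup.mem_zpowers x⟩ : Subgroup.zpowers x) • k ∈ (S : Subgroup K)
    have h2 := Subgroup.smul_mem_pointwise_smul k (⟨x, Subgroup.mem_zpowers x⟩ : Subgroup.zpowers x)
      (S : Subgroup K) hk
    rwa [← Sylow.pointwise_smul_def, h1] at h2

/-- A normalised `p`-subgroup lies in every `p`-subgroup of Sylow order. -/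
theorem le_of_normalised {p : ℕ} [Fact p.Prime] {X R A : Subgroup B} (hA : IsPGroup p A) (hR : IsPGroup p R)
    (hRX : R ≤ X) (hAX : A ≤ X) (hn : ∀ g ∈ R, ∀ a ∈ A, g * a * g⁻¹ ∈ A)
    (hc : Nat.card R = p ^ (Nat.card X).factorization p) : A ≤ R := by
  have hN : R ≤ Subgroup.normalizer (A : Set B) := fun g hg => by
    rw [Subgroup.mem_normalizer_iff_map_conj_eq]
    refine Subgroup.eq_of_le_of_card_ge ?_
      (Subgroup.card_map_of_injective (MulAut.conj g).injective).ge
    rintro _ ⟨a, ha, rfl⟩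
    exact hn g hg a ha
  obtain ⟨k, hk⟩ := IsPGroup.iff_card.mp (hR.to_sup_of_normal_right' hA hN)
  have h1 : Nat.card ↥(R ⊔ A) ∣ Nat.card X := Subgroup.card_dvd_of_le (sup_le hRX hAX)
  rw [hk, (Fact.out : p.Prime).pow_dvd_iff_le_factorization Nat.card_pos.ne'] at h1
  have h2 : R ⊔ A = R :=
    (Subgroup.eq_of_le_of_card_ge le_sup_left (by
      rw [hk, hc]
      exact Nat.pow_le_pow_right (Fact.out : p.Prime).pos h1)).symm
  exact le_sup_right.trans h2.le

end General

section Matrices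

variable {K : Type u} [Field K]

/-- Two by two nilpotent matrices. -/
theorem nilpotent_two (N : Matrix (Fin 2) (Fin 2) K) {n : ℕ} (h : N ^ n = 0) :
    N.trace = 0 ∧ N.det = 0 ∧ N * N = 0 := by
  have hd : N.det = 0 := by
    have h5 : N.det ^ n = 0 := by rw [← Matrix.det_pow, h, Matrix.det_zero]
    exact eq_zero_of_pow_eq_zero h5
  have hsq : N * N = N.trace • N := by
    have hd' := hd
    rw [Matrix.det_fin_two] at hd'
    ext i j
    fin_cases i <;> fin_cases j <;>
      simp [Matrix.mul_apply, Fin.sum_univ_two, Matrix.trace_fin_two] <;>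
      first
        | linear_combination -hd'
        | ring
  have ht : N.trace = 0 := by
    by_contra htr
    have hk : ∀ k : ℕ, N ^ (k + 1) = N.trace ^ k • N := by
      intro k
      induction k with
      | zero => simp
      | succ k ih => rw [pow_succ, ih, smul_mul_assoc, hsq, smul_smul, pow_succ]
    have h6 := hk n
    rw [pow_succ, h, zero_mul, eq_comm, smul_eq_zero] at h6
    rcases h6 with h6 | h6
    · exact htr (eq_zero_of_pow_eq_zero h6)
    · exact htr (by rw [h6, Matrix.trace_zero])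
  exact ⟨ht, hd, by rw [hsq, ht, zero_smul]⟩

end Matrices

section Pair

variable {B : Type u} [Group B] [Finite B] {p : ℕ} [Fact p.Prime]

/-- A `p`-element acting on the elementary group generated by `w` and `y`, no conjugate of `y` by its powers
being a non-trivial power of `w`, centralises `y`. -/
theorem unipotent_pair {w y g : B} (hw : w ^ p = 1) (hy : y ^ p = 1) (hc : Commute w y)
    (hind : ∀ m n : ℤ, w ^ m * y ^ n = 1 → (p : ℤ) ∣ m ∧ (p : ℤ) ∣ n)
    (hgw : ∃ m n : ℤ, g * w * g⁻¹ = w ^ m * y ^ n) (hgy : ∃ m n : ℤ, g * y * g⁻¹ = w ^ m * y ^ n)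
    {e : ℕ} (hg : g ^ p ^ e = 1)
    (hne : ∀ (n : ℕ) (m : ℤ), g ^ n * y * (g ^ n)⁻¹ = w ^ m → (p : ℤ) ∣ m)
    (hfix : Commute g w → Commute g y) :
    Commute g y ∧ ∃ d : ℤ, g * w * g⁻¹ = w * y ^ d := by
  obtain ⟨m1, n1, h1⟩ := hgw
  obtain ⟨m2, n2, h2⟩ := hgy
  let φ : (Fin 2 → ZMod p) → B := fun X => w ^ ((X 0).val : ℤ) * y ^ ((X 1).val : ℤ)
  have hwz : ∀ {a b : ℤ}, (a : ZMod p) = b → w ^ a = w ^ b := fun {a b} h => by
    rw [zpow_eq_zpow_iff_modEq]
    exact ((ZMod.intCast_eq_intCast_iff _ _ _).mp h).of_dvd (by exact_mod_cast orderOf_dvd_of_pow_eq_one hw)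
  have hyz : ∀ {a b : ℤ}, (a : ZMod p) = b → y ^ a = y ^ b := fun {a b} h => by
    rw [zpow_eq_zpow_iff_modEq]
    exact ((ZMod.intCast_eq_intCast_iff _ _ _).mp h).of_dvd (by exact_mod_cast orderOf_dvd_of_pow_eq_one hy)
  have hφ : ∀ (X : Fin 2 → ZMod p) (a b : ℤ), (a : ZMod p) = X 0 → (b : ZMod p) = X 1 →
      φ X = w ^ a * y ^ b := fun X a b ha hb => by
    simp only [φ]
    rw [hwz (a := ((X 0).val : ℤ)) (b := a) (by rw [ha]; simp),
      hyz (a := ((X 1).val : ℤ)) (b := b) (by rw [hb]; simp)]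
  have hinj : Function.Injective φ := by
    intro X Y h
    simp only [φ] at h
    have h3 : w ^ (((X 0).val : ℤ) - (Y 0).val) * y ^ (((X 1).val : ℤ) - (Y 1).val) = 1 := by
      rw [zpow_sub, zpow_sub]
      set α := w ^ ((X 0).val : ℤ)
      set β := y ^ ((X 1).val : ℤ) with hβ
      set γ := w ^ ((Y 0).val : ℤ) with hγ
      set δ := y ^ ((Y 1).val : ℤ) with hδ
      have c1 : γ⁻¹ * β = β * γ⁻¹ := by rw [hβ, hγ]; exact (hc.zpow_zpow _ _).inv_left.eq
      have c2 : γ * δ = δ * γ := by rw [hγ, hδ]; exact (hc.zpow_zpow _ _).eq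
      calc α * γ⁻¹ * (β * δ⁻¹) = α * (γ⁻¹ * β) * δ⁻¹ := by simp only [mul_assoc]
        _ = α * β * (δ * γ)⁻¹ := by rw [c1, mul_inv_rev]; simp only [mul_assoc]
        _ = 1 := by rw [← c2, h, mul_inv_cancel]
    obtain ⟨d1, d2⟩ := hind _ _ h3
    funext i
    have e1 := (ZMod.intCast_zmod_eq_zero_iff_dvd _ p).mpr d1
    have e2 := (ZMod.intCast_zmod_eq_zero_iff_dvd _ p).mpr d2
    push_cast at e1 e2
    simp only [ZMod.natCast_zmod_val, sub_eq_zero] at e1 e2
    fin_cases i
    · exact e1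
    · exact e2
  let M : Matrix (Fin 2) (Fin 2) (ZMod p) := !![(m1 : ZMod p), (m2 : ZMod p); (n1 : ZMod p), (n2 : ZMod p)]
  have hstep : ∀ X, g * φ X * g⁻¹ = φ (M.mulVec X) := by
    intro X
    rw [hφ (M.mulVec X) (m1 * (X 0).val + m2 * (X 1).val) (n1 * (X 0).val + n2 * (X 1).val)]
    · simp only [φ]
      rw [show g * (w ^ ((X 0).val : ℤ) * y ^ ((X 1).val : ℤ)) * g⁻¹ =
        (g * w * g⁻¹) ^ ((X 0).val : ℤ) * (g * y * g⁻¹) ^ ((X 1).val : ℤ) by rw [conj_zpow, conj_zpow]; group,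
        h1, h2, (hc.zpow_zpow m1 n1).mul_zpow, (hc.zpow_zpow m2 n2).mul_zpow, ← zpow_mul, ← zpow_mul, ← zpow_mul,
        ← zpow_mul, zpow_add, zpow_add, mul_assoc (w ^ (m1 * _)), ← mul_assoc (y ^ (n1 * _)),
        (hc.zpow_zpow (m2 * ((X 1).val : ℤ)) (n1 * ((X 0).val : ℤ))).symm.eq]
      simp only [mul_assoc]
    · simp [M, Matrix.mulVec, dotProduct, Fin.sum_univ_two]
    · simp [M, Matrix.mulVec, dotProduct, Fin.sum_univ_two]
  have hiter : ∀ n : ℕ, ∀ X, g ^ n * φ X * (g ^ n)⁻¹ = φ ((M ^ n).mulVec X) := by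
    intro n
    induction n with
    | zero => intro X; simp
    | succ n ih =>
      intro X
      rw [pow_succ' M, ← Matrix.mulVec_mulVec, ← hstep, ← ih, pow_succ']
      group
  have hMe : M ^ p ^ e = 1 := by
    refine Matrix.ext_of_mulVec_single fun i => ?_
    rw [Matrix.one_mulVec]
    exact hinj (by rw [← hiter, hg, one_mul, inv_one, mul_one])
  obtain ⟨ht, hd, hNN⟩ := nilpotent_two (M - 1) (n := p ^ e)
    (by rw [sub_pow_char_pow_of_commute (p := p) (x := M) (y := 1) e (Commute.one_right _), one_pow, hMe, sub_self])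
  have hpow : ∀ n : ℕ, M ^ n = 1 + n • (M - 1) := by
    intro n
    induction n with
    | zero => simp
    | succ n ih =>
      rw [pow_succ, ih, succ_nsmul]
      have e' : M = 1 + (M - 1) := by abel
      conv_lhs => arg 2; rw [e']
      rw [add_mul, one_mul, smul_mul_assoc, mul_add, hNN, mul_one, add_zero]
      abel
  have hM00 : (M - 1) 0 0 = (m1 : ZMod p) - 1 := by simp [M]
  have hM01 : (M - 1) 0 1 = (m2 : ZMod p) := by simp [M]
  have hM10 : (M - 1) 1 0 = (n1 : ZMod p) := by simp [M]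
  have hM11 : (M - 1) 1 1 = (n2 : ZMod p) - 1 := by simp [M]
  rw [Matrix.trace_fin_two, hM00, hM11] at ht
  rw [Matrix.det_fin_two, hM00, hM01, hM10, hM11] at hd
  have hgy' : (n2 : ZMod p) = 1 → (m2 : ZMod p) = 0 → Commute g y := fun e1 e2 => by
    refine mul_inv_eq_iff_eq_mul.mp ?_
    rw [h2, hwz (a := m2) (b := 0) (by rw [e2, Int.cast_zero]), hyz (a := n2) (b := 1) (by rw [e1, Int.cast_one]),
      zpow_zero, zpow_one, one_mul]
  by_cases hm : (m2 : ZMod p) = 0
  · rw [hm, zero_mul, sub_zero] at hd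
    have hn2 : (n2 : ZMod p) = 1 := by
      rcases mul_eq_zero.mp hd with h | h
      · linear_combination ht - h
      · exact sub_eq_zero.mp h
    refine ⟨hgy' hn2 hm, n1, ?_⟩
    rw [h1, hwz (a := m1) (b := 1) (by rw [Int.cast_one]; linear_combination ht - hn2), zpow_one]
  · exfalso
    by_cases hn2 : (n2 : ZMod p) = 1
    · have hm1 : (m1 : ZMod p) = 1 := by linear_combination ht - hn2
      rw [hm1, hn2, sub_self, zero_mul, zero_sub, neg_eq_zero, mul_eq_zero] at hd
      have hn1 : (n1 : ZMod p) = 0 := hd.resolve_left hm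
      have hcw : Commute g w := by
        refine mul_inv_eq_iff_eq_mul.mp ?_
        rw [h1, hwz (a := m1) (b := 1) (by rw [hm1, Int.cast_one]), hyz (a := n1) (b := 0) (by rw [hn1, Int.cast_zero]),
          zpow_zero, zpow_one, mul_one]
      have h3 : g * y * g⁻¹ = y := mul_inv_eq_iff_eq_mul.mpr (hfix hcw)
      rw [h2, hyz (a := n2) (b := 1) (by rw [hn2, Int.cast_one]), zpow_one, mul_eq_right] at h3
      refine hm ((ZMod.intCast_zmod_eq_zero_iff_dvd _ p).mpr ?_)
      exact (hind m2 0 (by rw [zpow_zero, mul_one]; exact h3)).1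
    · set n := (-((n2 : ZMod p) - 1)⁻¹).val with hn
      have hn' : (n : ZMod p) = -((n2 : ZMod p) - 1)⁻¹ := by rw [hn, ZMod.natCast_zmod_val]
      let Y : Fin 2 → ZMod p := ![0, 1]
      have hY : φ Y = y := by rw [hφ Y 0 1 (by simp [Y]) (by simp [Y]), zpow_zero, zpow_one, one_mul]
      have h0 : (M ^ n).mulVec Y 0 = (n : ZMod p) * m2 := by
        rw [hpow, Matrix.add_mulVec, Matrix.one_mulVec, Pi.add_apply, Matrix.smul_mulVec, Pi.smul_apply]
        simp [Y, Matrix.mulVec, dotProduct, Fin.sum_univ_two, M]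
      have h1' : (M ^ n).mulVec Y 1 = 1 + (n : ZMod p) * ((n2 : ZMod p) - 1) := by
        rw [hpow, Matrix.add_mulVec, Matrix.one_mulVec, Pi.add_apply, Matrix.smul_mulVec, Pi.smul_apply]
        simp [Y, Matrix.mulVec, dotProduct, Fin.sum_univ_two, M]
      have h3 : g ^ n * y * (g ^ n)⁻¹ = w ^ ((n : ℤ) * m2) := by
        conv_lhs => rw [← hY, hiter]
        rw [hφ _ ((n : ℤ) * m2) 0 (by rw [h0]; push_cast; rfl) (by
          rw [h1', Int.cast_zero, hn', neg_mul, inv_mul_cancel₀ (sub_ne_zero.mpr hn2)]; ring), zpow_zero, mul_one]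
      have h4 := (ZMod.intCast_zmod_eq_zero_iff_dvd _ p).mpr (hne n _ h3)
      push_cast at h4
      rw [hn', mul_eq_zero, neg_eq_zero, inv_eq_zero, sub_eq_zero] at h4
      exact h4.elim hn2 hm

end Pair

namespace Tr

variable {G : Type u} {Ω : Type v} [Group G] [MulAction G Ω] [Finite G] [FaithfulSMul G Ω] {a : Ω} {t : G}
  {Q : Subgroup G} {p q0 : ℕ} {v : G} (T : Tr a t Q p q0 v)

include T

/-- The centraliser of an inverted element is odd. -/
theorem odd_cen_inverted {i w : G} (hi : i * i = 1) (hi1 : i ≠ 1) (hw : i * w * i⁻¹ = w⁻¹) (hw2 : w * w ≠ 1) :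
    Odd (Nat.card ↥(Subgroup.centralizer {w})) := by
  have hii : i⁻¹ = i := inv_eq_of_mul_eq_one_right hi
  rw [hii] at hw
  have h1 : i * w ≠ 1 := fun e => hw2 (by rw [← inv_eq_of_mul_eq_one_right e, hii, hi])
  have h := (Cfsg.Agent.S1135.result T.setup T.four i (i * w) hi1 hi h1
    (by rw [← mul_assoc, hw, inv_mul_cancel])
    (by rw [← mul_assoc i i, hi, one_mul]; exact hw2)).2
  rwa [← mul_assoc, hi, one_mul] at h

/-- An element with odd centraliser is not conjugate to a power of `v`. -/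
theorem not_odd_cen {g w : G} {k : ℤ} (h : g * v ^ k * g⁻¹ = w) :
    ¬ Odd (Nat.card ↥(Subgroup.centralizer {w})) := by
  intro hodd
  have ht : g * t * g⁻¹ ∈ Subgroup.centralizer {w} := by
    rw [Subgroup.mem_centralizer_singleton_iff, ← h]
    have hc : t * v ^ k = v ^ k * t := ((show Commute t v from T.vt).zpow_right k).eq
    calc g * t * g⁻¹ * (g * v ^ k * g⁻¹) = g * (t * v ^ k) * g⁻¹ := by group
      _ = _ := by rw [hc]; group
  have h2 : orderOf (⟨_, ht⟩ : Subgroup.centralizer ({w} : Set G)) = 2 := by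
    rw [Subgroup.orderOf_mk, CfsgLib.Involutions.orderOf_eq_two_iff']
    refine ⟨?_, fun e => T.setup.ne_one (conj_eq_one_iff.mp e)⟩
    rw [show g * t * g⁻¹ * (g * t * g⁻¹) = g * (t * t) * g⁻¹ by group, T.setup.mul_self, mul_one, mul_inv_cancel]
  exact Nat.not_even_iff_odd.mpr hodd (even_iff_two_dvd.mpr (h2 ▸ orderOf_dvd_natCard _))

/-- A `p`-subgroup fixing a point is cyclic. -/
theorem cyclic_of_fix (hd : p ∣ qZ G a ^ 2 + 1) {K : Subgroup G} (hK : IsPGroup p K) {c : Ω}
    (hc : ∀ g ∈ K, g • c = c) : IsCyclic K := by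
  haveI := pretransitive T.setup
  haveI := T.cyc
  obtain ⟨g, rfl⟩ := exists_smul_eq G a c
  obtain ⟨θ, -, hker⟩ := T.exists_theta
  let f : K →* stabilizer G a :=
    ((MulAut.conj g⁻¹).toMonoidHom.comp K.subtype).codRestrict _ fun k => by
      rw [mem_stabilizer_iff]
      show (g⁻¹ * (k : G) * g⁻¹⁻¹) • a = a
      rw [inv_inv, mul_smul, mul_smul, hc k k.2, inv_smul_smul]
  refine isCyclic_of_injective (θ.comp f) ((injective_iff_map_eq_one _).mpr fun k hk => ?_)
  have hP : IsPGroup p (Subgroup.map f ⊤) := by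
    rw [← MonoidHom.range_eq_map]
    exact hK.of_surjective f.rangeRestrict f.rangeRestrict_surjective
  have h1 : f k = 1 := T.theta_inj hd hker hP ⟨k, Subgroup.mem_top k, rfl⟩ hk
  refine Subtype.ext ((MulAut.conj g⁻¹).injective ?_)
  rw [OneMemClass.coe_one, map_one]
  exact congrArg Subtype.val h1

end Tr

end CfsgLib.SuzukiRankOne
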