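import Cfsg.Agent.Lib.SuzukiRankOne.KernelChars
import Cfsg.Agent.S1131
import Cfsg.Agent.S1132
import Cfsg.Agent.S1137
import Cfsg.Agent.S1138

/-!
Fixed points of the two-point stabiliser on `Q / Z O` and stabilisers of characters of `O`.

Blueprint: `blueprint/bender/B2.md`, section 2.
-/

set_option autoImplicit false
set_option linter.unusedSectionVars false
set_option linter.style.haveILetI false

namespace CfsgLib.SuzukiRankOne

open MulAction Cfsg CfsgLib.RankOne CfsgLib.CharTheory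
open CfsgLib.AfterFT.SplitRankOne (invGroup mem_invGroup)
open scoped ComplexConjugate

universe u v

section General

/-- A group acting by automorphisms without fixed points has order dividing the number of non-identity elements. -/
theorem dvd_card_sub_one {K : Type u} {H : Type v} [Group K] [Group H] [Finite K] [Finite H] (f : K →* MulAut H)
    (hf : ∀ k : K, k ≠ 1 → ∀ h : H, f k h = h → h = 1) : Nat.card K ∣ Nat.card H - 1 := by
  classical
  let X := {h : H // h ≠ 1}
  letI : MulAction K X :=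
    { smul := fun k h => ⟨f k h.1, fun e => h.2 ((f k).injective (e.trans (map_one (f k)).symm))⟩
      one_smul := fun h => Subtype.ext (show f 1 h.1 = h.1 by rw [map_one]; rfl)
      mul_smul := fun k l h => Subtype.ext (show f (k * l) h.1 = f k (f l h.1) by rw [map_mul]; rfl) }
  have hstab : ∀ h : X, stabilizer K h = ⊥ := fun h => by
    rw [eq_bot_iff]
    intro k hk
    rw [Subgroup.mem_bot]
    by_contra hk1
    exact h.2 (hf k hk1 h.1 (congrArg Subtype.val (mem_stabilizer_iff.mp hk)))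
  have h1 : Nat.card X = Nat.card H - 1 := by
    haveI := Fintype.ofFinite H
    rw [Nat.card_eq_fintype_card, Nat.card_eq_fintype_card,
      show Fintype.card X = Fintype.card H - Fintype.card {h : H // h = 1} from Fintype.card_subtype_compl _,
      Fintype.card_subtype_eq]
  rw [← h1, Nat.card_congr (MulAction.selfEquivOrbitsQuotientProd hstab), Nat.card_prod]
  exact dvd_mul_left _ _

variable {M : Type u} [Group M] [Finite M]

/-- An automorphism of an abelian group fixes as many irreducible characters as elements. -/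
theorem card_fixed_irr_abelian (hab : ∀ x y : M, x * y = y * x) (σ : M ≃* M) :
    Nat.card {χ : IrrCharacter M // (fun x => (χ : M → ℂ) (σ x)) = χ} = Nat.card {x : M // σ x = x} := by
  classical
  haveI := Fintype.ofFinite M
  let τ : IrrCharacter M → IrrCharacter M := fun χ =>
    ⟨fun x => (χ : M → ℂ) (σ x), isIrrCharacter_comp_surjective χ.2 σ.toMonoidHom σ.surjective⟩
  have h := card_fixed_irr_mul (fun x => σ x) τ (fun _ _ => rfl)
  have hconj : ∀ x y : M, IsConj x y ↔ x = y := fun x y => ⟨fun hc => by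
    obtain ⟨c, hc⟩ := isConj_iff.mp hc
    rw [← hc, hab c x, mul_inv_cancel_right], fun e => e ▸ IsConj.refl x⟩
  have hcent : ∀ x : M, Nat.card (Subgroup.centralizer ({x} : Set M)) = Nat.card M := fun x => by
    rw [show Subgroup.centralizer ({x} : Set M) = ⊤ from
      eq_top_iff.mpr fun y _ => Subgroup.mem_centralizer_singleton_iff.mpr (hab y x), Subgroup.card_top]
  simp only [hcent, Finset.sum_const, smul_eq_mul, hconj] at h
  rw [show Nat.card {χ : IrrCharacter M // (fun x => (χ : M → ℂ) (σ x)) = χ} =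
    Nat.card {χ : IrrCharacter M // τ χ = χ} from Nat.card_congr (Equiv.subtypeEquivRight fun χ =>
      ⟨fun e => Subtype.ext e, fun e => congrArg Subtype.val e⟩),
    Nat.eq_of_mul_eq_mul_right Nat.card_pos h, Nat.card_eq_fintype_card, Fintype.card_subtype]

theorem card_irr_abelian (hab : ∀ x y : M, x * y = y * x) : Nat.card (IrrCharacter M) = Nat.card M := by
  have h := card_fixed_irr_abelian hab (MulEquiv.refl M)
  exact ((Nat.card_congr (Equiv.subtypeUnivEquiv fun χ : IrrCharacter M => rfl)).symm.trans h).trans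
    (Nat.card_congr (Equiv.subtypeUnivEquiv fun x : M => rfl))

end General

variable {G : Type u} {Ω : Type v} [Group G] [Finite G] [MulAction G Ω] [FaithfulSMul G Ω] {a : Ω} {t : G}
  {Q S O : Subgroup G} (hS : IsRankOneSetup G Ω a t Q) (h2 : Four G) (hsp : Split Q S O)
include hS h2 hsp

theorem invGroup_ab (x y : invGroup hS h2) : x * y = y * x :=
  (CfsgLib.AfterFT.SplitRankOne.invGroup_comm hS h2).is_comm.comm x y

/-- `S` is abelian or has its commutators among the involutions. -/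
theorem comm_S_mem {x y : G} (hx : x ∈ S) (hy : y ∈ S) : x⁻¹ * y⁻¹ * x * y ∈ invGroup hS h2 := by
  classical
  haveI := Fact.mk Nat.prime_two
  have hP : IsPGroup 2 (S.subgroupOf Q) := hsp.two.of_equiv (Subgroup.subgroupOfEquivOfLe hsp.S_le).symm
  have hidx : ¬ 2 ∣ (S.subgroupOf Q).index := by
    have h := (S.subgroupOf Q).card_mul_index
    rw [Nat.card_congr (Subgroup.subgroupOfEquivOfLe hsp.S_le).toEquiv, hsp.card] at h
    rw [Nat.eq_of_mul_eq_mul_left Nat.card_pos h]
    exact Nat.two_dvd_ne_zero.mpr (Nat.odd_iff.mp hsp.odd)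
  let P : Sylow 2 Q := hP.toSylow hidx
  have hPe : (P : Subgroup Q) = S.subgroupOf Q := rfl
  let e : ↥(P : Subgroup Q) ≃* S := (MulEquiv.subgroupCongr hPe).trans (Subgroup.subgroupOfEquivOfLe hsp.S_le)
  have key : ∀ x' y' : ↥(P : Subgroup Q), ((e (x'⁻¹ * y'⁻¹ * x' * y') : S) : G) ∈ invGroup hS h2 := by
    intro x' y'
    rcases Cfsg.Agent.S1132.result hS h2 P with h | h
    · rw [show x'⁻¹ * y'⁻¹ * x' * y' = 1 by
        rw [mul_assoc, h.is_comm.comm x' y', ← mul_assoc, inv_mul_cancel_right, inv_mul_cancel], map_one,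
        OneMemClass.coe_one]
      exact one_mem _
    · have hc := (Cfsg.Agent.S1138.result h).2.1 x' y'
      have hsq := (Cfsg.Agent.S1137.result h).2 _ hc
      refine ⟨hS.le (hsp.S_le (e _).2), ?_⟩
      rw [← Subgroup.coe_mul, ← map_mul, hsq, map_one, OneMemClass.coe_one]
  have := key (e.symm ⟨x, hx⟩) (e.symm ⟨y, hy⟩)
  simpa using this

/-- An element of `D` fixing a character of `O`. -/
def Mst (ν : IrrCharacter O) : Subgroup (stabilizer G a) where
  carrier := {g | g ∈ dA a t ∧ cO hS hsp g ν = ν}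
  one_mem' := ⟨one_mem _, cO_one hS h2 hsp ν⟩
  mul_mem' := fun {x y} hx hy => ⟨mul_mem hx.1 hy.1, by rw [cO_mul hS h2 hsp, hx.2, hy.2]⟩
  inv_mem' := fun {x} hx => ⟨inv_mem hx.1, by
    conv_lhs => rw [← hx.2, ← cO_mul hS h2 hsp, mul_inv_cancel, cO_one hS h2 hsp]⟩

theorem mst_cases (hI : IHyp.{u, v} (Nat.card G)) {ν : IrrCharacter O} (hν : (ν : O → ℂ) ≠ fun _ => 1) :
    Mst hS h2 hsp ν = ⊥ ∨ ∃ p : ℕ, p.Prime ∧ Odd p ∧ Nat.card (Mst hS h2 hsp ν) = p ∧ qZ G a = 2 ^ p ∧
      ∀ x ∈ Mst hS h2 hsp ν, x ≠ 1 →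
        Nat.card {z : G // z ∈ involutionsIn (stabilizer G a : Set G) ∧ z * x = x * z} = 1 := by
  haveI := Fintype.ofFinite O
  have hle : (Mst hS h2 hsp ν).map (stabilizer G a).subtype ≤ D a t := by
    rintro _ ⟨g, hg, rfl⟩
    exact hg.1
  rcases stab_cases hS h2 hsp hI _ hle (by
    rintro _ ⟨g, hg, rfl⟩ hp
    exact exists_cent_of_fix hS h2 hsp g.2 hp (pow_orderOf_eq_one _) ν.2 hν
      (fun o => congrFun (congrArg Subtype.val hg.2) o)) with h | ⟨p, hp, hpo, hc, hq, hf⟩
  · exact Or.inl ((Subgroup.map_eq_bot_iff_of_injective _ (Subgroup.subtype_injective _)).mp h)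
  · refine Or.inr ⟨p, hp, hpo, ?_, hq, fun x hx hx1 => hf _ ⟨x, hx, rfl⟩ fun e => hx1 (Subtype.ext e)⟩
    rw [← hc, Subgroup.card_map_of_injective (Subgroup.subtype_injective _)]

section Quot

variable [(ZO hS h2 hsp).Normal]

/-- `Z O` inside `Q`. -/
abbrev ZOq : Subgroup (qA Q a) := (ZO hS h2 hsp).subgroupOf (qA Q a)

/-- The factor group `Q / Z O`. -/
abbrev Qbar : Type u := qA Q a ⧸ ZOq hS h2 hsp

theorem qbar_ab (x y : Qbar hS h2 hsp) : x * y = y * x := by
  induction x using QuotientGroup.induction_on with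
  | _ x =>
    induction y using QuotientGroup.induction_on with
    | _ y =>
      refine (QuotientGroup.eq (a := x * y) (b := y * x)).mpr ?_
      obtain ⟨x₁, hx₁, x₂, hx₂, ex⟩ := hsp.decomp ((x : stabilizer G a) : G) x.2
      obtain ⟨y₁, hy₁, y₂, hy₂, ey⟩ := hsp.decomp ((y : stabilizer G a) : G) y.2
      refine Subgroup.mem_subgroupOf.mpr ⟨y₁⁻¹ * x₁⁻¹ * y₁ * x₁, comm_S_mem hS h2 hsp hy₁ hx₁,
        y₂⁻¹ * x₂⁻¹ * y₂ * x₂, mul_mem (mul_mem (mul_mem (inv_mem hy₂) (inv_mem hx₂)) hy₂) hx₂, ?_⟩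
      show (((x : stabilizer G a) : G) * ((y : stabilizer G a) : G))⁻¹ *
        (((y : stabilizer G a) : G) * ((x : stabilizer G a) : G)) = _
      rw [ex, ey]
      have key : ∀ {u w : G}, u ∈ S → w ∈ O → w * u = u * w := fun hu hw => (hsp.comm _ hu _ hw).symm
      calc (x₁ * x₂ * (y₁ * y₂))⁻¹ * (y₁ * y₂ * (x₁ * x₂))
          = (x₁ * (x₂ * y₁) * y₂)⁻¹ * (y₁ * (y₂ * x₁) * x₂) := by group
        _ = (x₁ * y₁ * (x₂ * y₂))⁻¹ * (y₁ * x₁ * (y₂ * x₂)) := by
            rw [key hy₁ hx₂, key hx₁ hy₂]; group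
        _ = (x₂ * y₂)⁻¹ * (y₁⁻¹ * x₁⁻¹ * y₁ * x₁) * (y₂ * x₂) := by group
        _ = (y₁⁻¹ * x₁⁻¹ * y₁ * x₁) * ((x₂ * y₂)⁻¹ * (y₂ * x₂)) := by
            rw [key (mul_mem (mul_mem (mul_mem (inv_mem hy₁) (inv_mem hx₁)) hy₁) hx₁)
              (inv_mem (mul_mem hx₂ hy₂)), mul_assoc]
        _ = _ := by group

variable [(qA Q a).Normal]

theorem aQ_map (g : stabilizer G a) :
    (ZOq hS h2 hsp).map (MulAut.conjNormal (H := qA Q a) g).toMonoidHom = ZOq hS h2 hsp := by
  apply le_antisymm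
  · rintro _ ⟨c, hc, rfl⟩
    exact (inferInstance : (ZO hS h2 hsp).Normal).conj_mem _ hc g
  · intro c hc
    refine ⟨(MulAut.conjNormal (H := qA Q a) g).symm c, ?_, by simp⟩
    refine Subgroup.mem_subgroupOf.mpr ?_
    rw [MulAut.conjNormal_symm_apply]
    exact (inferInstance : (ZO hS h2 hsp).Normal).conj_mem' _ hc g

/-- Conjugation on `Q / Z O`. -/
noncomputable def aM (g : stabilizer G a) : Qbar hS h2 hsp ≃* Qbar hS h2 hsp :=
  QuotientGroup.congr _ _ (MulAut.conjNormal (H := qA Q a) g) (aQ_map hS h2 hsp g)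

theorem aM_mk (g : stabilizer G a) (x : qA Q a) :
    aM hS h2 hsp g (QuotientGroup.mk x) = QuotientGroup.mk (MulAut.conjNormal (H := qA Q a) g x) := rfl

theorem aM_mul (g k : stabilizer G a) (x : Qbar hS h2 hsp) :
    aM hS h2 hsp (g * k) x = aM hS h2 hsp g (aM hS h2 hsp k x) := by
  induction x using QuotientGroup.induction_on with
  | _ x => rw [aM_mk, aM_mk, aM_mk, map_mul]; rfl

theorem aM_one (x : Qbar hS h2 hsp) : aM hS h2 hsp 1 x = x := by
  induction x using QuotientGroup.induction_on with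
  | _ x => rw [aM_mk, map_one]; rfl

/-- The action of the point stabiliser on `Q / Z O`. -/
noncomputable def aMHom : stabilizer G a →* MulAut (Qbar hS h2 hsp) where
  toFun g := aM hS h2 hsp g
  map_one' := MulEquiv.ext (aM_one hS h2 hsp)
  map_mul' g k := MulEquiv.ext (aM_mul hS h2 hsp g k)

/-- Inverted elements act without fixed points on `Q / Z O`. -/
theorem quot_fpf {k : stabilizer G a} (hk : (k : G) ∈ invertedBy (D a t) t) (hk1 : k ≠ 1)
    (x : Qbar hS h2 hsp) (hx : aM hS h2 hsp k x = x) : x = 1 := by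
  classical
  haveI := Fintype.ofFinite (stabilizer G a)
  obtain ⟨C, hC, -, -⟩ := Cfsg.Agent.S1131.result hS h2
  set l := (orderOf k).minFac with hl
  have hlp : l.Prime := Nat.minFac_prime (fun h => hk1 (orderOf_eq_one_iff.mp h))
  set k' : stabilizer G a := k ^ (orderOf k / l) with hk'
  have hk'ord : orderOf k' = l := orderOf_pow_orderOf_div (orderOf_pos k).ne' (Nat.minFac_dvd _)
  have hk'C : (k' : G) ∈ invertedBy (D a t) t := by
    have h : (k : G) ∈ C := by rw [← SetLike.mem_coe, hC]; exact hk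
    have h' : (k' : G) ∈ C := by rw [hk', SubmonoidClass.coe_pow]; exact pow_mem h _
    rw [← hC]; exact h'
  have hk'1 : (k' : G) ≠ 1 := fun e => hlp.ne_one (by rw [← hk'ord, Subtype.ext e (a2 := (1 : stabilizer G a)), orderOf_one])
  have hpow : ∀ (n : ℕ), aM hS h2 hsp (k ^ n) x = x := by
    intro n
    induction n with
    | zero => rw [pow_zero, aM_one]
    | succ n ih => rw [pow_succ, aM_mul, hx, ih]
  have hx' := hpow (orderOf k / l)
  rw [← hk'] at hx'
  obtain ⟨y, rfl⟩ := QuotientGroup.mk_surjective x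
  let β : qA Q a ≃* qA Q a := MulAut.conjNormal (H := qA Q a) k'
  have hβpow : ∀ n : ℕ, ∀ z, ((MulAut.conjNormal (H := qA Q a) k') ^ n) z =
      MulAut.conjNormal (H := qA Q a) (k' ^ n) z := fun n z => by rw [← map_pow]
  have hfixQ : ∀ z : qA Q a, β z = z → z = 1 := fun z hz => by
    refine Subtype.ext (Subtype.ext (inverted_fpf hS h2 hk'C hk'1 z.2 ?_))
    have := congrArg (fun w : qA Q a => ((w : stabilizer G a) : G)) hz
    simp only [β, MulAut.conjNormal_apply, Subgroup.coe_mul, Subgroup.coe_inv] at this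
    exact mul_inv_eq_iff_eq_mul.mp this
  let X := {z : qA Q a // (QuotientGroup.mk z : Qbar hS h2 hsp) = QuotientGroup.mk y}
  have hmap : ∀ z : qA Q a, (QuotientGroup.mk z : Qbar hS h2 hsp) = QuotientGroup.mk y →
      (QuotientGroup.mk (β z) : Qbar hS h2 hsp) = QuotientGroup.mk y := fun z hz => by
    rw [← aM_mk hS h2 hsp k' z, hz, hx']
  let f : Equiv.Perm X := Equiv.ofBijective (fun z => ⟨β z, hmap z z.2⟩)
    (Finite.injective_iff_bijective.mp fun p q e => Subtype.ext (β.injective (congrArg Subtype.val e)))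
  have hf : f ^ l = 1 := by
    have hfp : ∀ (n : ℕ) (z : X), ((f ^ n) z).1 = (MulAut.conjNormal (H := qA Q a) k' ^ n) z.1 := by
      intro n
      induction n with
      | zero => intro z; simp
      | succ n ih =>
        intro z
        rw [pow_succ', pow_succ', Equiv.Perm.mul_apply, MulAut.mul_apply]
        show β ((f ^ n) z).1 = _
        rw [ih]
    refine Equiv.ext fun z => Subtype.ext ?_
    rw [hfp, hβpow, ← hk'ord, pow_orderOf_eq_one, map_one]
    rfl
  have hcard : Nat.card X = Nat.card (ZOq hS h2 hsp) := by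
    refine Nat.card_congr
      { toFun := fun z => ⟨y⁻¹ * z.1, QuotientGroup.eq.mp z.2.symm⟩
        invFun := fun c => ⟨y * c, QuotientGroup.mk_mul_of_mem y c.2⟩
        left_inv := fun z => Subtype.ext (mul_inv_cancel_left y z.1)
        right_inv := fun c => Subtype.ext (inv_mul_cancel_left y c.1) }
  have hnd : ¬ l ∣ Nat.card X := by
    intro hd
    refine not_dvd_of_fpf (MulAut.conjNormal (H := qA Q a) k') hlp (MulEquiv.ext fun z => ?_) hfixQ ?_
    · rw [hβpow, ← hk'ord, pow_orderOf_eq_one, map_one]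
    · exact hd.trans (hcard ▸ Subgroup.card_subgroup_dvd_card _)
  obtain ⟨⟨z, hz⟩, hzfix⟩ := exists_fixed_of_coprime f hlp hf hnd
  rw [← hz, hfixQ z (congrArg Subtype.val hzfix), QuotientGroup.mk_one]

/-- `q - 1` divides `|Q : Z O| - 1`. -/
theorem dvd_quot : qZ G a - 1 ∣ Nat.card (Qbar hS h2 hsp) - 1 := by
  obtain ⟨C, hC, -, -⟩ := Cfsg.Agent.S1131.result hS h2
  have hCi : ∀ k ∈ C, k ∈ invertedBy (D a t) t := fun k hk => by rw [← hC]; exact hk
  let f : C →* MulAut (Qbar hS h2 hsp) := (aMHom hS h2 hsp).comp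
    { toFun := fun k => ⟨k, D_le hS (hCi k k.2).1⟩
      map_one' := rfl
      map_mul' := fun _ _ => rfl }
  have h := dvd_card_sub_one f (fun k hk x hx => quot_fpf hS h2 hsp (k := ⟨k, D_le hS (hCi k k.2).1⟩)
    (hCi k k.2) (fun e => hk (Subtype.ext (congrArg (fun g : stabilizer G a => (g : G)) e))) x hx)
  rwa [show Nat.card C = qZ G a - 1 by
    rw [qZ, Nat.add_sub_cancel]
    exact (Nat.card_congr (Equiv.setCongr hC)).trans (card_inverted hS)] at h

omit [(ZO hS h2 hsp).Normal] [(qA Q a).Normal] in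
/-- `q - 1` divides `|O| - 1`. -/
theorem dvd_O : qZ G a - 1 ∣ Nat.card O - 1 := by
  obtain ⟨C, hC, -, -⟩ := Cfsg.Agent.S1131.result hS h2
  have hCi : ∀ k ∈ C, k ∈ invertedBy (D a t) t := fun k hk => by rw [← hC]; exact hk
  let f : C →* MulAut O :=
    { toFun := fun k => aO hS hsp ⟨k, D_le hS (hCi k k.2).1⟩
      map_one' := MulEquiv.ext fun o => Subtype.ext (by simp [aO])
      map_mul' := fun k l => MulEquiv.ext fun o => Subtype.ext (by simp [aO]; group) }
  have h := dvd_card_sub_one f (fun k hk o ho => Subtype.ext (inverted_fpf hS h2 (hCi k k.2)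
    (fun e => hk (Subtype.ext e)) (hsp.O_le o.2) (mul_inv_eq_iff_eq_mul.mp (congrArg Subtype.val ho))))
  rwa [show Nat.card C = qZ G a - 1 by
    rw [qZ, Nat.add_sub_cancel]
    exact (Nat.card_congr (Equiv.setCongr hC)).trans (card_inverted hS)] at h

/-- Two conjugates of a subgroup of order `p` have trivial common fixed points on `Q / Z O`. -/
theorem card_fixed_sq_le {x : stabilizer G a} (hx : x ∈ dA a t)
    (hone : Nat.card {z : G // z ∈ involutionsIn (stabilizer G a : Set G) ∧ z * x = x * z} = 1) :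
    Nat.card {m : Qbar hS h2 hsp // aM hS h2 hsp x m = m} ^ 2 ≤ Nat.card (Qbar hS h2 hsp) := by
  classical
  obtain ⟨C, hC, -, hnorm⟩ := Cfsg.Agent.S1131.result hS h2
  have hCi : ∀ k ∈ C, k ∈ invertedBy (D a t) t := fun k hk => by rw [← hC]; exact hk
  obtain ⟨z1, hz1, z2, hz2, hne⟩ := two_le_card_invol hS h2
  obtain ⟨k, hk, hk'⟩ := exists_conj_inverted hS hz1 hz2
  have hk1 : k ≠ 1 := fun e => hne (by rw [← hk', e]; simp)
  let kA : stabilizer G a := ⟨k, D_le hS hk.1⟩
  let c : stabilizer G a := kA * x * kA⁻¹ * x⁻¹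
  have hcC : (c : G) ∈ C := by
    have hkC : k ∈ C := by rw [← SetLike.mem_coe, hC]; exact hk
    show k * (x : G) * k⁻¹ * (x : G)⁻¹ ∈ C
    rw [show k * (x : G) * k⁻¹ * (x : G)⁻¹ = k * ((x : G) * k⁻¹ * (x : G)⁻¹) by group]
    exact mul_mem hkC (hnorm _ hx _ (inv_mem hkC))
  have hc1 : c ≠ 1 := by
    intro e
    have e' : k * (x : G) = x * k := by
      have h := congrArg Subtype.val e
      change k * (x : G) * k⁻¹ * (x : G)⁻¹ = 1 at h
      rw [mul_inv_eq_one, mul_inv_eq_iff_eq_mul] at h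
      exact h
    obtain ⟨hsub, ⟨⟨z, hzI, hzx⟩⟩⟩ := Nat.card_eq_one_iff_unique.mp hone
    have hkz : k⁻¹ * z * k ∈ involutionsIn (stabilizer G a : Set G) := ⟨mul_mem (mul_mem (inv_mem (D_le hS hk.1)) hzI.1) (D_le hS hk.1),
      fun e => hzI.2.1 (conj_eq_one_iff (a := k⁻¹) (b := z) |>.mp (by rwa [inv_inv])), by
        calc k⁻¹ * z * k * (k⁻¹ * z * k) = k⁻¹ * (z * z) * k := by group
          _ = 1 := by rw [hzI.2.2, mul_one, inv_mul_cancel]⟩
    have hkzx : k⁻¹ * z * k * x = x * (k⁻¹ * z * k) := by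
      calc k⁻¹ * z * k * x = k⁻¹ * (z * x) * k := by rw [mul_assoc, e']; group
        _ = k⁻¹ * (x * z) * k := by rw [hzx]
        _ = (k⁻¹ * x) * z * k := by group
        _ = x * (k⁻¹ * z * k) := by
          rw [show k⁻¹ * (x : G) = x * k⁻¹ by
            rw [inv_mul_eq_iff_eq_mul, ← mul_assoc, e', mul_inv_cancel_right]]
          group
    have hfix : k⁻¹ * z * k = z := congrArg Subtype.val (hsub.elim ⟨_, hkz, hkzx⟩ ⟨z, hzI, hzx⟩)
    refine hk1 (inverted_fpf hS h2 hk ?_ ?_ ?_ |> fun h => absurd h hzI.2.1) 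
    · intro e; exact hk1 e
    · exact invol_mem_Q hS hzI.1 hzI.2.2
    · calc k * z = k * (k⁻¹ * z * k) := by rw [hfix]
        _ = z * k := by group
  let F : Subgroup (Qbar hS h2 hsp) := MonoidHom.eqLocus (aM hS h2 hsp x).toMonoidHom (MonoidHom.id _)
  have hFc : Nat.card {m : Qbar hS h2 hsp // aM hS h2 hsp x m = m} = Nat.card F := rfl
  let g : F × F → Qbar hS h2 hsp := fun p => (p.1 : Qbar hS h2 hsp) * aM hS h2 hsp kA p.2
  have hg : Function.Injective g := by
    rintro ⟨p, q⟩ ⟨p', q'⟩ e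
    have hm : ((p' : Qbar hS h2 hsp))⁻¹ * p = aM hS h2 hsp kA ((q' : Qbar hS h2 hsp) * (q : Qbar hS h2 hsp)⁻¹) := by
      rw [map_mul, map_inv, inv_mul_eq_iff_eq_mul, ← mul_assoc, eq_mul_inv_iff_mul_eq]
      exact e
    have hpf : aM hS h2 hsp x (((p' : Qbar hS h2 hsp))⁻¹ * p) = (p' : Qbar hS h2 hsp)⁻¹ * p :=
      (F.mul_mem (F.inv_mem p'.2) p.2 : _)
    have hqf : aM hS h2 hsp x ((q' : Qbar hS h2 hsp) * (q : Qbar hS h2 hsp)⁻¹) =
        (q' : Qbar hS h2 hsp) * (q : Qbar hS h2 hsp)⁻¹ := (F.mul_mem q'.2 (F.inv_mem q.2) : _)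
    have hinvx : ∀ m, aM hS h2 hsp x m = m → aM hS h2 hsp x⁻¹ m = m := fun m hm => by
      conv_lhs => rw [← hm, ← aM_mul, inv_mul_cancel, aM_one]
    have hcfix : aM hS h2 hsp c (((p' : Qbar hS h2 hsp))⁻¹ * p) = (p' : Qbar hS h2 hsp)⁻¹ * p := by
      rw [show c = kA * x * kA⁻¹ * x⁻¹ from rfl, aM_mul, hinvx _ hpf, hm, ← aM_mul, inv_mul_cancel_right, aM_mul, hqf]
    have h1 := quot_fpf hS h2 hsp (hCi _ hcC) hc1 _ hcfix
    have h1' : p = p' := Subtype.ext (inv_mul_eq_one.mp h1).symm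
    subst h1'
    have h3 : q = q' := Subtype.ext ((aM hS h2 hsp kA).injective (mul_left_cancel e))
    rw [h3]
  rw [hFc, sq, ← Nat.card_prod]
  exact Nat.card_le_card_of_injective g hg

end Quot

end CfsgLib.SuzukiRankOne
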