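import Cfsg.Agent.Lib.SuzukiRankOne.AbelianLevels
import Cfsg.Agent.Lib.SuzukiRankOne.KernelQuot

/-!
Characters of the levels with a trivial stabiliser.

Blueprint: `blueprint/bender/B2.md`, section 3.
-/

set_option autoImplicit false
set_option linter.unusedSectionVars false
set_option linter.style.haveILetI false

namespace CfsgLib.SuzukiRankOne

open MulAction Cfsg CfsgLib.RankOne CfsgLib.CharTheory
open CfsgLib.AfterFT.SplitRankOne (invGroup)
open scoped ComplexConjugate

universe u v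

variable {G : Type u} {Ω : Type v} [Group G] [Finite G] [MulAction G Ω] [FaithfulSMul G Ω] {a : Ω} {t : G}
  {Q : Subgroup G}

/-- A level inside the point stabiliser. -/
abbrev lA (hab : ∀ x ∈ Q, ∀ y ∈ Q, x * y = y * x) (a : Ω) (i : ℕ) : Subgroup (stabilizer G a) :=
  (lev hab i).subgroupOf (stabilizer G a)

/-- Non-trivial with a trivial stabiliser. -/
def Good (hab : ∀ x ∈ Q, ∀ y ∈ Q, x * y = y * x) (t : G) {i : ℕ} [(lA hab a i).Normal]
    (θ : IrrCharacter (lA hab a i)) : Prop :=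
  (θ : lA hab a i → ℂ) ≠ (fun _ => 1) ∧
    ∀ d ∈ dA a t, conjNormFun (lA hab a i) d (θ : lA hab a i → ℂ) = θ → d = 1

variable (hS : IsRankOneSetup G Ω a t Q) (h2 : Four G) (hab : ∀ x ∈ Q, ∀ y ∈ Q, x * y = y * x)
include hS h2 hab

theorem lA_normal (i : ℕ) : (lA hab a i).Normal :=
  ⟨fun _ hx g => lev_conj hS h2 hab i g.2 hx⟩

theorem lA_ab (i : ℕ) (x y : lA hab a i) : x * y = y * x :=
  Subtype.ext (Subtype.ext (hab _ x.2.1 _ y.2.1))

theorem card_lA (i : ℕ) : Nat.card (lA hab a i) = Nat.card (lev hab i) :=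
  Nat.card_congr (Subgroup.subgroupOfEquivOfLe (lev_le_stab hS h2 hab i)).toEquiv

/-- A real character of a level comes from an involution. -/
theorem card_real_le (i : ℕ) :
    Nat.card {θ : IrrCharacter (lA hab a i) //
      ∀ x, conj ((θ : lA hab a i → ℂ) x) = (θ : lA hab a i → ℂ) x} ≤ qZ G a := by
  let σ : lA hab a i ≃* lA hab a i :=
    { Equiv.inv _ with map_mul' := fun x y => by simp [lA_ab hS h2 hab i x⁻¹ y⁻¹] }
  have h := card_fixed_irr_abelian (lA_ab hS h2 hab i) σ
  haveI := Fintype.ofFinite (lA hab a i)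
  rw [show Nat.card {θ : IrrCharacter (lA hab a i) //
      ∀ x, conj ((θ : lA hab a i → ℂ) x) = (θ : lA hab a i → ℂ) x} =
      Nat.card {χ : IrrCharacter (lA hab a i) // (fun x => (χ : lA hab a i → ℂ) (σ x)) = χ} from
    Nat.card_congr (Equiv.subtypeEquivRight fun χ => by
      refine ⟨fun e => funext fun x => ?_, fun e x => ?_⟩
      · show (χ : lA hab a i → ℂ) x⁻¹ = _
        rw [char_apply_inv (isCharacter_of_irr χ.2), e]
      · rw [← char_apply_inv (isCharacter_of_irr χ.2)]
        exact congrFun e x), h, ← card_invGroup hS h2]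
  refine Nat.card_le_card_of_injective (fun x => ⟨((x.1 : stabilizer G a) : G), (x.1 : stabilizer G a).2, ?_⟩)
    fun x y e => Subtype.ext (Subtype.ext (Subtype.ext (congrArg Subtype.val e :)))
  have hx : (x.1)⁻¹ = x.1 := x.2
  have := congrArg (fun z : lA hab a i => ((z : stabilizer G a) : G)) (inv_eq_iff_mul_eq_one.mp hx)
  simpa using this

/-- A character fixed by an element of `D` is counted by the fixed elements. -/
theorem card_fixed_lA {i : ℕ} [(lA hab a i).Normal] (d : stabilizer G a) :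
    Nat.card {θ : IrrCharacter (lA hab a i) // conjNormFun (lA hab a i) d (θ : lA hab a i → ℂ) = θ} =
      Nat.card ↥(lev hab i ⊓ Subgroup.centralizer ({(d : G)} : Set G)) := by
  have h := card_fixed_irr_abelian (lA_ab hS h2 hab i) (MulAut.conjNormal (H := lA hab a i) d)
  rw [show Nat.card {θ : IrrCharacter (lA hab a i) // conjNormFun (lA hab a i) d (θ : lA hab a i → ℂ) = θ} =
      Nat.card {χ : IrrCharacter (lA hab a i) //
        (fun x => (χ : lA hab a i → ℂ) (MulAut.conjNormal (H := lA hab a i) d x)) = χ} from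
    Nat.card_congr (Equiv.subtypeEquivRight fun χ => by rw [conjNormFun_eq]), h]
  refine Nat.card_congr
    { toFun := fun x => ⟨((x.1 : stabilizer G a) : G), x.1.2, Subgroup.mem_centralizer_singleton_iff.mpr ?_⟩
      invFun := fun z => ⟨⟨⟨(z : G), lev_le_stab hS h2 hab i z.2.1⟩, z.2.1⟩, Subtype.ext (Subtype.ext ?_)⟩
      left_inv := fun _ => rfl
      right_inv := fun _ => rfl }
  · have e : (d : G) * ((x.1 : stabilizer G a) : G) * (d : G)⁻¹ = ((x.1 : stabilizer G a) : G) := by
      have := congrArg (fun z : lA hab a i => ((z : stabilizer G a) : G)) x.2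
      simpa [MulAut.conjNormal_apply] using this
    exact (mul_inv_eq_iff_eq_mul.mp e).symm
  · simp only [MulAut.conjNormal_apply, Subgroup.coe_mul, Subgroup.coe_inv]
    rw [← Subgroup.mem_centralizer_singleton_iff.mp z.2.2, mul_inv_cancel_right]

/-- There are few characters with a non-trivial stabiliser. -/
theorem card_bad_le {i : ℕ} [(lA hab a i).Normal] (hQ2 : IsPGroup 2 Q) {f : ℕ} (hf : qZ G a = 2 ^ f)
    (hcard : Nat.card (lev hab i) = qZ G a ^ i) :
    2 * (qZ G a ^ i - 1) ≤ 2 * Nat.card {θ : IrrCharacter (lA hab a i) // Good hab t θ} +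
      (qZ G a - 1) * ((Nat.card (Vt a t) - 1) * ((2 ^ (f / 3)) ^ i - 1)) := by
  classical
  haveI := Fintype.ofFinite (lA hab a i)
  let L := lA hab a i
  let one : IrrCharacter L := ⟨fun _ => 1, isIrrCharacter_one⟩
  obtain ⟨⟨s, r⟩, ⟨hs, hr, he⟩, -⟩ := structure_eq hS
  let K := {k : G // k ∈ invertedBy (D a t) t}
  let V' := {v : Vt a t // v ≠ 1}
  let vA : V' → stabilizer G a := fun v => ⟨(v.1 : G), D_le hS (Subgroup.mem_inf.mp v.1.2).1⟩
  let kk : K → stabilizer G a := fun k => ⟨k.1, D_le hS k.2.1⟩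
  let U := {θ : IrrCharacter L // θ ≠ one ∧ ∃ v : V', conjNormFun L (vA v) (θ : L → ℂ) = θ}
  let Bad := {θ : IrrCharacter L // θ ≠ one ∧ ¬ Good hab t θ}
  have hK : Nat.card K = qZ G a - 1 := by
    rw [qZ, Nat.add_sub_cancel]
    exact card_inverted hS
  -- every bad character is conjugate to one fixed by an element of `V`
  have hex : ∀ θ : Bad, ∃ (k : K) (θ' : U), conjNormFun L (kk k)⁻¹ (θ'.1 : L → ℂ) = θ.1 := by
    rintro ⟨θ, hθ1, hθ⟩
    have hne : (θ : L → ℂ) ≠ fun _ => 1 := fun e => hθ1 (Subtype.ext e)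
    simp only [Good, not_and] at hθ
    have hθ' := hθ hne
    push Not at hθ'
    obtain ⟨d, hd, hfix, hd1⟩ := hθ'
    have htwo : 1 < Nat.card ↥(lev hab i ⊓ Subgroup.centralizer ({(d : G)} : Set G)) := by
      rw [← card_fixed_lA hS h2 hab d]
      haveI : Nontrivial {χ : IrrCharacter L // conjNormFun L d (χ : L → ℂ) = χ} :=
        ⟨⟨⟨θ, hfix⟩, ⟨one, rfl⟩, fun e => hθ1 (congrArg Subtype.val e)⟩⟩
      exact Finite.one_lt_card
    haveI := Finite.one_lt_card_iff_nontrivial.mp htwo
    obtain ⟨⟨x, hx, hxd⟩, hx1⟩ := exists_ne (1 : ↥(lev hab i ⊓ Subgroup.centralizer ({(d : G)} : Set G)))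
    have hex2 : ∃ m, x ^ 2 ^ (m + 1) = 1 := ⟨i, by rw [pow_succ, pow_mul, hx.2, one_pow]⟩
    have hz : x ^ 2 ^ Nat.find hex2 ∈ involutionsIn (stabilizer G a : Set G) := by
      refine ⟨pow_mem (hS.le hx.1) _, fun e => ?_, ?_⟩
      · cases hm : Nat.find hex2 with
        | zero => rw [hm, pow_zero, pow_one] at e; exact hx1 (Subtype.ext e)
        | succ m' => rw [hm] at e; exact Nat.find_min hex2 (show m' < Nat.find hex2 by omega) e
      · rw [← sq, ← pow_mul, ← pow_succ]; exact Nat.find_spec hex2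
    obtain ⟨k, hk, hks⟩ := exists_conj_inverted hS hz hs
    have hzd : x ^ 2 ^ Nat.find hex2 * d = d * x ^ 2 ^ Nat.find hex2 :=
      ((show Commute x d from Subgroup.mem_centralizer_singleton_iff.mp hxd).pow_left _).eq
    set z := x ^ 2 ^ Nat.find hex2
    have hvD : k⁻¹ * d * k ∈ D a t := mul_mem (mul_mem (inv_mem hk.1) hd) hk.1
    have hsv : s * (k⁻¹ * d * k) = k⁻¹ * d * k * s := by
      rw [show s = k⁻¹ * z * k from hks.symm]
      calc k⁻¹ * z * k * (k⁻¹ * d * k) = k⁻¹ * (z * d) * k := by group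
        _ = k⁻¹ * (d * z) * k := by rw [hzd]
        _ = k⁻¹ * d * k * (k⁻¹ * z * k) := by group
    have hv : k⁻¹ * d * k ∈ Vt a t := Subgroup.mem_inf.mpr
      ⟨hvD, Subgroup.mem_centralizer_singleton_iff.mpr (cent_t_of_cent_s hS hs hr he hvD hsv).symm⟩
    let kA : stabilizer G a := ⟨k, D_le hS hk.1⟩
    have hv1 : (⟨_, hv⟩ : Vt a t) ≠ 1 := fun e => hd1 (Subtype.ext (by
      have e' : k⁻¹ * (d : G) * k = 1 := congrArg Subtype.val e
      calc (d : G) = k * (k⁻¹ * d * k) * k⁻¹ := by group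
        _ = 1 := by rw [e', mul_one, mul_inv_cancel]))
    refine ⟨⟨k, hk⟩, ⟨⟨conjNormFun L kA (θ : L → ℂ), isIrr_conjNormFun L _ θ.2⟩,
      fun e => hne ?_, ⟨⟨_, hv⟩, hv1⟩, ?_⟩, ?_⟩
    · have e' : conjNormFun L kA (θ : L → ℂ) = fun _ => 1 := congrArg Subtype.val e
      rw [← conjNormFun_inv L kA (θ : L → ℂ), e']
      rfl
    · show conjNormFun L (⟨k⁻¹ * d * k, D_le hS hvD⟩ : stabilizer G a) (conjNormFun L kA (θ : L → ℂ)) =
        conjNormFun L kA (θ : L → ℂ)
      rw [← conjNormFun_mul, show kA * (⟨k⁻¹ * d * k, D_le hS hvD⟩ : stabilizer G a) = d * kA from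
        Subtype.ext (by show k * (k⁻¹ * d * k) = d * k; group), conjNormFun_mul, hfix]
    · exact conjNormFun_inv L kA _
  choose kf θf hkθ using hex
  have hBad : Nat.card Bad ≤ (qZ G a - 1) * Nat.card U := by
    rw [← hK, ← Nat.card_prod]
    refine Nat.card_le_card_of_injective (fun θ => (kf θ, θf θ)) fun θ θ' e => Subtype.ext (Subtype.ext ?_)
    obtain ⟨e1, e2⟩ := Prod.ext_iff.mp e
    rw [← hkθ θ, ← hkθ θ', show kf θ = kf θ' from e1, show θf θ = θf θ' from e2]
  have hU : 2 * Nat.card U ≤ (Nat.card (Vt a t) - 1) * ((2 ^ (f / 3)) ^ i - 1) := by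
    let W := fun v : V' => {θ : IrrCharacter L // θ ≠ one ∧ conjNormFun L (vA v) (θ : L → ℂ) = θ}
    haveI : Fintype V' := Fintype.ofFinite _
    choose v hv using fun θ : U => θ.2.2
    let iv : V' → V' := fun w => ⟨w.1⁻¹, fun e => w.2 (inv_eq_one.mp e)⟩
    have hiv : ∀ θ : U, conjNormFun L (vA (iv (v θ))) (θ.1 : L → ℂ) = θ.1 := fun θ => by
      rw [show vA (iv (v θ)) = (vA (v θ))⁻¹ from rfl]
      conv_lhs => rw [← hv θ, conjNormFun_inv]
    let F : U × Bool → Σ w : V', W w := fun p => match p with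
      | (θ, true) => ⟨v θ, θ.1, θ.2.1, hv θ⟩
      | (θ, false) => ⟨iv (v θ), θ.1, θ.2.1, hiv θ⟩
    have hF : Function.Injective F := by
      have hne : ∀ w : V', w ≠ iv w := fun w e => by
        have h2w : w.1 * w.1 = 1 := by
          have e' : w.1 = w.1⁻¹ := congrArg Subtype.val e
          nth_rewrite 1 [e']
          exact inv_mul_cancel _
        exact w.2 (Subtype.ext (D_mul_self hS (Subgroup.mem_inf.mp w.1.2).1 (congrArg Subtype.val h2w)))
      rintro ⟨θ, b⟩ ⟨θ', b'⟩ e
      have hθ : θ = θ' := Subtype.ext (by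
        have := congrArg (fun p : Σ w : V', W w => p.2.1) e
        cases b <;> cases b' <;> exact this)
      subst hθ
      have hw := congrArg (fun p : Σ w : V', W w => p.1) e
      cases b <;> cases b'
      · rfl
      · exact absurd hw.symm (hne (v θ))
      · exact absurd hw (hne (v θ))
      · rfl
    have h := Nat.card_le_card_of_injective F hF
    rw [Nat.card_prod, Nat.card_eq_fintype_card (α := Bool), Fintype.card_bool, mul_comm] at h
    refine h.trans ?_
    rw [Nat.card_sigma]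
    have hW : ∀ w : V', Nat.card (W w) ≤ (2 ^ (f / 3)) ^ i - 1 := fun w => by
      let X := {θ : IrrCharacter L // conjNormFun L (vA w) (θ : L → ℂ) = θ}
      have hX : Nat.card X ≤ (2 ^ (f / 3)) ^ i := by
        rw [card_fixed_lA hS h2 hab (vA w)]
        exact (card_lev_inf_pow hS h2 hab _ i).trans (Nat.pow_le_pow_left
          ((vt_bounds hS h2 hab hQ2 hf).2 w.1 w.1.2 fun e => w.2 (Subtype.ext e)) i)
      haveI := Fintype.ofFinite X
      have : Nat.card (W w) ≤ Nat.card {θ : X // θ ≠ ⟨one, rfl⟩} :=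
        Nat.card_le_card_of_injective (fun θ => ⟨⟨θ.1, θ.2.2⟩, fun e => θ.2.1 (congrArg Subtype.val e)⟩)
          fun x y e => Subtype.ext (congrArg (fun z : {θ : X // θ ≠ ⟨one, rfl⟩} => z.1.1) e)
      refine this.trans ?_
      rw [Nat.card_eq_fintype_card, Fintype.card_subtype_compl, Fintype.card_subtype_eq, ← Nat.card_eq_fintype_card]
      omega
    refine (Finset.sum_le_sum fun w _ => hW w).trans (le_of_eq ?_)
    rw [Finset.sum_const, smul_eq_mul, Finset.card_univ]
    congr 1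
    haveI := Fintype.ofFinite (Vt a t)
    rw [← Nat.card_eq_fintype_card]
    show Nat.card {v : Vt a t // v ≠ 1} = _
    rw [Nat.card_eq_fintype_card, Fintype.card_subtype_compl, Fintype.card_subtype_eq, ← Nat.card_eq_fintype_card]
  have htot : qZ G a ^ i - 1 ≤ Nat.card {θ : IrrCharacter L // Good hab t θ} + Nat.card Bad := by
    rw [← hcard, ← card_lA hS h2 hab i, ← card_irr_abelian (lA_ab hS h2 hab i)]
    simp only [Bad, Nat.card_eq_fintype_card, Fintype.card_subtype,
      ← Finset.card_univ (α := IrrCharacter (lA hab a i))]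
    rw [← Finset.card_erase_of_mem (Finset.mem_univ one)]
    refine le_trans (Finset.card_le_card fun θ hθ => ?_) (Finset.card_union_le _ _)
    by_cases h : Good hab t θ
    · exact Finset.mem_union_left _ (Finset.mem_filter.mpr ⟨Finset.mem_univ _, h⟩)
    · exact Finset.mem_union_right _
        (Finset.mem_filter.mpr ⟨Finset.mem_univ _, Finset.ne_of_mem_erase hθ, h⟩)
  calc 2 * (qZ G a ^ i - 1) ≤ 2 * Nat.card {θ : IrrCharacter L // Good hab t θ} + 2 * Nat.card Bad := by omega
    _ ≤ 2 * Nat.card {θ : IrrCharacter L // Good hab t θ} + (qZ G a - 1) * (2 * Nat.card U) :=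
        Nat.add_le_add_left (le_of_le_of_eq (Nat.mul_le_mul_left 2 hBad) (by ring)) _
    _ ≤ _ := Nat.add_le_add_left (Nat.mul_le_mul_left _ hU) _

end CfsgLib.SuzukiRankOne
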