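import Cfsg.Agent.Lib.SuzukiRankOne.CharTI
import Cfsg.Agent.Lib.AfterFT.RankOne
import Cfsg.Agent.Lib.NilpotentCommute
import Cfsg.Agent.S1128
import Cfsg.Agent.S1129

/-!
The primary decomposition of the regular normal subgroup and the normal subgroup `Z O` of a point stabiliser.
-/

set_option autoImplicit false
set_option linter.unusedSectionVars false
set_option linter.style.haveILetI false

namespace CfsgLib.SuzukiRankOne

open MulAction Cfsg CfsgLib.RankOne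
open CfsgLib.AfterFT.SplitRankOne (invGroup mem_invGroup conj_mem_invGroup)

universe u v

variable {G : Type u} {Ω : Type v} [Group G] [Finite G] [MulAction G Ω] [FaithfulSMul G Ω] {a : Ω} {t : G}
  {Q S O : Subgroup G}

/-- `Q` is the product of a 2-group and a group of odd order. -/
structure Split (Q S O : Subgroup G) : Prop where
  S_le : S ≤ Q
  O_le : O ≤ Q
  two : IsPGroup 2 S
  odd : Odd (Nat.card O)
  comm : ∀ y ∈ S, ∀ z ∈ O, y * z = z * y
  decomp : ∀ x ∈ Q, ∃ y ∈ S, ∃ z ∈ O, x = y * z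
  mem_S : ∀ x ∈ Q, ∀ k : ℕ, x ^ (2 ^ k) = 1 → x ∈ S
  mem_O : ∀ x ∈ Q, Odd (orderOf x) → x ∈ O

theorem exists_split (Q : Subgroup G) [Group.IsNilpotent Q] : ∃ S O : Subgroup G, Split Q S O := by
  classical
  haveI := Fact.mk Nat.prime_two
  let P : Sylow 2 Q := default
  haveI hPn : (P : Subgroup Q).Normal := inferInstance
  have hcop : Nat.Coprime (Nat.card (P : Subgroup Q)) (P : Subgroup Q).index := P.card_coprime_index
  obtain ⟨T, hT⟩ := Subgroup.exists_right_complement'_of_coprime hcop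
  have hTodd : Odd (Nat.card T) := by
    rw [← hT.symm.index_eq_card]
    exact Nat.odd_iff.mpr (Nat.two_dvd_ne_zero.mp P.not_dvd_index)
  have hord2 : ∀ y : Q, y ∈ (P : Subgroup Q) → ∃ k, orderOf y = 2 ^ k := fun y hy =>
    by
      obtain ⟨k, hk⟩ := IsPGroup.iff_orderOf.mp P.isPGroup' ⟨y, hy⟩
      exact ⟨k, (Subgroup.orderOf_mk y hy).symm.trans hk⟩
  have hordodd : ∀ z : Q, z ∈ T → Odd (orderOf z) := fun z hz =>
    hTodd.of_dvd_nat (by rw [← Subgroup.orderOf_mk z hz]; exact orderOf_dvd_natCard _)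
  have hcomm : ∀ y ∈ (P : Subgroup Q), ∀ z ∈ T, y * z = z * y := fun y hy z hz => by
    obtain ⟨k, hk⟩ := hord2 y hy
    exact CfsgLib.commute_of_nilpotent y z (by
      rw [hk]; exact Nat.Coprime.pow_left _ (Nat.coprime_two_left.mpr (hordodd z hz)))
  have hdec : ∀ x : Q, ∃ y ∈ (P : Subgroup Q), ∃ z ∈ T, x = y * z := fun x => by
    obtain ⟨⟨⟨y, hy⟩, ⟨z, hz⟩⟩, e, -⟩ := hT.existsUnique x
    exact ⟨y, hy, z, hz, e.symm⟩
  refine ⟨(P : Subgroup Q).map Q.subtype, T.map Q.subtype, Subgroup.map_subtype_le _, Subgroup.map_subtype_le _,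
    P.isPGroup'.map _, ?_, ?_, ?_, ?_, ?_⟩
  · rwa [Subgroup.card_map_of_injective Q.subtype_injective]
  · rintro _ ⟨y, hy, rfl⟩ _ ⟨z, hz, rfl⟩
    exact congrArg Subtype.val (hcomm y hy z hz)
  · intro x hx
    obtain ⟨y, hy, z, hz, e⟩ := hdec ⟨x, hx⟩
    exact ⟨y, ⟨y, hy, rfl⟩, z, ⟨z, hz, rfl⟩, congrArg Subtype.val e⟩
  · intro x hx k hk
    have hP : IsPGroup 2 (Subgroup.zpowers (⟨x, hx⟩ : Q)) := by
      intro g
      obtain ⟨g, m, rfl⟩ := g
      refine ⟨k, Subtype.ext ?_⟩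
      show ((⟨x, hx⟩ : Q) ^ m) ^ (2 ^ k) = 1
      rw [← zpow_natCast, ← zpow_mul, mul_comm, zpow_mul, zpow_natCast,
        show (⟨x, hx⟩ : Q) ^ (2 ^ k) = 1 from Subtype.ext hk, one_zpow]
    obtain ⟨P', hP'⟩ := hP.exists_le_sylow
    haveI := Sylow.unique_of_normal P hPn
    rw [Subsingleton.elim P' P] at hP'
    exact ⟨⟨x, hx⟩, hP' (Subgroup.mem_zpowers _), rfl⟩
  · intro x hx hodd
    obtain ⟨y, hy, z, hz, e⟩ := hdec ⟨x, hx⟩
    obtain ⟨k, hk⟩ := hord2 y hy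
    have hc : Commute y z := hcomm y hy z hz
    have hcop : (orderOf y).Coprime (orderOf z) := by
      rw [hk]; exact Nat.Coprime.pow_left _ (Nat.coprime_two_left.mpr (hordodd z hz))
    have h := hc.orderOf_mul_eq_mul_orderOf_of_coprime hcop
    rw [← e, Subgroup.orderOf_mk, hk] at h
    have hk0 : k = 0 := by
      by_contra hk0
      rw [h] at hodd
      exact (Nat.not_odd_iff_even.mpr ((Nat.even_pow.mpr ⟨even_two, hk0⟩))) (Nat.odd_mul.mp hodd).1
    rw [hk0, pow_zero, orderOf_eq_one_iff] at hk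
    exact ⟨⟨x, hx⟩, by rw [e, hk, one_mul]; exact hz, rfl⟩

theorem Split.inter (h : Split Q S O) {x : G} (h1 : x ∈ S) (h2 : x ∈ O) : x = 1 := by
  obtain ⟨k, hk⟩ := IsPGroup.iff_orderOf.mp h.two ⟨x, h1⟩
  rw [Subgroup.orderOf_mk] at hk
  have h3 : Odd (orderOf x) := h.odd.of_dvd_nat (Subgroup.orderOf_dvd_natCard O h2)
  rw [hk] at h3
  rcases Nat.eq_zero_or_pos k with rfl | hk0
  · rwa [pow_zero, orderOf_eq_one_iff] at hk
  · exact absurd h3 (Nat.not_odd_iff_even.mpr (Nat.even_pow.mpr ⟨even_two, hk0.ne'⟩))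

theorem Split.unique (h : Split Q S O) {y y' z z' : G} (hy : y ∈ S) (hy' : y' ∈ S) (hz : z ∈ O) (hz' : z' ∈ O)
    (e : y * z = y' * z') : y = y' ∧ z = z' := by
  have h1 : y'⁻¹ * y = z' * z⁻¹ := by
    calc y'⁻¹ * y = y'⁻¹ * (y * z) * z⁻¹ := by group
      _ = z' * z⁻¹ := by rw [e]; group
  have h2 := h.inter (mul_mem (inv_mem hy') hy) (h1 ▸ mul_mem hz' (inv_mem hz))
  exact ⟨(inv_mul_eq_one.mp h2).symm, (mul_inv_eq_one.mp (h1 ▸ h2)).symm⟩

theorem Split.card (h : Split Q S O) : Nat.card Q = Nat.card S * Nat.card O := by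
  rw [← Nat.card_prod]
  refine (Nat.card_eq_of_bijective (fun p : S × O => (⟨p.1 * p.2, mul_mem (h.S_le p.1.2) (h.O_le p.2.2)⟩ : Q))
    ⟨fun p p' e => ?_, fun x => ?_⟩).symm
  · obtain ⟨e1, e2⟩ := h.unique p.1.2 p'.1.2 p.2.2 p'.2.2 (congrArg Subtype.val e)
    exact Prod.ext (Subtype.ext e1) (Subtype.ext e2)
  · obtain ⟨y, hy, z, hz, e⟩ := h.decomp x x.2
    exact ⟨(⟨y, hy⟩, ⟨z, hz⟩), Subtype.ext e.symm⟩

variable (hS : IsRankOneSetup G Ω a t Q) (h2 : Four G)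
include hS

theorem Split.conj_S (h : Split Q S O) {g x : G} (hg : g • a = a) (hx : x ∈ S) : g * x * g⁻¹ ∈ S := by
  obtain ⟨k, hk⟩ := h.two ⟨x, hx⟩
  refine h.mem_S _ (conj_Q hS hg (h.S_le hx)) k ?_
  rw [conj_pow, show x ^ 2 ^ k = 1 from congrArg Subtype.val hk, mul_one, mul_inv_cancel]

theorem Split.conj_O (h : Split Q S O) {g x : G} (hg : g • a = a) (hx : x ∈ O) : g * x * g⁻¹ ∈ O := by
  refine h.mem_O _ (conj_Q hS hg (h.O_le hx)) ?_
  rw [show g * x * g⁻¹ = MulAut.conj g x from rfl, MulEquiv.orderOf_eq]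
  exact h.odd.of_dvd_nat (Subgroup.orderOf_dvd_natCard O hx)

include h2

theorem Z_le_S (h : Split Q S O) : invGroup hS h2 ≤ S := fun x hx =>
  h.mem_S x (invol_mem_Q hS hx.1 hx.2) 1 (by rw [pow_one, pow_two]; exact hx.2)

theorem Z_central {z x : G} (hz : z ∈ invGroup hS h2) (hx : x ∈ Q) : z * x = x * z := by
  by_cases h1 : z = 1
  · rw [h1, one_mul, mul_one]
  · exact invol_central hS h2 ⟨hz.1, h1, hz.2⟩ hx

/-- The subgroup `Z O` of the point stabiliser. -/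
def ZO (h : Split Q S O) : Subgroup (stabilizer G a) where
  carrier := {x | ∃ z ∈ invGroup hS h2, ∃ o ∈ O, (x : G) = z * o}
  one_mem' := ⟨1, one_mem _, 1, one_mem _, (mul_one 1).symm⟩
  mul_mem' := by
    rintro x y ⟨z, hz, o, ho, e⟩ ⟨z', hz', o', ho', e'⟩
    refine ⟨z * z', mul_mem hz hz', o * o', mul_mem ho ho', ?_⟩
    rw [Subgroup.coe_mul, e, e']
    calc z * o * (z' * o') = z * (o * z') * o' := by group
      _ = z * (z' * o) * o' := by rw [Z_central hS h2 hz' (h.O_le ho)]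
      _ = z * z' * (o * o') := by group
  inv_mem' := by
    rintro x ⟨z, hz, o, ho, e⟩
    refine ⟨z⁻¹, inv_mem hz, o⁻¹, inv_mem ho, ?_⟩
    rw [Subgroup.coe_inv, e, mul_inv_rev, Z_central hS h2 (inv_mem hz) (h.O_le (inv_mem ho))]

theorem ZO_normal (h : Split Q S O) : (ZO hS h2 h).Normal := by
  refine ⟨fun x hx g => ?_⟩
  obtain ⟨z, hz, o, ho, e⟩ := hx
  have hg : (g : G) • a = a := g.2
  refine ⟨g * z * (g : G)⁻¹, ?_, g * o * (g : G)⁻¹, h.conj_O hS hg ho, ?_⟩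
  · exact ⟨mul_mem (mul_mem g.2 hz.1) (inv_mem g.2), by
      calc (g : G) * z * (g : G)⁻¹ * (g * z * (g : G)⁻¹) = g * (z * z) * (g : G)⁻¹ := by group
        _ = 1 := by rw [hz.2, mul_one, mul_inv_cancel]⟩
  · rw [Subgroup.coe_mul, Subgroup.coe_mul, Subgroup.coe_inv, e]; group

omit h2 in
/-- An element of prime order of `D` centralising an element of `Q` outside the identity fixes three points. -/
theorem three_of_cent {x o : G} (hx : x ∈ D a t) (ho : o ∈ Q) (ho1 : o ≠ 1) (hc : x * o = o * x) :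
    ∃ b c d : Ω, b ≠ c ∧ b ≠ d ∧ c ≠ d ∧ ∀ y ∈ ({x} : Set G), y • b = b ∧ y • c = c ∧ y • d = d := by
  obtain ⟨hxa, hxb⟩ := (mem_D hS).mp hx
  refine ⟨a, t • a, o • t • a, (ta_ne hS).symm, fun e => ?_, fun e => ho1 (eq_one_of_fix_ta hS ho e.symm), ?_⟩
  · exact ta_ne hS (smul_left_cancel o (e.symm.trans (mem_Q_a hS ho).symm))
  · rintro y rfl
    exact ⟨hxa, hxb, by rw [← mul_smul, hc, mul_smul, hxb]⟩

/-- An inverted element other than the identity centralises only the identity of `Q`. -/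
theorem inverted_fpf {k x : G} (hk : k ∈ invertedBy (D a t) t) (hk1 : k ≠ 1) (hx : x ∈ Q)
    (hc : k * x = x * k) : x = 1 := by
  have h : x ∈ Q ⊓ Subgroup.centralizer {k} :=
    Subgroup.mem_inf.mpr ⟨hx, Subgroup.mem_centralizer_singleton_iff.mpr hc.symm⟩
  rw [Cfsg.Agent.S1128.result hS h2 k hk hk1] at h
  exact Subgroup.mem_bot.mp h

end CfsgLib.SuzukiRankOne
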