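import Cfsg.Agent.Lib.SuzukiRankOne.CharCount
import Cfsg.Agent.Lib.SuzukiRankOne.Split
import Cfsg.Agent.Lib.SuzukiRankOne.FixedSetup
import Cfsg.Agent.Lib.SuzukiRankOne.FixField

/-!
Stabilisers in the two-point stabiliser of characters of the odd part of `Q`.

Blueprint: `blueprint/bender/B2.md`, section 2.
-/

set_option autoImplicit false
set_option linter.unusedSectionVars false
set_option linter.style.haveILetI false

namespace CfsgLib.SuzukiRankOne

open MulAction Cfsg CfsgLib.RankOne CfsgLib.CharTheory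
open CfsgLib.AfterFT.SplitRankOne (invGroup mem_invGroup)

universe u v

theorem card_ringAut_le {F : Type u} [Field F] [Finite F] [CharP F 2] {p : ℕ} (hF : Nat.card F = 2 ^ p) :
    Nat.card (F ≃+* F) ≤ p := by
  classical
  haveI := Fact.mk Nat.prime_two
  letI : Algebra (ZMod 2) F := ZMod.algebra F 2
  haveI : Finite (F ≃ₐ[ZMod 2] F) := DFunLike.finite _
  have h1 : Nat.card (F ≃+* F) ≤ Nat.card (F ≃ₐ[ZMod 2] F) :=
    Nat.card_le_card_of_injective (fun σ => AlgEquiv.ofRingEquiv (f := σ) fun c => by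
      exact RingHom.congr_fun (Subsingleton.elim ((σ.toRingHom).comp (algebraMap (ZMod 2) F)) (algebraMap (ZMod 2) F)) c)
      fun σ σ' e => RingEquiv.ext fun x => AlgEquiv.congr_fun e x
  refine h1.trans ?_
  refine (le_of_eq_of_le Nat.card_eq_fintype_card AlgEquiv.card_le).trans (le_of_eq (?_ : Module.finrank (ZMod 2) F = p))
  have h2 := Module.natCard_eq_pow_finrank (K := ZMod 2) (V := F)
  rw [hF, Nat.card_zmod] at h2
  exact (Nat.pow_right_injective le_rfl h2).symm

variable {G : Type u} {Ω : Type v} [Group G] [Finite G] [MulAction G Ω] [FaithfulSMul G Ω] {a : Ω} {t : G}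
  {Q S O : Subgroup G} (hS : IsRankOneSetup G Ω a t Q) (h2 : Four G) (hsp : Split Q S O)
include hS h2 hsp

/-- An element of prime order fixing a non-trivial character of `O` centralises a non-identity element of `O`. -/
theorem exists_cent_of_fix [Fintype O] {x : G} (hx : x • a = a) {l : ℕ} (hl : l.Prime) (hxl : x ^ l = 1)
    {ν : O → ℂ} (hν : IsIrrCharacter O ν) (h1 : ν ≠ fun _ => 1)
    (hfix : ∀ o : O, ν ⟨x * o * x⁻¹, hsp.conj_O hS hx o.2⟩ = ν o) :
    ∃ o ∈ O, o ≠ 1 ∧ x * o = o * x := by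
  by_contra hcon
  push Not at hcon
  have hxi : x⁻¹ • a = a := inv_smul_eq_iff.mpr hx.symm
  let α : MulAut O :=
    { toFun := fun o => ⟨x * o * x⁻¹, hsp.conj_O hS hx o.2⟩
      invFun := fun o => ⟨x⁻¹ * o * x, by simpa using hsp.conj_O hS hxi o.2⟩
      left_inv := fun o => Subtype.ext (by group)
      right_inv := fun o => Subtype.ext (by group)
      map_mul' := fun o o' => Subtype.ext (by simp only [Subgroup.coe_mul]; group) }
  have hα : ∀ (n : ℕ) (o : O), ((α ^ n) o : G) = x ^ n * o * (x ^ n)⁻¹ := by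
    intro n
    induction n with
    | zero => intro o; simp
    | succ n ih =>
      intro o
      rw [pow_succ', MulAut.mul_apply]
      show x * ((α ^ n) o : G) * x⁻¹ = _
      rw [ih, pow_succ']; group
  refine h1 (eq_one_of_fpf α hl (MulEquiv.ext fun o => Subtype.ext ?_) (fun o ho => ?_) hν hfix)
  · rw [hα, hxl]; simp
  · by_contra hne
    refine hcon o o.2 (fun e => hne (Subtype.ext e)) ?_
    have : x * o * x⁻¹ = o := congrArg Subtype.val ho
    exact mul_inv_eq_iff_eq_mul.mp this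

/-- An element of prime order of `D` centralising a non-identity element of `O`. -/
theorem prime_fix (hI : IHyp.{u, v} (Nat.card G)) {x : G} (hx : x ∈ D a t) {l : ℕ} (hl : l.Prime)
    (hxl : orderOf x = l) {o : G} (ho : o ∈ O) (ho1 : o ≠ 1) (hc : x * o = o * x) :
    qZ G a = 2 ^ l ∧
      Nat.card {z : G // z ∈ involutionsIn (stabilizer G a : Set G) ∧ z * x = x * z} = 1 := by
  classical
  obtain ⟨k, hk, hkt⟩ := conj_into_cent_t hS (X := {x}) (Set.singleton_subset_iff.mpr hx)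
    (three_of_cent hS hx (hsp.O_le ho) ho1 hc)
  have hyt := hkt x rfl
  set y := k * x * k⁻¹ with hy
  have hyD : y ∈ D a t := mul_mem (mul_mem hk hx) (inv_mem hk)
  have hyl : orderOf y = l := by
    rw [hy, show k * x * k⁻¹ = MulAut.conj k x from rfl, MulEquiv.orderOf_eq, hxl]
  have hy1 : y ≠ 1 := fun e => by rw [e, orderOf_one] at hyl; exact hl.ne_one hyl.symm
  have hka : k • a = a := ((mem_D hS).mp hk).1
  set o' := k * o * k⁻¹ with ho'
  have ho'O : o' ∈ O := hsp.conj_O hS hka ho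
  have ho'1 : o' ≠ 1 := fun e => ho1 (conj_eq_one_iff.mp e)
  have hc' : y * o' = o' * y := by
    calc y * o' = k * (x * o) * k⁻¹ := by rw [hy, ho']; group
      _ = o' * y := by rw [hc, hy, ho']; group
  obtain ⟨⟨s, r⟩, ⟨hs, hr, he⟩, -⟩ := structure_eq hS
  have hsy : s * y = y * s := cent_s_of_cent_t hS hs hr he hyD hyt.symm
  have honly : ∀ z, z ∈ involutionsIn (stabilizer G a : Set G) ∧ z * y = y * z → z = s := by
    rintro z ⟨hz, hzy⟩
    by_contra hne
    have hfour : Four (Bar Ω y) := four_bar hS hyD hyt.symm hs hz (fun e => hne e.symm) hsy hzy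
      (invol_central hS h2 hs (invol_mem_Q hS (mem_stabilizer_iff.mp hz.1) hz.2.2))
    obtain ⟨h2Q, -, -⟩ := hI (Bar Ω y) (Fix Ω y) _ _ _ (fixed_setup hS hyD hyt.symm) hfour
      (card_bar_lt hS hyD hyt.symm hy1)
    let oc : cen y := ⟨o', Subgroup.mem_centralizer_singleton_iff.mpr hc'.symm⟩
    obtain ⟨n, hn⟩ := h2Q ⟨toBar Ω y oc, ⟨oc, hsp.O_le ho'O, rfl⟩⟩
    have h1 : toBar Ω y (oc ^ (2 ^ n)) = 1 := by rw [map_pow]; exact congrArg Subtype.val hn
    have h2' : oc ^ (2 ^ n) = 1 := toBar_inj_Q hS hyD hyt.symm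
      (by rw [SubmonoidClass.coe_pow]; exact pow_mem (hsp.O_le ho'O) _) h1
    have h3 : o' ^ (2 ^ n) = 1 := by simpa [oc] using congrArg (fun g : cen y => (g : G)) h2'
    exact ho'1 (hsp.inter (hsp.mem_S o' (hsp.O_le ho'O) n h3) ho'O)
  have hcard : Nat.card {z : G // z ∈ involutionsIn (stabilizer G a : Set G) ∧ z * y = y * z} = 1 :=
    Nat.card_eq_one_iff_unique.mpr
      ⟨⟨fun z w => Subtype.ext ((honly z z.2).trans (honly w w.2).symm)⟩, ⟨⟨s, hs, hsy⟩⟩⟩
  refine ⟨?_, ?_⟩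
  · rw [qZ_eq_pow hS h2 hyD hyt.symm hl hyl ?_, hcard]
    by_contra hall
    push Not at hall
    obtain ⟨z1, hz1, z2, hz2, hne⟩ := two_le_card_invol hS h2
    exact hne ((honly z1 ⟨hz1, (hall z1 hz1).symm⟩).trans (honly z2 ⟨hz2, (hall z2 hz2).symm⟩).symm)
  · rw [← hcard]
    have hkia : k⁻¹ • a = a := inv_smul_eq_iff.mpr hka.symm
    have hmem : ∀ {g z : G}, g • a = a → z ∈ involutionsIn (stabilizer G a : Set G) →
        g * z * g⁻¹ ∈ involutionsIn (stabilizer G a : Set G) := fun {g z} hg hz =>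
      ⟨mul_mem (mul_mem (mem_stabilizer_iff.mpr hg) hz.1) (inv_mem (mem_stabilizer_iff.mpr hg)),
        fun e => hz.2.1 (conj_eq_one_iff.mp e), by
          calc g * z * g⁻¹ * (g * z * g⁻¹) = g * (z * z) * g⁻¹ := by group
            _ = 1 := by rw [hz.2.2, mul_one, mul_inv_cancel]⟩
    refine Nat.card_congr
      { toFun := fun z => ⟨k * z * k⁻¹, hmem hka z.2.1, ?_⟩
        invFun := fun z => ⟨k⁻¹ * z * k, by simpa using hmem hkia z.2.1, ?_⟩
        left_inv := fun z => Subtype.ext (by group)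
        right_inv := fun z => Subtype.ext (by group) }
    · calc k * z * k⁻¹ * y = k * ((z : G) * x) * k⁻¹ := by rw [hy]; group
        _ = y * (k * z * k⁻¹) := by rw [z.2.2, hy]; group
    · have hxy : x = k⁻¹ * y * k := by rw [hy]; group
      calc k⁻¹ * z * k * x = k⁻¹ * z * k * (k⁻¹ * y * k) := by rw [← hxy]
        _ = k⁻¹ * ((z : G) * y) * k := by group
        _ = k⁻¹ * (y * z) * k := by rw [z.2.2]
        _ = (k⁻¹ * y * k) * (k⁻¹ * z * k) := by group
        _ = x * (k⁻¹ * z * k) := by rw [← hxy]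

/-- A subgroup of `D` whose elements of prime order centralise non-identity elements of `O`. -/
theorem stab_cases (hI : IHyp.{u, v} (Nat.card G)) (M : Subgroup G) (hM : M ≤ D a t)
    (hfix : ∀ x ∈ M, (orderOf x).Prime → ∃ o ∈ O, o ≠ 1 ∧ x * o = o * x) :
    M = ⊥ ∨ ∃ p : ℕ, p.Prime ∧ Odd p ∧ Nat.card M = p ∧ qZ G a = 2 ^ p ∧
      ∀ x ∈ M, x ≠ 1 → Nat.card {z : G // z ∈ involutionsIn (stabilizer G a : Set G) ∧ z * x = x * z} = 1 := by
  classical
  by_cases hbot : M = ⊥
  · exact Or.inl hbot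
  right
  haveI : Finite (M : Type u) := inferInstance
  have hcard1 : Nat.card M ≠ 1 := fun h => hbot (Subgroup.card_eq_one.mp h)
  set p := (Nat.card M).minFac with hp
  have hpp : p.Prime := Nat.minFac_prime hcard1
  haveI := Fact.mk hpp
  have hev : ∀ x ∈ M, ∀ l : ℕ, l.Prime → orderOf x = l → qZ G a = 2 ^ l ∧
      Nat.card {z : G // z ∈ involutionsIn (stabilizer G a : Set G) ∧ z * x = x * z} = 1 := by
    intro x hx l hl hxl
    obtain ⟨o, ho, ho1, hc⟩ := hfix x hx (hxl ▸ hl)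
    exact prime_fix hS h2 hsp hI (hM hx) hl hxl ho ho1 hc
  obtain ⟨⟨x₀, hx₀⟩, hx₀p⟩ := exists_prime_orderOf_dvd_card' p (Nat.minFac_dvd (Nat.card M))
  rw [Subgroup.orderOf_mk] at hx₀p
  have hq : qZ G a = 2 ^ p := (hev x₀ hx₀ p hpp hx₀p).1
  have hpd : p ∣ Nat.card M := Nat.minFac_dvd _
  have hDodd : Odd (Nat.card M) := hS.odd_card.of_dvd_nat (Subgroup.card_dvd_of_le hM)
  have hpodd : Odd p := hDodd.of_dvd_nat hpd
  have hpg : IsPGroup p M := by
    refine IsPGroup.iff_card.mpr ⟨(Nat.card M).factorization p, ?_⟩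
    conv_lhs => rw [← Nat.prod_factorization_pow_eq_self (Nat.card_pos (α := M)).ne']
    rw [Finsupp.prod, Finset.prod_eq_single p]
    · intro l hl hne
      have hlp := Nat.prime_of_mem_primeFactors hl
      haveI := Fact.mk hlp
      obtain ⟨⟨x, hx⟩, hxl⟩ := exists_prime_orderOf_dvd_card' l (Nat.dvd_of_mem_primeFactors hl)
      rw [Subgroup.orderOf_mk] at hxl
      have := (hev x hx l hlp hxl).1
      rw [hq] at this
      exact absurd (Nat.pow_right_injective le_rfl this).symm hne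
    · intro h
      rw [Finsupp.notMem_support_iff.mp h, pow_zero]
  let I := {z : G // z ∈ involutionsIn (stabilizer G a : Set G)}
  have hIcard : Nat.card I = 2 ^ p - 1 := by
    rw [← hq, qZ, Nat.add_sub_cancel]
  have hconjI : ∀ {g z : G}, g • a = a → z ∈ involutionsIn (stabilizer G a : Set G) →
      g * z * g⁻¹ ∈ involutionsIn (stabilizer G a : Set G) := fun {g z} hg hz =>
    ⟨mul_mem (mul_mem (mem_stabilizer_iff.mpr hg) hz.1) (inv_mem (mem_stabilizer_iff.mpr hg)),
      fun e => hz.2.1 (conj_eq_one_iff.mp e), by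
        calc g * z * g⁻¹ * (g * z * g⁻¹) = g * (z * z) * g⁻¹ := by group
          _ = 1 := by rw [hz.2.2, mul_one, mul_inv_cancel]⟩
  letI : MulAction M I :=
    { smul := fun m z => ⟨m * z * (m : G)⁻¹, hconjI ((mem_D hS).mp (hM m.2)).1 z.2⟩
      one_smul := fun z => Subtype.ext (by
        show ((1 : M) : G) * z * ((1 : M) : G)⁻¹ = z
        simp)
      mul_smul := fun m n z => Subtype.ext (by
        show ((m * n : M) : G) * z * ((m * n : M) : G)⁻¹ = m * (n * z * (n : G)⁻¹) * (m : G)⁻¹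
        rw [Subgroup.coe_mul]; group) }
  have hnd : ¬ p ∣ Nat.card I := by
    rw [hIcard]
    intro hd
    have h : (2 ^ p : ℕ) ≡ 2 [MOD p] := by
      rw [← ZMod.natCast_eq_natCast_iff]
      push_cast
      exact ZMod.pow_card _
    have h' : (2 ^ p : ℕ) ≡ 1 [MOD p] := ((Nat.modEq_iff_dvd' (Nat.one_le_two_pow)).mpr hd).symm
    have := (h.symm.trans h').symm
    rw [Nat.ModEq, Nat.one_mod_eq_one.mpr hpp.ne_one] at this
    have hp3 : 3 ≤ p := by
      rcases hpodd with ⟨m, hm⟩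
      have := hpp.two_le
      omega
    rw [Nat.mod_eq_of_lt (by omega)] at this
    omega
  obtain ⟨⟨z₀, hz₀⟩, hfixed⟩ := hpg.nonempty_fixed_point_of_prime_not_dvd_card I hnd
  obtain ⟨⟨s, r⟩, ⟨hs, hr, he⟩, -⟩ := structure_eq hS
  obtain ⟨k, hk, hks⟩ := exists_conj_inverted hS hz₀ hs
  obtain ⟨C, F, instF, finF, ι, κ, σ, -, hcardF, hchar, -, -, -, -, -, -, hker⟩ := exists_galois hS h2 hs hr he
  have hkM : ∀ m : M, k⁻¹ * m * k ∈ Vt a t := fun m => by
    have h1 : k⁻¹ * m * k ∈ D a t := mul_mem (mul_mem (inv_mem hk.1) (hM m.2)) hk.1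
    refine Subgroup.mem_inf.mpr ⟨h1, Subgroup.mem_centralizer_singleton_iff.mpr ?_⟩
    refine (cent_t_of_cent_s hS hs hr he h1 ?_).symm
    have h2' : (m : G) * z₀ * (m : G)⁻¹ = z₀ := congrArg Subtype.val (hfixed m)
    rw [show s = k⁻¹ * z₀ * k from hks.symm]
    calc k⁻¹ * z₀ * k * (k⁻¹ * m * k) = k⁻¹ * (z₀ * m) * k := by group
      _ = k⁻¹ * (m * z₀) * k := by rw [mul_inv_eq_iff_eq_mul.mp h2']
      _ = k⁻¹ * m * k * (k⁻¹ * z₀ * k) := by group
  let f : M →* Vt a t :=
    { toFun := fun m => ⟨k⁻¹ * m * k, hkM m⟩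
      map_one' := Subtype.ext (by simp)
      map_mul' := fun m n => Subtype.ext (by simp only [Subgroup.coe_mul]; group) }
  haveI : Finite (F ≃+* F) := DFunLike.finite _
  have hinj : Function.Injective (σ.comp f) := by
    rw [← MonoidHom.ker_eq_bot_iff, Subgroup.eq_bot_iff_forall]
    intro m hm
    by_contra hm1
    haveI : Finite ↥(σ.comp f).ker := inferInstance
    have hne : Nat.card ↥(σ.comp f).ker ≠ 1 := fun h => hm1 (by
      have := Subgroup.card_eq_one.mp h
      rw [this] at hm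
      exact Subgroup.mem_bot.mp hm)
    obtain ⟨l, hl, hld⟩ := Nat.exists_prime_and_dvd hne
    haveI := Fact.mk hl
    obtain ⟨⟨w, hw⟩, hwl⟩ := exists_prime_orderOf_dvd_card' l hld
    rw [Subgroup.orderOf_mk, ← Subgroup.orderOf_coe] at hwl
    obtain ⟨-, hone⟩ := hev w w.2 l hl hwl
    have hall := (hker (f w)).mp (MonoidHom.mem_ker.mp hw)
    obtain ⟨z1, hz1, z2, hz2, hne12⟩ := two_le_card_invol hS h2
    obtain ⟨hsub, -⟩ := Nat.card_eq_one_iff_unique.mp hone
    have hcz : ∀ z ∈ involutionsIn (stabilizer G a : Set G), z * (w : G) = w * z := by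
      intro z hz
      have h := hall (k⁻¹ * z * k) (by simpa using hconjI (g := k⁻¹) (inv_smul_eq_iff.mpr ((mem_D hS).mp hk.1).1.symm) hz)
      change k⁻¹ * w * k * (k⁻¹ * z * k) = k⁻¹ * z * k * (k⁻¹ * w * k) at h
      calc z * (w : G) = k * (k⁻¹ * z * k * (k⁻¹ * w * k)) * k⁻¹ := by group
        _ = w * z := by rw [← h]; group
    exact hne12 (congrArg Subtype.val (hsub.elim ⟨z1, hz1, hcz z1 hz1⟩ ⟨z2, hz2, hcz z2 hz2⟩))
  have hle : Nat.card M ≤ p := (Nat.card_le_card_of_injective _ hinj).trans (card_ringAut_le (hcardF.trans hq))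
  have hMp : Nat.card M = p := le_antisymm hle (Nat.le_of_dvd Nat.card_pos hpd)
  refine ⟨p, hpp, hpodd, hMp, hq, fun x hx hx1 => ?_⟩
  have hxp : orderOf x = p := by
    have hd : orderOf x ∣ p := hMp ▸ Subgroup.orderOf_dvd_natCard M hx
    rcases (Nat.dvd_prime hpp).mp hd with h | h
    · exact absurd (orderOf_eq_one_iff.mp h) hx1
    · exact h
  exact (hev x hx p hpp hxp).2

end CfsgLib.SuzukiRankOne
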