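import Cfsg.Agent.Lib.SuzukiRankOne.FixField
import Cfsg.Agent.Lib.SuzukiRankOne.KernelStab

/-!
The levels of an abelian regular normal subgroup of a point stabiliser.

Blueprint: `blueprint/bender/B2.md`, section 3.
-/

set_option autoImplicit false
set_option linter.unusedSectionVars false
set_option linter.style.haveILetI false

namespace CfsgLib.SuzukiRankOne

open MulAction Cfsg CfsgLib.RankOne
open CfsgLib.AfterFT.SplitRankOne (invGroup)

universe u v

section Numeric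

theorem num_base (f : ℕ) (hf : 3 ≤ f) :
    (f - 1) * (2 ^ (f / 3)) ^ 2 < 2 * 2 ^ f ∧ 4 * (f - 1) ≤ 2 ^ f := by
  have hg : ∀ g, 1 ≤ g → 3 * g - 1 < 2 ^ (g + 1) := by
    intro g hg
    induction g, hg using Nat.le_induction with
    | base => norm_num
    | succ n hn ih =>
      have : 4 ≤ 2 ^ (n + 1) := by
        calc 4 = 2 ^ 2 := by norm_num
          _ ≤ _ := Nat.pow_le_pow_right Nat.zero_lt_two (by omega)
      rw [pow_succ]
      omega
  refine ⟨?_, ?_⟩
  · set g := f - 2 * (f / 3) with hgdef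
    have h1 : f - 1 < 2 ^ (g + 1) := lt_of_le_of_lt (by omega) (hg g (by omega))
    calc (f - 1) * (2 ^ (f / 3)) ^ 2 < 2 ^ (g + 1) * (2 ^ (f / 3)) ^ 2 :=
          Nat.mul_lt_mul_of_pos_right h1 (by positivity)
      _ = 2 * 2 ^ f := by
          rw [← pow_mul, ← pow_add, ← pow_succ']
          congr 1
          omega
  · induction f, hf using Nat.le_induction with
    | base => norm_num
    | succ n hn ih =>
      have h8 : 4 ≤ 2 ^ n := by
        calc 4 = 2 ^ 2 := by norm_num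
          _ ≤ _ := Nat.pow_le_pow_right Nat.zero_lt_two (by omega)
      rw [pow_succ]
      omega

theorem cube_le (f : ℕ) : (2 ^ (f / 3)) ^ 3 ≤ 2 ^ f := by
  rw [← pow_mul]
  exact Nat.pow_le_pow_right Nat.zero_lt_two (by omega)

/-- The bound used for the base family. -/
theorem num_small {f i W : ℕ} (hW : W ≤ f - 1) (hWf : W = 0 ∨ 3 ≤ f) (hi : 2 ≤ i) :
    W * (2 ^ (f / 3)) ^ i < 2 * (2 ^ f) ^ (i - 1) := by
  rcases hWf with rfl | hf
  · simp
  induction i, hi using Nat.le_induction with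
  | base => rw [pow_one]; exact lt_of_le_of_lt (Nat.mul_le_mul_right _ hW) (num_base f hf).1
  | succ i hi ih =>
    obtain ⟨k, rfl⟩ : ∃ k, i = k + 1 := ⟨i - 1, by omega⟩
    simp only [Nat.add_sub_cancel] at ih ⊢
    have hu : 2 ^ (f / 3) ≤ 2 ^ f := Nat.pow_le_pow_right Nat.zero_lt_two (by omega)
    calc W * (2 ^ (f / 3)) ^ (k + 1 + 1) = W * (2 ^ (f / 3)) ^ (k + 1) * 2 ^ (f / 3) := by ring
      _ < 2 * (2 ^ f) ^ k * 2 ^ (f / 3) := Nat.mul_lt_mul_of_pos_right ih (by positivity)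
      _ ≤ 2 * (2 ^ f) ^ k * 2 ^ f := Nat.mul_le_mul_left _ hu
      _ = 2 * (2 ^ f) ^ (k + 1) := by ring

/-- The bound used for the members. -/
theorem num_large {f i W : ℕ} (hW : W ≤ f - 1) (hWf : W = 0 ∨ 3 ≤ f) (hi : 3 ≤ i) :
    4 * W * (2 ^ (f / 3)) ^ i ≤ (2 ^ f) ^ (i - 1) := by
  rcases hWf with rfl | hf
  · simp
  induction i, hi using Nat.le_induction with
  | base =>
    calc 4 * W * (2 ^ (f / 3)) ^ 3 ≤ 2 ^ f * 2 ^ f :=
          Nat.mul_le_mul ((Nat.mul_le_mul_left 4 hW).trans (num_base f hf).2) (cube_le f)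
      _ = (2 ^ f) ^ (3 - 1) := (sq (2 ^ f)).symm
  | succ i hi ih =>
    obtain ⟨k, rfl⟩ : ∃ k, i = k + 1 := ⟨i - 1, by omega⟩
    simp only [Nat.add_sub_cancel] at ih ⊢
    have hu : 2 ^ (f / 3) ≤ 2 ^ f := Nat.pow_le_pow_right Nat.zero_lt_two (by omega)
    calc 4 * W * (2 ^ (f / 3)) ^ (k + 1 + 1) = 4 * W * (2 ^ (f / 3)) ^ (k + 1) * 2 ^ (f / 3) := by ring
      _ ≤ (2 ^ f) ^ k * 2 ^ f := Nat.mul_le_mul ih hu
      _ = (2 ^ f) ^ (k + 1) := (pow_succ _ _).symm

end Numeric

variable {G : Type u} {Ω : Type v} [Group G] [Finite G] [MulAction G Ω] [FaithfulSMul G Ω] {a : Ω} {t : G}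
  {Q : Subgroup G}

/-- The elements of `Q` of order dividing `2 ^ i`. -/
def lev (hab : ∀ x ∈ Q, ∀ y ∈ Q, x * y = y * x) (i : ℕ) : Subgroup G where
  carrier := {x | x ∈ Q ∧ x ^ (2 ^ i) = 1}
  one_mem' := ⟨one_mem _, one_pow _⟩
  mul_mem' := fun {x y} hx hy => ⟨mul_mem hx.1 hy.1, by
    rw [(show Commute x y from hab x hx.1 y hy.1).mul_pow, hx.2, hy.2, one_mul]⟩
  inv_mem' := fun {x} hx => ⟨inv_mem hx.1, by rw [inv_pow, hx.2, inv_one]⟩

variable (hS : IsRankOneSetup G Ω a t Q) (h2 : Four G) (hab : ∀ x ∈ Q, ∀ y ∈ Q, x * y = y * x)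
include hS h2 hab

theorem lev_le_stab (i : ℕ) : lev hab i ≤ stabilizer G a := fun _ hx => hS.le hx.1

theorem lev_conj (i : ℕ) {g x : G} (hg : g • a = a) (hx : x ∈ lev hab i) : g * x * g⁻¹ ∈ lev hab i :=
  ⟨conj_Q hS hg hx.1, by rw [conj_pow, hx.2, mul_one, mul_inv_cancel]⟩

theorem lev_one_eq : lev hab 1 = invGroup hS h2 := by
  ext x
  constructor
  · rintro ⟨hx, h⟩
    exact ⟨hS.le hx, by rwa [pow_one, sq] at h⟩
  · rintro ⟨hx, h⟩
    exact ⟨invol_mem_Q hS hx h, by rwa [pow_one, sq]⟩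

theorem card_lev_one : Nat.card (lev hab 1) = qZ G a := by
  rw [lev_one_eq hS h2 hab, card_invGroup hS h2]

theorem lev_zero : lev hab 0 = ⊥ := by
  refine (Subgroup.eq_bot_iff_forall _).mpr fun x hx => ?_
  simpa using hx.2

theorem sq_mem_lev {i : ℕ} {x : G} (hx : x ∈ lev hab (i + 1)) : x * x ∈ lev hab i :=
  ⟨mul_mem hx.1 hx.1, by rw [← sq, ← pow_mul, ← pow_succ']; exact hx.2⟩

/-- The squaring step below a subgroup. -/
theorem card_lev_inf (H : Subgroup G) (i : ℕ) :
    Nat.card ↥(lev hab (i + 1) ⊓ H) ≤ Nat.card ↥(lev hab i ⊓ H) * Nat.card ↥(lev hab 1 ⊓ H) := by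
  let f : ↥(lev hab (i + 1) ⊓ H) →* ↥(lev hab i ⊓ H) :=
    { toFun := fun x => ⟨(x : G) * x, sq_mem_lev hS h2 hab x.2.1, mul_mem x.2.2 x.2.2⟩
      map_one' := Subtype.ext (by simp)
      map_mul' := fun x y => Subtype.ext (by
        show (x : G) * y * (x * y) = x * x * (y * y)
        rw [mul_assoc, ← mul_assoc (y : G), hab y y.2.1.1 x x.2.1.1]
        group) }
  have h := f.ker.card_mul_index
  rw [Subgroup.index_ker] at h
  rw [← h, mul_comm]
  refine Nat.mul_le_mul (Subgroup.card_le_card_group _) ?_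
  refine Nat.card_le_card_of_injective (fun x => ⟨((x : ↥(lev hab (i + 1) ⊓ H)) : G),
    ⟨x.1.2.1.1, ?_⟩, x.1.2.2⟩) fun x y e => Subtype.ext (Subtype.ext (congrArg (fun z => ((z : ↥(lev hab 1 ⊓ H)) : G)) e))
  rw [pow_one, sq]
  exact congrArg (fun z => ((z : ↥(lev hab i ⊓ H)) : G)) x.2

theorem card_lev_inf_pow (H : Subgroup G) (i : ℕ) :
    Nat.card ↥(lev hab i ⊓ H) ≤ Nat.card ↥(lev hab 1 ⊓ H) ^ i := by
  induction i with
  | zero => rw [lev_zero hS h2 hab, bot_inf_eq, Subgroup.card_bot, pow_zero]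
  | succ i ih => exact (card_lev_inf hS h2 hab H i).trans (by rw [pow_succ]; exact Nat.mul_le_mul_right _ ih)

/-- A full level. -/
theorem card_lev_succ {i : ℕ} {x : G} (hx : x ∈ lev hab (i + 1)) (hx' : x ∉ lev hab i) :
    Nat.card (lev hab (i + 1)) = Nat.card (lev hab i) * qZ G a := by
  let g : lev hab (i + 1) →* lev hab 1 :=
    { toFun := fun y => ⟨(y : G) ^ 2 ^ i, pow_mem y.2.1 _, by rw [pow_one, ← pow_mul, ← pow_succ]; exact y.2.2⟩
      map_one' := Subtype.ext (by simp)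
      map_mul' := fun y z => Subtype.ext (by
        show ((y : G) * z) ^ 2 ^ i = _
        exact (show Commute (y : G) z from hab y y.2.1 z z.2.1).mul_pow _) }
  have hsur : Function.Surjective g := by
    intro z
    by_cases hz : (z : G) = 1
    · exact ⟨1, by rw [map_one]; exact (Subtype.ext hz).symm⟩
    have hz0 : x ^ 2 ^ i ∈ involutionsIn (stabilizer G a : Set G) := ⟨pow_mem (hS.le hx.1) _,
      fun e => hx' ⟨hx.1, e⟩, by rw [← sq, ← pow_mul, ← pow_succ]; exact hx.2⟩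
    have hzI : (z : G) ∈ involutionsIn (stabilizer G a : Set G) := ⟨hS.le z.2.1, hz, by
      have := z.2.2
      rwa [pow_one, sq] at this⟩
    obtain ⟨k, hk, e⟩ := exists_conj_inverted hS hz0 hzI
    have hka : k⁻¹ • a = a := inv_smul_eq_iff.mpr ((mem_D hS).mp hk.1).1.symm
    have hm : k⁻¹ * x * k ∈ lev hab (i + 1) := by simpa using lev_conj hS h2 hab (i + 1) hka hx
    refine ⟨⟨_, hm⟩, Subtype.ext ?_⟩
    show (k⁻¹ * x * k) ^ 2 ^ i = z
    rw [← e]
    simpa using conj_pow (a := k⁻¹) (b := x) (i := 2 ^ i)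
  have h := g.ker.card_mul_index
  rw [Subgroup.index_ker, MonoidHom.range_eq_top.mpr hsur, Subgroup.card_top, card_lev_one hS h2 hab] at h
  rw [← h]
  congr 1
  refine Nat.card_congr
    { toFun := fun y => ⟨((y : lev hab (i + 1)) : G), y.1.2.1,
        congrArg (fun z => ((z : lev hab 1) : G)) (MonoidHom.mem_ker.mp y.2)⟩
      invFun := fun y => ⟨⟨(y : G), y.2.1, by rw [pow_succ, pow_mul, y.2.2, one_pow]⟩, Subtype.ext y.2.2⟩
      left_inv := fun _ => rfl
      right_inv := fun _ => rfl }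

/-- The exponent and the level sizes. -/
theorem exists_exponent (hQ2 : IsPGroup 2 Q) :
    ∃ j : ℕ, lev hab j = Q ∧ ∀ i ≤ j, Nat.card (lev hab i) = qZ G a ^ i := by
  classical
  haveI := Fact.mk Nat.prime_two
  have hex : ∃ j, ∀ x ∈ Q, x ^ 2 ^ j = 1 := by
    obtain ⟨n, hn⟩ := IsPGroup.iff_card.mp hQ2
    exact ⟨n, fun x hx => by rw [← hn]; exact congrArg Subtype.val (pow_card_eq_one' (x := (⟨x, hx⟩ : Q)))⟩
  refine ⟨Nat.find hex, ?_, ?_⟩
  · exact le_antisymm (fun x hx => hx.1) fun x hx => ⟨hx, Nat.find_spec hex x hx⟩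
  intro i hi
  induction i with
  | zero => rw [lev_zero hS h2 hab, Subgroup.card_bot, pow_zero]
  | succ i ih =>
    have hmin := Nat.find_min hex (show Nat.find hex - 1 < Nat.find hex by omega)
    push Not at hmin
    obtain ⟨x, hx, hx1⟩ := hmin
    set d := Nat.find hex - 1 - i with hd
    have e1 : (x ^ 2 ^ d) ^ 2 ^ (i + 1) = 1 := by
      rw [← pow_mul, ← pow_add, show d + (i + 1) = Nat.find hex by omega]
      exact Nat.find_spec hex x hx
    have e2 : (x ^ 2 ^ d) ^ 2 ^ i ≠ 1 := by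
      rw [← pow_mul, ← pow_add, show d + i = Nat.find hex - 1 by omega]
      exact hx1
    rw [card_lev_succ hS h2 hab (x := x ^ 2 ^ d) ⟨pow_mem hx _, e1⟩ (fun h => e2 h.2), ih (by omega), pow_succ]

/-- An element of `D` centralising the involutions is trivial. -/
theorem noW_abelian (hQ2 : IsPGroup 2 Q) : NoW a t := by
  intro w hw hc
  obtain ⟨j, hj, -⟩ := exists_exponent hS h2 hab hQ2
  have hwa : w • a = a := ((mem_D hS).mp hw).1
  have hodd : Odd (orderOf w) := hS.odd_card.of_dvd_nat (Subgroup.orderOf_dvd_natCard _ hw)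
  have hcent : ∀ i, ∀ x ∈ lev hab i, w * x = x * w := by
    intro i
    induction i with
    | zero =>
      intro x hx
      rw [lev_zero hS h2 hab, Subgroup.mem_bot] at hx
      rw [hx, mul_one, one_mul]
    | succ i ih =>
      intro x hx
      set c := x⁻¹ * (w * x * w⁻¹) with hcdef
      have hy : w * x * w⁻¹ ∈ Q := conj_Q hS hwa hx.1
      have hcQ : c ∈ Q := mul_mem (inv_mem hx.1) hy
      have hc2 : c * c = 1 := by
        have h := ih _ (sq_mem_lev hS h2 hab hx)
        calc c * c = x⁻¹ * ((w * x * w⁻¹) * x⁻¹) * (w * x * w⁻¹) := by rw [hcdef]; group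
          _ = x⁻¹ * (x⁻¹ * (w * x * w⁻¹)) * (w * x * w⁻¹) := by rw [hab _ hy _ (inv_mem hx.1)]
          _ = (x * x)⁻¹ * (w * (x * x) * w⁻¹) := by group
          _ = 1 := by rw [h, mul_inv_cancel_right, inv_mul_cancel]
      have hwc : w * c = c * w := by
        by_cases hc1 : c = 1
        · rw [hc1, mul_one, one_mul]
        · exact hc c ⟨hS.le hcQ, hc1, hc2⟩
      have hn : ∀ n : ℕ, w ^ n * x * (w ^ n)⁻¹ = x * c ^ n := by
        intro n
        induction n with
        | zero => simp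
        | succ n ihn =>
          calc w ^ (n + 1) * x * (w ^ (n + 1))⁻¹ = w * (w ^ n * x * (w ^ n)⁻¹) * w⁻¹ := by rw [pow_succ']; group
            _ = w * x * w⁻¹ * (w * c ^ n * w⁻¹) := by rw [ihn]; group
            _ = x * c ^ (n + 1) := by
              rw [((show Commute w c from hwc).pow_right n).eq, mul_inv_cancel_right, pow_succ', ← mul_assoc x c,
                show x * c = w * x * w⁻¹ by rw [hcdef, mul_inv_cancel_left]]
      have h1 : c ^ orderOf w = 1 := by
        have := hn (orderOf w)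
        rw [pow_orderOf_eq_one, one_mul, inv_one, mul_one] at this
        exact mul_left_cancel (a := x) (by rw [← this, mul_one])
      obtain ⟨m, hm⟩ := hodd
      have hc1 : c = 1 := by
        rw [hm, pow_succ, pow_mul, sq, hc2, one_pow, one_mul] at h1
        exact h1
      have : w * x * w⁻¹ = x := by
        calc w * x * w⁻¹ = x * c := by rw [hcdef]; group
          _ = x := by rw [hc1, mul_one]
      exact mul_inv_eq_iff_eq_mul.mp this
  refine FaithfulSMul.eq_of_smul_eq_smul (α := Ω) fun b => ?_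
  rw [one_smul]
  by_cases hb : b = a
  · rw [hb, hwa]
  obtain ⟨x, hx, rfl⟩ := exists_Q_ta hS hb
  rw [← mul_smul, hcent j x (by rw [hj]; exact hx), mul_smul, ((mem_D hS).mp hw).2]

/-- `|V| ≤ f` and the fixed-point bound. -/
theorem vt_bounds (hQ2 : IsPGroup 2 Q) {f : ℕ} (hf : qZ G a = 2 ^ f) :
    Nat.card (Vt a t) ≤ f ∧
      ∀ w ∈ Vt a t, w ≠ 1 → Nat.card ↥(lev hab 1 ⊓ Subgroup.centralizer ({w} : Set G)) ≤ 2 ^ (f / 3) := by
  classical
  have hW := noW_abelian hS h2 hab hQ2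
  obtain ⟨⟨s, r⟩, ⟨hs, hr, he⟩, -⟩ := structure_eq hS
  obtain ⟨C, F, instF, finF, ι, κ, σ, -, hcard, hchar, -, -, -, -, -, -, hker⟩ := exists_galois hS h2 hs hr he
  haveI := hchar
  haveI : Finite (F ≃+* F) := DFunLike.finite _
  have hσ : Function.Injective σ := (injective_iff_map_eq_one σ).mpr fun w hw =>
    Subtype.ext (hW _ (Subgroup.mem_inf.mp w.2).1 ((hker w).mp hw))
  refine ⟨(Nat.card_le_card_of_injective σ hσ).trans (card_ringAut_le (hcard.trans hf)), fun w hw hw1 => ?_⟩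
  obtain ⟨hwD, hwt⟩ := Subgroup.mem_inf.mp hw
  obtain ⟨l, hl, hld⟩ := Nat.exists_prime_and_dvd (fun e => hw1 (orderOf_eq_one_iff.mp e))
  set x := w ^ (orderOf w / l) with hx
  have hxl : orderOf x = l := orderOf_pow_orderOf_div (orderOf_pos w).ne' hld
  have hxD : x ∈ D a t := pow_mem hwD _
  have hxt : t * x = x * t :=
    ((show Commute w t from Subgroup.mem_centralizer_singleton_iff.mp hwt).pow_left _).eq.symm
  have hodd : Odd l := hS.odd_card.of_dvd_nat (hld.trans (Subgroup.orderOf_dvd_natCard _ hwD))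
  have hne : ∃ z ∈ involutionsIn (stabilizer G a : Set G), x * z ≠ z * x := by
    by_contra hall
    push Not at hall
    have := hW x hxD hall
    rw [this, orderOf_one] at hxl
    exact hl.ne_one hxl.symm
  have hq := qZ_eq_pow hS h2 hxD hxt hl hxl hne
  set cnt := Nat.card {z : G // z ∈ involutionsIn (stabilizer G a : Set G) ∧ z * x = x * z} with hcnt
  have hle : Nat.card ↥(lev hab 1 ⊓ Subgroup.centralizer ({w} : Set G)) ≤ cnt + 1 := by
    haveI := Fintype.ofFinite {z : G // z ∈ involutionsIn (stabilizer G a : Set G) ∧ z * x = x * z}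
    rw [hcnt, Nat.card_eq_fintype_card (α := {z : G // z ∈ involutionsIn (stabilizer G a : Set G) ∧ z * x = x * z}),
      ← Fintype.card_option, ← Nat.card_eq_fintype_card]
    have hmem : ∀ z : ↥(lev hab 1 ⊓ Subgroup.centralizer ({w} : Set G)), (z : G) ≠ 1 →
        (z : G) ∈ involutionsIn (stabilizer G a : Set G) ∧ (z : G) * x = x * z := fun z hz =>
      ⟨⟨hS.le z.2.1.1, hz, by have := z.2.1.2; rwa [pow_one, sq] at this⟩,
        ((show Commute (z : G) w from Subgroup.mem_centralizer_singleton_iff.mp z.2.2).pow_right _).eq⟩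
    refine Nat.card_le_card_of_injective
      (fun z => if h : (z : G) = 1 then none else some ⟨z, hmem z h⟩) fun z z' e => ?_
    simp only at e
    split_ifs at e with h1 h1' h1'
    · exact Subtype.ext (h1.trans h1'.symm)
    · exact Subtype.ext (by simpa using e)
  obtain ⟨k, -, hk⟩ := (Nat.dvd_prime_pow Nat.prime_two).mp
    (hf ▸ card_lev_one hS h2 hab ▸ Subgroup.card_dvd_of_le
      (inf_le_left : lev hab 1 ⊓ Subgroup.centralizer ({w} : Set G) ≤ lev hab 1))
  rw [hk]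
  refine Nat.pow_le_pow_right Nat.zero_lt_two ?_
  rw [Nat.le_div_iff_mul_le (by norm_num)]
  have hl3 : 3 ≤ l := by
    rcases hodd with ⟨m, hm⟩
    have := hl.two_le
    omega
  have h3 : (2 : ℕ) ^ (k * 3) ≤ 2 ^ f := by
    rw [← hf, hq, pow_mul, ← hk]
    exact (Nat.pow_le_pow_left hle 3).trans (Nat.pow_le_pow_right (by omega) hl3)
  exact (Nat.pow_le_pow_iff_right (by norm_num)).mp h3

end CfsgLib.SuzukiRankOne
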