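import Cfsg.Agent.Lib.CharTheory.Clifford
import Cfsg.Agent.Lib.CharTheory.AbelianInertia
import Cfsg.Agent.Lib.CharTheory.Linear
import Cfsg.Agent.Lib.CharTheory.Fixed
import Mathlib

/-!
Counting lemmas for the characters lying over a set of characters of a normal subgroup, linear characters
fixed by an automorphism, and fixed-point-free automorphisms.
-/

set_option autoImplicit false
set_option linter.unusedSectionVars false

namespace CfsgLib.SuzukiRankOne

open Cfsg CfsgLib.CharTheory
open scoped ComplexConjugate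

universe u v

section Over

variable {A : Type u} [Group A] [Fintype A] (C : Subgroup A) [hC : C.Normal] [Fintype C]

open Classical in
/-- The irreducible characters lying over a set of characters. -/
noncomputable def overFin (Φ : Finset (C → ℂ)) : Finset (A → ℂ) :=
  (Finset.univ.filter fun ξ : IrrCharacter A =>
    ∃ φ ∈ Φ, classInner (fun c : C => (ξ : A → ℂ) c) φ ≠ 0).image Subtype.val

theorem mem_overFin {Φ : Finset (C → ℂ)} {ξ : A → ℂ} :
    ξ ∈ overFin C Φ ↔ IsIrrCharacter A ξ ∧ ∃ φ ∈ Φ, classInner (fun c : C => ξ c) φ ≠ 0 := by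
  classical
  constructor
  · intro h
    obtain ⟨χ, hχ, rfl⟩ := Finset.mem_image.mp h
    exact ⟨χ.2, (Finset.mem_filter.mp hχ).2⟩
  · rintro ⟨hi, h⟩
    exact Finset.mem_image.mpr ⟨⟨ξ, hi⟩, Finset.mem_filter.mpr ⟨Finset.mem_univ _, h⟩, rfl⟩

theorem sum_coeff_degree {φ : C → ℂ} :
    ∑ ξ : IrrCharacter A, conj (classInner (fun c : C => (ξ : A → ℂ) c) φ) * (ξ : A → ℂ) 1 =
      (C.index : ℂ) * φ 1 := by
  have h := congrFun (eq_sum_irr (indFun_isClassFunction C φ)) 1
  rw [indFun_apply_one] at h
  rw [h, Finset.sum_apply]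
  refine Finset.sum_congr rfl fun ξ _ => ?_
  rw [Pi.smul_apply, smul_eq_mul, frobenius_reciprocity C φ (isClassFunction_irr ξ.2), classInner_comm]

/-- The squares of the degrees over a conjugation-closed set of characters. -/
theorem sum_over_sq (Φ : Finset (C → ℂ)) (hirr : ∀ φ ∈ Φ, IsIrrCharacter C φ)
    (hcl : ∀ g : A, ∀ φ ∈ Φ, conjNormFun C g φ ∈ Φ) :
    ∑ ξ ∈ overFin C Φ, ξ 1 ^ 2 = (C.index : ℂ) * ∑ φ ∈ Φ, φ 1 ^ 2 := by
  classical
  have key : ∀ ξ : IrrCharacter A, ∑ φ ∈ Φ, conj (classInner (fun c : C => (ξ : A → ℂ) c) φ) * φ 1 =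
      if ∃ φ ∈ Φ, classInner (fun c : C => (ξ : A → ℂ) c) φ ≠ 0 then (ξ : A → ℂ) 1 else 0 := by
    intro ξ
    have hres := isCharacter_restrict (isCharacter_of_irr ξ.2) C
    have hreal : ∀ φ ∈ Φ, conj (classInner (fun c : C => (ξ : A → ℂ) c) φ) =
        classInner (fun c : C => (ξ : A → ℂ) c) φ := fun φ hφ => by
      obtain ⟨n, hn⟩ := classInner_char_nat hres (isCharacter_of_irr (hirr φ hφ))
      rw [hn, map_natCast]
    rw [Finset.sum_congr rfl fun φ hφ => by rw [hreal φ hφ]]
    split
    · rename_i h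
      obtain ⟨θ, hθΦ, hθ⟩ := h
      have h1 := congrFun (eq_sum_irr (isClassFunction_char hres)) 1
      rw [Finset.sum_apply] at h1
      rw [show (ξ : A → ℂ) 1 = (ξ : A → ℂ) ((1 : C) : A) from rfl, h1]
      symm
      refine Finset.sum_bij_ne_zero (fun ψ _ _ => (ψ : C → ℂ)) ?_ (fun _ _ _ _ _ _ e => Subtype.ext e) ?_
        (fun _ _ _ => rfl)
      · intro ψ _ hne
        have hc : classInner (fun c : C => (ξ : A → ℂ) c) (ψ : C → ℂ) ≠ 0 := fun e => hne (by simp [e])
        obtain ⟨g, hg⟩ := exists_conj_of_constituents C ξ.2 (hirr θ hθΦ) ψ.2 hθ hc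
        exact hg ▸ hcl g θ hθΦ
      · intro φ hφ hne
        exact ⟨⟨φ, hirr φ hφ⟩, Finset.mem_univ _, hne, rfl⟩
    · rename_i h
      push Not at h
      exact Finset.sum_eq_zero fun φ hφ => by rw [h φ hφ, zero_mul]
  rw [overFin, Finset.sum_image (fun _ _ _ _ e => Subtype.ext e), Finset.sum_filter, Finset.mul_sum,
    Finset.sum_congr rfl (g := fun φ => ∑ ξ : IrrCharacter A,
      (ξ : A → ℂ) 1 * (conj (classInner (fun c : C => (ξ : A → ℂ) c) φ) * φ 1)) fun φ _ => by
        rw [sq, ← mul_assoc, ← sum_coeff_degree C, Finset.sum_mul]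
        exact Finset.sum_congr rfl fun ξ _ => by ring,
    Finset.sum_comm]
  refine Finset.sum_congr rfl fun ξ _ => ?_
  rw [← Finset.mul_sum, key]
  split <;> ring

/-- The multiplicity bound. -/
theorem coeff_sq_le {φ : C → ℂ} (hφ : IsIrrCharacter C φ) {ξ : A → ℂ} (hξ : IsIrrCharacter A ξ) {d : ℕ}
    (hd : classInner (fun c : C => ξ c) φ = d) : d * d * (inertia C φ).index ≤ C.index := by
  classical
  rcases Nat.eq_zero_or_pos d with rfl | hpos
  · simp
  have hne : classInner (fun c : C => ξ c) φ ≠ 0 := by rw [hd]; exact Nat.cast_ne_zero.mpr hpos.ne'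
  have hdeg := clifford_degree C hξ hφ hne
  rw [hd] at hdeg
  choose e he using fun χ : IrrCharacter A =>
    classInner_char_nat (isCharacter_restrict (isCharacter_of_irr χ.2) C) (isCharacter_of_irr hφ)
  choose k hk hk' using fun χ : IrrCharacter A => irr_degree_pos χ.2
  obtain ⟨r, hr, hr'⟩ := irr_degree_pos hφ
  have hsum := sum_coeff_degree C (φ := φ)
  simp only [he, hk', hr', map_natCast] at hsum
  have hsum' : ∑ χ : IrrCharacter A, e χ * k χ = C.index * r := by exact_mod_cast hsum
  have h1 : e ⟨ξ, hξ⟩ * k ⟨ξ, hξ⟩ ≤ C.index * r :=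
    hsum' ▸ Finset.single_le_sum (f := fun χ => e χ * k χ) (fun _ _ => Nat.zero_le _) (Finset.mem_univ _)
  have e1 : e ⟨ξ, hξ⟩ = d := by
    have := (he ⟨ξ, hξ⟩).symm.trans hd
    exact_mod_cast this
  have e2 : k ⟨ξ, hξ⟩ = d * (inertia C φ).index * r := by
    have := (hk' ⟨ξ, hξ⟩).symm.trans hdeg
    rw [hr'] at this
    exact_mod_cast this
  rw [e1, e2] at h1
  exact Nat.le_of_mul_le_mul_right (by rw [← mul_assoc, ← mul_assoc] at h1; exact h1) hr

/-- Characters over a character whose inertia group lies in a normal subgroup vanish outside it. -/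
theorem over_vanish {φ : C → ℂ} (hφ : IsIrrCharacter C φ) (T : Subgroup A) [T.Normal] (hCT : C ≤ T)
    (hT : T = inertia C φ) {ξ : A → ℂ} (hξ : IsIrrCharacter A ξ)
    (hne : classInner (fun c : C => ξ c) φ ≠ 0) {x : A} (hx : x ∉ T) : ξ x = 0 := by
  classical
  haveI := Fintype.ofFinite T
  obtain ⟨ψ, -, -, rfl⟩ := exists_clifford_pre C hφ hCT hT hξ hne
  exact indFun_normal_apply_not_mem T ψ hx

/-- Two members over non-conjugate characters are distinct. -/
theorem over_ne {φ φ' : C → ℂ} (hφ : IsIrrCharacter C φ) (hφ' : IsIrrCharacter C φ') {ξ : A → ℂ}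
    (hξ : IsIrrCharacter A ξ) (h : classInner (fun c : C => ξ c) φ ≠ 0)
    (h' : classInner (fun c : C => ξ c) φ' ≠ 0) : ∃ g : A, conjNormFun C g φ = φ' :=
  exists_conj_of_constituents C hξ hφ hφ' h h'

end Over

section Fixed

variable {M : Type u} [CommGroup M] [Finite M]

/-- An automorphism of a finite abelian group fixes as many linear characters as elements. -/
theorem card_fixed_homs (α : M ≃* M) :
    Nat.card {f : M →* ℂˣ // ∀ x, f (α x) = f x} = Nat.card {x : M // α x = x} := by
  classical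
  let g : M →* M := α.toMonoidHom / MonoidHom.id M
  have hg : ∀ x, g x = α x / x := fun _ => rfl
  let e : {f : M →* ℂˣ // ∀ x, f (α x) = f x} ≃ (M ⧸ g.range →* ℂˣ) :=
    { toFun := fun f => QuotientGroup.lift g.range f.1 (by
        rintro _ ⟨x, rfl⟩
        rw [MonoidHom.mem_ker, hg, map_div, f.2, div_self'])
      invFun := fun f => ⟨f.comp (QuotientGroup.mk' g.range), fun x => congrArg f
        ((QuotientGroup.eq_iff_div_mem).mpr ⟨x, hg x⟩)⟩
      left_inv := fun f => Subtype.ext (MonoidHom.ext fun x => rfl)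
      right_inv := fun f => MonoidHom.ext fun x => by
        obtain ⟨y, rfl⟩ := QuotientGroup.mk_surjective x
        rfl }
  rw [Nat.card_congr e, CommGroup.card_monoidHom_of_hasEnoughRootsOfUnity, ← Subgroup.index_eq_card]
  have h1 := g.ker.card_mul_index
  rw [Subgroup.index_ker] at h1
  have h2 := g.range.card_mul_index
  rw [show Nat.card {x : M // α x = x} = Nat.card g.ker from Nat.card_congr (Equiv.subtypeEquivRight fun x => by
    rw [MonoidHom.mem_ker, hg, div_eq_one])]
  refine Nat.eq_of_mul_eq_mul_left (Nat.card_pos (α := g.range)) ?_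
  rw [h2, mul_comm, h1]

end Fixed

section Fpf

variable {H : Type u} [Group H] [Finite H]

/-- An automorphism of prime order with only the trivial fixed point has order prime to the group order. -/
theorem not_dvd_of_fpf (α : MulAut H) {l : ℕ} (hl : l.Prime) (hα : α ^ l = 1)
    (hfix : ∀ x, α x = x → x = 1) : ¬ l ∣ Nat.card H := by
  classical
  haveI := Fact.mk hl
  intro hdvd
  haveI : Finite (MulAut H) := Finite.of_injective (fun f : MulAut H => (f : H → H)) DFunLike.coe_injective
  let P : Subgroup (MulAut H) := Subgroup.zpowers α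
  have hP : IsPGroup l P := by
    intro g
    refine ⟨1, Subtype.ext ?_⟩
    obtain ⟨g, k, rfl⟩ := g
    show (α ^ k) ^ (l ^ 1) = 1
    rw [pow_one, ← zpow_natCast, ← zpow_mul, mul_comm, zpow_mul, zpow_natCast, hα, one_zpow]
  letI : MulAction P H := MulAction.compHom H P.subtype
  have hone : ∀ g : P, g • (1 : H) = 1 := fun g => map_one (g : MulAut H)
  have h1 : Nat.card (MulAction.fixedPoints P H) = 1 := Nat.card_eq_one_iff_unique.mpr
    ⟨⟨fun x y => Subtype.ext ((hfix x (x.2 ⟨α, Subgroup.mem_zpowers α⟩)).trans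
      (hfix y (y.2 ⟨α, Subgroup.mem_zpowers α⟩)).symm)⟩, ⟨⟨1, hone⟩⟩⟩
  have hm := hP.card_modEq_card_fixedPoints H
  rw [h1, Nat.ModEq, Nat.mod_eq_zero_of_dvd hdvd, Nat.one_mod_eq_one.mpr hl.ne_one] at hm
  exact zero_ne_one hm

/-- An automorphism of prime order fixes a point of an invariant set of size prime to the order. -/
theorem exists_fixed_of_coprime {X : Type v} [Finite X] (f : Equiv.Perm X) {l : ℕ} (hl : l.Prime)
    (hf : f ^ l = 1) (hn : ¬ l ∣ Nat.card X) : ∃ x, f x = x := by
  classical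
  haveI := Fact.mk hl
  let P : Subgroup (Equiv.Perm X) := Subgroup.zpowers f
  have hP : IsPGroup l P := by
    intro g
    refine ⟨1, Subtype.ext ?_⟩
    obtain ⟨g, k, rfl⟩ := g
    show (f ^ k) ^ (l ^ 1) = 1
    rw [pow_one, ← zpow_natCast, ← zpow_mul, mul_comm, zpow_mul, zpow_natCast, hf, one_zpow]
  obtain ⟨x, hx⟩ := hP.nonempty_fixed_point_of_prime_not_dvd_card X hn
  exact ⟨x, hx ⟨f, Subgroup.mem_zpowers f⟩⟩

/-- A fixed-point-free automorphism of prime order fixes only the trivial character. -/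
theorem eq_one_of_fpf [Fintype H] (α : MulAut H) {l : ℕ} (hl : l.Prime) (hα : α ^ l = 1)
    (hfix : ∀ x, α x = x → x = 1) {θ : H → ℂ} (hθ : IsIrrCharacter H θ) (hinv : ∀ x, θ (α x) = θ x) :
    θ = fun _ => 1 := by
  classical
  let τ : IrrCharacter H → IrrCharacter H := fun χ =>
    ⟨fun x => (χ : H → ℂ) (α x), isIrrCharacter_comp_surjective χ.2 α.toMonoidHom α.surjective⟩
  have h := card_fixed_irr_mul (fun x => α x) τ (fun _ _ => rfl)
  have hnd := not_dvd_of_fpf α hl hα hfix
  have hfilter : Finset.univ.filter (fun k : H => IsConj (α k) k) = {1} := by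
    ext k
    simp only [Finset.mem_filter, Finset.mem_univ, true_and, Finset.mem_singleton]
    constructor
    · intro hk
      let X := {x : H // IsConj k x}
      have hmap : ∀ x, IsConj k x → IsConj k (α x) := fun x hx =>
        hk.symm.trans (MonoidHom.map_isConj α.toMonoidHom hx)
      let f : Equiv.Perm X := Equiv.ofBijective (fun x => ⟨α x, hmap x x.2⟩)
        (Finite.injective_iff_bijective.mp fun x y e => Subtype.ext (α.injective (congrArg Subtype.val e)))
      have hf : f ^ l = 1 := by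
        have hpow : ∀ (n : ℕ) (x : X), ((f ^ n) x : H) = (α ^ n) x := by
          intro n
          induction n with
          | zero => intro x; simp
          | succ n ih =>
            intro x
            rw [pow_succ', pow_succ', Equiv.Perm.mul_apply, MulAut.mul_apply]
            show α ((f ^ n) x : H) = _
            rw [ih]
        refine Equiv.ext fun x => Subtype.ext ?_
        rw [hpow, hα]
        rfl
      obtain ⟨x, hx⟩ := exists_fixed_of_coprime f hl hf fun hd =>
        hnd (hd.trans ⟨_, (card_isConj_mul_card_centralizer k).symm⟩)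
      have hx1 : (x : H) = 1 := hfix x (congrArg Subtype.val hx)
      exact isConj_one_right.mp (hx1 ▸ x.2).symm
    · rintro rfl
      rw [map_one]
  rw [hfilter, Finset.sum_singleton] at h
  have hcent : Nat.card (Subgroup.centralizer ({α 1} : Set H)) = Nat.card H := by
    rw [map_one, show Subgroup.centralizer ({1} : Set H) = ⊤ from
      eq_top_iff.mpr fun x _ => Subgroup.mem_centralizer_singleton_iff.mpr (by simp), Subgroup.card_top]
  rw [hcent] at h
  have hone := Nat.eq_of_mul_eq_mul_right Nat.card_pos (h.trans (one_mul (Nat.card H)).symm)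
  obtain ⟨hsub, -⟩ := Nat.card_eq_one_iff_unique.mp hone
  have e1 : τ ⟨θ, hθ⟩ = ⟨θ, hθ⟩ := Subtype.ext (funext hinv)
  exact congrArg (fun z : {χ : IrrCharacter H // τ χ = χ} => (z.1 : H → ℂ))
    (hsub.elim ⟨_, e1⟩ ⟨⟨fun _ => 1, isIrrCharacter_one⟩, rfl⟩)

/-- A real irreducible character of a group of odd order is trivial. -/
theorem eq_one_of_real [Fintype H] (hodd : Odd (Nat.card H)) {θ : H → ℂ} (hθ : IsIrrCharacter H θ)
    (hreal : ∀ x, conj (θ x) = θ x) : θ = fun _ => 1 := by
  classical
  let τ : IrrCharacter H → IrrCharacter H := fun χ =>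
    ⟨fun x => conj ((χ : H → ℂ) x), isIrrCharacter_conjChar χ.2⟩
  have h := card_fixed_irr_mul (fun x : H => x⁻¹) τ (fun χ g => (char_apply_inv (isCharacter_of_irr χ.2) g).symm)
  have hfilter : Finset.univ.filter (fun k : H => IsConj k⁻¹ k) = {1} := by
    ext k
    simp only [Finset.mem_filter, Finset.mem_univ, true_and, Finset.mem_singleton]
    constructor
    · intro hk
      obtain ⟨y, hy⟩ := isConj_iff.mp hk
      obtain ⟨m, hm⟩ := hodd
      have hy2 : Commute (y * y) k := by
        show y * y * k = k * (y * y)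
        have : y * k * y⁻¹ = k⁻¹ := by
          calc y * k * y⁻¹ = (y * k⁻¹ * y⁻¹)⁻¹ := by group
            _ = k⁻¹ := by rw [hy]
        calc y * y * k = y * (y * k * y⁻¹) * y := by group
          _ = y * k⁻¹ * y := by rw [this]
          _ = k * (y * y) := by
            conv_rhs => rw [← hy]
            group
      have hyk : Commute y k := by
        have hp : y = (y * y) ^ (m + 1) := by
          rw [← sq, ← pow_mul, show 2 * (m + 1) = (2 * m + 1) + 1 by ring, pow_succ, ← hm, pow_card_eq_one', one_mul]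
        rw [hp]; exact hy2.pow_left _
      have hkk : k * k = 1 := by
        have h0 : k = k⁻¹ := by
          conv_lhs => rw [← hy, hyk.inv_right.eq, mul_inv_cancel_right]
        calc k * k = k * k⁻¹ := by rw [← h0]
          _ = 1 := mul_inv_cancel k
      calc k = k ^ (2 * m + 1) := by rw [pow_succ, pow_mul, sq, hkk, one_pow, one_mul]
        _ = 1 := by rw [← hm, pow_card_eq_one']
    · rintro rfl
      rw [inv_one]
  rw [hfilter, Finset.sum_singleton, inv_one,
    show Subgroup.centralizer ({1} : Set H) = ⊤ from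
      eq_top_iff.mpr fun x _ => Subgroup.mem_centralizer_singleton_iff.mpr (by simp), Subgroup.card_top] at h
  have hone := Nat.eq_of_mul_eq_mul_right Nat.card_pos (h.trans (one_mul (Nat.card H)).symm)
  obtain ⟨hsub, -⟩ := Nat.card_eq_one_iff_unique.mp hone
  have e1 : τ ⟨θ, hθ⟩ = ⟨θ, hθ⟩ := Subtype.ext (funext hreal)
  have e2 : τ ⟨fun _ => 1, isIrrCharacter_one⟩ = ⟨fun _ => 1, isIrrCharacter_one⟩ :=
    Subtype.ext (funext fun _ => map_one _)
  exact congrArg (fun z : {χ : IrrCharacter H // τ χ = χ} => (z.1 : H → ℂ)) (hsub.elim ⟨_, e1⟩ ⟨_, e2⟩)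

end Fpf

end CfsgLib.SuzukiRankOne
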