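import Cfsg.Agent.Lib.SuzukiRankOne.CharBound

/-!
A base family of characters non-trivial at the involutions, linked to characters trivial there.

Blueprint: `blueprint/bender/B2.md`, section 2 (case `S = Z`).
-/

set_option autoImplicit false
set_option linter.unusedSectionVars false
set_option linter.unusedVariables false

namespace CfsgLib.SuzukiRankOne

open MulAction Cfsg CfsgLib.RankOne CfsgLib.CharTheory
open scoped ComplexConjugate

universe u v

variable {G : Type u} {Ω : Type v} [Group G] [Finite G] [MulAction G Ω] [FaithfulSMul G Ω] {a : Ω} {t : G}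
  {Q : Subgroup G} [Fintype G] [Fintype (stabilizer G a)]
  (hS : IsRankOneSetup G Ω a t Q) (h2 : Four G) {s : G} (hs : s ∈ involutionsIn (stabilizer G a : Set G))
include hS h2

/-- The values of a linked base family. -/
theorem val_link (F : Fam G a) (h3 : 3 ≤ F.n) (hnon : ∀ i, IsNon hs (F.b i)) {p : ℕ}
    (η η' : Fin p → stabilizer G a → ℂ) (hη : ∀ k, IsIrrCharacter (stabilizer G a) (η k))
    (hη' : ∀ k, IsIrrCharacter (stabilizer G a) (η' k)) (hinj : Function.Injective η)
    (hinj' : Function.Injective η') (hcross : ∀ k l, η k ≠ η' l) (hnew : ∀ k i, η k ≠ F.b i)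
    (hnew' : ∀ k i, η' k ≠ F.b i) (hsupp : ∀ k, Supp a (η k - η' k)) (htriv : ∀ k, IsTriv hs (η k))
    (hnon' : ∀ k, IsNon hs (η' k)) (hΓ : Supp a (F.b F.i0 - ∑ k, η k))
    {ε : ℂ} {X : Fin F.n → G → ℂ} (hX : Lift F ε X) (i : Fin F.n) : Val a Q s (X i) (F.b i 1) := by
  classical
  obtain ⟨hq1, hq0⟩ := qZ_ne hS h2
  set i₀ := F.i0
  have hcfd : ∀ k, IsClassFunction (stabilizer G a) (η k - η' k) := fun k =>
    isClassFunction_sub (isClassFunction_irr (hη k)) (isClassFunction_irr (hη' k))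
  have hcfb : ∀ i j, IsClassFunction (stabilizer G a) (F.b i - F.b j) := fun i j =>
    isClassFunction_sub (isClassFunction_irr (F.irr i)) (isClassFunction_irr (F.irr j))
  have hsb : ∀ i j, Supp a (F.b i - F.b j) := fun i j => by
    simpa using supp_diff hS (F.van i) (F.van j) 1 (by rw [one_mul]; exact F.deg i j)
  have hpair : ∀ k, ∃ A B : G → ℂ, IsIrrCharacter G A ∧ IsIrrCharacter G B ∧ A ≠ B ∧
      indFun (stabilizer G a) (η k - η' k) = A - B := by
    intro k
    refine exists_eq_irr_sub_irr (isGenChar_indFun _ ⟨η k, η' k, isCharacter_of_irr (hη k),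
      isCharacter_of_irr (hη' k), rfl⟩) ?_ (ind_one hS (hsupp k))
    rw [ind_iso hS (hcfd k) (hsupp k) (hsupp k), classInner_sub_left, classInner_sub_right, classInner_sub_right,
      classInner_irr_self (hη k), classInner_irr_self (hη' k), classInner_irr_ne (hη k) (hη' k) (hcross k k),
      classInner_irr_ne (hη' k) (hη k) (hcross k k).symm]
    ring
  choose A B hA hB hAB hdec using hpair
  have hdis : ∀ k l, k ≠ l → A k ≠ A l ∧ A k ≠ B l ∧ B k ≠ A l ∧ B k ≠ B l := fun k l hkl => by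
    refine diff_disjoint (hA k) (hB k) (hA l) (hB l) (hAB k) (hAB l) ?_
    rw [← hdec, ← hdec, ind_iso hS (hcfd l) (hsupp k) (hsupp l), classInner_sub_left, classInner_sub_right,
      classInner_sub_right, classInner_irr_ne (hη k) (hη l) (fun e => hkl (hinj e)),
      classInner_irr_ne (hη k) (hη' l) (hcross k l), classInner_irr_ne (hη' k) (hη l) (hcross l k).symm,
      classInner_irr_ne (hη' k) (hη' l) fun e => hkl (hinj' e)]
    ring
  have hdisX : ∀ i k, X i ≠ A k ∧ X i ≠ B k := fun i k => by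
    obtain ⟨j, hj⟩ : ∃ j : Fin F.n, j ≠ i := by
      haveI : Nontrivial (Fin F.n) := Fin.nontrivial_iff_two_le.mpr F.hn
      exact exists_ne i
    have h : classInner (indFun (stabilizer G a) (F.b i - F.b j)) (indFun (stabilizer G a) (η k - η' k)) = 0 := by
      rw [ind_iso hS (hcfd k) (hsb i j) (hsupp k), classInner_sub_left, classInner_sub_right, classInner_sub_right,
        classInner_irr_ne (F.irr i) (hη k) (hnew k i).symm, classInner_irr_ne (F.irr i) (hη' k) (hnew' k i).symm,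
        classInner_irr_ne (F.irr j) (hη k) (hnew k j).symm, classInner_irr_ne (F.irr j) (hη' k) (hnew' k j).symm]
      ring
    rw [hX.eq, hdec, classInner_smul_left, mul_eq_zero] at h
    have := diff_disjoint (hX.irr i) (hX.irr j) (hA k) (hB k) (fun e => hj (hX.inj e).symm) (hAB k)
      (h.resolve_left (by rcases hX.sign with e | e <;> simp [e]))
    exact ⟨this.1, this.2.1⟩
  have hcfΓ : IsClassFunction (stabilizer G a) (F.b i₀ - ∑ k, η k) :=
    isClassFunction_sub (isClassFunction_irr (F.irr i₀)) (isClassFunction_sum _ _ fun k _ => isClassFunction_irr (hη k))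
  set Γ := indFun (stabilizer G a) (F.b i₀ - ∑ k, η k) with hΓdef
  have hgen : IsGeneralizedCharacter G Γ := isGenChar_indFun _
    ⟨F.b i₀, ∑ k, η k, isCharacter_of_irr (F.irr i₀), isCharacter_sum _ _ fun k _ => isCharacter_of_irr (hη k), rfl⟩
  obtain ⟨c, hΓsum, hc, hnorm⟩ := classInner_self_eq_sum_sq hgen
  let ιX : Fin F.n → IrrCharacter G := fun i => ⟨X i, hX.irr i⟩
  let ιA : Fin p → IrrCharacter G := fun k => ⟨A k, hA k⟩
  let ιB : Fin p → IrrCharacter G := fun k => ⟨B k, hB k⟩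
  let emb : Fin F.n ⊕ (Fin p ⊕ Fin p) → IrrCharacter G := Sum.elim ιX (Sum.elim ιA ιB)
  have hemb : Function.Injective emb := by
    rintro (i | k | k) (j | l | l) e <;> have e' := congrArg Subtype.val e <;> simp only [emb, Sum.elim_inl, Sum.elim_inr, ιX, ιA, ιB] at e'
    · rw [hX.inj e']
    · exact absurd e' (hdisX i l).1
    · exact absurd e' (hdisX i l).2
    · exact absurd e'.symm (hdisX j k).1
    · by_cases h : k = l
      · rw [h]
      · exact absurd e' (hdis k l h).1
    · by_cases h : k = l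
      · exact absurd (h ▸ e') (hAB l)
      · exact absurd e' (hdis k l h).2.1
    · exact absurd e'.symm (hdisX j k).2
    · by_cases h : k = l
      · exact absurd (h ▸ e').symm (hAB l)
      · exact absurd e' (hdis k l h).2.2.1
    · by_cases h : k = l
      · rw [h]
      · exact absurd e' (hdis k l h).2.2.2
  obtain ⟨εi, hεi, hεc⟩ : ∃ z : ℤ, (z = 1 ∨ z = -1) ∧ ε = (z : ℂ) := by
    rcases hX.sign with e | e
    · exact ⟨1, Or.inl rfl, by simp [e]⟩
    · exact ⟨-1, Or.inr rfl, by simp [e]⟩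
  have hεε := sign_mul_self hX.sign
  have hηb : ∀ i, classInner (∑ k, η k) (F.b i) = 0 := fun i => by
    rw [classInner_sum_left]
    exact Finset.sum_eq_zero fun k _ => classInner_irr_ne (hη k) (F.irr i) (hnew k i)
  have hbη : ∀ i, classInner (F.b i) (∑ k, η k) = 0 := fun i => by
    rw [classInner_sum_right]
    exact Finset.sum_eq_zero fun k _ => classInner_irr_ne (F.irr i) (hη k) (hnew k i).symm
  have hcX : ∀ i, i ≠ i₀ → c (ιX i) = c (ιX i₀) - εi := by
    intro i hi
    have h : classInner Γ (indFun (stabilizer G a) (F.b i - F.b i₀)) = -1 := by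
      rw [hΓdef, ind_iso hS (hcfb i i₀) hΓ (hsb i i₀), classInner_sub_left, classInner_sub_right, classInner_sub_right,
        hηb, hηb, classInner_irr_self (F.irr i₀), classInner_irr_ne (F.irr i₀) (F.irr i) fun e => hi (F.inj e).symm]
      ring
    rw [hX.eq, classInner_smul_right, classInner_sub_right, conj_sign hX.sign] at h
    have h' : (c (ιX i) : ℂ) = (c (ιX i₀) : ℂ) - (εi : ℂ) := by
      rw [← hc, ← hc, ← hεc]
      show classInner Γ (X i) = classInner Γ (X i₀) - ε
      linear_combination ε * h - (classInner Γ (X i) - classInner Γ (X i₀)) * hεε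
    exact_mod_cast h'
  have hcAB : ∀ k, c (ιA k) - c (ιB k) = -1 := by
    intro k
    have h : classInner Γ (indFun (stabilizer G a) (η k - η' k)) = -1 := by
      rw [hΓdef, ind_iso hS (hcfd k) hΓ (hsupp k), classInner_sub_left, classInner_sub_right, classInner_sub_right,
        classInner_irr_ne (F.irr i₀) (hη k) (hnew k i₀).symm, classInner_irr_ne (F.irr i₀) (hη' k) (hnew' k i₀).symm,
        classInner_sum_left, classInner_sum_left, Finset.sum_eq_single k, classInner_irr_self (hη k),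
        Finset.sum_eq_zero fun l _ => classInner_irr_ne (hη l) (hη' k) (hcross l k)]
      · ring
      · exact fun l _ hlk => classInner_irr_ne (hη l) (hη k) fun e => hlk (hinj e)
      · exact fun h => absurd (Finset.mem_univ _) h
    rw [hdec, classInner_sub_right] at h
    have h' : (c (ιA k) : ℂ) - (c (ιB k) : ℂ) = -1 := by rw [← hc, ← hc]; exact h
    exact_mod_cast h'
  have hnorm2 : classInner Γ Γ = 1 + p := by
    rw [hΓdef, ind_iso hS hcfΓ hΓ hΓ, classInner_sub_left, classInner_sub_right, classInner_sub_right,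
      classInner_irr_self (F.irr i₀), hηb, hbη, classInner_sum_left,
      Finset.sum_congr rfl (g := fun _ => (1 : ℂ)) fun k _ => by
        rw [classInner_sum_right, Finset.sum_eq_single k, classInner_irr_self (hη k)]
        · exact fun l _ hlk => classInner_irr_ne (hη k) (hη l) fun e => hlk (hinj e).symm
        · exact fun h => absurd (Finset.mem_univ _) h]
    simp
  rw [hnorm2] at hnorm
  have htot : ∑ ψ : IrrCharacter G, c ψ ^ 2 = 1 + p := by exact_mod_cast hnorm.symm
  have hsub := Finset.sum_le_sum_of_subset_of_nonneg (s := Finset.univ.image emb) (f := fun ψ => c ψ ^ 2)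
    (Finset.subset_univ _) fun ψ _ _ => sq_nonneg _
  rw [Finset.sum_image (fun x _ y _ e => hemb e), htot, Fintype.sum_sum_type, Fintype.sum_sum_type,
    ← Finset.sum_add_distrib] at hsub
  have hpairge : ∀ k, 1 ≤ c (ιA k) ^ 2 + c (ιB k) ^ 2 := fun k => by
    nlinarith [hcAB k, sq_nonneg (c (ιA k) + c (ιB k))]
  have hbase : ∑ i, c (ιX i) ^ 2 = c (ιX i₀) ^ 2 + (F.n - 1 : ℕ) * (c (ιX i₀) - εi) ^ 2 := by
    rw [← Finset.add_sum_erase _ _ (Finset.mem_univ i₀),
      Finset.sum_congr rfl fun i hi => by rw [hcX i (Finset.ne_of_mem_erase hi)], Finset.sum_const,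
      Finset.card_erase_of_mem (Finset.mem_univ _), Finset.card_univ, Fintype.card_fin, nsmul_eq_mul]
  have hsum1 : (p : ℤ) ≤ ∑ k, (c (ιA k) ^ 2 + c (ιB k) ^ 2) := by
    refine le_trans (le_of_eq ?_) (Finset.sum_le_sum fun k _ => hpairge k)
    simp
  simp only [emb, Sum.elim_inl, Sum.elim_inr] at hsub
  have hc0 : c (ιX i₀) = εi := by
    by_contra hne
    have h1 : 1 ≤ (c (ιX i₀) - εi) ^ 2 := by
      have : 0 < (c (ιX i₀) - εi) ^ 2 := by
        have : c (ιX i₀) - εi ≠ 0 := sub_ne_zero.mpr hne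
        positivity
      omega
    have h2' : (2 : ℤ) ≤ (F.n - 1 : ℕ) := by omega
    nlinarith [sq_nonneg (c (ιX i₀))]
  have hbase1 : ∑ i, c (ιX i) ^ 2 = 1 := by
    rw [hbase, hc0, sub_self]
    rcases hεi with e | e <;> simp [e]
  have hrest : ∑ ψ ∈ Finset.univ.image emb, c ψ ^ 2 = ∑ ψ : IrrCharacter G, c ψ ^ 2 := by
    rw [Finset.sum_image (fun x _ y _ e => hemb e), htot, Fintype.sum_sum_type, Fintype.sum_sum_type,
      ← Finset.sum_add_distrib]
    simp only [emb, Sum.elim_inl, Sum.elim_inr]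
    rw [hbase1] at hsub ⊢
    linarith
  have hzero : ∀ ψ, ψ ∉ Finset.univ.image emb → c ψ = 0 := fun ψ hψ => by
    by_contra hne
    have h := Finset.sum_lt_sum_of_subset (f := fun ψ => c ψ ^ 2) (Finset.subset_univ (Finset.univ.image emb))
      (Finset.mem_univ ψ) hψ (by positivity) fun φ _ _ => sq_nonneg _
    exact h.ne hrest
  have hpaireq : ∀ k, c (ιA k) ^ 2 + c (ιB k) ^ 2 = 1 := by
    intro k
    by_contra hne
    have hlt : (p : ℤ) < ∑ k, (c (ιA k) ^ 2 + c (ιB k) ^ 2) := by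
      refine lt_of_eq_of_lt (by simp) (Finset.sum_lt_sum (f := fun _ : Fin p => (1 : ℤ)) (fun l _ => hpairge l)
        ⟨k, Finset.mem_univ k, lt_of_le_of_ne (hpairge k) (Ne.symm hne)⟩)
    linarith
  have hΓeq : Γ = ε • X i₀ + ∑ k, ((c (ιA k) : ℂ) • A k + (c (ιB k) : ℂ) • B k) := by
    rw [hΓsum, ← Finset.sum_subset (Finset.subset_univ (Finset.univ.image emb)) fun ψ _ hψ => by
      rw [hzero ψ hψ, Int.cast_zero, zero_smul], Finset.sum_image (fun x _ y _ e => hemb e), Fintype.sum_sum_type,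
      Fintype.sum_sum_type, ← Finset.sum_add_distrib]
    congr 1
    rw [Finset.sum_eq_single i₀]
    · show (c (ιX i₀) : ℂ) • X i₀ = ε • X i₀
      rw [hc0, hεc]
    · intro j _ hj
      show (c (ιX j) : ℂ) • X j = 0
      rw [hcX j hj, hc0, sub_self, Int.cast_zero, zero_smul]
    · exact fun h => absurd (Finset.mem_univ _) h
  obtain ⟨hΓs, -⟩ := ind_at hS h2 hs hcfΓ hΓ
  have hΓ1 : Γ 1 = 0 := ind_one hS hΓ
  set m : ℂ := F.b i₀ 1 with hm
  have hfs : (F.b i₀ - ∑ k, η k) ⟨s, hs.1⟩ = - m * (qZ G a : ℂ) / ((qZ G a : ℂ) - 1) := by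
    have h0 : (F.b i₀ - ∑ k, η k) 1 = 0 := supp_one hS hΓ
    rw [Pi.sub_apply, Finset.sum_apply] at h0 ⊢
    rw [Finset.sum_congr rfl fun k _ => htriv k,
      show F.b i₀ ⟨s, hs.1⟩ = - m / ((qZ G a : ℂ) - 1) by rw [eq_div_iff hq1]; exact hnon i₀,
      ← sub_eq_zero.mp h0, hm]
    field_simp
    ring
  set cc : ℂ := ((qZ G a : ℂ) - 2) / (((Nat.card Q : ℂ) + 1) * ((qZ G a : ℂ) - 1)) with hcc
  have hpairval : ∀ k, (c (ιA k) : ℂ) * A k s + (c (ιB k) : ℂ) * B k s =
      (cc * ((c (ιA k) : ℂ) * A k 1 + (c (ιB k) : ℂ) * B k 1) - η k 1 * (qZ G a : ℂ) / ((qZ G a : ℂ) - 1)) / 2 := by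
    intro k
    obtain ⟨h1, h2'⟩ := ind_at hS h2 hs (hcfd k) (hsupp k)
    have hd : A k 1 = B k 1 := by
      have h := ind_one hS (hsupp k)
      rw [hdec, Pi.sub_apply, sub_eq_zero] at h
      exact h
    have hη1 : η k 1 = η' k 1 := sub_eq_zero.mp (supp_one hS (hsupp k))
    have hv : (η k - η' k) ⟨s, hs.1⟩ = η k 1 * (qZ G a : ℂ) / ((qZ G a : ℂ) - 1) := by
      rw [Pi.sub_apply, htriv k,
        show η' k ⟨s, hs.1⟩ = - η k 1 / ((qZ G a : ℂ) - 1) by rw [eq_div_iff hq1, hη1]; exact hnon' k]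
      field_simp
      ring
    rw [hdec, hv] at h1 h2'
    rw [Pi.sub_apply] at h1
    rw [wt_sub, wt_irr s (hA k), wt_irr s (hB k), ← hcc, hd, ← sub_div, div_eq_iff (irr_ne_zero (hB k)), ← h1] at h2'
    have hne : A k s - B k s ≠ 0 := by
      rw [h1]; exact div_ne_zero (mul_ne_zero (irr_ne_zero (hη k)) hq0) hq1
    have hsum : A k s + B k s = cc * B k 1 := mul_left_cancel₀ hne (by linear_combination h2')
    rcases sq_eq_one_iff.mp (show (c (ιA k) + c (ιB k)) ^ 2 = 1 by
      nlinarith [hcAB k, hpaireq k]) with h | h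
    · have ha : c (ιA k) = 0 := by have := hcAB k; omega
      have hb : c (ιB k) = 1 := by omega
      rw [ha, hb, hd, ← h1]; push_cast
      linear_combination hsum / 2
    · have ha : c (ιA k) = -1 := by have := hcAB k; omega
      have hb : c (ιB k) = 0 := by omega
      rw [ha, hb, hd, ← h1]; push_cast
      linear_combination -hsum / 2
  replace hΓs : Γ s = (F.b i₀ - ∑ k, η k) ⟨s, hs.1⟩ := hΓs
  rw [hΓeq, hfs] at hΓs
  rw [hΓeq] at hΓ1
  simp only [Pi.add_apply, Pi.smul_apply, Finset.sum_apply, smul_eq_mul] at hΓs hΓ1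
  rw [Finset.sum_congr rfl fun k _ => hpairval k, ← Finset.sum_div, Finset.sum_sub_distrib, ← Finset.mul_sum,
    ← Finset.sum_div, ← Finset.sum_mul] at hΓs
  have hm1 : ∑ k, η k 1 = m := by
    have h := supp_one hS hΓ
    rw [Pi.sub_apply, Finset.sum_apply, sub_eq_zero] at h
    exact h.symm
  rw [hm1, show ∑ k, ((c (ιA k) : ℂ) * A k 1 + (c (ιB k) : ℂ) * B k 1) = - (ε * X i₀ 1) by
    linear_combination hΓ1] at hΓs
  have hii : X i s = X i₀ s := by
    have h := ind_val hS (hcfb i i₀) (hsb i i₀) ⟨s, hs.1⟩ (invol_sup hS hs)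
    have e : F.b i ⟨s, hs.1⟩ = F.b i₀ ⟨s, hs.1⟩ := mul_right_cancel₀ hq1 (by rw [hnon i, hnon i₀, F.deg i i₀])
    rw [hX.eq, Pi.sub_apply (F.b i), e, sub_self] at h
    have hε : ε ≠ 0 := by rcases hX.sign with e | e <;> simp [e]
    simpa [hε, sub_eq_zero] using h
  refine ⟨-ε, by rcases hX.sign with e | e <;> simp [e], ?_⟩
  rw [hii, hX.deg hS i i₀, F.deg i i₀, ← hm, ← hcc,
    show -ε * m * (qZ G a : ℂ) / (2 * ((qZ G a : ℂ) - 1)) = -ε * (m * (qZ G a : ℂ) / ((qZ G a : ℂ) - 1)) / 2 by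
      rw [mul_comm (2 : ℂ), ← div_div]; ring]
  linear_combination ε * hΓs + (cc * X i₀ 1 / 2 - X i₀ s) * hεε

end CfsgLib.SuzukiRankOne
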