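import Cfsg.Agent.Lib.SuzukiRankOne.Defs
import Cfsg.Agent.Lib.RankOne.Central
import Cfsg.Agent.Lib.RankOne.Inverted
import Cfsg.Agent.Lib.CharTheory.TI
import Cfsg.Agent.Lib.CharTheory.Schur
import Cfsg.Agent.Lib.CharTheory.Fixed
import Cfsg.Agent.S1130

/-!
The trivial intersection set of elements fixing only the base point, and the class identity behind the
character inequality of a split rank one group.

Blueprint: `blueprint/bender/B2.md`, section 1.
-/

set_option autoImplicit false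
set_option linter.unusedSectionVars false

namespace CfsgLib.SuzukiRankOne

open MulAction Cfsg CfsgLib.RankOne CfsgLib.CharTheory
open scoped ComplexConjugate

universe u v

variable {G : Type u} {Ω : Type v} [Group G] [Finite G] [MulAction G Ω] [FaithfulSMul G Ω] {a : Ω} {t : G}
  {Q : Subgroup G}

variable (G) in
/-- The elements fixing `a` and no other point. -/
def Sup (a : Ω) : Set G := {x | x • a = a ∧ ∀ c : Ω, x • c = c → c = a}

/-- A pair of involutions with a given product. -/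
def PairWith (x u : G) : Prop := u ≠ 1 ∧ u * u = 1 ∧ u * x ≠ 1 ∧ u * x * (u * x) = 1

theorem sup_TI (g : G) (hg : g ∉ stabilizer G a) (x : G) (hx : x ∈ Sup G a) (hx' : g * x * g⁻¹ ∈ Sup G a) :
    x = 1 :=
  absurd (mem_stabilizer_iff.mpr (hx'.2 (g • a) (by rw [mul_smul, mul_smul, inv_smul_smul, hx.1]))) hg

theorem one_not_sup (hS : IsRankOneSetup G Ω a t Q) : (1 : G) ∉ Sup G a :=
  fun h => ta_ne hS (h.2 _ (one_smul G _))

theorem Q_sup (hS : IsRankOneSetup G Ω a t Q) {x : G} (hx : x ∈ Q) (h1 : x ≠ 1) : x ∈ Sup G a :=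
  ⟨mem_Q_a hS hx, fun _ hc => by_contra fun hca => h1 (eq_one_of_fix hS hx hca hc)⟩

theorem sup_of_pow_invol (hS : IsRankOneSetup G Ω a t Q) {x : G} (hx : x • a = a) (n : ℕ)
    (h1 : x ^ n ≠ 1) (h2 : x ^ n * x ^ n = 1) : x ∈ Sup G a := by
  have hmem : ∀ (c : Ω), x • c = c → (x ^ n) • c = c := fun c hc =>
    mem_stabilizer_iff.mp (pow_mem (mem_stabilizer_iff.mpr hc) n)
  refine ⟨hx, fun c hc => by_contra fun hca => h1 ?_⟩
  exact eq_one_of_fix hS (invol_mem_Q hS (hmem a hx) h2) hca (hmem c hc)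

theorem sup_of_even (hS : IsRankOneSetup G Ω a t Q) {x : G} (hx : x • a = a) (he : Even (orderOf x)) :
    x ∈ Sup G a := by
  obtain ⟨m, hm⟩ := he
  have hpos : 0 < orderOf x := orderOf_pos x
  refine sup_of_pow_invol hS hx m (fun h => ?_) (by rw [← pow_add, ← hm, pow_orderOf_eq_one])
  have := Nat.le_of_dvd (by omega) (orderOf_dvd_of_pow_eq_one h)
  omega

theorem invol_sup (hS : IsRankOneSetup G Ω a t Q) {s : G} (hs : s ∈ involutionsIn (stabilizer G a : Set G)) :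
    s ∈ Sup G a :=
  sup_of_pow_invol hS hs.1 1 (by rw [pow_one]; exact hs.2.1) (by rw [pow_one]; exact hs.2.2)

/-- Pairs of involutions with product an element fixing only `a`. -/
theorem pairWith_mem (hS : IsRankOneSetup G Ω a t Q) {x u : G} (hx : x ∈ Sup G a) (hu : PairWith x u) :
    u ∈ involutionsIn (stabilizer G a : Set G) ∧ u * x ∈ involutionsIn (stabilizer G a : Set G) := by
  obtain ⟨hu1, hu2, hux1, hux2⟩ := hu
  have hinv : x⁻¹ • a = a := inv_smul_eq_iff.mpr hx.1.symm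
  have hxu : x * u = u * x⁻¹ := by
    have h : u * x = x⁻¹ * u⁻¹ := by
      rw [← mul_inv_rev]
      exact eq_inv_of_mul_eq_one_left hux2
    rw [inv_eq_of_mul_eq_one_right hu2] at h
    calc x * u = x * (u * x) * x⁻¹ := by group
      _ = u * x⁻¹ := by rw [h]; group
  have hfix : u • a = a := hx.2 _ (by rw [← mul_smul, hxu, mul_smul, hinv])
  exact ⟨⟨hfix, hu1, hu2⟩, ⟨by show (u * x) • a = a; rw [mul_smul, hx.1, hfix], hux1, hux2⟩⟩

theorem card_pairWith_invol (hS : IsRankOneSetup G Ω a t Q) (h2 : Four G) {x : G}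
    (hx : x ∈ involutionsIn (stabilizer G a : Set G)) :
    Nat.card {u : G // PairWith x u} + 2 = qZ G a := by
  classical
  haveI := Fintype.ofFinite G
  obtain ⟨hc, hclosed⟩ := Cfsg.Agent.S1130.result hS h2
  have hcomm : ∀ u ∈ involutionsIn (stabilizer G a : Set G), u * x = x * u := fun u hu => hc u hu |>.2 x (hc x hx).1
  have hiff : ∀ u, PairWith x u ↔ u ∈ involutionsIn (stabilizer G a : Set G) ∧ u ≠ x := by
    intro u
    constructor
    · intro hu
      refine ⟨(pairWith_mem hS (invol_sup hS hx) hu).1, fun e => hu.2.2.1 (by rw [e, hx.2.2])⟩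
    · rintro ⟨hu, hne⟩
      refine ⟨hu.2.1, hu.2.2, fun e => hne ?_, ?_⟩
      · calc u = u * (x * x) := by rw [hx.2.2, mul_one]
          _ = x := by rw [← mul_assoc, e, one_mul]
      · calc u * x * (u * x) = u * x * (x * u) := by rw [hcomm u hu]
          _ = u * (x * x) * u := by group
          _ = 1 := by rw [hx.2.2, mul_one, hu.2.2]
  rw [qZ, Nat.card_congr (Equiv.subtypeEquivRight hiff), Nat.card_eq_fintype_card, Nat.card_eq_fintype_card,
    Fintype.card_subtype, Fintype.card_subtype]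
  have hsplit : (Finset.univ.filter fun u : G => u ∈ involutionsIn (stabilizer G a : Set G) ∧ u ≠ x) =
      (Finset.univ.filter fun u : G => u ∈ involutionsIn (stabilizer G a : Set G)).erase x := by
    ext u; simp [and_comm]
  rw [hsplit, Finset.card_erase_of_mem (by simp [hx])]
  have hpos : 0 < (Finset.univ.filter fun u : G => u ∈ involutionsIn (stabilizer G a : Set G)).card :=
    Finset.card_pos.mpr ⟨x, by simp [hx]⟩
  omega

theorem card_pairWith_zero (hS : IsRankOneSetup G Ω a t Q) (h2 : Four G) {x : G} (hx : x ∈ Sup G a)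
    (hni : x ∉ involutionsIn (stabilizer G a : Set G)) : Nat.card {u : G // PairWith x u} = 0 := by
  have : IsEmpty {u : G // PairWith x u} := ⟨fun ⟨u, hu⟩ => by
    obtain ⟨h1, h2'⟩ := pairWith_mem hS hx hu
    rcases (Cfsg.Agent.S1130.result hS h2).2 u h1 _ h2' with h | h
    · exact one_not_sup hS (by rwa [show x = 1 by rw [← h, ← mul_assoc, hu.2.1, one_mul]] at hx)
    · exact hni (by rwa [← mul_assoc, hu.2.1, one_mul] at h)⟩
  exact Nat.card_of_isEmpty

/-- The order of a two-point stabiliser. -/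
theorem card_D (hS : IsRankOneSetup G Ω a t Q) :
    Nat.card ↥(D a t) = (qZ G a - 1) * Nat.card ↥(D a t ⊓ Subgroup.centralizer {t}) := by
  rw [Inverted.card_eq hS.odd_card (D_norm hS) hS.mul_self, mul_comm]
  congr 1
  rw [qZ, Nat.add_sub_cancel]
  exact card_inverted hS

theorem card_stab' (hS : IsRankOneSetup G Ω a t Q) : Nat.card (stabilizer G a) =
    Nat.card Q * ((qZ G a - 1) * Nat.card ↥(D a t ⊓ Subgroup.centralizer {t})) := by
  rw [card_stab hS, card_D hS]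

theorem card_group' (hS : IsRankOneSetup G Ω a t Q) : Nat.card G =
    (Nat.card Q + 1) * (Nat.card Q * ((qZ G a - 1) * Nat.card ↥(D a t ⊓ Subgroup.centralizer {t}))) := by
  rw [card_group hS, card_D hS]
  ring

/-- The centraliser of an involution. -/
theorem card_centralizer_invol (hS : IsRankOneSetup G Ω a t Q) (h2 : Four G) {s : G}
    (hs : s ∈ involutionsIn (stabilizer G a : Set G)) :
    Nat.card (Subgroup.centralizer ({s} : Set G)) =
      Nat.card Q * Nat.card ↥(D a t ⊓ Subgroup.centralizer {t}) := by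
  classical
  obtain ⟨⟨s0, r0⟩, ⟨hs0, hr0, he0⟩, -⟩ := structure_eq hS
  obtain ⟨g, hg⟩ := invol_conj hS hs0.2.1 hs0.2.2 hs.2.1 hs.2.2
  rw [card_centralizer_of_isConj (isConj_iff.mpr ⟨g, hg⟩ : IsConj s0 s) |>.symm, ← Nat.card_prod]
  have hsQ := invol_mem_Q hS (mem_stabilizer_iff.mp hs0.1) hs0.2.2
  have hsc : ∀ y ∈ Q, s0 * y = y * s0 := fun y hy => invol_central hS h2 hs0 hy
  have hVs : ∀ {d}, d ∈ D a t → (d ∈ Subgroup.centralizer ({t} : Set G) ↔ s0 * d = d * s0) := fun {d} hd => by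
    rw [Subgroup.mem_centralizer_singleton_iff]
    exact ⟨fun h => cent_s_of_cent_t hS hs0 hr0 he0 hd h.symm,
      fun h => (cent_t_of_cent_s hS hs0 hr0 he0 hd h).symm⟩
  let f : Q × ↥(D a t ⊓ Subgroup.centralizer {t}) → Subgroup.centralizer ({s0} : Set G) := fun p =>
    ⟨p.1 * p.2, Subgroup.mem_centralizer_singleton_iff.mpr (by
      obtain ⟨hd, hdt⟩ := Subgroup.mem_inf.mp p.2.2
      rw [mul_assoc, ← (hVs hd).mp hdt, ← mul_assoc, ← hsc _ p.1.2, mul_assoc])⟩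
  refine (Nat.card_eq_of_bijective f ⟨?_, ?_⟩).symm
  · rintro ⟨⟨y, hy⟩, ⟨d, hd⟩⟩ ⟨⟨y', hy'⟩, ⟨d', hd'⟩⟩ e
    have e' : y * d = y' * d' := congrArg Subtype.val e
    have h1 := ((mem_D hS).mp (Subgroup.mem_inf.mp hd).1).2
    have h2' := ((mem_D hS).mp (Subgroup.mem_inf.mp hd').1).2
    have hyy : y = y' := Q_ta_inj hS hy hy' (by
      have := congrArg (fun g : G => g • t • a) e'
      simpa [mul_smul, h1, h2'] using this)
    subst hyy
    exact Prod.ext rfl (Subtype.ext (mul_left_cancel e'))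
  · rintro ⟨x, hx⟩
    have hxs : x * s0 = s0 * x := Subgroup.mem_centralizer_singleton_iff.mp hx
    have hxa : x • a = a := (invol_sup hS hs0).2 _ (by
      rw [← mul_smul, ← hxs, mul_smul, mem_stabilizer_iff.mp hs0.1])
    obtain ⟨y, hy, d, hd, rfl⟩ := exists_decomp hS hxa
    refine ⟨(⟨y, hy⟩, ⟨d, Subgroup.mem_inf.mpr ⟨hd, (hVs hd).mpr ?_⟩⟩), rfl⟩
    apply mul_left_cancel (a := y)
    rw [← mul_assoc, ← hsc y hy, mul_assoc, ← hxs, mul_assoc]

section Identity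

variable [Fintype G]

theorem card_sol (s : G) {y : G} (hy : IsConj s y) :
    Nat.card {k : G // k * s * k⁻¹ = y} = Nat.card (Subgroup.centralizer ({s} : Set G)) := by
  obtain ⟨c, hc⟩ := isConj_iff.mp hy
  refine Nat.card_congr
    { toFun := fun k => ⟨c⁻¹ * k, Subgroup.mem_centralizer_singleton_iff.mpr ?_⟩
      invFun := fun z => ⟨c * z, ?_⟩
      left_inv := fun k => Subtype.ext (by simp)
      right_inv := fun z => Subtype.ext (by simp) }
  · have h : (k : G) * s = c * s * c⁻¹ * k := by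
      calc (k : G) * s = k * s * (k : G)⁻¹ * k := by group
        _ = c * s * c⁻¹ * k := by rw [k.2, hc]
    calc c⁻¹ * k * s = c⁻¹ * (k * s) := by group
      _ = s * (c⁻¹ * k) := by rw [h]; group
  · have hz : (z : G) * s = s * z := Subgroup.mem_centralizer_singleton_iff.mp z.2
    calc c * z * s * (c * z)⁻¹ = c * (z * s) * (z : G)⁻¹ * c⁻¹ := by group
      _ = y := by rw [hz, ← hc]; group

/-- The pairs of involutions through the second orthogonality relation. -/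
theorem card_pairs_eq (hS : IsRankOneSetup G Ω a t Q) {s : G} (hs1 : s ≠ 1) (hs2 : s * s = 1) (x : G) :
    Nat.card {p : G × G // p.2 * x * p.2⁻¹ = p.1 * s * p.1⁻¹ * s} =
      Nat.card {u : G // PairWith x u} * Nat.card (Subgroup.centralizer ({s} : Set G)) ^ 2 := by
  classical
  have hconj : ∀ u : G, u ≠ 1 → u * u = 1 → IsConj s u := fun u h1 h2 =>
    isConj_iff.mpr (invol_conj hS hs1 hs2 h1 h2)
  have hinv : ∀ g : G, g * s * g⁻¹ ≠ 1 ∧ g * s * g⁻¹ * (g * s * g⁻¹) = 1 := fun g =>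
    ⟨fun h => hs1 (conj_eq_one_iff.mp h), by
      calc g * s * g⁻¹ * (g * s * g⁻¹) = g * (s * s) * g⁻¹ := by group
        _ = 1 := by rw [hs2, mul_one, mul_inv_cancel]⟩
  let e1 : {p : G × G // p.2 * x * p.2⁻¹ = p.1 * s * p.1⁻¹ * s} ≃
      {p : G × G // p.1 * s * p.1⁻¹ * (p.2 * s * p.2⁻¹) = x} :=
    { toFun := fun p => ⟨(p.1.2⁻¹ * p.1.1, p.1.2⁻¹), by
        show p.1.2⁻¹ * p.1.1 * s * (p.1.2⁻¹ * p.1.1)⁻¹ * (p.1.2⁻¹ * s * p.1.2⁻¹⁻¹) = x
        calc _ = p.1.2⁻¹ * (p.1.1 * s * p.1.1⁻¹ * s) * p.1.2 := by group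
          _ = x := by rw [← p.2]; group⟩
      invFun := fun p => ⟨(p.1.2⁻¹ * p.1.1, p.1.2⁻¹), by
        show p.1.2⁻¹ * x * p.1.2⁻¹⁻¹ = p.1.2⁻¹ * p.1.1 * s * (p.1.2⁻¹ * p.1.1)⁻¹ * s
        calc p.1.2⁻¹ * x * p.1.2⁻¹⁻¹
            = p.1.2⁻¹ * (p.1.1 * s * p.1.1⁻¹ * (p.1.2 * s * p.1.2⁻¹)) * p.1.2⁻¹⁻¹ := by rw [p.2]
          _ = _ := by group⟩
      left_inv := fun p => Subtype.ext (Prod.ext (by simp) (by simp))
      right_inv := fun p => Subtype.ext (Prod.ext (by simp) (by simp)) }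
  have hux : ∀ p : {p : G × G // p.1 * s * p.1⁻¹ * (p.2 * s * p.2⁻¹) = x},
      p.1.1 * s * p.1.1⁻¹ * x = p.1.2 * s * p.1.2⁻¹ := fun p => by
    have h : p.1.1 * s * p.1.1⁻¹ * (p.1.1 * s * p.1.1⁻¹ * (p.1.2 * s * p.1.2⁻¹)) = p.1.1 * s * p.1.1⁻¹ * x :=
      congrArg (fun z => p.1.1 * s * p.1.1⁻¹ * z) p.2
    rw [← mul_assoc, (hinv _).2, one_mul] at h
    exact h.symm
  let e2 : {p : G × G // p.1 * s * p.1⁻¹ * (p.2 * s * p.2⁻¹) = x} ≃
      Σ u : {u : G // PairWith x u}, {k : G // k * s * k⁻¹ = u} × {k : G // k * s * k⁻¹ = (u : G) * x} :=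
    { toFun := fun p => ⟨⟨p.1.1 * s * p.1.1⁻¹, (hinv _).1, (hinv _).2, by
          rw [hux p]
          exact hinv _⟩, ⟨p.1.1, rfl⟩, ⟨p.1.2, (hux p).symm⟩⟩
      invFun := fun q => ⟨(q.2.1.1, q.2.2.1), by
        show q.2.1.1 * s * q.2.1.1⁻¹ * (q.2.2.1 * s * q.2.2.1⁻¹) = x
        rw [q.2.1.2, q.2.2.2, ← mul_assoc, q.1.2.2.1, one_mul]⟩
      left_inv := fun p => rfl
      right_inv := fun q => by
        obtain ⟨⟨u, hu⟩, ⟨k, hk⟩, ⟨l, hl⟩⟩ := q
        dsimp only at hk hl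
        subst hk
        rfl }
  haveI : Fintype {u : G // PairWith x u} := Fintype.ofFinite _
  rw [Nat.card_congr (e1.trans e2), Nat.card_sigma]
  simp only [Nat.card_prod]
  rw [Finset.sum_congr rfl (g := fun _ => Nat.card (Subgroup.centralizer ({s} : Set G)) ^ 2) fun u _ => by
    rw [card_sol s (hconj _ u.2.1 u.2.2.1), card_sol s (hconj _ u.2.2.2.1 u.2.2.2.2), sq],
    Finset.sum_const, smul_eq_mul, Finset.card_univ, Nat.card_eq_fintype_card, Nat.card_eq_fintype_card]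

theorem sum_sq_div_mul (hS : IsRankOneSetup G Ω a t Q) {s : G} (hs1 : s ≠ 1) (hs2 : s * s = 1) (x : G) :
    ∑ φ : IrrCharacter G, (φ : G → ℂ) s ^ 2 / (φ : G → ℂ) 1 * conj ((φ : G → ℂ) x) =
      (Nat.card G : ℂ)⁻¹ * (Nat.card {u : G // PairWith x u} : ℂ) *
        (Nat.card (Subgroup.centralizer ({s} : Set G)) : ℂ) ^ 2 := by
  classical
  have hG : (Nat.card G : ℂ) ≠ 0 := Nat.cast_ne_zero.mpr Nat.card_pos.ne'
  have h1 : ∀ φ : IrrCharacter G, (φ : G → ℂ) s ^ 2 / (φ : G → ℂ) 1 =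
      (Nat.card G : ℂ)⁻¹ * ∑ g : G, (φ : G → ℂ) (g * s * g⁻¹ * s) := fun φ => by
    rw [sum_conj_mul_char φ.2 s s, sq, ← mul_div_assoc, inv_mul_cancel_left₀ hG]
  have h2 : ∀ φ : IrrCharacter G, (φ : G → ℂ) s ^ 2 / (φ : G → ℂ) 1 * conj ((φ : G → ℂ) x) =
      ∑ g : G, (Nat.card G : ℂ)⁻¹ * ((φ : G → ℂ) (g * s * g⁻¹ * s) * conj ((φ : G → ℂ) x)) := fun φ => by
    rw [h1, Finset.mul_sum, Finset.sum_mul]
    exact Finset.sum_congr rfl fun g _ => by rw [mul_assoc]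
  rw [Finset.sum_congr rfl fun φ _ => h2 φ]
  rw [Finset.sum_comm]
  simp only [← Finset.mul_sum, sum_irr_mul_conj]
  rw [mul_assoc]
  congr 1
  rw [← Nat.cast_pow, ← Nat.cast_mul, ← card_pairs_eq hS hs1 hs2 x,
    Nat.card_congr (Equiv.subtypeProdEquivSigmaSubtype fun g h : G => h * x * h⁻¹ = g * s * g⁻¹ * s),
    Nat.card_sigma, Nat.cast_sum]
  refine Finset.sum_congr rfl fun g _ => ?_
  split
  · rename_i hc
    rw [card_centralizer_of_isConj hc, card_sol x hc.symm]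
  · rename_i hc
    have : IsEmpty {h : G // h * x * h⁻¹ = g * s * g⁻¹ * s} :=
      ⟨fun h => hc (isConj_iff.mpr ⟨h.1, h.2⟩).symm⟩
    rw [Nat.card_of_isEmpty, Nat.cast_zero]

/-- The class identity. -/
theorem class_identity (hS : IsRankOneSetup G Ω a t Q) (h2 : Four G) [Fintype (stabilizer G a)]
    {s : G} (hs : s ∈ involutionsIn (stabilizer G a : Set G)) {f : stabilizer G a → ℂ}
    (hf : IsClassFunction (stabilizer G a) f) (hsupp : ∀ x : stabilizer G a, (x : G) ∉ Sup G a → f x = 0) :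
    ∑ φ : IrrCharacter G, classInner (indFun (stabilizer G a) f) (φ : G → ℂ) *
        ((φ : G → ℂ) s ^ 2 / (φ : G → ℂ) 1) =
      ((qZ G a : ℂ) - 2) / ((Nat.card Q + 1) * ((qZ G a : ℂ) - 1)) * f ⟨s, hs.1⟩ := by
  classical
  have h1 : ∀ φ : IrrCharacter G, classInner (indFun (stabilizer G a) f) (φ : G → ℂ) =
      (Nat.card (stabilizer G a) : ℂ)⁻¹ * ∑ x : stabilizer G a, f x * conj ((φ : G → ℂ) x) := fun φ => by
    rw [frobenius_reciprocity (stabilizer G a) f (isClassFunction_irr φ.2)]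
    rfl
  have h2' : ∀ φ : IrrCharacter G, classInner (indFun (stabilizer G a) f) (φ : G → ℂ) *
      ((φ : G → ℂ) s ^ 2 / (φ : G → ℂ) 1) = ∑ x : stabilizer G a, (Nat.card (stabilizer G a) : ℂ)⁻¹ *
        (f x * conj ((φ : G → ℂ) x)) * ((φ : G → ℂ) s ^ 2 / (φ : G → ℂ) 1) := fun φ => by
    rw [h1 φ, Finset.mul_sum, Finset.sum_mul]
  rw [Finset.sum_congr rfl fun φ _ => h2' φ]
  rw [Finset.sum_comm]
  have h3 : ∀ x : stabilizer G a, ∑ φ : IrrCharacter G, (Nat.card (stabilizer G a) : ℂ)⁻¹ * (f x * conj ((φ : G → ℂ) x)) *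
      ((φ : G → ℂ) s ^ 2 / (φ : G → ℂ) 1) = (Nat.card (stabilizer G a) : ℂ)⁻¹ * f x * ((Nat.card G : ℂ)⁻¹ *
        (Nat.card {u : G // PairWith (x : G) u} : ℂ) *
        (Nat.card (Subgroup.centralizer ({s} : Set G)) : ℂ) ^ 2) := fun x => by
    rw [← sum_sq_div_mul hS hs.2.1 hs.2.2 x, Finset.mul_sum]
    exact Finset.sum_congr rfl fun φ _ => by ring
  rw [Finset.sum_congr rfl fun x _ => h3 x]
  have h4 : ∀ x : stabilizer G a, f x * (Nat.card {u : G // PairWith (x : G) u} : ℂ) =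
      if (x : G) ∈ involutionsIn ((stabilizer G a) : Set G) then f ⟨s, hs.1⟩ * ((qZ G a : ℂ) - 2) else 0 := by
    intro x
    split
    · rename_i hx
      obtain ⟨k, hk, hk'⟩ := exists_conj_inverted hS hs hx
      have hfx : f x = f ⟨s, hs.1⟩ := by
        rw [← hf ⟨s, hs.1⟩ ⟨k⁻¹, inv_mem (D_le hS hk.1)⟩]
        exact congrArg f (Subtype.ext (by simp [hk']))
      have hq : (Nat.card {u : G // PairWith (x : G) u} : ℂ) + 2 = (qZ G a : ℂ) := by
        exact_mod_cast card_pairWith_invol hS h2 hx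
      rw [hfx, ← hq]; ring
    · rename_i hx
      by_cases hxS : (x : G) ∈ Sup G a
      · rw [card_pairWith_zero hS h2 hxS hx, Nat.cast_zero, mul_zero]
      · rw [hsupp x hxS, zero_mul]
  rw [Finset.sum_congr rfl fun x _ => show (Nat.card (stabilizer G a) : ℂ)⁻¹ * f x * ((Nat.card G : ℂ)⁻¹ *
      (Nat.card {u : G // PairWith (x : G) u} : ℂ) * (Nat.card (Subgroup.centralizer ({s} : Set G)) : ℂ) ^ 2) =
      (Nat.card (stabilizer G a) : ℂ)⁻¹ * (Nat.card G : ℂ)⁻¹ * (Nat.card (Subgroup.centralizer ({s} : Set G)) : ℂ) ^ 2 *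
        (if (x : G) ∈ involutionsIn ((stabilizer G a) : Set G) then f ⟨s, hs.1⟩ * ((qZ G a : ℂ) - 2) else 0) by
    rw [← h4]; ring, ← Finset.mul_sum, ← Finset.sum_filter, Finset.sum_const, nsmul_eq_mul]
  have hcard : (Finset.univ.filter fun x : stabilizer G a => (x : G) ∈ involutionsIn ((stabilizer G a) : Set G)).card = qZ G a - 1 := by
    rw [qZ, Nat.add_sub_cancel, ← Fintype.card_subtype, ← Nat.card_eq_fintype_card]
    exact Nat.card_congr
      { toFun := fun x => ⟨x.1.1, x.2⟩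
        invFun := fun x => ⟨⟨x.1, x.2.1⟩, x.2⟩
        left_inv := fun _ => rfl
        right_inv := fun _ => rfl }
  have hAc : (Nat.card (stabilizer G a) : ℂ) = (Nat.card Q : ℂ) * (((qZ G a - 1 : ℕ) : ℂ) *
      (Nat.card ↥(D a t ⊓ Subgroup.centralizer {t}) : ℂ)) := by exact_mod_cast card_stab' hS
  have hGc : (Nat.card G : ℂ) = ((Nat.card Q : ℂ) + 1) * ((Nat.card Q : ℂ) * (((qZ G a - 1 : ℕ) : ℂ) *
      (Nat.card ↥(D a t ⊓ Subgroup.centralizer {t}) : ℂ))) := by exact_mod_cast card_group' hS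
  have hCc : (Nat.card (Subgroup.centralizer ({s} : Set G)) : ℂ) = (Nat.card Q : ℂ) *
      (Nat.card ↥(D a t ⊓ Subgroup.centralizer {t}) : ℂ) := by exact_mod_cast card_centralizer_invol hS h2 hs
  have hq1 : ((qZ G a - 1 : ℕ) : ℂ) = (qZ G a : ℂ) - 1 := by
    rw [Nat.cast_sub (by rw [qZ]; omega), Nat.cast_one]
  have hq0 : (qZ G a : ℂ) - 1 ≠ 0 := by
    rw [← hq1]
    have := card_pairWith_invol hS h2 hs
    exact Nat.cast_ne_zero.mpr (by omega)
  have hQ0 : (Nat.card Q : ℂ) ≠ 0 := Nat.cast_ne_zero.mpr Nat.card_pos.ne'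
  have hV0 : (Nat.card ↥(D a t ⊓ Subgroup.centralizer {t}) : ℂ) ≠ 0 := Nat.cast_ne_zero.mpr Nat.card_pos.ne'
  have hN0 : (Nat.card Q : ℂ) + 1 ≠ 0 := by exact_mod_cast Nat.succ_ne_zero (Nat.card Q)
  rw [hcard, hAc, hGc, hCc, hq1]
  field_simp

theorem apply_invol_real {φ : G → ℂ} (hφ : IsCharacter G φ) {s : G} (hs2 : s * s = 1) :
    ((φ s).re : ℂ) = φ s := by
  apply Complex.conj_eq_iff_re.mp
  rw [← char_apply_inv hφ, inv_eq_of_mul_eq_one_right hs2]

theorem sum_re_sq_invol (hS : IsRankOneSetup G Ω a t Q) (h2 : Four G) {s : G}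
    (hs : s ∈ involutionsIn (stabilizer G a : Set G)) :
    ∑ φ : IrrCharacter G, ((φ : G → ℂ) s).re ^ 2 =
      (Nat.card Q : ℝ) * (Nat.card ↥(D a t ⊓ Subgroup.centralizer {t}) : ℝ) := by
  classical
  have h := sum_irr_mul_conj s s
  rw [if_pos (IsConj.refl s), card_centralizer_invol hS h2 hs] at h
  have h' := congrArg Complex.re h
  simp only [Complex.re_sum, Complex.natCast_re] at h'
  rw [← Nat.cast_mul, ← h']
  refine Finset.sum_congr rfl fun φ _ => ?_
  rw [← apply_invol_real (isCharacter_of_irr φ.2) hs.2.2, Complex.conj_ofReal, ← Complex.ofReal_mul,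
    Complex.ofReal_re, Complex.ofReal_re, sq]

theorem sum_re_sq_one :
    ∑ φ : IrrCharacter G, ((φ : G → ℂ) 1).re ^ 2 = (Nat.card G : ℝ) := by
  have h' := congrArg Complex.re (sum_irr_degree_sq (G := G))
  simp only [Complex.re_sum, Complex.natCast_re] at h'
  rw [← h']
  refine Finset.sum_congr rfl fun φ _ => ?_
  obtain ⟨d, -, hd⟩ := irr_degree_pos φ.2
  rw [hd, sq, sq, ← Nat.cast_mul, Complex.natCast_re, Complex.natCast_re, Nat.cast_mul]

/-- A lower bound for the value at an involution of a character of `G`. -/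
def Bd (a : Ω) (Q : Subgroup G) (s : G) (X : G → ℂ) (m : ℝ) : Prop :=
  15 / 64 * (m * (qZ G a : ℝ) / ((qZ G a : ℝ) - 1)) ^ 2 ≤
    (X s).re ^ 2 + 15 * ((((qZ G a : ℝ) - 2) / 2) * (X 1).re / (((Nat.card Q : ℝ) + 1) * ((qZ G a : ℝ) - 1))) ^ 2

/-- The column inequality. -/
theorem bound_sum (hS : IsRankOneSetup G Ω a t Q) (h2 : Four G) {s : G}
    (hs : s ∈ involutionsIn (stabilizer G a : Set G)) {ι : Type*} [Fintype ι] (Φ : ι → IrrCharacter G)
    (hΦ : Function.Injective Φ) (m : ι → ℝ) (hb : ∀ i, Bd a Q s (Φ i : G → ℂ) (m i)) :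
    15 / 64 * ((qZ G a : ℝ) / ((qZ G a : ℝ) - 1)) ^ 2 * ∑ i, m i ^ 2 ≤
      (Nat.card Q : ℝ) * (Nat.card ↥(D a t ⊓ Subgroup.centralizer {t}) : ℝ) *
        (1 + 15 * (((qZ G a : ℝ) - 2) / 2) ^ 2 / (((Nat.card Q : ℝ) + 1) * ((qZ G a : ℝ) - 1))) := by
  classical
  set q : ℝ := (qZ G a : ℝ) with hq
  set N : ℝ := (Nat.card Q : ℝ) with hN
  set V : ℝ := (Nat.card ↥(D a t ⊓ Subgroup.centralizer {t}) : ℝ) with hV
  have hq2 : (2 : ℝ) ≤ q := by
    have := card_pairWith_invol hS h2 hs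
    rw [hq]; exact_mod_cast (by omega : 2 ≤ qZ G a)
  have hN0 : (0 : ℝ) ≤ N := Nat.cast_nonneg _
  have hG : (Nat.card G : ℝ) = (N + 1) * (N * ((q - 1) * V)) := by
    rw [hq, hN, hV]
    have h := congrArg (fun n : ℕ => (n : ℝ)) (card_group' hS)
    rw [Nat.cast_mul, Nat.cast_mul, Nat.cast_mul, Nat.cast_sub (by rw [qZ]; omega)] at h
    simpa using h
  set k : ℝ := (q - 2) / 2 / ((N + 1) * (q - 1)) with hk
  have h1 : ∑ i, ((Φ i : G → ℂ) s).re ^ 2 ≤ N * V := by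
    rw [← sum_re_sq_invol hS h2 hs]
    exact (le_of_eq (Finset.sum_image (g := Φ) (f := fun φ : IrrCharacter G => ((φ : G → ℂ) s).re ^ 2)
      fun x _ y _ e => hΦ e).symm).trans
      (Finset.sum_le_sum_of_subset_of_nonneg (Finset.subset_univ _) fun φ _ _ => sq_nonneg _)
  have h3 : ∑ i, ((Φ i : G → ℂ) 1).re ^ 2 ≤ (Nat.card G : ℝ) := by
    rw [← sum_re_sq_one]
    exact (le_of_eq (Finset.sum_image (g := Φ) (f := fun φ : IrrCharacter G => ((φ : G → ℂ) 1).re ^ 2)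
      fun x _ y _ e => hΦ e).symm).trans
      (Finset.sum_le_sum_of_subset_of_nonneg (Finset.subset_univ _) fun φ _ _ => sq_nonneg _)
  calc 15 / 64 * (q / (q - 1)) ^ 2 * ∑ i, m i ^ 2
      = ∑ i, 15 / 64 * (m i * q / (q - 1)) ^ 2 := by
        rw [Finset.mul_sum]; exact Finset.sum_congr rfl fun i _ => by ring
    _ ≤ ∑ i, (((Φ i : G → ℂ) s).re ^ 2 + 15 * k ^ 2 * ((Φ i : G → ℂ) 1).re ^ 2) := by
        refine Finset.sum_le_sum fun i _ => (hb i).trans (le_of_eq ?_)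
        rw [hk]; ring
    _ = ∑ i, ((Φ i : G → ℂ) s).re ^ 2 + 15 * k ^ 2 * ∑ i, ((Φ i : G → ℂ) 1).re ^ 2 := by
        rw [Finset.sum_add_distrib, Finset.mul_sum]
    _ ≤ N * V + 15 * k ^ 2 * ((N + 1) * (N * ((q - 1) * V))) := by
        rw [← hG]; exact add_le_add h1 (mul_le_mul_of_nonneg_left h3 (by positivity))
    _ = N * V * (1 + 15 * ((q - 2) / 2) ^ 2 / ((N + 1) * (q - 1))) := by
        have : q - 1 ≠ 0 := by linarith
        rw [hk]; field_simp

end Identity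

end CfsgLib.SuzukiRankOne
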