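import Cfsg.Agent.Lib.SuzukiRankOne.Basics

/-!
A set-up on nine points with a single involution in a point stabiliser has `r * r = 1`.
-/

set_option autoImplicit false
set_option linter.unusedSectionVars false
set_option linter.style.haveILetI false

namespace CfsgLib.SuzukiRankOne

open MulAction Cfsg CfsgLib.RankOne

universe u v

variable {H : Type u} {Ω : Type v} [Group H] [Finite H] [MulAction H Ω] [FaithfulSMul H Ω] {a : Ω} {t : H}
  {P : Subgroup H} (hS : IsRankOneSetup H Ω a t P)

include hS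

/-- There are as many involutions as points. -/
theorem card_invol_le {s : H} (hone : ∀ x ∈ involutionsIn (stabilizer H a : Set H), x = s) :
    Nat.card {u : H // u ≠ 1 ∧ u * u = 1} ≤ Nat.card Ω := by
  classical
  haveI := finite_points hS
  haveI := pretransitive hS
  refine Nat.card_le_card_of_injective (fun u => (exists_fix hS u.2.1 u.2.2).choose) fun u u' h => ?_
  set c := (exists_fix hS u.2.1 u.2.2).choose with hc
  have h1 : (u : H) • c = c := (exists_fix hS u.2.1 u.2.2).choose_spec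
  have h1' : (u' : H) • c = c := by
    have := (exists_fix hS u'.2.1 u'.2.2).choose_spec
    change (exists_fix hS u.2.1 u.2.2).choose = (exists_fix hS u'.2.1 u'.2.2).choose at h
    rw [← h] at this
    exact this
  obtain ⟨g, hg⟩ := exists_smul_eq H a c
  have key : ∀ w : H, w ≠ 1 → w * w = 1 → w • c = c → g⁻¹ * w * g = s := by
    intro w hw1 hw2 hwc
    refine hone _ ⟨mem_stabilizer_iff.mpr (by rw [mul_smul, mul_smul, hg, hwc, ← hg, inv_smul_smul]),
      fun e => hw1 ?_, ?_⟩
    · rw [show w = g * (g⁻¹ * w * g) * g⁻¹ by group, e, mul_one, mul_inv_cancel]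
    · rw [show g⁻¹ * w * g * (g⁻¹ * w * g) = g⁻¹ * (w * w) * g by group, hw2, mul_one, inv_mul_cancel]
  exact Subtype.ext (mul_left_cancel (mul_right_cancel ((key _ u.2.1 u.2.2 h1).trans (key _ u'.2.1 u'.2.2 h1').symm)))

/-- The nine-point case. -/
theorem nine_points (hc : Nat.card P = 8) (hq : qZ H a = 2) (hsq : ∀ x ∈ P, x * x * (x * x) = 1) :
    Rsq a t P := by
  classical
  obtain ⟨⟨s, r⟩, ⟨hs, hr, he⟩, huniq⟩ := structure_eq hS
  dsimp only at hs hr he
  by_contra hnr
  have hrr : r * r ≠ 1 := fun h => hnr (rsq_of_one hS hs hr he h)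
  haveI := finite_points hS
  have hpts : Nat.card Ω = 9 := by rw [card_points hS, hc]
  have hone : ∀ x ∈ involutionsIn (stabilizer H a : Set H), x = s := by
    intro x hx
    have h1 : Nat.card {x : H // x ∈ involutionsIn (stabilizer H a : Set H)} = 1 := by
      rw [qZ] at hq
      omega
    haveI := (Nat.card_eq_one_iff_unique.mp h1).1
    exact congrArg Subtype.val
      (Subsingleton.elim (⟨x, hx⟩ : {x : H // x ∈ involutionsIn (stabilizer H a : Set H)}) ⟨s, hs⟩)
  have hsa : s • a = a := mem_stabilizer_iff.mp hs.1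
  have hss := hs.2.2
  have htt := hS.mul_self
  have hti : t⁻¹ = t := inv_t hS
  have hsi : s⁻¹ = s := inv_eq_of_mul_eq_one_right hss
  set d := s * t with hd
  have hodd : Odd (orderOf d) := odd_mul hS hs.2.1 hss hsa hS.ne_one htt (ta_ne hS)
  set n := orderOf d with hn
  have hnpos : 0 < n := orderOf_pos d
  have hdn : d ^ n = 1 := pow_orderOf_eq_one d
  have hdinv : s * d * s⁻¹ = d⁻¹ := by
    rw [hd, mul_inv_rev, hti, hsi]
    calc s * (s * t) * s = (s * s) * t * s := by group
      _ = t * s := by rw [hss, one_mul]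
  have hinv : ∀ i : ℕ, s * d ^ i ≠ 1 ∧ s * d ^ i * (s * d ^ i) = 1 := by
    intro i
    refine ⟨fun h => ?_, ?_⟩
    · have h1 : d ^ i = s := by
        calc d ^ i = s * s * d ^ i := by rw [hss, one_mul]
          _ = s := by rw [mul_assoc, h, mul_one]
      have h2 : s ^ n = 1 := by rw [← h1, ← pow_mul, mul_comm, pow_mul, hdn, one_pow]
      obtain ⟨j, hj⟩ := hodd
      rw [hj, pow_succ, pow_mul, show s ^ 2 = 1 by rw [pow_two, hss], one_pow, one_mul] at h2
      exact hs.2.1 h2
    · have h1 : s * d ^ i * s⁻¹ = (d ^ i)⁻¹ := by rw [← conj_pow, hdinv, inv_pow]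
      rw [hsi] at h1
      calc s * d ^ i * (s * d ^ i) = s * d ^ i * s * d ^ i := by group
        _ = 1 := by rw [h1, inv_mul_cancel]
  let e : Fin n → {u : H // u ≠ 1 ∧ u * u = 1} := fun i => ⟨s * d ^ (i : ℕ), hinv i⟩
  have heinj : Function.Injective e := fun i j h =>
    Fin.ext (pow_injOn_Iio_orderOf i.2 j.2 (mul_left_cancel (congrArg Subtype.val h)))
  have hn9 : n ≤ 9 := by
    have h1 := (Nat.card_le_card_of_injective e heinj).trans ((card_invol_le hS hone).trans hpts.le)
    rwa [Nat.card_eq_fintype_card, Fintype.card_fin] at h1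
  have hn1 : n ≠ 1 := fun h => by
    have h1 : d = 1 := orderOf_eq_one_iff.mp h
    refine hS.not_mem ?_
    rw [show t = s by
      calc t = s * (s * t) := by rw [← mul_assoc, hss, one_mul]
        _ = s := by rw [show s * t = 1 from h1, mul_one]]
    exact hs.1
  have hn3 : n ≠ 3 := fun h => by
    have h1 : d ^ 3 = 1 := h ▸ hdn
    have h2 : t * s * t = s⁻¹ * t * s := by
      rw [hsi]
      calc t * s * t = s * t * s * ((s * t * s)⁻¹ * (t * s * t)) := by group
        _ = s * t * s * (s * t * (s * t) * (s * t)) := by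
          rw [show (s * t * s)⁻¹ = s * t * s by rw [mul_inv_rev, mul_inv_rev, hti, hsi]; group]
          group
        _ = s * t * s := by
          rw [show s * t * (s * t) * (s * t) = d ^ 3 by rw [hd, pow_succ, pow_two], h1, mul_one]
    exact hnr (rsq_of_one hS hs (invol_mem hS hs) h2 hss)
  obtain ⟨h57 | h9⟩ : Nonempty ((n = 5 ∨ n = 7) ∨ n = 9) := by
    refine ⟨?_⟩
    obtain ⟨j, hj⟩ := hodd
    have hj4 : j ≤ 4 := by omega
    interval_cases j <;> omega
  · -- prime order: a non-trivial element fixing everything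
    have hp : n.Prime := by rcases h57 with h | h <;> rw [h] <;> norm_num
    haveI := Fact.mk hp
    haveI := pretransitive hS
    have hzp : IsPGroup n (Subgroup.zpowers d) := IsPGroup.of_card (n := 1) (by rw [Nat.card_zpowers, pow_one])
    obtain ⟨c, hdc⟩ : ∃ c : Ω, d • c = c := by
      have h1 := hzp.card_modEq_card_fixedPoints Ω
      rw [hpts] at h1
      by_contra hno
      push Not at hno
      haveI : IsEmpty (fixedPoints (Subgroup.zpowers d) Ω) :=
        ⟨fun c => hno c.1 (c.2 ⟨d, Subgroup.mem_zpowers d⟩)⟩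
      rw [Nat.card_of_isEmpty] at h1
      unfold Nat.ModEq at h1
      rcases h57 with h | h <;> rw [h] at h1 <;> omega
    obtain ⟨g, hg⟩ := exists_smul_eq H a c
    set d' := g⁻¹ * d * g with hd'
    have hd'a : d' • a = a := by rw [hd', mul_smul, mul_smul, hg, hdc, ← hg, inv_smul_smul]
    have hd'1 : d' ≠ 1 := fun h => hn1 (orderOf_eq_one_iff.mpr (by
      rw [show d = g * d' * g⁻¹ by rw [hd']; group, h, mul_one, mul_inv_cancel]))
    have hd'n : d' ^ n = 1 := by
      rw [hd', show g⁻¹ * d * g = g⁻¹ * d * g⁻¹⁻¹ by group, conj_pow, hdn]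
      group
    have hzp' : IsPGroup n (Subgroup.zpowers d') := IsPGroup.of_card (n := 1) (by
      rw [Nat.card_zpowers, pow_one]
      exact orderOf_eq_prime hd'n hd'1)
    obtain ⟨c', hc'a, hc'⟩ : ∃ c' : Ω, c' ≠ a ∧ d' • c' = c' := by
      have h1 := hzp'.card_modEq_card_fixedPoints Ω
      rw [hpts] at h1
      by_contra hno
      push Not at hno
      haveI : Subsingleton (fixedPoints (Subgroup.zpowers d') Ω) := ⟨fun x y => by
        have key : ∀ z : fixedPoints (Subgroup.zpowers d') Ω, (z : Ω) = a := fun z => by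
          by_contra hz
          exact hno z.1 hz (z.2 ⟨d', Subgroup.mem_zpowers d'⟩)
        exact Subtype.ext ((key x).trans (key y).symm)⟩
      have h2 : Nat.card (fixedPoints (Subgroup.zpowers d') Ω) ≤ 1 := Finite.card_le_one_iff_subsingleton.mpr inferInstance
      unfold Nat.ModEq at h1
      rcases h57 with h | h <;> rw [h] at h1 <;> omega
    -- the action on `P`
    have hzN : Subgroup.zpowers d' ≤ stabilizer H a := Subgroup.zpowers_le.mpr (mem_stabilizer_iff.mpr hd'a)
    letI : MulAction (Subgroup.zpowers d') P :=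
      { smul := fun z x => ⟨(z : H) * x * (z : H)⁻¹, conj_Q hS (mem_stabilizer_iff.mp (hzN z.2)) x.2⟩
        one_smul := fun x => Subtype.ext (show ((1 : Subgroup.zpowers d') : H) * x * ((1 : Subgroup.zpowers d') : H)⁻¹ = x by simp)
        mul_smul := fun z z' x => Subtype.ext (show ((z * z' : Subgroup.zpowers d') : H) * x * ((z * z' : Subgroup.zpowers d') : H)⁻¹ =
          (z : H) * ((z' : H) * x * (z' : H)⁻¹) * (z : H)⁻¹ by simp only [Subgroup.coe_mul]; group) }
    have hsmul : ∀ (z : Subgroup.zpowers d') (x : P), ((z • x : P) : H) = (z : H) * x * (z : H)⁻¹ := fun _ _ => rfl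
    have h1 := hzp'.card_modEq_card_fixedPoints P
    rw [hc] at h1
    have hfix : Nat.card (fixedPoints (Subgroup.zpowers d') P) = Nat.card ↥(Subgroup.centralizer {d'} ⊓ P) := by
      refine Nat.card_congr
        { toFun := fun x => ⟨(x.1 : H), Subgroup.mem_inf.mpr ⟨Subgroup.mem_centralizer_singleton_iff.mpr ?_, x.1.2⟩⟩
          invFun := fun x => ⟨⟨x, (Subgroup.mem_inf.mp x.2).2⟩, fun z => Subtype.ext ?_⟩
          left_inv := fun x => rfl
          right_inv := fun x => rfl }
      · have := congrArg Subtype.val (x.2 ⟨d', Subgroup.mem_zpowers d'⟩)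
        rw [hsmul] at this
        exact (mul_inv_eq_iff_eq_mul.mp this).symm
      · rw [hsmul]
        obtain ⟨i, hi⟩ := Subgroup.mem_zpowers_iff.mp z.2
        have hcomm : Commute d' (x : H) := (Subgroup.mem_centralizer_singleton_iff.mp (Subgroup.mem_inf.mp x.2).1).symm
        rw [← hi, (hcomm.zpow_left i).eq, mul_inv_cancel_right]
    rw [hfix] at h1
    have hsmem : s ∈ Subgroup.centralizer {d'} ⊓ P := by
      refine Subgroup.mem_inf.mpr ⟨Subgroup.mem_centralizer_singleton_iff.mpr ?_, invol_mem hS hs⟩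
      exact (mul_inv_eq_iff_eq_mul.mp (hone _ (invol_conj_mem hS hd'a hs))).symm
    have h2 : 2 ≤ Nat.card ↥(Subgroup.centralizer {d'} ⊓ P) :=
      Finite.one_lt_card_iff_nontrivial.mpr ⟨⟨⟨s, hsmem⟩, 1, fun e => hs.2.1 (congrArg Subtype.val e)⟩⟩
    have h3 : Nat.card ↥(Subgroup.centralizer {d'} ⊓ P) ∣ 8 := hc ▸ Subgroup.card_dvd_of_le inf_le_right
    have h4 : Nat.card ↥(Subgroup.centralizer {d'} ⊓ P) = 8 := by
      have h5 := Nat.le_of_dvd (by norm_num) h3
      unfold Nat.ModEq at h1
      rcases h57 with h | h <;> rw [h] at h1 <;>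
        (interval_cases Nat.card ↥(Subgroup.centralizer {d'} ⊓ P) <;> omega)
    have hle : Subgroup.centralizer {d'} ⊓ P = P := Subgroup.eq_of_le_of_card_ge inf_le_right (by rw [h4, hc])
    refine hd'1 (eq_of_smul_eq_smul (α := Ω) fun z => ?_)
    rw [one_smul]
    by_cases hza : z = a
    · rw [hza, hd'a]
    · obtain ⟨y, hy, -⟩ := exists_unique_Q hS hc'a hza
      have hyc : (y : H) * d' = d' * y :=
        Subgroup.mem_centralizer_singleton_iff.mp (Subgroup.mem_inf.mp (hle.symm ▸ y.2 : (y : H) ∈ Subgroup.centralizer {d'} ⊓ P)).1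
      rw [← hy, ← mul_smul, ← hyc, mul_smul, hc']
  · -- order nine: the involutions form a dihedral group
    have hbij : Function.Bijective e := heinj.bijective_of_nat_card_le (by
      rw [Nat.card_eq_fintype_card (α := Fin n), Fintype.card_fin, h9]
      exact (card_invol_le hS hone).trans hpts.le)
    have hr2 : r * r = s := hone _ ⟨mul_mem (hS.le hr) (hS.le hr), hrr, hsq r hr⟩
    have hrs : r * s * r⁻¹ = s := by rw [← hr2, show r * (r * r) * r⁻¹ = r * r by group]
    obtain ⟨i, hi⟩ := hbij.2 ⟨r * t * r⁻¹, fun e => hS.ne_one (conj_eq_one_iff.mp e),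
      by rw [show r * t * r⁻¹ * (r * t * r⁻¹) = r * (t * t) * r⁻¹ by group, htt, mul_one, mul_inv_cancel]⟩
    have hi' : r * t * r⁻¹ = s * d ^ (i : ℕ) := (congrArg Subtype.val hi).symm
    have hrd : r * d * r⁻¹ = d ^ (i : ℕ) := by
      calc r * d * r⁻¹ = r * s * r⁻¹ * (r * t * r⁻¹) := by rw [hd]; group
        _ = s * (s * d ^ (i : ℕ)) := by rw [hrs, hi']
        _ = _ := by rw [← mul_assoc, hss, one_mul]
    have hrd2 : d ^ ((i : ℕ) * (i : ℕ)) = d⁻¹ := by
      rw [← hdinv, ← hr2, pow_mul]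
      calc (d ^ (i : ℕ)) ^ (i : ℕ) = (r * d * r⁻¹) ^ (i : ℕ) := by rw [hrd]
        _ = r * d ^ (i : ℕ) * r⁻¹ := conj_pow
        _ = r * (r * d * r⁻¹) * r⁻¹ := by rw [hrd]
        _ = _ := by group
    have h1 : d ^ ((i : ℕ) * (i : ℕ) + 1) = 1 := by rw [pow_succ, hrd2, inv_mul_cancel]
    have h2 : 9 ∣ (i : ℕ) * (i : ℕ) + 1 := h9 ▸ orderOf_dvd_of_pow_eq_one h1
    have h3 : 3 ∣ (i : ℕ) * (i : ℕ) + 1 := (show 3 ∣ 9 by norm_num).trans h2
    rw [Nat.dvd_iff_mod_eq_zero, Nat.add_mod, Nat.mul_mod] at h3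
    have h4 : (i : ℕ) % 3 < 3 := Nat.mod_lt _ (by norm_num)
    interval_cases hk : (i : ℕ) % 3 <;> simp at h3

end CfsgLib.SuzukiRankOne
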