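import Cfsg.Agent.Lib.SuzukiRankOne.Basics
import Cfsg.Agent.S0885
import Cfsg.Agent.Lib.SuzukiUnique.FromHyp
import Cfsg.Agent.Lib.SuzukiZT.Square

/-!
The case of a trivial centraliser of `t` in the two-point stabiliser: a simple Zassenhaus group.
-/

set_option autoImplicit false
set_option linter.unusedSectionVars false
set_option linter.style.haveILetI false

namespace CfsgLib.SuzukiRankOne

open MulAction Cfsg CfsgLib.RankOne

universe u v

variable {G : Type u} {Ω : Type v} [Group G] [Finite G] [MulAction G Ω] [FaithfulSMul G Ω] {a : Ω} {t : G}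
  {Q : Subgroup G} (hS : IsRankOneSetup G Ω a t Q) (h2 : Four G) (hQ2 : IsPGroup 2 Q)
  (hmin : ∀ N : Subgroup G, N.Normal → Q ≤ N → N = ⊤)

include hS h2 hQ2 hmin

/-- A transitive normal subgroup is everything. -/
theorem normal_eq_top {N : Subgroup G} [N.Normal] (htr : ∀ c : Ω, ∃ n ∈ N, n • a = c) : N = ⊤ := by
  classical
  obtain ⟨k, hk, hk1⟩ := exists_inverted hS h2
  have hnorm : ∀ g : G, ∀ m ∈ N ⊔ Q, g * m * g⁻¹ ∈ N ⊔ Q := by
    intro g m hm
    obtain ⟨n, hn, hna⟩ := htr (g • a)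
    have hh : (n⁻¹ * g) • a = a := by rw [mul_smul, ← hna, inv_smul_smul]
    obtain ⟨l, hl, x, hx, rfl⟩ := Subgroup.mem_sup_of_normal_left.mp hm
    rw [show g * (l * x) * g⁻¹ = g * l * g⁻¹ * (n * (n⁻¹ * g * x * (n⁻¹ * g)⁻¹) * n⁻¹) by group]
    have hn' : n ∈ N ⊔ Q := Subgroup.mem_sup_left hn
    exact mul_mem (Subgroup.mem_sup_left (Subgroup.Normal.conj_mem inferInstance l hl g))
      (mul_mem (mul_mem hn' (Subgroup.mem_sup_right (conj_Q hS hh hx))) (inv_mem hn'))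
  have htop : N ⊔ Q = ⊤ := hmin _ ⟨fun m hm g => hnorm g m hm⟩ le_sup_right
  -- the inverted element lies in `N`
  have hkN : k ∈ N := by
    obtain ⟨n, hn, x, hx, e⟩ := Subgroup.mem_sup_of_normal_left.mp (htop ▸ Subgroup.mem_top k : k ∈ N ⊔ Q)
    obtain ⟨j, hj⟩ := hQ2 ⟨x, hx⟩
    have h1 : (QuotientGroup.mk k : G ⧸ N) ^ 2 ^ j = 1 := by
      rw [show (QuotientGroup.mk k : G ⧸ N) = QuotientGroup.mk x by
        rw [← e, QuotientGroup.mk_mul, (QuotientGroup.eq_one_iff n).mpr hn, one_mul]]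
      rw [← QuotientGroup.mk_pow, show x ^ 2 ^ j = 1 from congrArg Subtype.val hj]
      rfl
    have h2' : (QuotientGroup.mk k : G ⧸ N) ^ Nat.card (D a t) = 1 := by
      have h := congrArg Subtype.val (pow_card_eq_one' (G := D a t) (x := ⟨k, hk.1⟩))
      rw [SubgroupClass.coe_pow] at h
      rw [← QuotientGroup.mk_pow, show k ^ Nat.card (D a t) = 1 from h]
      rfl
    have h3 := pow_gcd_eq_one.mpr ⟨h1, h2'⟩
    rw [show Nat.gcd (2 ^ j) (Nat.card (D a t)) = 1 from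
      (Nat.coprime_two_left.mpr hS.odd_card).pow_left j, pow_one] at h3
    exact (QuotientGroup.eq_one_iff k).mp h3
  -- so `Q` does
  have hka : k • a = a := ((mem_D hS).mp hk.1).1
  let f : Q → Q := fun x => ⟨(x : G)⁻¹ * (k * x * k⁻¹), mul_mem (inv_mem x.2) (conj_Q hS hka x.2)⟩
  have hf : Function.Injective f := by
    intro x y h
    have h' : (x : G)⁻¹ * (k * x * k⁻¹) = (y : G)⁻¹ * (k * y * k⁻¹) := congrArg Subtype.val h
    have hc : k * ((y : G) * (x : G)⁻¹) = (y : G) * (x : G)⁻¹ * k := by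
      calc k * ((y : G) * (x : G)⁻¹) = y * ((y : G)⁻¹ * (k * y * k⁻¹)) * k * (x : G)⁻¹ := by group
        _ = _ := by rw [← h']; group
    have h1 := inverted_cent_Q hS hk hk1 (mul_mem y.2 (inv_mem x.2)) hc
    exact Subtype.ext (mul_inv_eq_one.mp h1).symm
  refine hmin N inferInstance fun y hy => ?_
  obtain ⟨x, hx⟩ := (Finite.injective_iff_surjective.mp hf) ⟨y, hy⟩
  rw [← show (x : G)⁻¹ * (k * x * k⁻¹) = y from congrArg Subtype.val hx,
    show (x : G)⁻¹ * (k * x * k⁻¹) = ((x : G)⁻¹ * k * x) * k⁻¹ by group]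
  exact mul_mem (by simpa using Subgroup.Normal.conj_mem (inferInstance : N.Normal) k hkN (x : G)⁻¹) (inv_mem hkN)

/-- In the minimal case the group is simple. -/
theorem simple : IsSimpleGroup G := by
  haveI : Nontrivial G := ⟨⟨t, 1, hS.ne_one⟩⟩
  refine ⟨fun N hN => ?_⟩
  haveI := hN
  by_cases hbot : N = ⊥
  · exact Or.inl hbot
  refine Or.inr (normal_eq_top hS h2 hQ2 hmin fun c => ?_)
  haveI : IsMultiplyPretransitive G Ω 2 := hS.two_transitive
  haveI : IsPreprimitive G Ω := isPreprimitive_of_is_two_pretransitive inferInstance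
  haveI : IsPretransitive N Ω := IsQuasiPreprimitive.isPretransitive_of_normal (fun h => hbot (by
    rw [Subgroup.eq_bot_iff_forall]
    intro n hn
    refine eq_of_smul_eq_smul (α := Ω) fun x => ?_
    rw [one_smul]
    exact (h.symm ▸ Set.mem_univ x : x ∈ fixedPoints N Ω) ⟨n, hn⟩))
  obtain ⟨n, hn⟩ := exists_smul_eq N a c
  exact ⟨n, n.2, hn⟩

/-- The Suzuki groups. -/
theorem zassenhaus_case (hbig : qZ G a ^ 2 ≤ Nat.card Q) (hV : ∀ d ∈ D a t, t * d = d * t → d = 1) :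
    Nat.card Q = qZ G a ^ 2 ∧ (∃ x ∈ Q, ∃ y ∈ Q, x * y ≠ y * x) ∧ Cfsg.Lie.IsoSuzuki G := by
  classical
  haveI := simple hS h2 hQ2 hmin
  haveI := finite_points hS
  letI := Fintype.ofFinite Ω
  letI := Fintype.ofFinite G
  obtain ⟨k₀, hk₀, hk₀1⟩ := exists_inverted hS h2
  -- `D` consists of inverted elements
  have hDinv : ∀ d ∈ D a t, d ∈ invertedBy (D a t) t := by
    intro d hd
    obtain ⟨⟨c, k⟩, ⟨hc, hk, e⟩, -⟩ := Inverted.decomp hS.odd_card (D_norm hS) hS.mul_self hd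
    obtain ⟨hcD, hct⟩ := Subgroup.mem_inf.mp hc
    have hc1 : c = 1 := hV c hcD (Subgroup.mem_centralizer_singleton_iff.mp hct).symm
    rw [e, hc1, one_mul]
    exact hk
  have hDcard : Nat.card (D a t) + 1 = qZ G a := by
    rw [← card_inverted_qZ hS]
    congr 1
    exact Nat.card_congr (Equiv.subtypeEquivRight fun d => ⟨hDinv d, fun h => h.1⟩)
  -- the Zassenhaus property
  have h3 : ∀ g : G, ∀ p q r : Ω, p ≠ q → q ≠ r → p ≠ r → g • p = p → g • q = q → g • r = r → g = 1 := by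
    intro g p q r hpq hqr hpr hp hq hr
    obtain ⟨h, h1, h1'⟩ := exists_swap_pair hS hpq
    have hgD : h⁻¹ * g * h ∈ D a t := by
      rw [mem_D hS]
      constructor
      · rw [mul_smul, mul_smul, h1, hp, ← h1, inv_smul_smul]
      · rw [mul_smul, mul_smul, h1', hq, ← h1', inv_smul_smul]
    by_contra hg
    have hfix : (h⁻¹ * g * h) • h⁻¹ • r = h⁻¹ • r := by rw [mul_smul, mul_smul, smul_inv_smul, hr]
    have hne : h⁻¹ * g * h ≠ 1 := fun e => hg (by
      rw [show g = h * (h⁻¹ * g * h) * h⁻¹ by group, e, mul_one, mul_inv_cancel])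
    rcases inverted_fix hS (hDinv _ hgD) hne hfix with e | e
    · exact hpr (by rw [← h1, ← e, smul_inv_smul])
    · exact hqr (by rw [← h1', ← e, smul_inv_smul])
  have hZ : Cfsg.IsZassenhausGroup G Ω := by
    refine ⟨inferInstance, hS.two_transitive, h3, ⟨k₀, hk₀1, a, t • a, (ta_ne hS).symm, (mem_D hS).mp hk₀.1⟩, ?_⟩
    intro N hN hNt
    refine ⟨a, fun hbot => ?_⟩
    haveI := hN
    have htop : N = ⊤ := normal_eq_top hS h2 hQ2 hmin fun c => by
      haveI := hNt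
      obtain ⟨n, hn⟩ := exists_smul_eq N a c
      exact ⟨n, n.2, hn⟩
    have hk : (⟨k₀, htop ▸ Subgroup.mem_top k₀⟩ : N) ∈ stabilizer N a :=
      mem_stabilizer_iff.mpr ((mem_D hS).mp hk₀.1).1
    rw [hbot, Subgroup.mem_bot] at hk
    exact hk₀1 (congrArg Subtype.val hk)
  have hpts : Fintype.card Ω = Nat.card Q + 1 := by rw [← Nat.card_eq_fintype_card, card_points hS]
  have hfixQ : ∀ x ∈ Q, x ≠ 1 → ∀ c : Ω, x • c = c → c = a := fun x hx hx1 c hc => by
    by_contra hca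
    exact hx1 (eq_one_of_fix hS hx hca hc)
  have hq3 := three_le_qZ hS h2
  rcases Cfsg.Agent.S0885.result hZ (ta_ne hS).symm (Nat.card Q) (Nat.card (D a t)) hpts rfl hS.odd_card Q hS.le
    hpts.symm hfixQ with hle | ⟨-, ⟨x, y, hxy⟩, -⟩
  · exfalso
    have h1 : 3 * qZ G a ≤ qZ G a ^ 2 := by rw [pow_two]; exact Nat.mul_le_mul_right _ hq3
    omega
  let S : CfsgLib.SuzukiZT.Hyp G Ω :=
    ⟨⟨hZ, a, t • a, (ta_ne hS).symm, Q, hS.le, hpts.symm, hfixQ⟩, inferInstance, hQ2,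
      x, x.2, y, y.2, fun e => hxy (Subtype.ext e)⟩
  have hna : ∃ p ∈ Q, ∃ q ∈ Q, p * q ≠ q * p := ⟨x, x.2, y, y.2, fun e => hxy (Subtype.ext e)⟩
  obtain ⟨F, iF, iFt, m, hm, hF, -, he⟩ := CfsgLib.SuzukiUnique.exists_equiv_sz S
  refine ⟨?_, hna, F, iF, iFt, m, hm, hF, he⟩
  have e1 : S.q = qZ G a := by
    rw [S.q_eq]
    exact hDcard
  have e2 := S.h_eq_sq
  rw [e1] at e2
  exact e2

end CfsgLib.SuzukiRankOne
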