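import Cfsg.Agent.Lib.SuzukiRankOne.WTrivial
import Cfsg.Agent.Lib.SuzukiRankOne.FixField
import Cfsg.Agent.Lib.SuzukiRankOne.NinePoints
import Cfsg.Agent.Lib.SuzukiRankOne.ZassenhausBase

/-!
If `|Q| = q³` then `r * r = 1`.
-/

set_option autoImplicit false
set_option linter.unusedSectionVars false
set_option linter.style.haveILetI false

namespace CfsgLib.SuzukiRankOne

open MulAction Cfsg CfsgLib.RankOne

universe u v

variable {G : Type u} {Ω : Type v} [Group G] [Finite G] [MulAction G Ω] [FaithfulSMul G Ω] {a : Ω} {t : G}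
  {Q : Subgroup G} (hS : IsRankOneSetup G Ω a t Q)

include hS

/-- Counting by square fibres inside a subgroup `B` containing `s`. -/
theorem fibre_count {B : Subgroup G} {s : G} (hs : s ∈ involutionsIn (stabilizer G a : Set G))
    (hsB : s ∈ B) (hsq : ∀ x ∈ Q, x * x * (x * x) = 1)
    (htr : ∀ z ∈ involutionsIn (stabilizer G a : Set G), z ∈ B →
      ∃ k ∈ invertedBy (D a t) t, k ∈ B ∧ k * s * k⁻¹ = z) :
    Nat.card ↥(B ⊓ Q) = Nat.card {z : G // z ∈ involutionsIn (stabilizer G a : Set G) ∧ z ∈ B} + 1 +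
      Nat.card {z : G // z ∈ involutionsIn (stabilizer G a : Set G) ∧ z ∈ B} *
        Nat.card {x : Q // (x : G) ∈ B ∧ (x : G) * x = s} := by
  classical
  set I := {z : G // z ∈ involutionsIn (stabilizer G a : Set G) ∧ z ∈ B}
  set Fs := {x : Q // (x : G) ∈ B ∧ (x : G) * x = s}
  choose k hk hkB hks using fun z : I => htr z.1 z.2.1 z.2.2
  have hka : ∀ z : I, k z • a = a := fun z => ((mem_D hS).mp (hk z).1).1
  let f : Option I ⊕ (I × Fs) → ↥(B ⊓ Q) := fun o =>
    match o with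
    | Sum.inl none => 1
    | Sum.inl (some z) => ⟨z.1, Subgroup.mem_inf.mpr ⟨z.2.2, invol_mem hS z.2.1⟩⟩
    | Sum.inr p => ⟨k p.1 * ((p.2.1 : Q) : G) * (k p.1)⁻¹, Subgroup.mem_inf.mpr
        ⟨mul_mem (mul_mem (hkB p.1) p.2.2.1) (inv_mem (hkB p.1)), conj_Q hS (hka p.1) (p.2.1).2⟩⟩
  have hsquare : ∀ p : I × Fs, (k p.1 * ((p.2.1 : Q) : G) * (k p.1)⁻¹) * (k p.1 * ((p.2.1 : Q) : G) * (k p.1)⁻¹)
      = p.1.1 := fun p => by
    rw [show ∀ (c x : G), c * x * c⁻¹ * (c * x * c⁻¹) = c * (x * x) * c⁻¹ from fun c x => by group, p.2.2.2, hks]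
  have hf : Function.Bijective f := by
    constructor
    · rintro ((_ | z) | p) ((_ | z') | p') h <;> have h' := congrArg Subtype.val h
      · rfl
      · exact absurd h'.symm z'.2.1.2.1
      · refine absurd ?_ p'.1.2.1.2.1
        rw [← hsquare p', ← show (1 : G) = k p'.1 * ((p'.2.1 : Q) : G) * (k p'.1)⁻¹ from h', one_mul]
      · exact absurd h' z.2.1.2.1
      · exact congrArg (fun z : I => Sum.inl (some z)) (Subtype.ext h')
      · refine absurd ?_ p'.1.2.1.2.1
        rw [← hsquare p', ← show z.1 = k p'.1 * ((p'.2.1 : Q) : G) * (k p'.1)⁻¹ from h', z.2.1.2.2]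
      · refine absurd ?_ p.1.2.1.2.1
        rw [← hsquare p, show k p.1 * ((p.2.1 : Q) : G) * (k p.1)⁻¹ = (1 : G) from h', one_mul]
      · refine absurd ?_ p.1.2.1.2.1
        rw [← hsquare p, show k p.1 * ((p.2.1 : Q) : G) * (k p.1)⁻¹ = z'.1 from h', z'.2.1.2.2]
      · have h1 : k p.1 * ((p.2.1 : Q) : G) * (k p.1)⁻¹ = k p'.1 * ((p'.2.1 : Q) : G) * (k p'.1)⁻¹ := h'
        have h2 : p.1 = p'.1 := Subtype.ext (by rw [← hsquare p, h1, hsquare p'])
        obtain ⟨z, x⟩ := p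
        obtain ⟨z', x'⟩ := p'
        subst h2
        have h3 : x = x' := Subtype.ext (Subtype.ext (mul_left_cancel (mul_right_cancel h1)))
        subst h3
        rfl
    · rintro ⟨y, hy⟩
      obtain ⟨hyB, hyQ⟩ := Subgroup.mem_inf.mp hy
      by_cases h1 : y = 1
      · exact ⟨Sum.inl none, Subtype.ext h1.symm⟩
      by_cases h2 : y * y = 1
      · exact ⟨Sum.inl (some ⟨y, ⟨hS.le hyQ, h1, h2⟩, hyB⟩), rfl⟩
      let z : I := ⟨y * y, ⟨hS.le (mul_mem hyQ hyQ), h2, hsq y hyQ⟩, mul_mem hyB hyB⟩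
      have hx : (k z)⁻¹ * y * k z ∈ Q := conj_Q' hS (hka z) hyQ
      refine ⟨Sum.inr (z, ⟨⟨_, hx⟩, mul_mem (mul_mem (inv_mem (hkB z)) hyB) (hkB z), ?_⟩), Subtype.ext ?_⟩
      · show (k z)⁻¹ * y * k z * ((k z)⁻¹ * y * k z) = s
        rw [show (k z)⁻¹ * y * k z * ((k z)⁻¹ * y * k z) = (k z)⁻¹ * (y * y) * k z by group,
          show y * y = k z * s * (k z)⁻¹ from (hks z).symm]
        group
      · show k z * ((k z)⁻¹ * y * k z) * (k z)⁻¹ = y
        group
  rw [← Nat.card_eq_of_bijective f hf, Nat.card_sum, Finite.card_option, Nat.card_prod]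

/-- A group with one involution and central squares has at most eight elements. -/
theorem card_le_eight (h2 : Four G) {P : Subgroup G} (hPQ : P ≤ Q) {s r : G} (hsq : ∀ x ∈ Q, x * x * (x * x) = 1)
    (hone : ∀ x ∈ P, x * x = 1 → x = 1 ∨ x = s) (hrP : r ∈ P) (hrr : r * r = s) :
    Nat.card P ≤ 8 := by
  classical
  have hsq1 : ∀ x ∈ P, x * x = 1 ∨ x * x = s := fun x hx => hone _ (mul_mem hx hx) (hsq x (hPQ hx))
  have hcent : ∀ x ∈ P, ∀ y ∈ P, x * x * y = y * (x * x) := by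
    intro x hx y hy
    by_cases h : x * x = 1
    · rw [h, one_mul, mul_one]
    · exact invol_central hS h2 ⟨hS.le (hPQ (mul_mem hx hx)), h, hsq x (hPQ hx)⟩ (hPQ hy)
  -- the centraliser of `r`
  have hC : ∀ y ∈ P, y * r = r * y → y = 1 ∨ y = s ∨ y = r ∨ y = r * s := by
    intro y hy hc
    rcases hsq1 y hy with h | h
    · exact (hone y hy h).imp id Or.inl
    have h1 : (y * r) * (y * r) = 1 := by
      rw [show y * r * (y * r) = y * (r * y) * r by group, ← hc, show y * (y * r) * r = y * y * (r * r) by group,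
        h, hrr]
      rw [← h]
      exact hsq y (hPQ hy)
    have hri : r⁻¹ = r * s := inv_eq_of_mul_eq_one_right (by rw [← mul_assoc, hrr, ← hrr]; exact hsq r (hPQ hrP))
    rcases hone _ (mul_mem hy hrP) h1 with e | e
    · refine Or.inr (Or.inr (Or.inr ?_))
      rw [eq_inv_of_mul_eq_one_left e, hri]
    · refine Or.inr (Or.inr (Or.inl ?_))
      calc y = y * r * r⁻¹ := by group
        _ = s * (r * s) := by rw [e, hri]
        _ = r * (s * s) := by
          rw [← mul_assoc, show s * r = r * s by rw [← hrr, mul_assoc], mul_assoc]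
        _ = r := by rw [← hrr, hsq r (hPQ hrP), mul_one]
  have hss : s * s = 1 := by rw [← hrr]; exact hsq r (hPQ hrP)
  have hcomm : ∀ y ∈ P, y * r * y⁻¹ = r ∨ y * r * y⁻¹ = s * r := by
    intro y hy
    have e1 : y * r * y⁻¹ * r⁻¹ = y * r * (y * r) * ((y * y)⁻¹ * (r * r)⁻¹) := by
      have e := hcent y hy r hrP
      calc y * r * y⁻¹ * r⁻¹ = y * r * (y * r) * ((y * y * r)⁻¹ * r⁻¹) := by group
        _ = y * r * (y * r) * ((r * (y * y))⁻¹ * r⁻¹) := by rw [e]
        _ = _ := by group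
    have key : y * r * y⁻¹ * r⁻¹ = 1 ∨ y * r * y⁻¹ * r⁻¹ = s := by
      rw [e1, hrr]
      rcases hsq1 _ (mul_mem hy hrP) with h | h <;> rcases hsq1 y hy with h' | h' <;> rw [h, h'] <;>
        simp [hss, inv_eq_of_mul_eq_one_right hss]
    rcases key with h | h
    · exact Or.inl (mul_inv_eq_one.mp h)
    · exact Or.inr (mul_inv_eq_iff_eq_mul.mp h)
  let Cset : Finset G := {1, s, r, r * s}
  have hCset : Cset.card ≤ 4 := Finset.card_le_four
  have hmemC : ∀ y ∈ P, y * r = r * y → y ∈ Cset := fun y hy hc => by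
    rcases hC y hy hc with e | e | e | e <;> simp [Cset, e]
  by_cases hall : ∀ y ∈ P, y * r = r * y
  · have h := Nat.card_le_card_of_injective (fun y : P => (⟨y, hmemC y y.2 (hall y y.2)⟩ : Cset))
      (fun y y' e => Subtype.ext (congrArg (fun z : Cset => (z : G)) e))
    rw [Nat.card_eq_fintype_card (α := Cset), Fintype.card_coe] at h
    omega
  push Not at hall
  obtain ⟨y₀, hy₀, hne₀⟩ := hall
  have hne : ∀ y ∈ P, y * r ≠ r * y → y * r * y⁻¹ = s * r := fun y hy h =>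
    (hcomm y hy).resolve_left fun e => h (mul_inv_eq_iff_eq_mul.mp e)
  have hshift : ∀ y ∈ P, y * r ≠ r * y → y₀⁻¹ * y ∈ Cset := fun y hy h => by
    refine hmemC _ (mul_mem (inv_mem hy₀) hy) ?_
    calc y₀⁻¹ * y * r = y₀⁻¹ * (y * r * y⁻¹) * y := by group
      _ = y₀⁻¹ * (y₀ * r * y₀⁻¹) * y := by rw [hne y hy h, hne y₀ hy₀ hne₀]
      _ = _ := by group
  let g : P → Bool × Cset := fun y =>
    if h : (y : G) * r = r * y then (false, ⟨y, hmemC y y.2 h⟩) else (true, ⟨y₀⁻¹ * y, hshift y y.2 h⟩)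
  have hg : Function.Injective g := by
    intro y y' e
    simp only [g] at e
    split at e <;> split at e <;> simp only [Prod.mk.injEq, Subtype.mk.injEq] at e
    · exact Subtype.ext e.2
    · exact absurd e.1 (by simp)
    · exact absurd e.1 (by simp)
    · exact Subtype.ext (mul_left_cancel e.2)
  have h := Nat.card_le_card_of_injective g hg
  rw [Nat.card_prod, Nat.card_eq_fintype_card (α := Cset), Fintype.card_coe,
    Nat.card_eq_fintype_card (α := Bool), Fintype.card_bool] at h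
  omega

/-- In the minimal case `|Q| = q³` forces `r * r = 1`. -/
theorem cube_rsq (h2 : Four G) (ih : IHyp.{u, v} (Nat.card G)) (hQ2 : IsPGroup 2 Q)
    (hmin : ∀ N : Subgroup G, N.Normal → Q ≤ N → N = ⊤) (hQ : Nat.card Q = qZ G a ^ 3)
    (hsq : ∀ x ∈ Q, x * x * (x * x) = 1) : Rsq a t Q := by
  classical
  by_contra hnr
  have hW : NoW a t := noW hS h2 ih hQ2 (Or.inr ⟨hQ, hsq⟩) hnr
  have hq3 := three_le_qZ hS h2
  by_cases hV : ∀ d ∈ D a t, t * d = d * t → d = 1
  · obtain ⟨hQsq, -, -⟩ := zassenhaus_case hS h2 hQ2 hmin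
      (by rw [hQ]; exact Nat.pow_le_pow_right (by omega) (by norm_num)) hV
    rw [hQ] at hQsq
    exact absurd (Nat.pow_right_injective (by omega) hQsq) (by norm_num)
  push Not at hV
  obtain ⟨v₀, hv₀, hv₀t, hv₀1⟩ := hV
  obtain ⟨⟨s, r⟩, ⟨hs, hr, he⟩, -⟩ := structure_eq hS
  dsimp only at hs hr he
  have hrr : r * r ≠ 1 := fun h => hnr (rsq_of_one hS hs hr he h)
  have hp : (orderOf v₀).minFac.Prime := Nat.minFac_prime fun e => hv₀1 (orderOf_eq_one_iff.mp e)
  set p := (orderOf v₀).minFac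
  set w := v₀ ^ (orderOf v₀ / p)
  have hwo : orderOf w = p := orderOf_pow_orderOf_div (orderOf_pos v₀).ne' (Nat.minFac_dvd _)
  have hwD : w ∈ D a t := pow_mem hv₀ _
  have hwt : t * w = w * t := ((show Commute t v₀ from hv₀t).pow_right _).eq
  have hw1 : w ≠ 1 := fun e => hp.one_lt.ne (by rw [← hwo, e, orderOf_one])
  have hwp : w ^ p = 1 := hwo ▸ pow_orderOf_eq_one w
  have hwa : w • a = a := ((mem_D hS).mp hwD).1
  have hpodd : Odd p := hS.odd_card.of_dvd_nat (by
    rw [← hwo, ← Subgroup.orderOf_mk w hwD]; exact orderOf_dvd_natCard _)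
  have hne : ∃ z ∈ involutionsIn (stabilizer G a : Set G), w * z ≠ z * w := by
    by_contra h
    push Not at h
    exact hw1 (hW w hwD h)
  have hqp := qZ_eq_pow hS h2 hwD hwt hp hwo hne
  set i0 := Nat.card {x : G // x ∈ involutionsIn (stabilizer G a : Set G) ∧ x * w = w * x} with hi0
  have hsw : s * w = w * s := cent_s_of_cent_t hS hs hr he hwD hwt
  have hrw : r * w = w * r := r_comm hS hwD hwt hs hr he
  have hi0pos : 0 < i0 := by
    haveI : Nonempty {x : G // x ∈ involutionsIn (stabilizer G a : Set G) ∧ x * w = w * x} := ⟨⟨s, hs, hsw⟩⟩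
    exact Nat.card_pos
  set q0 := i0 + 1 with hq0
  -- the two counts
  haveI := Fact.mk hp
  have htrG : ∀ z ∈ involutionsIn (stabilizer G a : Set G), z ∈ (⊤ : Subgroup G) →
      ∃ k ∈ invertedBy (D a t) t, k ∈ (⊤ : Subgroup G) ∧ k * s * k⁻¹ = z := by
    intro z hz _
    obtain ⟨k, hk, e⟩ := exists_conj_inverted hS hz hs
    exact ⟨k, hk, Subgroup.mem_top _, by rw [← e]; group⟩
  have hcountQ := fibre_count hS (B := ⊤) hs (Subgroup.mem_top s) hsq htrG
  have htrw : ∀ z ∈ involutionsIn (stabilizer G a : Set G), z ∈ cen w →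
      ∃ k ∈ invertedBy (D a t) t, k ∈ cen w ∧ k * s * k⁻¹ = z := by
    intro z hz hzw
    obtain ⟨k, hk, e⟩ := exists_conj_inverted hS hz hs
    have hks : k * s * k⁻¹ = z := by rw [← e]; group
    refine ⟨k, hk, Subgroup.mem_centralizer_singleton_iff.mpr ?_, hks⟩
    obtain ⟨C, hC, -, hCn⟩ := Cfsg.Agent.S1131.result hS h2
    have hmem : ∀ {g : G}, g ∈ C ↔ g ∈ invertedBy (D a t) t := fun {g} => by rw [← SetLike.mem_coe, hC]
    have hl : k⁻¹ * (w * k * w⁻¹) ∈ invertedBy (D a t) t :=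
      hmem.mp (mul_mem (inv_mem (hmem.mpr hk)) (hCn w hwD k (hmem.mpr hk)))
    have h1 : s * (k⁻¹ * (w * k * w⁻¹)) = k⁻¹ * (w * k * w⁻¹) * s := by
      have e1 : w⁻¹ * s * w = s := by rw [mul_assoc, hsw, inv_mul_cancel_left]
      have e2 : w * (k * s * k⁻¹) * w⁻¹ = k * s * k⁻¹ := by rw [hks, ← cen_comm hzw, mul_inv_cancel_right]
      symm
      calc k⁻¹ * (w * k * w⁻¹) * s = k⁻¹ * (w * k * (w⁻¹ * s * w) * k⁻¹ * w⁻¹) * (w * k * w⁻¹) := by group
        _ = k⁻¹ * (w * (k * s * k⁻¹) * w⁻¹) * (w * k * w⁻¹) := by rw [e1]; group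
        _ = _ := by rw [e2]; group
    have h3 := inverted_cent_s hS hs hr he hl h1
    rw [inv_mul_eq_one] at h3
    calc k * w = w * k * w⁻¹ * w := by rw [← h3]
      _ = w * k := by group
  have hcountP := fibre_count hS (B := cen w) hs (Subgroup.mem_centralizer_singleton_iff.mpr hsw) hsq htrw
  have hI0 : Nat.card {z : G // z ∈ involutionsIn (stabilizer G a : Set G) ∧ z ∈ cen w} = i0 :=
    Nat.card_congr (Equiv.subtypeEquivRight fun x => and_congr Iff.rfl Subgroup.mem_centralizer_singleton_iff)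
  have hIQ : Nat.card {z : G // z ∈ involutionsIn (stabilizer G a : Set G) ∧ z ∈ (⊤ : Subgroup G)} + 1 = qZ G a := by
    rw [qZ]
    congr 1
    exact Nat.card_congr (Equiv.subtypeEquivRight fun x => and_iff_left (Subgroup.mem_top x))
  rw [hI0] at hcountP
  set F := Nat.card {x : Q // (x : G) ∈ (⊤ : Subgroup G) ∧ (x : G) * x = s} with hF
  set f := Nat.card {x : Q // (x : G) ∈ cen w ∧ (x : G) * x = s} with hf
  rw [top_inf_eq, hQ] at hcountQ
  have hFval : F = qZ G a * (qZ G a + 1) := by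
    obtain ⟨j, hj⟩ : ∃ j, qZ G a = j + 1 := ⟨qZ G a - 1, by omega⟩
    have hj' : Nat.card {z : G // z ∈ involutionsIn (stabilizer G a : Set G) ∧ z ∈ (⊤ : Subgroup G)} = j := by omega
    rw [hj', hj] at hcountQ
    rw [hj]
    refine Nat.eq_of_mul_eq_mul_left (show 0 < j by omega) ?_
    nlinarith [hcountQ]
  -- the congruence
  have hcong : f ≡ F [MOD p] := by
    have hzp : IsPGroup p (Subgroup.zpowers w) := IsPGroup.of_card (n := 1) (by rw [Nat.card_zpowers, hwo, pow_one])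
    have hzN : Subgroup.zpowers w ≤ stabilizer G a ⊓ Subgroup.centralizer {s} :=
      Subgroup.zpowers_le.mpr (Subgroup.mem_inf.mpr ⟨mem_stabilizer_iff.mpr hwa,
        Subgroup.mem_centralizer_singleton_iff.mpr hsw.symm⟩)
    letI : MulAction (Subgroup.zpowers w) {x : Q // (x : G) ∈ (⊤ : Subgroup G) ∧ (x : G) * x = s} :=
      { smul := fun z x => ⟨⟨(z : G) * ((x.1 : Q) : G) * (z : G)⁻¹,
            conj_Q hS (mem_stabilizer_iff.mp (Subgroup.mem_inf.mp (hzN z.2)).1) x.1.2⟩, Subgroup.mem_top _, by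
            show (z : G) * ((x.1 : Q) : G) * (z : G)⁻¹ * ((z : G) * ((x.1 : Q) : G) * (z : G)⁻¹) = s
            rw [show ∀ c y : G, c * y * c⁻¹ * (c * y * c⁻¹) = c * (y * y) * c⁻¹ from fun c y => by group, x.2.2,
              Subgroup.mem_centralizer_singleton_iff.mp (Subgroup.mem_inf.mp (hzN z.2)).2, mul_inv_cancel_right]⟩
        one_smul := fun x => Subtype.ext (Subtype.ext (show ((1 : Subgroup.zpowers w) : G) * ((x.1 : Q) : G) *
          ((1 : Subgroup.zpowers w) : G)⁻¹ = ((x.1 : Q) : G) by simp))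
        mul_smul := fun z z' x => Subtype.ext (Subtype.ext (show ((z * z' : Subgroup.zpowers w) : G) * ((x.1 : Q) : G) *
          ((z * z' : Subgroup.zpowers w) : G)⁻¹ = (z : G) * ((z' : G) * ((x.1 : Q) : G) * (z' : G)⁻¹) * (z : G)⁻¹ by
            simp only [Subgroup.coe_mul]; group)) }
    have h1 := hzp.card_modEq_card_fixedPoints {x : Q // (x : G) ∈ (⊤ : Subgroup G) ∧ (x : G) * x = s}
    refine Nat.ModEq.symm ?_
    rw [hF, hf]
    refine h1.trans ?_
    refine congrArg (· % p) ?_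
    refine Nat.card_congr
      { toFun := fun x => ⟨x.1.1, Subgroup.mem_centralizer_singleton_iff.mpr
          (mul_inv_eq_iff_eq_mul.mp (show w * ((x.1.1 : Q) : G) * w⁻¹ = ((x.1.1 : Q) : G) from
            congrArg (fun y : {x : Q // (x : G) ∈ (⊤ : Subgroup G) ∧ (x : G) * x = s} => ((y.1 : Q) : G))
              (x.2 ⟨w, Subgroup.mem_zpowers w⟩))).symm, x.1.2.2⟩
        invFun := fun x => ⟨⟨x.1, Subgroup.mem_top _, x.2.2⟩, fun z => Subtype.ext (Subtype.ext (by
          show (z : G) * ((x.1 : Q) : G) * (z : G)⁻¹ = ((x.1 : Q) : G)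
          obtain ⟨i, hi⟩ := Subgroup.mem_zpowers_iff.mp z.2
          rw [← hi, ((show Commute w ((x.1 : Q) : G) from (cen_comm x.2.1).symm).zpow_left i).eq,
            mul_inv_cancel_right]))⟩
        left_inv := fun x => rfl
        right_inv := fun x => rfl }
  -- the value of `q` modulo `p`
  have hqmod : qZ G a ≡ q0 [MOD p] := by
    rw [hqp, ← ZMod.natCast_eq_natCast_iff, Nat.cast_pow, ZMod.pow_card]
  have hcong' : f ≡ q0 * (q0 + 1) [MOD p] := by
    rw [hFval] at hcong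
    exact hcong.trans (hqmod.mul (hqmod.add_right 1))
  have hq0two : ∃ n, 1 ≤ n ∧ q0 = 2 ^ n := by
    obtain ⟨m, hm⟩ : ∃ m, qZ G a = 2 ^ m := by
      obtain ⟨j, hj⟩ := IsPGroup.iff_card.mp hQ2
      rw [hQ] at hj
      obtain ⟨m, -, hm⟩ := (Nat.dvd_prime_pow Nat.prime_two).mp (hj ▸ dvd_pow_self (qZ G a) three_ne_zero)
      exact ⟨m, hm⟩
    rw [hm] at hqp
    obtain ⟨n, -, hn⟩ := (Nat.dvd_prime_pow Nat.prime_two).mp (hqp.symm ▸ dvd_pow_self q0 hp.ne_zero)
    exact ⟨n, Nat.one_le_iff_ne_zero.mpr fun h => by rw [h, pow_zero] at hn; omega, hn⟩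
  have hp2 : ¬ p ∣ 2 := fun h => by
    have := (Nat.prime_dvd_prime_iff_eq hp Nat.prime_two).mp h
    rw [this] at hpodd
    norm_num at hpodd
  obtain ⟨n, hn1, hn⟩ := hq0two
  have hB := fixed_setup hS hwD hwt
  have hnrB : ¬ Rsq (fixA hS hwD) (toBar Ω w (fixT hwt)) (barQ Ω Q w) := fun h =>
    hnr (rsq_of_bar hS hwD hwt h)
  have hqB : qZ (Bar Ω w) (fixA hS hwD) = q0 := by rw [qZ_bar hS hwD hwt]
  by_cases hn' : n = 1
  · -- nine points
    rw [hn', pow_one] at hn
    have hi1 : i0 = 1 := by omega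
    haveI := (Nat.card_eq_one_iff_unique.mp hi1).1
    have hone : ∀ x ∈ cen w ⊓ Q, x * x = 1 → x = 1 ∨ x = s := by
      intro x hx h
      by_cases h1 : x = 1
      · exact Or.inl h1
      · exact Or.inr (congrArg Subtype.val (Subsingleton.elim
          (⟨x, ⟨hS.le (Subgroup.mem_inf.mp hx).2, h1, h⟩, cen_comm (Subgroup.mem_inf.mp hx).1⟩ :
            {x : G // x ∈ involutionsIn (stabilizer G a : Set G) ∧ x * w = w * x}) ⟨s, hs, hsw⟩))
    have hrP : r ∈ cen w ⊓ Q := Subgroup.mem_inf.mpr ⟨Subgroup.mem_centralizer_singleton_iff.mpr hrw, hr⟩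
    have hr2 : r * r = s := (hone _ (mul_mem hrP hrP) (hsq r hr)).resolve_left hrr
    have h8 := card_le_eight hS h2 inf_le_right hsq hone hrP hr2
    rw [hi1, one_mul] at hcountP
    have hfpos : 0 < f := by
      haveI : Nonempty {x : Q // (x : G) ∈ cen w ∧ (x : G) * x = s} :=
        ⟨⟨⟨r, hr⟩, Subgroup.mem_centralizer_singleton_iff.mpr hrw, hr2⟩⟩
      exact Nat.card_pos
    have hP8 : Nat.card ↥(cen w ⊓ Q) = 8 := by
      obtain ⟨j, hj⟩ := IsPGroup.iff_card.mp (hQ2.to_le (inf_le_right : cen w ⊓ Q ≤ Q))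
      have hj3 : j ≤ 3 := by
        by_contra hj3
        have : 2 ^ 4 ≤ 2 ^ j := Nat.pow_le_pow_right two_pos (not_le.mp hj3)
        omega
      interval_cases j
      · omega
      · omega
      · exfalso
        have hf2 : f = 2 := by omega
        rw [hf2, hn] at hcong'
        have h4 : p ∣ 2 ^ 2 := (Nat.modEq_iff_dvd' (by norm_num)).mp hcong'
        exact hp2 (hp.dvd_of_dvd_pow h4)
      · exact hj
    refine hnrB (nine_points hB (by rw [card_barQ hS hwD hwt, hP8]) (by rw [hqB, hn]) fun x hx => ?_)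
    obtain ⟨y, hy, rfl⟩ := barQ_mem hS hwD hwt hx
    rw [← map_mul, ← map_mul, show y * y * (y * y) = 1 from Subtype.ext (hsq y hy), map_one]
  · -- at least four
    have hn4 : 4 ≤ q0 := by
      rw [hn]
      exact Nat.pow_le_pow_right two_pos (show 2 ≤ n by omega)
    obtain ⟨z, z', hzz⟩ : ∃ z z' : {x : G // x ∈ involutionsIn (stabilizer G a : Set G) ∧ x * w = w * x},
        z ≠ z' := by
      haveI := Fintype.ofFinite {x : G // x ∈ involutionsIn (stabilizer G a : Set G) ∧ x * w = w * x}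
      refine Fintype.exists_pair_of_one_lt_card ?_
      rw [← Nat.card_eq_fintype_card]
      omega
    have h4 : Four (Bar Ω w) := four_bar hS hwD hwt z.2.1 z'.2.1 (fun e => hzz (Subtype.ext e)) z.2.2 z'.2.2
      (invol_comm hS h2 z.2.1 z'.2.1)
    obtain ⟨-, hsh, -⟩ := ih _ _ _ _ _ hB h4 (card_bar_lt hS hwD hwt hw1)
    rcases hsh with hel | ⟨-, ⟨-, h⟩ | ⟨hc, -⟩⟩
    · exact hnrB fun _ r' _ hr' _ => hel r' hr'
    · exact hnrB h
    rw [card_barQ hS hwD hwt, hqB] at hc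
    have hfval : f = q0 := by
      refine Nat.eq_of_mul_eq_mul_left hi0pos ?_
      nlinarith [hcountP, hc]
    rw [hfval] at hcong'
    have h5 : p ∣ q0 * (q0 + 1) - q0 := (Nat.modEq_iff_dvd' (Nat.le_mul_of_pos_right _ (Nat.succ_pos _))).mp hcong'
    rw [mul_add, mul_one, Nat.add_sub_cancel, hn, ← pow_add] at h5
    exact hp2 (hp.dvd_of_dvd_pow h5)

end CfsgLib.SuzukiRankOne
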