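import Cfsg.Prelude.Def_LieRecognition
import Cfsg.Prelude.Def_Classical
import Cfsg.Prelude.Def_Sz
import Cfsg.Agent.Lib.RankOne.Structure

/-!
Suzuki's theorem on split rank one groups in characteristic two: the shared vocabulary.

Blueprint: `blueprint/bender/B2.md`.
-/

set_option autoImplicit false

namespace CfsgLib.SuzukiRankOne

open MulAction Cfsg

universe u v

/-- Two distinct commuting involutions. -/
def Four (G : Type u) [Group G] : Prop :=
  ∃ x y : G, x ≠ 1 ∧ y ≠ 1 ∧ x ≠ y ∧ x * x = 1 ∧ y * y = 1 ∧ x * y = y * x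

section Setup

variable {G : Type u} {Ω : Type v} [Group G] [MulAction G Ω]

variable (G) in
/-- The number `q`: one plus the number of involutions fixing a point. -/
noncomputable def qZ (a : Ω) : ℕ :=
  Nat.card {x : G // x ∈ involutionsIn (stabilizer G a : Set G)} + 1

/-- The element `r` of the structure equation `t s t = r⁻¹ t r` squares to one. -/
def Rsq (a : Ω) (t : G) (Q : Subgroup G) : Prop :=
  ∀ s r : G, s ∈ involutionsIn (stabilizer G a : Set G) → r ∈ Q → t * s * t = r⁻¹ * t * r → r * r = 1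

/-- No non-identity element of the two-point stabiliser centralises all involutions of the point stabiliser. -/
def NoW (a : Ω) (t : G) : Prop :=
  ∀ d ∈ CfsgLib.RankOne.D a t, (∀ s ∈ involutionsIn (stabilizer G a : Set G), d * s = s * d) → d = 1

/-- The three possible shapes of the regular normal subgroup of a point stabiliser. -/
def Shape (a : Ω) (t : G) (Q : Subgroup G) : Prop :=
  (∀ x ∈ Q, x * x = 1) ∨
    ((∃ x ∈ Q, ∃ y ∈ Q, x * y ≠ y * x) ∧
      ((Nat.card Q = qZ G a ^ 3 ∧ Rsq a t Q) ∨ (Nat.card Q = qZ G a ^ 2 ∧ ¬ Rsq a t Q)))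

end Setup

/-- `L` is one of the three families. -/
def IsTarget (L : Type u) [Group L] : Prop :=
  (∃ (F : Type) (_ : Field F) (_ : Fintype F), (∃ n : ℕ, 2 ≤ n ∧ Fintype.card F = 2 ^ n) ∧
      Nonempty (L ≃* Matrix.ProjectiveSpecialLinearGroup (Fin 2) F)) ∨
    Cfsg.Lie.IsoSuzuki L ∨
    (∃ (F : Type) (_ : Field F) (_ : Fintype F) (n : ℕ), 2 ≤ n ∧ Fintype.card F = (2 ^ n) ^ 2 ∧
      Nonempty (L ≃* Cfsg.PSU 3 F (2 ^ n)))

/-- A normal subgroup of odd index in one of the three families. -/
def HasTarget (G : Type u) [Group G] : Prop :=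
  ∃ L : Subgroup G, L.Normal ∧ Odd L.index ∧ IsTarget L

/-- The conclusion proved by induction on the order of the group. -/
def Concl {G : Type u} {Ω : Type v} [Group G] [MulAction G Ω] (a : Ω) (t : G) (Q : Subgroup G) : Prop :=
  IsPGroup 2 Q ∧ Shape a t Q ∧ HasTarget G

/-- The induction hypothesis below the order `n`. -/
def IHyp (n : ℕ) : Prop :=
  ∀ (G : Type u) (Ω : Type v) [Group G] [Finite G] [MulAction G Ω] [FaithfulSMul G Ω] (a : Ω) (t : G)
    (Q : Subgroup G), Cfsg.IsRankOneSetup G Ω a t Q → Four G → Nat.card G < n → Concl a t Q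

end CfsgLib.SuzukiRankOne
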