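import Cfsg.Agent.Lib.SuzukiRankOne.Defs
import Cfsg.Agent.Lib.SuzukiTwo.Field
import Cfsg.Agent.S1122
import Cfsg.Agent.S1131

/-!
The involutions of a point stabiliser together with the identity form a field on which the inverted elements act
by multiplication and the centraliser of `t` by field automorphisms.
-/

set_option autoImplicit false
set_option linter.unusedSectionVars false
set_option linter.style.haveILetI false

namespace CfsgLib.SuzukiRankOne

open MulAction Cfsg CfsgLib.RankOne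
open CfsgLib.AfterFT.SplitRankOne (invGroup mem_invGroup conjD conjD_apply conj_mem_invGroup)

universe u v

variable {G : Type u} {Ω : Type v} [Group G] [Finite G] [MulAction G Ω] [FaithfulSMul G Ω] {a : Ω} {t : G}
  {Q : Subgroup G} (hS : IsRankOneSetup G Ω a t Q) (h2 : Four G)

/-- The centraliser of `t` in the two-point stabiliser. -/
abbrev Vt (a : Ω) (t : G) : Subgroup G := D a t ⊓ Subgroup.centralizer {t}

include hS h2

theorem card_invGroup : Nat.card (invGroup hS h2) = qZ G a := by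
  classical
  haveI := Fintype.ofFinite (invGroup hS h2)
  haveI := Fintype.ofFinite {x : G // x ∈ involutionsIn (stabilizer G a : Set G)}
  rw [qZ, Nat.card_eq_fintype_card, Nat.card_eq_fintype_card,
    ← Fintype.card_option]
  refine Fintype.card_congr
    { toFun := fun x => if h : (x : G) = 1 then none else some ⟨x, x.2.1, h, x.2.2⟩
      invFun := fun o => o.elim 1 fun x => ⟨x, x.2.1, x.2.2.2⟩
      left_inv := fun x => ?_
      right_inv := fun o => ?_ }
  · dsimp only
    split
    · exact Subtype.ext (by simpa using ‹(x : G) = 1›.symm)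
    · rfl
  · cases o with
    | none => simp
    | some x => simp [x.2.2.1]

/-- The field of a split rank one group. -/
theorem exists_galois {s r : G} (hs : s ∈ involutionsIn (stabilizer G a : Set G)) (hr : r ∈ Q)
    (he : t * s * t = r⁻¹ * t * r) :
    ∃ (C : Subgroup G) (F : Type u) (_ : Field F) (_ : Finite F) (ι : invGroup hS h2 → F)
      (κ : C →* Fˣ) (σ : Vt a t →* (F ≃+* F)),
      (C : Set G) = invertedBy (D a t) t ∧ Nat.card F = qZ G a ∧ CharP F 2 ∧ Function.Bijective ι ∧
      (∀ x y, ι (x * y) = ι x + ι y) ∧ ι ⟨s, hs.1, hs.2.2⟩ = 1 ∧ Function.Bijective κ ∧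
      (∀ (k : C) (z w : invGroup hS h2), (w : G) = k * z * (k : G)⁻¹ → ι w = (κ k : F) * ι z) ∧
      (∀ (v : Vt a t) (z w : invGroup hS h2), (w : G) = v * z * (v : G)⁻¹ → ι w = σ v (ι z)) ∧
      ∀ v : Vt a t, σ v = 1 ↔ ∀ z ∈ involutionsIn (stabilizer G a : Set G), (v : G) * z = z * v := by
  classical
  obtain ⟨C, hC, hcyc, hCn⟩ := Cfsg.Agent.S1131.result hS h2
  have hCmem : ∀ {k : G}, k ∈ C ↔ k ∈ invertedBy (D a t) t := fun {k} => by rw [← SetLike.mem_coe, hC]
  have hCD : ∀ k ∈ C, k ∈ D a t := fun k hk => (hCmem.1 hk).1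
  obtain ⟨hcardC, htransC⟩ := Cfsg.Agent.S1122.result hS
  obtain ⟨k₀, hk₀⟩ := hcyc.exists_generator
  let E := invGroup hS h2
  haveI : IsMulCommutative E := CfsgLib.AfterFT.SplitRankOne.invGroup_comm hS h2
  letI : CommGroup E :=
    { (inferInstance : Group E) with mul_comm := fun x y => IsMulCommutative.is_comm.comm x y }
  let A := Additive E
  let cj : D a t →* MulAut E := conjD hS h2
  have hcj : ∀ (d : G) (hd : d ∈ D a t) (x : E), ((cj ⟨d, hd⟩ x : E) : G) = d * x * d⁻¹ := fun d hd x =>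
    conjD_apply hS h2 ⟨d, hd⟩ x
  let sE : E := ⟨s, hs.1, hs.2.2⟩
  have hsE : sE ≠ 1 := fun e => hs.2.1 (congrArg Subtype.val e)
  haveI : Nontrivial A := ⟨⟨Additive.ofMul sE, 0, fun h => hsE (Additive.ofMul.injective h)⟩⟩
  let T : A ≃+ A := MulEquiv.toAdditive (cj ⟨k₀, hCD _ k₀.2⟩)
  have hT : ∀ x : A, (T x).toMul = cj ⟨k₀, hCD _ k₀.2⟩ x.toMul := fun _ => rfl
  have hinvIn : ∀ x : E, x ≠ 1 → (x : G) ∈ involutionsIn (stabilizer G a : Set G) := fun x hx =>
    ⟨x.2.1, fun e => hx (Subtype.ext e), x.2.2⟩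
  have hiter : ∀ (i : ℕ) (x : A), ((((fun y => T y)^[i]) x).toMul : G) =
      (k₀ : G) ^ i * (x.toMul : G) * ((k₀ : G) ^ i)⁻¹ := by
    intro i
    induction i with
    | zero => intro x; simp
    | succ i ih =>
      intro x
      rw [Function.iterate_succ_apply', hT, hcj, ih, pow_succ']
      group
  have htr : ∀ u w : A, u ≠ 0 → w ≠ 0 → ∃ i : ℕ, (fun x => T x)^[i] u = w := by
    intro u w hu hw
    obtain ⟨k, hk, e⟩ := htransC _ (hinvIn u.toMul fun h => hu (Additive.toMul.injective h)) _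
      (hinvIn w.toMul fun h => hw (Additive.toMul.injective h))
    obtain ⟨i, hi⟩ := (IsOfFinOrder.mem_powers_iff_mem_zpowers (isOfFinOrder_of_finite k₀)).mpr
      (hk₀ ⟨k⁻¹, C.inv_mem (hCmem.2 hk)⟩)
    refine ⟨i, Additive.toMul.injective (Subtype.ext ?_)⟩
    rw [hiter, ← e]
    have hi' : (k₀ : G) ^ i = k⁻¹ := by rw [← SubmonoidClass.coe_pow]; exact congrArg Subtype.val hi
    rw [hi', inv_inv]
  obtain ⟨F, instF, finF, e, l, hel, hlgen⟩ := CfsgLib.SuzukiTwo.exists_field T htr
  set c : F := e (Additive.ofMul sE) with hc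
  have hc0 : c ≠ 0 := fun h => hsE (Additive.ofMul.injective (e.injective (h.trans (map_zero e).symm)))
  let ι : E → F := fun x => e (Additive.ofMul x) * c⁻¹
  have hιadd : ∀ x y, ι (x * y) = ι x + ι y := fun x y => by
    simp only [ι, ofMul_mul, map_add, add_mul]
  have hιbij : Function.Bijective ι :=
    (mulRight_bijective₀ c⁻¹ (inv_ne_zero hc0)).comp (e.bijective.comp Additive.ofMul.bijective)
  have hι1 : ι sE = 1 := mul_inv_cancel₀ hc0
  have hιone : ι 1 = 0 := by simp only [ι, ofMul_one, map_zero, zero_mul]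
  have hιk₀ : ∀ z : E, ι (cj ⟨k₀, hCD _ k₀.2⟩ z) = l * ι z := fun z => by
    show e (T (Additive.ofMul z)) * c⁻¹ = l * (e (Additive.ofMul z) * c⁻¹)
    rw [hel, mul_assoc]
  have hl0 : l ≠ 0 := fun h => hsE ((cj ⟨k₀, hCD _ k₀.2⟩).injective (hιbij.1
    (by rw [hιk₀, hι1, h, zero_mul, map_one, hιone])))
  have hιpow : ∀ (i : ℕ) (z w : E), (w : G) = (k₀ : G) ^ i * z * ((k₀ : G) ^ i)⁻¹ → ι w = l ^ i * ι z := by
    intro i
    induction i with
    | zero =>
      intro z w hw
      rw [pow_zero, one_mul, show w = z from Subtype.ext (by simpa using hw)]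
    | succ i ih =>
      intro z w hw
      let y : E := ⟨(k₀ : G) ^ i * z * ((k₀ : G) ^ i)⁻¹, conj_mem_invGroup hS h2 (pow_mem (hCD _ k₀.2) i) z.2⟩
      rw [show w = cj ⟨k₀, hCD _ k₀.2⟩ y from Subtype.ext (by rw [hcj, hw, pow_succ']; simp only [y]; group),
        hιk₀, ih z y rfl, pow_succ', mul_assoc]
  let cK : C → E → E := fun k z => ⟨(k : G) * z * (k : G)⁻¹, conj_mem_invGroup hS h2 (hCD _ k.2) z.2⟩
  have hκex : ∀ k : C, ∃ i : ℕ, k₀ ^ i = k := fun k =>
    (IsOfFinOrder.mem_powers_iff_mem_zpowers (isOfFinOrder_of_finite k₀)).mpr (hk₀ k)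
  have hκmul : ∀ (k : C) (z : E), ι (cK k z) = ι (cK k sE) * ι z := by
    intro k z
    obtain ⟨i, rfl⟩ := hκex k
    rw [hιpow i z (cK _ z) (by simp [cK]), hιpow i sE (cK _ sE) (by simp [cK]), hι1, mul_one]
  have hκ0 : ∀ k : C, ι (cK k sE) ≠ 0 := fun k h => by
    have h1 : cK k sE = 1 := hιbij.1 (h.trans hιone.symm)
    exact hs.2.1 (conj_eq_one_iff.1 (congrArg Subtype.val h1))
  let κ : C →* Fˣ :=
    { toFun := fun k => Units.mk0 _ (hκ0 k)
      map_one' := Units.ext (by
        show ι (cK 1 sE) = 1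
        rw [show cK 1 sE = sE from Subtype.ext (by simp [cK]), hι1])
      map_mul' := fun k k' => Units.ext (by
        show ι (cK (k * k') sE) = ι (cK k sE) * ι (cK k' sE)
        rw [show cK (k * k') sE = cK k (cK k' sE) from
          Subtype.ext (by simp only [cK, Subgroup.coe_mul]; group), hκmul]) }
  have hκsurj : Function.Surjective κ := fun x => by
    obtain ⟨i, hi⟩ := hlgen x x.ne_zero
    refine ⟨k₀ ^ i, Units.ext ?_⟩
    show ι (cK (k₀ ^ i) sE) = x
    rw [hιpow i sE (cK _ sE) (by simp [cK]), hι1, mul_one, hi]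
  have hcardF : Nat.card F = qZ G a := by rw [← card_invGroup hS h2]; exact (Nat.card_eq_of_bijective ι hιbij).symm
  haveI : Finite F := finF
  have hκbij : Function.Bijective κ := (Nat.bijective_iff_surjective_and_card κ).mpr ⟨hκsurj, by
    have h0 : Nat.card C = qZ G a - 1 := by
      rw [qZ, Nat.add_sub_cancel]
      exact ((Nat.card_congr (Equiv.setCongr hC)).trans hcardC)
    rw [h0, Nat.card_units, hcardF]⟩
  haveI hchar : CharP F 2 := by
    refine CharTwo.of_one_ne_zero_of_two_eq_zero one_ne_zero ?_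
    rw [← one_add_one_eq_two, ← hι1, ← hιadd, show sE * sE = 1 from Subtype.ext hs.2.2, hιone]
  -- the semilinear action of `C_D(t)`
  let cV : Vt a t → E → E := fun v z =>
    ⟨(v : G) * z * (v : G)⁻¹, conj_mem_invGroup hS h2 (Subgroup.mem_inf.mp v.2).1 z.2⟩
  let g : Vt a t → F → F := fun v x => ι (cV v ((Equiv.ofBijective ι hιbij).symm x))
  have hg : ∀ (v : Vt a t) (z : E), g v (ι z) = ι (cV v z) := fun v z => by
    simp only [g, Equiv.ofBijective_symm_apply_apply]
  have hgadd : ∀ v x y, g v (x + y) = g v x + g v y := fun v x y => by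
    obtain ⟨z, rfl⟩ := hιbij.2 x
    obtain ⟨w, rfl⟩ := hιbij.2 y
    rw [← hιadd, hg, hg, hg, ← hιadd]
    exact congrArg ι (Subtype.ext (by simp only [cV, Subgroup.coe_mul]; group))
  have hgmul : ∀ v x y, g v (x * y) = g v x * g v y := fun v x y => by
    by_cases hx : x = 0
    · subst hx
      have h00 : g v 0 = 0 := by
        have := hgadd v 0 0
        rw [add_zero, left_eq_add] at this
        exact this
      rw [zero_mul, h00, zero_mul]
    obtain ⟨k, hk⟩ := hκsurj (Units.mk0 x hx)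
    obtain ⟨w, rfl⟩ := hιbij.2 y
    have hxk : x = ι (cK k sE) := (congrArg Units.val hk).symm
    obtain ⟨hvD, hvt⟩ := Subgroup.mem_inf.mp v.2
    have hvs : (v : G) * s = s * v :=
      (cent_s_of_cent_t hS hs hr he hvD (Subgroup.mem_centralizer_singleton_iff.mp hvt).symm).symm
    let k' : C := ⟨(v : G) * k * (v : G)⁻¹, hCn _ hvD _ k.2⟩
    rw [hxk, ← hκmul, hg, hg, hg,
      show cV v (cK k w) = cK k' (cV v w) from Subtype.ext (by simp only [cV, cK, k']; group), hκmul,
      show cV v (cK k sE) = cK k' sE from Subtype.ext (by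
        simp only [cV, cK, k', sE]
        calc (v : G) * ((k : G) * s * (k : G)⁻¹) * (v : G)⁻¹
            = ((v : G) * (k : G) * (v : G)⁻¹) * ((v : G) * s * (v : G)⁻¹) * ((v : G) * (k : G) * (v : G)⁻¹)⁻¹ := by group
          _ = _ := by rw [hvs, mul_inv_cancel_right])]
  have hgbij : ∀ v, Function.Bijective (g v) := fun v => by
    refine Finite.injective_iff_bijective.mp fun x y h => ?_
    obtain ⟨z, rfl⟩ := hιbij.2 x
    obtain ⟨w, rfl⟩ := hιbij.2 y
    rw [hg, hg] at h
    have h1 : (cV v z : G) = cV v w := congrArg Subtype.val (hιbij.1 h)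
    exact congrArg ι (Subtype.ext (mul_left_cancel (mul_right_cancel h1)))
  let σ : Vt a t →* (F ≃+* F) :=
    { toFun := fun v => { Equiv.ofBijective (g v) (hgbij v) with map_mul' := hgmul v, map_add' := hgadd v }
      map_one' := RingEquiv.ext fun x => by
        obtain ⟨z, rfl⟩ := hιbij.2 x
        show g 1 (ι z) = ι z
        rw [hg]
        exact congrArg ι (Subtype.ext (by simp [cV]))
      map_mul' := fun v w => RingEquiv.ext fun x => by
        obtain ⟨z, rfl⟩ := hιbij.2 x
        show g (v * w) (ι z) = g v (g w (ι z))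
        rw [hg (v * w), hg w, hg v]
        exact congrArg ι (Subtype.ext (by simp only [cV, Subgroup.coe_mul]; group)) }
  refine ⟨C, F, instF, finF, ι, κ, σ, hC, hcardF, hchar, hιbij, hιadd, hι1, hκbij, fun k z w hw => ?_,
    fun v z w hw => ?_, fun v => ⟨fun h z hz => ?_, fun h => RingEquiv.ext fun x => ?_⟩⟩
  · rw [show w = cK k z from Subtype.ext hw]
    exact hκmul k z
  · rw [show w = cV v z from Subtype.ext hw]
    exact (hg v z).symm
  · have h1 : g v (ι ⟨z, hz.1, hz.2.2⟩) = ι ⟨z, hz.1, hz.2.2⟩ := DFunLike.congr_fun h _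
    rw [hg] at h1
    have h2' : (v : G) * z * (v : G)⁻¹ = z := congrArg Subtype.val (hιbij.1 h1)
    exact mul_inv_eq_iff_eq_mul.mp h2'
  · obtain ⟨z, rfl⟩ := hιbij.2 x
    show g v (ι z) = ι z
    rw [hg]
    refine congrArg ι (Subtype.ext ?_)
    show (v : G) * z * (v : G)⁻¹ = z
    by_cases hz : (z : G) = 1
    · rw [hz, mul_one, mul_inv_cancel]
    · rw [h z ⟨z.2.1, hz, z.2.2⟩, mul_inv_cancel_right]

end CfsgLib.SuzukiRankOne
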