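import Cfsg.Agent.Lib.SuzukiRankOne.Step

/-!
The induction on the order of the group, given that `Q` is a 2-group and the orders of abelian `Q`.
-/

set_option autoImplicit false

namespace CfsgLib.SuzukiRankOne

open MulAction Cfsg CfsgLib.RankOne

universe u v

/-- The two facts about `Q` that feed the induction. -/
def Parts : Prop :=
  ∀ (G : Type u) (Ω : Type v) [Group G] [Finite G] [MulAction G Ω] [FaithfulSMul G Ω] (a : Ω) (t : G)
    (Q : Subgroup G), Cfsg.IsRankOneSetup G Ω a t Q → Four G → IHyp.{u, v} (Nat.card G) →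
    IsPGroup 2 Q ∧ (IsPGroup 2 Q → (∀ x ∈ Q, ∀ y ∈ Q, x * y = y * x) →
      (∀ x ∈ Q, x * x = 1) ∨ Nat.card Q = qZ G a ^ 2)

theorem iHyp_of_parts (hP : Parts.{u, v}) : ∀ n, IHyp.{u, v} n := by
  intro n
  induction n with
  | zero => exact fun G Ω _ _ _ _ a t Q _ _ h => absurd h (Nat.not_lt_zero _)
  | succ n ih =>
    intro G Ω _ _ _ _ a t Q hS h2 hlt
    rcases Nat.lt_succ_iff_lt_or_eq.mp hlt with h | h
    · exact ih G Ω a t Q hS h2 h
    · have ih' : IHyp.{u, v} (Nat.card G) := h.symm ▸ ih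
      obtain ⟨hQ2, hab⟩ := hP G Ω a t Q hS h2 ih'
      exact concl_step hS h2 ih' hQ2 (hab hQ2)

theorem concl_of_parts (hP : Parts.{u, v}) {G : Type u} {Ω : Type v} [Group G] [Finite G] [MulAction G Ω]
    [FaithfulSMul G Ω] {a : Ω} {t : G} {Q : Subgroup G} (hS : IsRankOneSetup G Ω a t Q) (h2 : Four G) :
    Concl a t Q :=
  iHyp_of_parts hP _ G Ω a t Q hS h2 (Nat.lt_succ_self _)

end CfsgLib.SuzukiRankOne
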