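import Cfsg.Agent.Lib.SuzukiRankOne.KernelQuot

/-!
Base families over the characters of `O`: induced from linear characters of `Q / Z O`.

Blueprint: `blueprint/bender/B2.md`, section 2.
-/

set_option autoImplicit false
set_option linter.unusedSectionVars false
set_option linter.style.haveILetI false

namespace CfsgLib.SuzukiRankOne

open MulAction Cfsg CfsgLib.RankOne CfsgLib.CharTheory
open CfsgLib.AfterFT.SplitRankOne (invGroup mem_invGroup)
open scoped ComplexConjugate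

universe u v

theorem arith_moved {p m c d : ℕ} (hp : p.Prime) (hodd : Odd p) (hm : 1 < m) (hdvd : 2 ^ p - 1 ∣ m - 1)
    (hc : c ^ 2 ≤ m) (hd : d * d ≤ m) : p * d + c ≤ m := by
  set r := Nat.sqrt m with hr
  have hcr : c ≤ r := Nat.le_sqrt'.mpr hc
  have hdr : d ≤ r := Nat.le_sqrt.mpr hd
  have hrm : r * r ≤ m := Nat.sqrt_le m
  have hp3 : 3 ≤ p := by
    rcases hodd with ⟨k, hk⟩
    have := hp.two_le
    omega
  have hpm : 2 ^ p ≤ m := by
    have h1 : 2 ^ p - 1 ≤ m - 1 := Nat.le_of_dvd (by omega) hdvd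
    omega
  have key : (p + 1) * r ≤ m := by
    by_cases h : p + 1 ≤ r
    · exact (Nat.mul_le_mul_right r h).trans hrm
    have hrp : r ≤ p := by omega
    by_cases h5 : 5 ≤ p
    · have h2 : (p + 1) * p ≤ 2 ^ p := by
        clear hpm h hrp hdvd hodd hp hp3
        induction p, h5 using Nat.le_induction with
        | base => norm_num
        | succ n hn ih => rw [pow_succ]; nlinarith
      exact ((Nat.mul_le_mul_left _ hrp).trans h2).trans hpm
    have hpe : p = 3 := by rcases hodd with ⟨k, hk⟩; omega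
    subst hpe
    norm_num at hdvd hpm
    by_cases h12 : 12 ≤ m
    · calc (3 + 1) * r ≤ (3 + 1) * 3 := Nat.mul_le_mul_left _ hrp
        _ ≤ m := h12
    have hm8 : m = 8 := by omega
    have hr2 : r ≤ 2 := by nlinarith
    omega
  calc p * d + c ≤ p * r + r := Nat.add_le_add (Nat.mul_le_mul_left _ hdr) hcr
    _ = (p + 1) * r := by ring
    _ ≤ m := key

variable {G : Type u} {Ω : Type v} [Group G] [Finite G] [MulAction G Ω] [FaithfulSMul G Ω] {a : Ω} {t : G}
  {Q S O : Subgroup G}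

/-- The complex conjugate of a character. -/
noncomputable def bar (ν : IrrCharacter O) : IrrCharacter O :=
  ⟨fun o => conj ((ν : O → ℂ) o), isIrrCharacter_conjChar ν.2⟩

theorem bar_bar (ν : IrrCharacter O) : bar (bar ν) = ν := Subtype.ext (funext fun _ => Complex.conj_conj _)

variable (hS : IsRankOneSetup G Ω a t Q) (h2 : Four G) (hsp : Split Q S O)
include hS h2 hsp

theorem cO_bar (g : stabilizer G a) (ν : IrrCharacter O) : cO hS hsp g (bar ν) = bar (cO hS hsp g ν) := rfl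

/-- Conjugate up to complex conjugation. -/
def Rel (ν ν' : IrrCharacter O) : Prop :=
  ∃ g : stabilizer G a, ν' = cO hS hsp g ν ∨ ν' = cO hS hsp g (bar ν)

theorem rel_refl (ν : IrrCharacter O) : Rel hS hsp ν ν := ⟨1, Or.inl (cO_one hS h2 hsp ν).symm⟩

theorem rel_symm {ν ν' : IrrCharacter O} (h : Rel hS hsp ν ν') : Rel hS hsp ν' ν := by
  obtain ⟨g, rfl | rfl⟩ := h
  · exact ⟨g⁻¹, Or.inl (by rw [← cO_mul hS h2 hsp, mul_inv_cancel, cO_one hS h2 hsp])⟩
  · exact ⟨g⁻¹, Or.inr (by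
      rw [← cO_bar hS h2 hsp, bar_bar, ← cO_mul hS h2 hsp, mul_inv_cancel, cO_one hS h2 hsp])⟩

theorem rel_trans {ν ν' ν'' : IrrCharacter O} (h : Rel hS hsp ν ν') (h' : Rel hS hsp ν' ν'') : Rel hS hsp ν ν'' := by
  obtain ⟨g, rfl | rfl⟩ := h <;> obtain ⟨k, rfl | rfl⟩ := h' <;> refine ⟨g * k, ?_⟩
  · left; rw [cO_mul hS h2 hsp]
  · right; rw [cO_bar hS h2 hsp k, cO_bar hS h2 hsp (g * k), cO_mul hS h2 hsp]
  · right; rw [cO_mul hS h2 hsp]
  · left; rw [← cO_bar hS h2 hsp, bar_bar, cO_mul hS h2 hsp]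

theorem rel_one {ν ν' : IrrCharacter O} (h : Rel hS hsp ν ν') (h1 : (ν : O → ℂ) ≠ fun _ => 1) :
    (ν' : O → ℂ) ≠ fun _ => 1 := by
  intro e
  obtain ⟨g, rfl | rfl⟩ := rel_symm hS h2 hsp h <;>
    exact h1 (funext fun o => by simp [cO, bar, e])

/-- A non-trivial character of `O` is not a conjugate of its complex conjugate. -/
theorem bar_ne {ν : IrrCharacter O} (h1 : (ν : O → ℂ) ≠ fun _ => 1) {d : stabilizer G a} (hd : d ∈ dA a t) :
    cO hS hsp d ν ≠ bar ν := by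
  intro e
  haveI := Fintype.ofFinite O
  have h2' : cO hS hsp (d * d) ν = ν := by rw [cO_mul hS h2 hsp, e, cO_bar hS h2 hsp, e, bar_bar]
  have hodd : Odd (orderOf d) := by
    rw [← Subgroup.orderOf_coe]
    exact hS.odd_card.of_dvd_nat (Subgroup.orderOf_dvd_natCard _ hd)
  obtain ⟨m, hm⟩ := hodd
  have hpow : ∀ n : ℕ, cO hS hsp ((d * d) ^ n) ν = ν := by
    intro n
    induction n with
    | zero => rw [pow_zero, cO_one hS h2 hsp]
    | succ n ih => rw [pow_succ, cO_mul hS h2 hsp, ih, h2']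
  have hdd : d = (d * d) ^ (m + 1) := by
    rw [← sq, ← pow_mul, show 2 * (m + 1) = (2 * m + 1) + 1 by ring, pow_succ, ← hm, pow_orderOf_eq_one, one_mul]
  rw [hdd, hpow] at e
  exact h1 (eq_one_of_real hsp.odd ν.2 fun o => (congrFun (congrArg Subtype.val e) o).symm)

theorem qA_uniq (x : qA Q a) :
    ∃! p : S × O, ((x : stabilizer G a) : G) = (p.1 : G) * p.2 := by
  obtain ⟨y, hy, z, hz, e⟩ := hsp.decomp ((x : stabilizer G a) : G) x.2
  refine ⟨(⟨y, hy⟩, ⟨z, hz⟩), e, fun p hp => ?_⟩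
  obtain ⟨e1, e2⟩ := hsp.unique p.1.2 hy p.2.2 hz (hp.symm.trans e)
  exact Prod.ext (Subtype.ext e1) (Subtype.ext e2)

theorem qA_split_eq (x : qA Q a) {p : S × O} (h : ((x : stabilizer G a) : G) = (p.1 : G) * p.2) :
    (qA_uniq hS h2 hsp x).exists.choose = p :=
  (qA_uniq hS h2 hsp x).unique (qA_uniq hS h2 hsp x).exists.choose_spec h

/-- The projection of `Q` to `O`. -/
noncomputable def pQ : qA Q a →* O where
  toFun x := (qA_uniq hS h2 hsp x).exists.choose.2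
  map_one' := by rw [qA_split_eq hS h2 hsp 1 (p := 1) (by simp)]; rfl
  map_mul' x x' := by
    have h1 := (qA_uniq hS h2 hsp x).exists.choose_spec
    have h1' := (qA_uniq hS h2 hsp x').exists.choose_spec
    set p := (qA_uniq hS h2 hsp x).exists.choose
    set p' := (qA_uniq hS h2 hsp x').exists.choose
    rw [qA_split_eq hS h2 hsp (x * x') (p := p * p') ?_]
    · rfl
    · rw [Subgroup.coe_mul, Subgroup.coe_mul, h1, h1', Prod.fst_mul, Prod.snd_mul, Subgroup.coe_mul, Subgroup.coe_mul]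
      calc (p.1 : G) * p.2 * (p'.1 * p'.2) = p.1 * ((p.2 : G) * p'.1) * p'.2 := by group
        _ = p.1 * ((p'.1 : G) * p.2) * p'.2 := by rw [hsp.comm _ p'.1.2 _ p.2.2]
        _ = _ := by group

theorem pQ_eq {x : qA Q a} {y : S} {z : O} (h : ((x : stabilizer G a) : G) = y * z) : pQ hS h2 hsp x = z :=
  congrArg Prod.snd (qA_split_eq hS h2 hsp x (p := (y, z)) h)

section Quot

variable [(ZO hS h2 hsp).Normal] [(qA Q a).Normal]

/-- The character `λ ν` of `Q`. -/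
noncomputable def psi (lam : IrrCharacter (Qbar hS h2 hsp)) (ν : IrrCharacter O) : qA Q a → ℂ := fun x =>
  (lam : Qbar hS h2 hsp → ℂ) (QuotientGroup.mk x) * (ν : O → ℂ) (pQ hS h2 hsp x)

theorem lam_one (lam : IrrCharacter (Qbar hS h2 hsp)) : (lam : Qbar hS h2 hsp → ℂ) 1 = 1 :=
  degree_one_of_commutative (qbar_ab hS h2 hsp) lam.2

/-- Elements of `Z O` in `Q`. -/
def inQ (c : ZO hS h2 hsp) : qA Q a := ⟨c, ZO_le_qA hS h2 hsp c.2⟩

theorem psi_inQ (lam : IrrCharacter (Qbar hS h2 hsp)) (ν : IrrCharacter O) (c : ZO hS h2 hsp) :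
    psi hS h2 hsp lam ν (inQ hS h2 hsp c) = (ν : O → ℂ) (pZO hS h2 hsp c).2 := by
  have h1 : (QuotientGroup.mk (inQ hS h2 hsp c) : Qbar hS h2 hsp) = 1 :=
    (QuotientGroup.eq_one_iff _).mpr (Subgroup.mem_subgroupOf.mpr c.2)
  have hc := (ZO_uniq hS h2 hsp c).exists.choose_spec
  rw [psi, h1, lam_one hS h2 hsp, one_mul, pQ_eq hS h2 hsp (y := ⟨_, Z_le_S hS h2 hsp (pZO hS h2 hsp c).1.2⟩)
    (z := (pZO hS h2 hsp c).2) hc]

theorem psi_irr (lam : IrrCharacter (Qbar hS h2 hsp)) (ν : IrrCharacter O) :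
    IsIrrCharacter (qA Q a) (psi hS h2 hsp lam ν) := by
  haveI := Fintype.ofFinite (qA Q a)
  have h := isIrrCharacter_mul_linear
    (isIrrCharacter_comp_surjective ν.2 (pQ hS h2 hsp) fun o =>
      ⟨⟨⟨o, hS.le (hsp.O_le o.2)⟩, hsp.O_le o.2⟩, pQ_eq hS h2 hsp (y := 1) (by simp)⟩)
    (isIrrCharacter_comp_surjective lam.2 (QuotientGroup.mk' (ZOq hS h2 hsp)) (QuotientGroup.mk'_surjective _))
    (by show (lam : Qbar hS h2 hsp → ℂ) ((1 : qA Q a) : Qbar hS h2 hsp) = 1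
        rw [QuotientGroup.mk_one, lam_one hS h2 hsp])
  rwa [mul_comm] at h

theorem psi_one (lam : IrrCharacter (Qbar hS h2 hsp)) (ν : IrrCharacter O) :
    psi hS h2 hsp lam ν 1 = (ν : O → ℂ) 1 := by
  rw [psi, map_one, QuotientGroup.mk_one, lam_one hS h2 hsp, one_mul]

theorem psi_inj {lam lam' : IrrCharacter (Qbar hS h2 hsp)} {ν ν' : IrrCharacter O}
    (h : psi hS h2 hsp lam ν = psi hS h2 hsp lam' ν') : lam = lam' ∧ ν = ν' := by
  have hν : ν = ν' := by
    refine Subtype.ext (funext fun o => ?_)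
    have h' := congrFun h (inQ hS h2 hsp (mkZO hS h2 hsp 1 o))
    rw [psi_inQ, psi_inQ, pZO_mk] at h'
    exact h'
  refine ⟨Subtype.ext (funext fun x => ?_), hν⟩
  subst hν
  haveI := Fintype.ofFinite O
  obtain ⟨x, rfl⟩ := QuotientGroup.mk_surjective x
  obtain ⟨y, hy, z, hz, e⟩ := hsp.decomp ((x : stabilizer G a) : G) x.2
  let y' : qA Q a := ⟨⟨y, hS.le (hsp.S_le hy)⟩, hsp.S_le hy⟩
  have hxy : (QuotientGroup.mk x : Qbar hS h2 hsp) = QuotientGroup.mk y' := by
    have hmem : ((y'⁻¹ * x : qA Q a) : stabilizer G a) ∈ ZO hS h2 hsp := ⟨1, one_mem _, z, hz, by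
      show y⁻¹ * ((x : stabilizer G a) : G) = 1 * z
      rw [e, inv_mul_cancel_left, one_mul]⟩
    exact (QuotientGroup.eq.mpr (Subgroup.mem_subgroupOf.mpr hmem)).symm
  have h' := congrFun h y'
  rw [psi, psi, pQ_eq hS h2 hsp (y := ⟨y, hy⟩) (z := 1) (by simp [y'])] at h'
  rw [hxy]
  exact mul_right_cancel₀ (irr_ne_zero ν.2) h'

/-- The conjugate of a character of `Q / Z O`. -/
noncomputable def cM (g : stabilizer G a) (lam : IrrCharacter (Qbar hS h2 hsp)) : IrrCharacter (Qbar hS h2 hsp) :=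
  ⟨fun x => (lam : Qbar hS h2 hsp → ℂ) (aM hS h2 hsp g x),
    isIrrCharacter_comp_surjective lam.2 (aM hS h2 hsp g).toMonoidHom (aM hS h2 hsp g).surjective⟩

theorem cM_mul (g k : stabilizer G a) (lam : IrrCharacter (Qbar hS h2 hsp)) :
    cM hS h2 hsp (g * k) lam = cM hS h2 hsp k (cM hS h2 hsp g lam) :=
  Subtype.ext (funext fun x => congrArg (lam : Qbar hS h2 hsp → ℂ) (aM_mul hS h2 hsp g k x))

theorem cM_qA {g : stabilizer G a} (hg : g ∈ qA Q a) (lam : IrrCharacter (Qbar hS h2 hsp)) :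
    cM hS h2 hsp g lam = lam := by
  refine Subtype.ext (funext fun x => congrArg (lam : Qbar hS h2 hsp → ℂ) ?_)
  obtain ⟨x, rfl⟩ := QuotientGroup.mk_surjective x
  rw [aM_mk, show MulAut.conjNormal (H := qA Q a) g x = (⟨g, hg⟩ : qA Q a) * x * (⟨g, hg⟩ : qA Q a)⁻¹ from
    Subtype.ext (MulAut.conjNormal_apply g x), QuotientGroup.mk_mul, QuotientGroup.mk_mul, QuotientGroup.mk_inv,
    qbar_ab hS h2 hsp _ (QuotientGroup.mk x), mul_inv_cancel_right]

theorem conj_psi (g : stabilizer G a) (lam : IrrCharacter (Qbar hS h2 hsp)) (ν : IrrCharacter O) :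
    conjNormFun (qA Q a) g (psi hS h2 hsp lam ν) = psi hS h2 hsp (cM hS h2 hsp g lam) (cO hS hsp g ν) := by
  funext x
  obtain ⟨y, hy, z, hz, e⟩ := hsp.decomp ((x : stabilizer G a) : G) x.2
  show psi hS h2 hsp lam ν _ = _
  rw [psi, psi, pQ_eq hS h2 hsp (y := ⟨(g : G) * y * (g : G)⁻¹, hsp.conj_S hS g.2 hy⟩) (z := aO hS hsp g ⟨z, hz⟩),
    pQ_eq hS h2 hsp (x := x) (y := ⟨y, hy⟩) (z := ⟨z, hz⟩) e]
  · show (lam : Qbar hS h2 hsp → ℂ) _ * _ = (lam : Qbar hS h2 hsp → ℂ) _ * _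
    congr 2
  · show (g : G) * ((x : stabilizer G a) : G) * (g : G)⁻¹ = (g : G) * y * (g : G)⁻¹ * ((g : G) * z * (g : G)⁻¹)
    rw [e]; group

/-- No non-identity element fixing `ν` fixes `λ`. -/
def FreeL (lam : IrrCharacter (Qbar hS h2 hsp)) (ν : IrrCharacter O) : Prop :=
  ∀ d ∈ Mst hS h2 hsp ν, cM hS h2 hsp d lam = lam → d = 1

theorem freeL_inertia {lam : IrrCharacter (Qbar hS h2 hsp)} {ν : IrrCharacter O} (h : FreeL hS h2 hsp lam ν) :
    inertia (qA Q a) (psi hS h2 hsp lam ν) = qA Q a := by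
  refine le_antisymm (fun g hg => ?_) (le_inertia _ (isClassFunction_irr (psi_irr hS h2 hsp lam ν)))
  obtain ⟨y, hy, d, hd, rfl⟩ := exists_qd hS g
  rw [mem_inertia, conj_psi, cM_mul, cM_qA hS h2 hsp hy, cO_mul hS h2 hsp, cO_qA hS h2 hsp hy] at hg
  obtain ⟨e1, e2⟩ := psi_inj hS h2 hsp hg
  rw [h d ⟨hd, e2⟩ e1, mul_one]
  exact hy

/-- The trivial character of the involutions. -/
noncomputable def triv1 : IrrCharacter (invGroup hS h2) := ⟨fun _ => 1, isIrrCharacter_one⟩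

section Fin

variable [Fintype G] [Fintype (stabilizer G a)] [Fintype (ZO hS h2 hsp)] [Fintype (qA Q a)]

theorem ind_psi_over (lam : IrrCharacter (Qbar hS h2 hsp)) (ν : IrrCharacter O) :
    classInner (fun c : ZO hS h2 hsp => indFun (qA Q a) (psi hS h2 hsp lam ν) (c : stabilizer G a))
      (phi hS h2 hsp (triv1 hS h2) ν) ≠ 0 := by
  classical
  set φ := phi hS h2 hsp (triv1 hS h2) ν
  have hres : (fun c : ZO hS h2 hsp => indFun (qA Q a) (psi hS h2 hsp lam ν) (c : stabilizer G a)) =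
      (Nat.card (qA Q a) : ℂ)⁻¹ • ∑ g : stabilizer G a, conjNormFun (ZO hS h2 hsp) g φ := by
    funext c
    have h := congrFun (indFun_res_eq_sum_conj (qA Q a) (psi hS h2 hsp lam ν)) (inQ hS h2 hsp c)
    simp only [Pi.smul_apply, Finset.sum_apply, smul_eq_mul] at h ⊢
    rw [show ((inQ hS h2 hsp c : qA Q a) : stabilizer G a) = c from rfl] at h
    rw [h]
    congr 1
    refine Finset.sum_congr rfl fun g _ => ?_
    refine (psi_inQ hS h2 hsp lam ν ⟨g * c * g⁻¹,
      (inferInstance : (ZO hS h2 hsp).Normal).conj_mem _ c.2 g⟩).trans ?_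
    show _ = (1 : ℂ) * _
    rw [one_mul]
  rw [hres, classInner_smul_left, classInner_sum_left, Finset.sum_congr rfl fun g _ =>
    classInner_irr (isIrr_conjNormFun (ZO hS h2 hsp) g (phi_irr hS h2 hsp _ ν)) (phi_irr hS h2 hsp _ ν),
    Finset.sum_boole]
  refine mul_ne_zero (inv_ne_zero (Nat.cast_ne_zero.mpr Nat.card_pos.ne')) (Nat.cast_ne_zero.mpr ?_)
  exact Finset.card_ne_zero.mpr ⟨1, Finset.mem_filter.mpr ⟨Finset.mem_univ _, conjNormFun_one _ _⟩⟩

/-- A character lying over the class of `ν`. -/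
def OverRel (ξ : stabilizer G a → ℂ) (ν : IrrCharacter O) : Prop :=
  ∃ χ ν', Rel hS hsp ν ν' ∧ classInner (fun c : ZO hS h2 hsp => ξ c) (phi hS h2 hsp χ ν') ≠ 0

theorem overRel_unique {ξ : stabilizer G a → ℂ} (hξ : IsIrrCharacter (stabilizer G a) ξ) {ν ν' : IrrCharacter O}
    (h : OverRel hS h2 hsp ξ ν) (h' : OverRel hS h2 hsp ξ ν') : Rel hS hsp ν ν' := by
  obtain ⟨χ, ν₁, hr, hn⟩ := h
  obtain ⟨χ', ν₂, hr', hn'⟩ := h'
  obtain ⟨g, hg⟩ := over_ne _ (phi_irr hS h2 hsp χ ν₁) (phi_irr hS h2 hsp χ' ν₂) hξ hn hn'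
  rw [conj_phi] at hg
  obtain ⟨-, e⟩ := phi_inj hS h2 hsp hg
  exact rel_trans hS h2 hsp hr (rel_trans hS h2 hsp ⟨g, Or.inl e.symm⟩ (rel_symm hS h2 hsp hr'))

/-- The base family over a class. -/
theorem exists_base {ν : IrrCharacter O} (hν : (ν : O → ℂ) ≠ fun _ => 1)
    (hcnt : ∀ d : ℕ, d * d ≤ Nat.card (Qbar hS h2 hsp) → Nat.card (Mst hS h2 hsp ν) * d ≤
      Nat.card {lam : IrrCharacter (Qbar hS h2 hsp) // FreeL hS h2 hsp lam ν}) :
    ∃ F : Fam G a, (∀ (i : Fin F.n) (s : G) (hs : s ∈ involutionsIn (stabilizer G a : Set G)), IsTriv hs (F.b i)) ∧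
      (∀ i, F.b i 1 = (Nat.card ↥(D a t) : ℂ) * (ν : O → ℂ) 1) ∧ (∀ i, OverRel hS h2 hsp (F.b i) ν) ∧
      ∀ d : ℕ, d * d ≤ Nat.card (Qbar hS h2 hsp) → 2 * d ≤ F.n := by
  classical
  haveI := Fintype.ofFinite O
  haveI := Fintype.ofFinite (Mst hS h2 hsp ν)
  let FL := Finset.univ.filter fun lam : IrrCharacter (Qbar hS h2 hsp) => FreeL hS h2 hsp lam ν
  let sg : Bool → IrrCharacter O := fun b => bif b then ν else bar ν
  have hFL : ∀ b, ∀ lam ∈ FL, FreeL hS h2 hsp lam (sg b) := by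
    intro b lam hlam d hd e
    cases b
    · refine (Finset.mem_filter.mp hlam).2 d ⟨hd.1, ?_⟩ e
      have h : cO hS hsp d (bar ν) = bar ν := hd.2
      rw [cO_bar hS h2 hsp] at h
      simpa [bar_bar] using congrArg bar h
    · exact (Finset.mem_filter.mp hlam).2 d hd e
  let f : IrrCharacter (Qbar hS h2 hsp) × Bool → (stabilizer G a → ℂ) := fun p =>
    indFun (qA Q a) (psi hS h2 hsp p.1 (sg p.2))
  let src := FL ×ˢ (Finset.univ : Finset Bool)
  have hirr : ∀ p ∈ src, IsIrrCharacter (stabilizer G a) (f p) := fun p hp =>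
    isIrrCharacter_indFun_of_inertia_eq _ (psi_irr hS h2 hsp _ _)
      (freeL_inertia hS h2 hsp (hFL p.2 p.1 (Finset.mem_product.mp hp).1))
  have hsg1 : ∀ b, ((sg b : IrrCharacter O) : O → ℂ) 1 = (ν : O → ℂ) 1 := by
    intro b
    cases b
    · obtain ⟨k, -, hk⟩ := irr_degree_pos ν.2
      show conj ((ν : O → ℂ) 1) = _
      rw [hk, map_natCast]
    · rfl
  let B := src.image f
  have hcard : 2 * FL.card ≤ Nat.card (Mst hS h2 hsp ν) * B.card := by
    rw [show 2 * FL.card = src.card by simp [src, mul_comm]]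
    refine Finset.card_le_mul_card_image src _ fun ξ hξ => ?_
    obtain ⟨⟨lam, b⟩, hp, rfl⟩ := Finset.mem_image.mp hξ
    rw [Nat.card_eq_fintype_card, ← Finset.card_univ]
    refine Finset.card_le_card_of_surjOn (fun d : Mst hS h2 hsp ν => (cM hS h2 hsp d lam, b)) ?_
    rintro ⟨lam', b'⟩ hp'
    obtain ⟨hp'1, he⟩ := Finset.mem_filter.mp (Finset.mem_coe.mp hp')
    have hirr' := hirr _ hp'1
    obtain ⟨g, hg⟩ : ∃ g, conjNormFun (qA Q a) g (psi hS h2 hsp lam (sg b)) = psi hS h2 hsp lam' (sg b') := by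
      by_contra hno
      have h0 := indFun_orthogonal_of_not_conj (qA Q a) (psi_irr hS h2 hsp lam' (sg b'))
        (psi_irr hS h2 hsp lam (sg b)) hno
      have he' : indFun (qA Q a) (psi hS h2 hsp lam' (sg b')) = indFun (qA Q a) (psi hS h2 hsp lam (sg b)) := he
      rw [← he', classInner_irr_self hirr'] at h0
      exact one_ne_zero h0
    obtain ⟨y, hy, d, hd, rfl⟩ := exists_qd hS g
    rw [conj_psi, cM_mul, cM_qA hS h2 hsp hy, cO_mul hS h2 hsp, cO_qA hS h2 hsp hy] at hg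
    obtain ⟨e1, e2⟩ := psi_inj hS h2 hsp hg
    have hbb : b' = b := by
      cases b <;> cases b'
      · rfl
      · simp only [sg, cond_true, cond_false, cO_bar hS h2 hsp] at e2
        exact absurd (by simpa [bar_bar] using congrArg bar e2) (bar_ne hS h2 hsp hν hd)
      · exact absurd e2 (bar_ne hS h2 hsp hν hd)
      · rfl
    subst hbb
    have hdM : d ∈ Mst hS h2 hsp ν := by
      refine ⟨hd, ?_⟩
      cases b'
      · simp only [sg, cond_false, cO_bar hS h2 hsp] at e2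
        simpa [bar_bar] using congrArg bar e2
      · exact e2
    exact ⟨⟨d, hdM⟩, Finset.mem_coe.mpr (Finset.mem_univ _), Prod.ext e1 rfl⟩
  have hn : ∀ d : ℕ, d * d ≤ Nat.card (Qbar hS h2 hsp) → 2 * d ≤ B.card := by
    intro d hd
    have h := hcnt d hd
    rw [show Nat.card {lam : IrrCharacter (Qbar hS h2 hsp) // FreeL hS h2 hsp lam ν} = FL.card by
      rw [Nat.card_eq_fintype_card, Fintype.card_subtype]] at h
    have hpos : 0 < Nat.card (Mst hS h2 hsp ν) := Nat.card_pos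
    nlinarith
  let b : Fin B.card → stabilizer G a → ℂ := fun i => (B.equivFin.symm i : stabilizer G a → ℂ)
  have hb : ∀ i, ∃ p ∈ src, f p = b i := fun i => Finset.mem_image.mp (B.equivFin.symm i).2
  have hdeg : ∀ i, b i 1 = (Nat.card ↥(D a t) : ℂ) * (ν : O → ℂ) 1 := fun i => by
    obtain ⟨p, -, e⟩ := hb i
    rw [← e]
    show indFun (qA Q a) _ 1 = _
    rw [indFun_apply_one, psi_one hS h2 hsp, qA_index hS, hsg1]
  refine ⟨⟨B.card, by have := hn 1 (by rw [one_mul]; exact Nat.card_pos); omega, b,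
    fun i => ?_, Subtype.val_injective.comp B.equivFin.symm.injective, fun i j => by rw [hdeg, hdeg], fun i => ?_⟩,
    fun i s hs => ?_, hdeg, fun i => ?_, hn⟩
  · obtain ⟨p, hp, e⟩ := hb i
    exact e ▸ hirr p hp
  · obtain ⟨p, -, e⟩ := hb i
    intro x hx hx1
    rw [← e]
    exact indFun_normal_apply_not_mem (qA Q a) _ fun hxQ => hx (Q_sup hS hxQ fun h => hx1 (Subtype.ext h))
  · obtain ⟨p, hp, e⟩ := hb i
    show IsTriv hs (b i)
    rw [← e]
    exact over_triv hS h2 hsp (fun z => rfl) (hirr p hp) (ind_psi_over hS h2 hsp _ _) hs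
  · obtain ⟨⟨lam, b'⟩, -, e⟩ := hb i
    show OverRel hS h2 hsp (b i) ν
    rw [← e]
    refine ⟨triv1 hS h2, sg b', ⟨1, ?_⟩, ind_psi_over hS h2 hsp _ _⟩
    cases b'
    · exact Or.inr (cO_one hS h2 hsp _).symm
    · exact Or.inl (cO_one hS h2 hsp _).symm

end Fin

/-- Enough linear characters are free. -/
theorem freeL_count {ν : IrrCharacter O}
    (hM : Mst hS h2 hsp ν = ⊥ ∨ ∃ p : ℕ, p.Prime ∧ Odd p ∧ Nat.card (Mst hS h2 hsp ν) = p ∧ qZ G a = 2 ^ p ∧
      ∀ x ∈ Mst hS h2 hsp ν, x ≠ 1 →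
        Nat.card {z : G // z ∈ involutionsIn (stabilizer G a : Set G) ∧ z * x = x * z} = 1)
    (hm : Mst hS h2 hsp ν = ⊥ ∨ 1 < Nat.card (Qbar hS h2 hsp)) (d : ℕ) (hd : d * d ≤ Nat.card (Qbar hS h2 hsp)) :
    Nat.card (Mst hS h2 hsp ν) * d ≤
      Nat.card {lam : IrrCharacter (Qbar hS h2 hsp) // FreeL hS h2 hsp lam ν} := by
  classical
  haveI := Fintype.ofFinite (Qbar hS h2 hsp)
  rcases hM with hbot | ⟨p, hp, hpo, hcard, hq, hone⟩
  · have hall : ∀ lam, FreeL hS h2 hsp lam ν := fun lam e he _ => by rwa [hbot, Subgroup.mem_bot] at he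
    rw [Nat.card_congr (Equiv.subtypeUnivEquiv hall),
      card_irr_abelian (qbar_ab hS h2 hsp), hbot, Subgroup.card_bot, one_mul]
    exact (Nat.le_mul_self d).trans hd
  have hne : Mst hS h2 hsp ν ≠ ⊥ := fun e => hp.ne_one (by rw [← hcard, e, Subgroup.card_bot])
  haveI := (Subgroup.nontrivial_iff_ne_bot _).mpr hne
  obtain ⟨⟨x, hx⟩, hx1⟩ := exists_ne (1 : Mst hS h2 hsp ν)
  have hx1' : x ≠ 1 := fun e => hx1 (Subtype.ext e)
  have hsq := card_fixed_sq_le hS h2 hsp hx.1 (hone x hx hx1')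
  have hdvd : 2 ^ p - 1 ∣ Nat.card (Qbar hS h2 hsp) - 1 := hq ▸ dvd_quot hS h2 hsp
  have hbound := arith_moved hp hpo (hm.resolve_left hne) hdvd hsq hd
  have hgen : ∀ lam, ¬ FreeL hS h2 hsp lam ν → cM hS h2 hsp x lam = lam := by
    intro lam hlam
    rw [FreeL] at hlam
    push Not at hlam
    obtain ⟨e, he, hefix, he1⟩ := hlam
    haveI := Fact.mk hp
    have hmem : (⟨x, hx⟩ : Mst hS h2 hsp ν) ∈ Subgroup.zpowers (⟨e, he⟩ : Mst hS h2 hsp ν) :=
      mem_zpowers_of_prime_card hcard fun h => he1 (congrArg Subtype.val h)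
    obtain ⟨n, hn⟩ := (IsOfFinOrder.mem_powers_iff_mem_zpowers (isOfFinOrder_of_finite _)).mpr hmem
    have hn' : e ^ n = x := by simpa using congrArg Subtype.val hn
    rw [← hn']
    clear hn hn'
    induction n with
    | zero => exact Subtype.ext (funext fun y => congrArg (lam : Qbar hS h2 hsp → ℂ) (by rw [pow_zero, aM_one]))
    | succ n ih => rw [pow_succ, cM_mul, ih, hefix]
  have hsplit : Nat.card (IrrCharacter (Qbar hS h2 hsp)) ≤
      Nat.card {lam : IrrCharacter (Qbar hS h2 hsp) // FreeL hS h2 hsp lam ν} +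
        Nat.card {lam : IrrCharacter (Qbar hS h2 hsp) // cM hS h2 hsp x lam = lam} := by
    simp only [Nat.card_eq_fintype_card, Fintype.card_subtype, ← Finset.card_univ (α := IrrCharacter (Qbar hS h2 hsp))]
    refine le_trans (Finset.card_le_card fun lam _ => ?_) (Finset.card_union_le _ _)
    by_cases h : FreeL hS h2 hsp lam ν
    · exact Finset.mem_union_left _ (Finset.mem_filter.mpr ⟨Finset.mem_univ _, h⟩)
    · exact Finset.mem_union_right _ (Finset.mem_filter.mpr ⟨Finset.mem_univ _, hgen lam h⟩)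
  have hfix : Nat.card {lam : IrrCharacter (Qbar hS h2 hsp) // cM hS h2 hsp x lam = lam} =
      Nat.card {m : Qbar hS h2 hsp // aM hS h2 hsp x m = m} := by
    rw [← card_fixed_irr_abelian (qbar_ab hS h2 hsp) (aM hS h2 hsp x)]
    exact Nat.card_congr (Equiv.subtypeEquivRight fun lam => ⟨fun e => congrArg Subtype.val e, fun e => Subtype.ext e⟩)
  rw [card_irr_abelian (qbar_ab hS h2 hsp), hfix] at hsplit
  rw [hcard]
  omega

end Quot

end CfsgLib.SuzukiRankOne
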