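import Cfsg.Agent.Lib.SuzukiRankOne.KernelStab
import Cfsg.Agent.Lib.SuzukiRankOne.CharBound

/-!
The characters of the point stabiliser lying over the characters of `Z O`.

Blueprint: `blueprint/bender/B2.md`, section 2.
-/

set_option autoImplicit false
set_option linter.unusedSectionVars false
set_option linter.style.haveILetI false

namespace CfsgLib.SuzukiRankOne

open MulAction Cfsg CfsgLib.RankOne CfsgLib.CharTheory
open CfsgLib.AfterFT.SplitRankOne (invGroup mem_invGroup)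
open scoped ComplexConjugate

universe u v

variable {G : Type u} {Ω : Type v} [Group G] [Finite G] [MulAction G Ω] [FaithfulSMul G Ω] {a : Ω} {t : G}
  {Q S O : Subgroup G}

/-- `Q` inside the point stabiliser. -/
abbrev qA (Q : Subgroup G) (a : Ω) : Subgroup (stabilizer G a) := Q.subgroupOf (stabilizer G a)

theorem qA_normal (hS : IsRankOneSetup G Ω a t Q) : (qA Q a).Normal :=
  ⟨fun x hx g => Subgroup.mem_subgroupOf.mpr (conj_Q hS g.2 (Subgroup.mem_subgroupOf.mp hx))⟩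

theorem qA_index (hS : IsRankOneSetup G Ω a t Q) : (qA Q a).index = Nat.card ↥(D a t) := by
  have h := (qA Q a).card_mul_index
  rw [Nat.card_congr (Subgroup.subgroupOfEquivOfLe hS.le).toEquiv, card_stab hS] at h
  exact Nat.eq_of_mul_eq_mul_left Nat.card_pos h

/-- The elements of `D` in the point stabiliser. -/
abbrev dA (a : Ω) (t : G) : Subgroup (stabilizer G a) := (D a t).subgroupOf (stabilizer G a)

theorem exists_qd (hS : IsRankOneSetup G Ω a t Q) (g : stabilizer G a) :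
    ∃ y ∈ qA Q a, ∃ d ∈ dA a t, g = y * d := by
  obtain ⟨y, hy, d, hd, e⟩ := exists_decomp hS (g := (g : G)) g.2
  exact ⟨⟨y, hS.le hy⟩, hy, ⟨d, D_le hS hd⟩, hd, Subtype.ext e⟩

theorem qd_inter (hS : IsRankOneSetup G Ω a t Q) {g : stabilizer G a} (h1 : g ∈ qA Q a) (h2 : g ∈ dA a t) :
    g = 1 :=
  Subtype.ext (eq_one_of_fix_ta hS h1 ((mem_D hS).mp h2).2)

variable (hS : IsRankOneSetup G Ω a t Q) (h2 : Four G) (hsp : Split Q S O)
include hS h2 hsp

theorem ZO_le_qA : ZO hS h2 hsp ≤ qA Q a := by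
  rintro x ⟨z, hz, o, ho, e⟩
  exact Subgroup.mem_subgroupOf.mpr (e ▸ mul_mem (invol_mem_Q hS hz.1 hz.2) (hsp.O_le ho))

theorem ZO_uniq (c : ZO hS h2 hsp) :
    ∃! p : invGroup hS h2 × O, ((c : stabilizer G a) : G) = (p.1 : G) * p.2 := by
  obtain ⟨z, hz, o, ho, e⟩ := c.2
  refine ⟨(⟨z, hz⟩, ⟨o, ho⟩), e, fun p hp => ?_⟩
  obtain ⟨e1, e2⟩ := hsp.unique (Z_le_S hS h2 hsp p.1.2) (Z_le_S hS h2 hsp hz) p.2.2 ho (hp.symm.trans e)
  exact Prod.ext (Subtype.ext e1) (Subtype.ext e2)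

theorem ZO_split_eq (c : ZO hS h2 hsp) {p : invGroup hS h2 × O}
    (h : ((c : stabilizer G a) : G) = (p.1 : G) * p.2) : (ZO_uniq hS h2 hsp c).exists.choose = p :=
  (ZO_uniq hS h2 hsp c).unique (ZO_uniq hS h2 hsp c).exists.choose_spec h

/-- The two projections of `Z O`. -/
noncomputable def pZO : ZO hS h2 hsp →* invGroup hS h2 × O where
  toFun c := (ZO_uniq hS h2 hsp c).exists.choose
  map_one' := ZO_split_eq hS h2 hsp 1 (by simp)
  map_mul' c c' := by
    refine ZO_split_eq hS h2 hsp (c * c') ?_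
    have h1 := (ZO_uniq hS h2 hsp c).exists.choose_spec
    have h1' := (ZO_uniq hS h2 hsp c').exists.choose_spec
    set p := (ZO_uniq hS h2 hsp c).exists.choose
    set p' := (ZO_uniq hS h2 hsp c').exists.choose
    rw [Subgroup.coe_mul, Subgroup.coe_mul, Prod.fst_mul, Prod.snd_mul, Subgroup.coe_mul, Subgroup.coe_mul, h1, h1']
    calc (p.1 : G) * p.2 * (p'.1 * p'.2) = p.1 * ((p.2 : G) * p'.1) * p'.2 := by group
      _ = p.1 * ((p'.1 : G) * p.2) * p'.2 := by rw [Z_central hS h2 p'.1.2 (hsp.O_le p.2.2)]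
      _ = _ := by group

theorem pZO_eq {c : ZO hS h2 hsp} {z : invGroup hS h2} {o : O} (h : ((c : stabilizer G a) : G) = z * o) :
    pZO hS h2 hsp c = (z, o) :=
  ZO_split_eq hS h2 hsp c (p := (z, o)) h

/-- An element of `Z O`. -/
def mkZO (z : invGroup hS h2) (o : O) : ZO hS h2 hsp :=
  ⟨⟨(z : G) * o, mul_mem z.2.1 (hS.le (hsp.O_le o.2))⟩, z, z.2, o, o.2, rfl⟩

theorem pZO_mk (z : invGroup hS h2) (o : O) : pZO hS h2 hsp (mkZO hS h2 hsp z o) = (z, o) :=
  pZO_eq hS h2 hsp rfl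

theorem pZO_surjective : Function.Surjective (pZO hS h2 hsp) := fun p => ⟨_, pZO_mk hS h2 hsp p.1 p.2⟩

/-- The character `χ ν` of `Z O`. -/
noncomputable def phi (χ : IrrCharacter (invGroup hS h2)) (ν : IrrCharacter O) : ZO hS h2 hsp → ℂ := fun c =>
  (χ : invGroup hS h2 → ℂ) (pZO hS h2 hsp c).1 * (ν : O → ℂ) (pZO hS h2 hsp c).2

omit hsp in
theorem chi_one (χ : IrrCharacter (invGroup hS h2)) : (χ : invGroup hS h2 → ℂ) 1 = 1 :=
  degree_one_of_commutative (fun x y =>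
    (CfsgLib.AfterFT.SplitRankOne.invGroup_comm hS h2).is_comm.comm x y) χ.2

theorem phi_one (χ : IrrCharacter (invGroup hS h2)) (ν : IrrCharacter O) :
    phi hS h2 hsp χ ν 1 = (ν : O → ℂ) 1 := by
  rw [phi, map_one, Prod.fst_one, Prod.snd_one, chi_one hS h2, one_mul]

theorem phi_mk (χ : IrrCharacter (invGroup hS h2)) (ν : IrrCharacter O) (z : invGroup hS h2) (o : O) :
    phi hS h2 hsp χ ν (mkZO hS h2 hsp z o) = (χ : invGroup hS h2 → ℂ) z * (ν : O → ℂ) o := by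
  rw [phi, pZO_mk]

theorem phi_irr [Fintype (ZO hS h2 hsp)] (χ : IrrCharacter (invGroup hS h2)) (ν : IrrCharacter O) :
    IsIrrCharacter (ZO hS h2 hsp) (phi hS h2 hsp χ ν) := by
  have h := isIrrCharacter_mul_linear
    (isIrrCharacter_comp_surjective ν.2 ((MonoidHom.snd _ _).comp (pZO hS h2 hsp)) fun o => ⟨mkZO hS h2 hsp 1 o, by
      simp [pZO_mk]⟩)
    (isIrrCharacter_comp_surjective χ.2 ((MonoidHom.fst _ _).comp (pZO hS h2 hsp)) fun z => ⟨mkZO hS h2 hsp z 1, by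
      simp [pZO_mk]⟩)
    (by simp [chi_one hS h2])
  rwa [mul_comm] at h

theorem phi_inj {χ χ' : IrrCharacter (invGroup hS h2)} {ν ν' : IrrCharacter O}
    (h : phi hS h2 hsp χ ν = phi hS h2 hsp χ' ν') : χ = χ' ∧ ν = ν' := by
  have hν : ν = ν' := by
    refine Subtype.ext (funext fun o => ?_)
    have := congrFun h (mkZO hS h2 hsp 1 o)
    rwa [phi_mk, phi_mk, chi_one hS h2, chi_one hS h2, one_mul, one_mul] at this
  refine ⟨Subtype.ext (funext fun z => ?_), hν⟩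
  subst hν
  have h' := congrFun h (mkZO hS h2 hsp z 1)
  rw [phi_mk, phi_mk] at h'
  haveI := Fintype.ofFinite O
  exact mul_right_cancel₀ (irr_ne_zero ν.2) h'

omit hsp in
theorem conj_invGroup (g : stabilizer G a) {z : G} (hz : z ∈ invGroup hS h2) :
    (g : G) * z * (g : G)⁻¹ ∈ invGroup hS h2 :=
  ⟨mul_mem (mul_mem g.2 hz.1) (inv_mem g.2), by
    calc (g : G) * z * (g : G)⁻¹ * (g * z * (g : G)⁻¹) = g * (z * z) * (g : G)⁻¹ := by group
      _ = 1 := by rw [hz.2, mul_one, mul_inv_cancel]⟩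

/-- Conjugation on the involutions. -/
def aZ (g : stabilizer G a) : invGroup hS h2 ≃* invGroup hS h2 where
  toFun z := ⟨(g : G) * z * (g : G)⁻¹, conj_invGroup hS h2 g z.2⟩
  invFun z := ⟨(g : G)⁻¹ * z * g, by simpa using conj_invGroup hS h2 g⁻¹ z.2⟩
  left_inv z := Subtype.ext (by group)
  right_inv z := Subtype.ext (by group)
  map_mul' z w := Subtype.ext (by simp only [Subgroup.coe_mul]; group)

/-- Conjugation on `O`. -/
def aO (g : stabilizer G a) : O ≃* O where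
  toFun o := ⟨(g : G) * o * (g : G)⁻¹, hsp.conj_O hS g.2 o.2⟩
  invFun o := ⟨(g : G)⁻¹ * o * g, by simpa using hsp.conj_O hS (g⁻¹).2 o.2⟩
  left_inv o := Subtype.ext (by group)
  right_inv o := Subtype.ext (by group)
  map_mul' o o' := Subtype.ext (by simp only [Subgroup.coe_mul]; group)

/-- The conjugate of a character of the involutions. -/
def cZ (g : stabilizer G a) (χ : IrrCharacter (invGroup hS h2)) : IrrCharacter (invGroup hS h2) :=
  ⟨fun z => (χ : invGroup hS h2 → ℂ) (aZ hS h2 g z),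
    isIrrCharacter_comp_surjective χ.2 (aZ hS h2 g).toMonoidHom (aZ hS h2 g).surjective⟩

/-- The conjugate of a character of `O`. -/
def cO (g : stabilizer G a) (ν : IrrCharacter O) : IrrCharacter O :=
  ⟨fun o => (ν : O → ℂ) (aO hS hsp g o),
    isIrrCharacter_comp_surjective ν.2 (aO hS hsp g).toMonoidHom (aO hS hsp g).surjective⟩

theorem cO_one (ν : IrrCharacter O) : cO hS hsp 1 ν = ν :=
  Subtype.ext (funext fun o => congrArg (ν : O → ℂ) (Subtype.ext (by simp [aO])))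

theorem cO_mul (g k : stabilizer G a) (ν : IrrCharacter O) :
    cO hS hsp (g * k) ν = cO hS hsp k (cO hS hsp g ν) :=
  Subtype.ext (funext fun o => congrArg (ν : O → ℂ) (Subtype.ext (by simp [aO]; group)))

theorem cZ_one (χ : IrrCharacter (invGroup hS h2)) : cZ hS h2 1 χ = χ :=
  Subtype.ext (funext fun z => congrArg (χ : invGroup hS h2 → ℂ) (Subtype.ext (by simp [aZ])))

theorem cZ_mul (g k : stabilizer G a) (χ : IrrCharacter (invGroup hS h2)) :
    cZ hS h2 (g * k) χ = cZ hS h2 k (cZ hS h2 g χ) :=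
  Subtype.ext (funext fun z => congrArg (χ : invGroup hS h2 → ℂ) (Subtype.ext (by simp [aZ]; group)))

theorem conj_phi [(ZO hS h2 hsp).Normal] (g : stabilizer G a) (χ : IrrCharacter (invGroup hS h2))
    (ν : IrrCharacter O) :
    conjNormFun (ZO hS h2 hsp) g (phi hS h2 hsp χ ν) = phi hS h2 hsp (cZ hS h2 g χ) (cO hS hsp g ν) := by
  funext c
  have h1 := (ZO_uniq hS h2 hsp c).exists.choose_spec
  show phi hS h2 hsp χ ν _ = _
  rw [phi, phi, pZO_eq hS h2 hsp (z := aZ hS h2 g (pZO hS h2 hsp c).1) (o := aO hS hsp g (pZO hS h2 hsp c).2)]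
  · rfl
  · show (g : G) * ((c : stabilizer G a) : G) * (g : G)⁻¹ = _
    rw [h1]
    show (g : G) * (_ * _) * (g : G)⁻¹ = (g : G) * _ * (g : G)⁻¹ * ((g : G) * _ * (g : G)⁻¹)
    show (g : G) * (((pZO hS h2 hsp c).1 : G) * (pZO hS h2 hsp c).2) * (g : G)⁻¹ = _
    group

theorem cZ_qA {g : stabilizer G a} (hg : g ∈ qA Q a) (χ : IrrCharacter (invGroup hS h2)) :
    cZ hS h2 g χ = χ :=
  Subtype.ext (funext fun z => congrArg (χ : invGroup hS h2 → ℂ) (Subtype.ext (by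
    show (g : G) * z * (g : G)⁻¹ = z
    have hg' : (g : G) ∈ Q := hg
    rw [← Z_central hS h2 z.2 hg', mul_inv_cancel_right])))

theorem cO_qA {g : stabilizer G a} (hg : g ∈ qA Q a) (ν : IrrCharacter O) : cO hS hsp g ν = ν := by
  obtain ⟨y, hy, o', ho', e⟩ := hsp.decomp (g : G) hg
  refine Subtype.ext (funext fun o => ?_)
  show (ν : O → ℂ) (aO hS hsp g o) = _
  rw [show aO hS hsp g o = ⟨o', ho'⟩ * o * ⟨o', ho'⟩⁻¹ from Subtype.ext (by
    show (g : G) * o * (g : G)⁻¹ = o' * o * o'⁻¹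
    rw [e]
    calc y * o' * o * (y * o')⁻¹ = y * (o' * o * o'⁻¹) * y⁻¹ := by group
      _ = _ := by rw [hsp.comm y hy _ (mul_mem (mul_mem ho' o.2) (inv_mem ho')), mul_inv_cancel_right]),
    isClassFunction_irr ν.2]

/-- No non-identity element of `D` fixes both characters. -/
def Free (χ : IrrCharacter (invGroup hS h2)) (ν : IrrCharacter O) : Prop :=
  ∀ d ∈ dA a t, cO hS hsp d ν = ν → cZ hS h2 d χ = χ → d = 1

theorem free_inertia [(ZO hS h2 hsp).Normal] {χ : IrrCharacter (invGroup hS h2)} {ν : IrrCharacter O}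
    (h : Free hS h2 hsp χ ν) : qA Q a = inertia (ZO hS h2 hsp) (phi hS h2 hsp χ ν) := by
  refine le_antisymm (fun g hg => ?_) (fun g hg => ?_)
  · rw [mem_inertia, conj_phi, cZ_qA hS h2 hsp hg, cO_qA hS h2 hsp hg]
  · obtain ⟨y, hy, d, hd, rfl⟩ := exists_qd hS g
    rw [mem_inertia, conj_phi, cZ_mul hS h2 hsp, cO_mul hS h2 hsp, cZ_qA hS h2 hsp hy, cO_qA hS h2 hsp hy] at hg
    obtain ⟨e1, e2⟩ := phi_inj hS h2 hsp hg
    rw [h d hd e2 e1, mul_one]
    exact hy

theorem free_conj (g : stabilizer G a) {χ : IrrCharacter (invGroup hS h2)} {ν : IrrCharacter O}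
    (h : Free hS h2 hsp χ ν) : Free hS h2 hsp (cZ hS h2 g χ) (cO hS hsp g ν) := by
  obtain ⟨y, hy, d₀, hd₀, rfl⟩ := exists_qd hS g
  intro d hd e1 e2
  rw [cO_mul hS h2 hsp, cO_qA hS h2 hsp hy] at e1
  rw [cZ_mul hS h2 hsp, cZ_qA hS h2 hsp hy] at e2
  have hf1 : cO hS hsp (d₀ * d * d₀⁻¹) ν = ν := by
    rw [cO_mul hS h2 hsp, cO_mul hS h2 hsp, e1, ← cO_mul hS h2 hsp, mul_inv_cancel, cO_one hS h2 hsp]
  have hf2 : cZ hS h2 (d₀ * d * d₀⁻¹) χ = χ := by
    rw [cZ_mul hS h2 hsp, cZ_mul hS h2 hsp, e2, ← cZ_mul hS h2 hsp, mul_inv_cancel, cZ_one hS h2 hsp]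
  exact conj_eq_one_iff.mp (h _ (mul_mem (mul_mem hd₀ hd) (inv_mem hd₀)) hf1 hf2)

section Members

variable [Fintype G] [Fintype (stabilizer G a)] [(ZO hS h2 hsp).Normal] [Fintype (ZO hS h2 hsp)]

theorem ZO_relIndex : (ZO hS h2 hsp).index = (ZO hS h2 hsp).relIndex (qA Q a) * Nat.card ↥(D a t) := by
  rw [← qA_index hS, Subgroup.relIndex_mul_index (ZO_le_qA hS h2 hsp)]

/-- A character over a free character. -/
theorem over_free {χ : IrrCharacter (invGroup hS h2)} {ν : IrrCharacter O} (h : Free hS h2 hsp χ ν)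
    {ξ : stabilizer G a → ℂ} (hξ : IsIrrCharacter (stabilizer G a) ξ)
    (hne : classInner (fun c : ZO hS h2 hsp => ξ c) (phi hS h2 hsp χ ν) ≠ 0) :
    VanOff a ξ ∧ ∃ d : ℕ, 1 ≤ d ∧ d * d ≤ (ZO hS h2 hsp).relIndex (qA Q a) ∧
      ξ 1 = (d : ℂ) * (Nat.card ↥(D a t) : ℂ) * (ν : O → ℂ) 1 := by
  haveI := qA_normal hS
  have hT := free_inertia hS h2 hsp h
  refine ⟨fun x hx hx1 => over_vanish _ (phi_irr hS h2 hsp χ ν) (qA Q a) (ZO_le_qA hS h2 hsp) hT hξ hne
    fun hxQ => hx (Q_sup hS hxQ fun e => hx1 (Subtype.ext e)), ?_⟩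
  obtain ⟨d, hd⟩ := classInner_char_nat (isCharacter_restrict (isCharacter_of_irr hξ) (ZO hS h2 hsp))
    (isCharacter_of_irr (phi_irr hS h2 hsp χ ν))
  refine ⟨d, Nat.pos_of_ne_zero fun e => hne (by rw [hd, e, Nat.cast_zero]), ?_, ?_⟩
  · have h1 := coeff_sq_le _ (phi_irr hS h2 hsp χ ν) hξ hd
    rw [← hT, qA_index hS, ZO_relIndex hS h2 hsp] at h1
    exact Nat.le_of_mul_le_mul_right h1 Nat.card_pos
  · rw [clifford_degree _ hξ (phi_irr hS h2 hsp χ ν) hne, hd, ← hT, qA_index hS, phi_one hS h2 hsp]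

theorem mkZO_s {s : G} (hs : s ∈ involutionsIn (stabilizer G a : Set G)) :
    ((mkZO hS h2 hsp ⟨s, hs.1, hs.2.2⟩ 1 : ZO hS h2 hsp) : stabilizer G a) = ⟨s, hs.1⟩ :=
  Subtype.ext (by simp [mkZO])

/-- Characters over a character trivial on the involutions are trivial there. -/
theorem over_triv {χ : IrrCharacter (invGroup hS h2)} {ν : IrrCharacter O} (hχ : ∀ z, (χ : invGroup hS h2 → ℂ) z = 1)
    {ξ : stabilizer G a → ℂ} (hξ : IsIrrCharacter (stabilizer G a) ξ)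
    (hne : classInner (fun c : ZO hS h2 hsp => ξ c) (phi hS h2 hsp χ ν) ≠ 0) {s : G}
    (hs : s ∈ involutionsIn (stabilizer G a : Set G)) : IsTriv hs ξ := by
  have hc := clifford _ hξ (phi_irr hS h2 hsp χ ν) hne
  have h1 := congrFun hc (mkZO hS h2 hsp ⟨s, hs.1, hs.2.2⟩ 1)
  have h2' := congrFun hc 1
  simp only [Pi.smul_apply, Finset.sum_apply, mkZO_s hS h2 hsp hs, OneMemClass.coe_one] at h1 h2'
  show ξ ⟨s, hs.1⟩ = ξ 1
  rw [h1, h2']
  congr 1
  refine Finset.sum_congr rfl fun ψ hψ => ?_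
  obtain ⟨g, rfl⟩ := (mem_conjOrbit _).mp hψ
  rw [conj_phi, phi_mk, phi_one hS h2 hsp, show (cZ hS h2 g χ : invGroup hS h2 → ℂ) _ = 1 from hχ _, one_mul]

/-- Characters over a character non-trivial on the involutions. -/
theorem over_non {χ : IrrCharacter (invGroup hS h2)} {ν : IrrCharacter O}
    (hχ : (χ : invGroup hS h2 → ℂ) ≠ fun _ => 1) {ξ : stabilizer G a → ℂ}
    (hξ : IsIrrCharacter (stabilizer G a) ξ)
    (hne : classInner (fun c : ZO hS h2 hsp => ξ c) (phi hS h2 hsp χ ν) ≠ 0) {s : G}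
    (hs : s ∈ involutionsIn (stabilizer G a : Set G)) : IsNon hs ξ := by
  classical
  haveI := Fintype.ofFinite (invGroup hS h2)
  have hc := clifford _ hξ (phi_irr hS h2 hsp χ ν) hne
  have hsum : ∑ z : invGroup hS h2, ξ (mkZO hS h2 hsp z 1 : stabilizer G a) = 0 := by
    rw [Finset.sum_congr rfl fun z _ => congrFun hc (mkZO hS h2 hsp z 1)]
    simp only [Pi.smul_apply, Finset.sum_apply, ← Finset.smul_sum]
    rw [Finset.sum_comm, Finset.sum_eq_zero, smul_zero]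
    intro ψ hψ
    obtain ⟨g, rfl⟩ := (mem_conjOrbit _).mp hψ
    rw [conj_phi, Finset.sum_congr rfl fun z _ => phi_mk hS h2 hsp _ _ z 1, ← Finset.sum_mul]
    have hne' : (cZ hS h2 g χ : invGroup hS h2 → ℂ) ≠ fun _ => 1 := fun e => hχ (funext fun z => by
      have := congrFun e ((aZ hS h2 g).symm z)
      simpa [cZ] using this)
    have h := classInner_irr_ne (cZ hS h2 g χ).2 isIrrCharacter_one hne'
    rw [classInner, mul_eq_zero, inv_eq_zero] at h
    have h' := h.resolve_left (Nat.cast_ne_zero.mpr Nat.card_pos.ne')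
    simp only [map_one, mul_one] at h'
    rw [h', zero_mul]
  have hone : (mkZO hS h2 hsp 1 1 : stabilizer G a) = 1 := Subtype.ext (by simp [mkZO])
  rw [← Finset.add_sum_erase _ _ (Finset.mem_univ (1 : invGroup hS h2)), hone,
    Finset.sum_congr rfl (g := fun _ => ξ ⟨s, hs.1⟩) fun z hz => by
      have hz1 : (z : G) ≠ 1 := fun e => Finset.ne_of_mem_erase hz (Subtype.ext e)
      obtain ⟨k, hk, hk'⟩ := exists_conj_inverted hS hs (s2 := (z : G)) ⟨z.2.1, hz1, z.2.2⟩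
      rw [← isClassFunction_irr hξ ⟨s, hs.1⟩ ⟨k⁻¹, inv_mem (D_le hS hk.1)⟩]
      exact congrArg ξ (Subtype.ext (by simp [mkZO, ← hk'])),
    Finset.sum_const, Finset.card_erase_of_mem (Finset.mem_univ _), Finset.card_univ, ← Nat.card_eq_fintype_card,
    card_invGroup hS h2, nsmul_eq_mul, Nat.cast_sub (by rw [qZ]; omega), Nat.cast_one] at hsum
  show ξ ⟨s, hs.1⟩ * ((qZ G a : ℂ) - 1) = - ξ 1
  linear_combination hsum

end Members

end CfsgLib.SuzukiRankOne
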