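import Cfsg.Agent.Lib.SuzukiRankOne.KernelLink

/-!
The families over one class of characters of `O` and their weight.

Blueprint: `blueprint/bender/B2.md`, section 2.
-/

set_option autoImplicit false
set_option linter.unusedSectionVars false
set_option linter.style.haveILetI false

namespace CfsgLib.SuzukiRankOne

open MulAction Cfsg CfsgLib.RankOne CfsgLib.CharTheory
open CfsgLib.AfterFT.SplitRankOne (invGroup)
open scoped ComplexConjugate

universe u v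

variable {G : Type u} {Ω : Type v} [Group G] [Finite G] [MulAction G Ω] [FaithfulSMul G Ω] {a : Ω} {t : G}
  {Q S O : Subgroup G} (hS : IsRankOneSetup G Ω a t Q) (h2 : Four G) (hsp : Split Q S O)
include hS h2 hsp

theorem rel_deg {ν ν' : IrrCharacter O} (h : Rel hS hsp ν ν') : (ν' : O → ℂ) 1 = (ν : O → ℂ) 1 := by
  haveI := Fintype.ofFinite O
  have e : ∀ g : stabilizer G a, ∀ μ : IrrCharacter O, (cO hS hsp g μ : O → ℂ) 1 = (μ : O → ℂ) 1 := fun g μ => by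
    show (μ : O → ℂ) (aO hS hsp g 1) = _
    rw [map_one]
  obtain ⟨g, rfl | rfl⟩ := h
  · exact e g ν
  · obtain ⟨k, -, hk⟩ := irr_degree_pos ν.2
    rw [e]
    show conj ((ν : O → ℂ) 1) = _
    rw [hk, map_natCast]

theorem mst_bar {ν : IrrCharacter O} {d : stabilizer G a} :
    cO hS hsp d (bar ν) = bar ν ↔ cO hS hsp d ν = ν := by
  rw [cO_bar hS h2 hsp]
  exact ⟨fun e => by simpa [bar_bar] using congrArg bar e, fun e => by rw [e]⟩

theorem free_bar {χ : IrrCharacter (invGroup hS h2)} {ν : IrrCharacter O} (h : Free hS h2 hsp χ ν) :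
    Free hS h2 hsp χ (bar ν) := fun d hd e => h d hd ((mst_bar hS h2 hsp).mp e)

/-- A free character over a class with stabiliser is non-trivial on the involutions. -/
theorem free_not_triv {ν ν' : IrrCharacter O} (hne : Mst hS h2 hsp ν ≠ ⊥) (hr : Rel hS hsp ν ν')
    {χ : IrrCharacter (invGroup hS h2)} (h : Free hS h2 hsp χ ν') :
    (χ : invGroup hS h2 → ℂ) ≠ fun _ => 1 := by
  intro e
  obtain ⟨g, hg⟩ := hr
  have hχ : χ = triv1 hS h2 := Subtype.ext e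
  subst hχ
  haveI := (Subgroup.nontrivial_iff_ne_bot _).mpr hne
  obtain ⟨⟨d, hd, hdν⟩, hd1⟩ := exists_ne (1 : Mst hS h2 hsp ν)
  have h' := free_conj hS h2 hsp g⁻¹ h
  rw [cZ_triv hS h2 hsp] at h'
  have back : ∀ μ, cO hS hsp g⁻¹ (cO hS hsp g μ) = μ := fun μ => by
    rw [← cO_mul hS h2 hsp, mul_inv_cancel, cO_one hS h2 hsp]
  refine hd1 (Subtype.ext ?_)
  rcases hg with rfl | rfl
  · rw [back] at h'
    exact h' d hd hdν (cZ_triv hS h2 hsp d)
  · rw [back] at h'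
    exact h' d hd ((mst_bar hS h2 hsp).mpr hdν) (cZ_triv hS h2 hsp d)

omit hsp in
/-- The value at an involution tells trivial and non-trivial characters apart. -/
theorem triv_ne_non [Fintype G] [Fintype (stabilizer G a)] {s : G}
    {hs : s ∈ involutionsIn (stabilizer G a : Set G)} {ξ : stabilizer G a → ℂ}
    (hξ : IsIrrCharacter (stabilizer G a) ξ) (ht : IsTriv hs ξ) (hn : IsNon hs ξ) : False := by
  have h : ξ 1 * (qZ G a : ℂ) = 0 := by
    rw [IsNon, ht] at hn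
    linear_combination hn
  exact mul_ne_zero (irr_ne_zero hξ) (qZ_ne hS h2).2 h

section Class

variable [(ZO hS h2 hsp).Normal] [(qA Q a).Normal] [Fintype G] [Fintype (stabilizer G a)]
  [Fintype (ZO hS h2 hsp)] [Fintype (qA Q a)]

open Classical in
/-- The free pairs over a class. -/
noncomputable def pairs (ν : IrrCharacter O) : Finset (IrrCharacter (invGroup hS h2) × IrrCharacter O) :=
  haveI := Fintype.ofFinite (invGroup hS h2)
  haveI := Fintype.ofFinite O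
  Finset.univ.filter fun p => Rel hS hsp ν p.2 ∧ Free hS h2 hsp p.1 p.2

theorem mem_pairs {ν : IrrCharacter O} {p : IrrCharacter (invGroup hS h2) × IrrCharacter O} :
    p ∈ pairs hS h2 hsp ν ↔ Rel hS hsp ν p.2 ∧ Free hS h2 hsp p.1 p.2 := by
  simp [pairs]

open Classical in
/-- The characters of `Z O` over a class. -/
noncomputable def phiSet (ν : IrrCharacter O) : Finset (ZO hS h2 hsp → ℂ) :=
  (pairs hS h2 hsp ν).image fun p => phi hS h2 hsp p.1 p.2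

theorem mem_phiSet {ν : IrrCharacter O} {ξ : stabilizer G a → ℂ}
    (h : ξ ∈ overFin (ZO hS h2 hsp) (phiSet hS h2 hsp ν)) : IsIrrCharacter (stabilizer G a) ξ ∧
      ∃ χ ν', Rel hS hsp ν ν' ∧ Free hS h2 hsp χ ν' ∧
        classInner (fun c : ZO hS h2 hsp => ξ c) (phi hS h2 hsp χ ν') ≠ 0 := by
  classical
  obtain ⟨hi, φ, hφ, hne⟩ := (mem_overFin _).mp h
  obtain ⟨p, hp, rfl⟩ := Finset.mem_image.mp hφ
  exact ⟨hi, p.1, p.2, ((mem_pairs hS h2 hsp).mp hp).1, ((mem_pairs hS h2 hsp).mp hp).2, hne⟩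

/-- A character over a given one. -/
theorem exists_over {φ : ZO hS h2 hsp → ℂ} (hφ : IsIrrCharacter (ZO hS h2 hsp) φ) :
    ∃ ξ, IsIrrCharacter (stabilizer G a) ξ ∧ classInner (fun c : ZO hS h2 hsp => ξ c) φ ≠ 0 := by
  by_contra hall
  push Not at hall
  have h := sum_coeff_degree (ZO hS h2 hsp) (φ := φ)
  rw [Finset.sum_eq_zero fun ξ _ => by rw [hall ξ ξ.2, map_zero, zero_mul]] at h
  exact mul_ne_zero (Nat.cast_ne_zero.mpr Subgroup.index_ne_zero_of_finite) (irr_ne_zero hφ) h.symm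

theorem over_mem {ν ν' : IrrCharacter O} {χ : IrrCharacter (invGroup hS h2)} (hr : Rel hS hsp ν ν')
    (hf : Free hS h2 hsp χ ν') {ξ : stabilizer G a → ℂ} (hξ : IsIrrCharacter (stabilizer G a) ξ)
    (hne : classInner (fun c : ZO hS h2 hsp => ξ c) (phi hS h2 hsp χ ν') ≠ 0) :
    ξ ∈ overFin (ZO hS h2 hsp) (phiSet hS h2 hsp ν) := by
  classical
  exact (mem_overFin _).mpr ⟨hξ, _, Finset.mem_image.mpr ⟨(χ, ν'), (mem_pairs hS h2 hsp).mpr ⟨hr, hf⟩, rfl⟩, hne⟩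

/-- The weight of the characters over a class. -/
theorem weight_eq (ν : IrrCharacter O) :
    ∑ ξ ∈ overFin (ZO hS h2 hsp) (phiSet hS h2 hsp ν), (ξ 1).re ^ 2 =
      ((ZO hS h2 hsp).index : ℝ) * ∑ p ∈ pairs hS h2 hsp ν, ((p.2 : O → ℂ) 1).re ^ 2 := by
  classical
  haveI := Fintype.ofFinite O
  have h := sum_over_sq (ZO hS h2 hsp) (phiSet hS h2 hsp ν) (fun φ hφ => by
      obtain ⟨p, -, rfl⟩ := Finset.mem_image.mp hφ
      exact phi_irr hS h2 hsp p.1 p.2)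
    (fun g φ hφ => by
      obtain ⟨p, hp, rfl⟩ := Finset.mem_image.mp hφ
      obtain ⟨hr, hf⟩ := (mem_pairs hS h2 hsp).mp hp
      exact Finset.mem_image.mpr ⟨(cZ hS h2 g p.1, cO hS hsp g p.2), (mem_pairs hS h2 hsp).mpr
        ⟨rel_trans hS h2 hsp hr ⟨g, Or.inl rfl⟩, free_conj hS h2 hsp g hf⟩, (conj_phi hS h2 hsp g p.1 p.2).symm⟩)
  unfold phiSet at h ⊢
  rw [Finset.sum_image (fun x _ y _ e => Prod.ext (phi_inj hS h2 hsp e).1 (phi_inj hS h2 hsp e).2)] at h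
  simp only [phi_one hS h2 hsp] at h
  have hreal : ∀ ξ ∈ overFin (ZO hS h2 hsp) ((pairs hS h2 hsp ν).image fun p => phi hS h2 hsp p.1 p.2),
      ξ 1 ^ 2 = (((ξ 1).re ^ 2 : ℝ) : ℂ) := fun ξ hξ => by
    obtain ⟨k, -, hk⟩ := irr_degree_pos ((mem_overFin _).mp hξ).1
    simp [hk]
  have hreal' : ∀ p ∈ pairs hS h2 hsp ν,
      (p.2 : O → ℂ) 1 ^ 2 = ((((p.2 : O → ℂ) 1).re ^ 2 : ℝ) : ℂ) := fun p _ => by
    obtain ⟨k, -, hk⟩ := irr_degree_pos p.2.2
    simp [hk]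
  rw [Finset.sum_congr rfl hreal, Finset.sum_congr rfl hreal', ← Complex.ofReal_sum, ← Complex.ofReal_sum,
    ← Complex.ofReal_natCast, ← Complex.ofReal_mul, Complex.ofReal_inj] at h
  exact h

/-- The families over a class. -/
theorem exists_class_family (hI : IHyp.{u, v} (Nat.card G)) {ν : IrrCharacter O}
    (hν : (ν : O → ℂ) ≠ fun _ => 1) {s : G} (hs : s ∈ involutionsIn (stabilizer G a : Set G)) :
    ∃ (F : Fam G a) (M : Finset (stabilizer G a → ℂ)) (dd : (stabilizer G a → ℂ) → ℕ),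
      (∀ i, OverRel hS h2 hsp (F.b i) ν) ∧
      (∀ ξ ∈ M, Mem F ξ (dd ξ) ∧ OverRel hS h2 hsp ξ ν) ∧
      (∀ (ε : ℂ) (X : Fin F.n → G → ℂ), Lift F ε X → (∀ k, Val a Q s (X k) (F.b k 1)) ∧
        ∀ ξ ∈ M, ∀ (X' : G → ℂ) (β : ℕ), Adj F ε X ξ (dd ξ) X' β → Val a Q s X' (ξ 1)) ∧
      ((ZO hS h2 hsp).index : ℝ) * ∑ p ∈ pairs hS h2 hsp ν, ((p.2 : O → ℂ) 1).re ^ 2 ≤
        F.n * (F.b F.i0 1).re ^ 2 + ∑ ξ ∈ M, (ξ 1).re ^ 2 := by
  classical
  have hrel : (ZO hS h2 hsp).relIndex (qA Q a) = Nat.card (Qbar hS h2 hsp) := rfl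
  set L := overFin (ZO hS h2 hsp) (phiSet hS h2 hsp ν) with hL
  by_cases hm : Mst hS h2 hsp ν = ⊥ ∨ 1 < Nat.card (Qbar hS h2 hsp)
  · obtain ⟨F, htriv, hdeg, hover, hn⟩ := exists_base hS h2 hsp hν fun d hd =>
      freeL_count hS h2 hsp (mst_cases hS h2 hsp hI hν) hm d hd
    set M := L.filter fun ξ => ∀ i, ξ ≠ F.b i with hM
    have hmem : ∀ ξ, ∃ d, ξ ∈ M → Mem F ξ d := by
      intro ξ
      by_cases hξ : ξ ∈ M
      swap
      · exact ⟨0, fun h => absurd h hξ⟩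
      obtain ⟨hξL, hnew⟩ := Finset.mem_filter.mp hξ
      obtain ⟨hi, χ, ν', hr, hf, hne⟩ := mem_phiSet hS h2 hsp hξL
      obtain ⟨hvan, d, hd1, hd2, hd3⟩ := over_free hS h2 hsp hf hi hne
      rw [hrel] at hd2
      exact ⟨d, fun _ => ⟨hi, hvan, hnew, by rw [hd3, hdeg, rel_deg hS h2 hsp hr, mul_assoc], hd1, hn d hd2⟩⟩
    choose dd hdd using hmem
    refine ⟨F, M, dd, hover, fun ξ hξ => ⟨hdd ξ hξ, ?_⟩, fun ε X hX => ?_, ?_⟩
    · obtain ⟨-, χ, ν', hr, -, hne⟩ := mem_phiSet hS h2 hsp (Finset.mem_filter.mp hξ).1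
      exact ⟨χ, ν', hr, hne⟩
    · have ht : ∀ i, IsTriv hs (F.b i) := fun i => htriv i s hs
      obtain ⟨χ₁, hf₁, hχ₁⟩ := exists_free_non hS h2 hsp hI hν
      obtain ⟨ξ₀, hi₀, hne₀⟩ := exists_over hS h2 hsp (phi_irr hS h2 hsp χ₁ ν)
      have hnon₀ : IsNon hs ξ₀ := over_non hS h2 hsp hχ₁ hi₀ hne₀ hs
      have hM₀ : ξ₀ ∈ M := Finset.mem_filter.mpr ⟨over_mem hS h2 hsp (rel_refl hS h2 hsp ν) hf₁ hi₀ hne₀,
        fun i e => triv_ne_non hS h2 hi₀ (e ▸ ht i) hnon₀⟩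
      obtain ⟨X₀, β₀, hA₀⟩ := exists_adj hS hX (hdd ξ₀ hM₀)
      obtain ⟨-, hval⟩ := val_non hS h2 hs hX ht (hdd ξ₀ hM₀) hnon₀ hA₀
      refine ⟨hval, fun ξ hξ X' β hA => ?_⟩
      obtain ⟨hi, χ, ν', hr, hf, hne⟩ := mem_phiSet hS h2 hsp (Finset.mem_filter.mp hξ).1
      by_cases hχ : (χ : invGroup hS h2 → ℂ) = fun _ => 1
      · exact val_triv hS h2 hs hX ht (hdd ξ hξ) (over_triv hS h2 hsp (fun z => congrFun hχ z) hi hne hs)
          (hval F.i0) hA
      · exact (val_non hS h2 hs hX ht (hdd ξ hξ) (over_non hS h2 hsp hχ hi hne hs) hA).1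
    · rw [← weight_eq hS h2 hsp ν, ← hL]
      have hsub : L ⊆ Finset.univ.image F.b ∪ M := fun ξ hξ => by
        by_cases h : ∀ i, ξ ≠ F.b i
        · exact Finset.mem_union_right _ (Finset.mem_filter.mpr ⟨hξ, h⟩)
        · push Not at h
          obtain ⟨i, rfl⟩ := h
          exact Finset.mem_union_left _ (Finset.mem_image_of_mem _ (Finset.mem_univ i))
      refine (Finset.sum_le_sum_of_subset_of_nonneg hsub fun ξ _ _ => sq_nonneg _).trans (le_of_eq ?_)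
      rw [Finset.sum_union (Finset.disjoint_left.mpr fun ξ h1 h2' => by
        obtain ⟨i, -, rfl⟩ := Finset.mem_image.mp h1
        exact (Finset.mem_filter.mp h2').2 i rfl), Finset.sum_image fun x _ y _ e => F.inj e]
      congr 1
      rw [Finset.sum_congr rfl fun i _ => by rw [F.deg i F.i0]]
      simp
  · push Not at hm
    obtain ⟨hne, hQ1⟩ := hm
    have hQ : Nat.card (Qbar hS h2 hsp) = 1 := le_antisymm hQ1 Nat.card_pos
    obtain ⟨p, hp, hpo, hcard, -, -⟩ := (mst_cases hS h2 hsp hI hν).resolve_left hne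
    have hZO : qA Q a ≤ ZO hS h2 hsp := Subgroup.relIndex_eq_one.mp (hrel.trans hQ)
    have hfacts : ∀ ξ ∈ L, IsIrrCharacter (stabilizer G a) ξ ∧ VanOff a ξ ∧ IsNon hs ξ ∧
        ξ 1 = (Nat.card ↥(D a t) : ℂ) * (ν : O → ℂ) 1 ∧ OverRel hS h2 hsp ξ ν := by
      intro ξ hξ
      obtain ⟨hi, χ, ν', hr, hf, hne'⟩ := mem_phiSet hS h2 hsp hξ
      obtain ⟨hvan, d, hd1, hd2, hd3⟩ := over_free hS h2 hsp hf hi hne'
      rw [hrel, hQ] at hd2
      obtain rfl : d = 1 := by nlinarith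
      exact ⟨hi, hvan, over_non hS h2 hsp (free_not_triv hS h2 hsp hne hr hf) hi hne' hs,
        by rw [hd3, rel_deg hS h2 hsp hr, Nat.cast_one, one_mul], χ, ν', hr, hne'⟩
    have hn3 : 3 ≤ L.card := by
      obtain ⟨χ, χ', hf, hf', hsep⟩ := exists_free_pair hS h2 hsp hI hν hne
      obtain ⟨ξ₁, hi₁, hne₁⟩ := exists_over hS h2 hsp (phi_irr hS h2 hsp χ ν)
      obtain ⟨ξ₂, hi₂, hne₂⟩ := exists_over hS h2 hsp (phi_irr hS h2 hsp χ' ν)
      obtain ⟨ξ₃, hi₃, hne₃⟩ := exists_over hS h2 hsp (phi_irr hS h2 hsp χ (bar ν))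
      have key : ∀ {χ₁ χ₂ : IrrCharacter (invGroup hS h2)} {ν₁ ν₂ : IrrCharacter O}
          {ξ : stabilizer G a → ℂ}, IsIrrCharacter (stabilizer G a) ξ →
          classInner (fun c : ZO hS h2 hsp => ξ c) (phi hS h2 hsp χ₁ ν₁) ≠ 0 →
          classInner (fun c : ZO hS h2 hsp => ξ c) (phi hS h2 hsp χ₂ ν₂) ≠ 0 →
          ∃ d ∈ dA a t, cZ hS h2 d χ₁ = χ₂ ∧ cO hS hsp d ν₁ = ν₂ := by
        intro χ₁ χ₂ ν₁ ν₂ ξ hi h1 h2'
        obtain ⟨g, hg⟩ := over_ne _ (phi_irr hS h2 hsp χ₁ ν₁) (phi_irr hS h2 hsp χ₂ ν₂) hi h1 h2'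
        obtain ⟨y, hy, d, hd, rfl⟩ := exists_qd hS g
        rw [conj_phi, cZ_mul hS h2 hsp, cZ_qA hS h2 hsp hy, cO_mul hS h2 hsp, cO_qA hS h2 hsp hy] at hg
        exact ⟨d, hd, phi_inj hS h2 hsp hg⟩
      have h12 : ξ₁ ≠ ξ₂ := fun e => by
        obtain ⟨d, hd, e1, e2⟩ := key hi₁ hne₁ (e ▸ hne₂)
        exact hsep d ⟨hd, e2⟩ e1
      have h13 : ξ₁ ≠ ξ₃ := fun e => by
        obtain ⟨d, hd, -, e2⟩ := key hi₁ hne₁ (e ▸ hne₃)
        exact bar_ne hS h2 hsp hν hd e2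
      have h23 : ξ₂ ≠ ξ₃ := fun e => by
        obtain ⟨d, hd, -, e2⟩ := key hi₂ hne₂ (e ▸ hne₃)
        exact bar_ne hS h2 hsp hν hd e2
      have hsub : ({ξ₁, ξ₂, ξ₃} : Finset _) ⊆ L := by
        intro ξ hξ
        simp only [Finset.mem_insert, Finset.mem_singleton] at hξ
        rcases hξ with rfl | rfl | rfl
        · exact over_mem hS h2 hsp (rel_refl hS h2 hsp ν) hf hi₁ hne₁
        · exact over_mem hS h2 hsp (rel_refl hS h2 hsp ν) hf' hi₂ hne₂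
        · exact over_mem hS h2 hsp ⟨1, Or.inr (cO_one hS h2 hsp _).symm⟩ (free_bar hS h2 hsp hf) hi₃ hne₃
      refine le_trans (le_of_eq ?_) (Finset.card_le_card hsub)
      simp [Finset.card_insert_of_notMem, h12, h13, h23]
    let b : Fin L.card → stabilizer G a → ℂ := fun i => (L.equivFin.symm i : stabilizer G a → ℂ)
    have hbL : ∀ i, b i ∈ L := fun i => (L.equivFin.symm i).2
    let F : Fam G a := ⟨L.card, by omega, b, fun i => (hfacts _ (hbL i)).1,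
      Subtype.val_injective.comp L.equivFin.symm.injective,
      fun i j => by rw [(hfacts _ (hbL i)).2.2.2.1, (hfacts _ (hbL j)).2.2.2.1], fun i => (hfacts _ (hbL i)).2.1⟩
    refine ⟨F, ∅, fun _ => 0, fun i => (hfacts _ (hbL i)).2.2.2.2, fun ξ hξ => absurd hξ (Finset.notMem_empty _),
      fun ε X hX => ⟨fun i => ?_, fun ξ hξ => absurd hξ (Finset.notMem_empty _)⟩, ?_⟩
    · obtain ⟨χ₀, hχ₀, hfix⟩ := exists_fixed_chi hS h2 hsp hI hν hne
      obtain ⟨η, η', hηi, hη'i, hinj, hinj', hcross, hover, hover', hsupp, hsum⟩ :=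
        exists_linked hS h2 hsp hp hpo hcard hZO hfix hχ₀
      have htriv : ∀ k, IsTriv hs (η k) := fun k => over_triv hS h2 hsp (fun _ => rfl) (hηi k) (hover k) hs
      have hnon' : ∀ k, IsNon hs (η' k) := fun k => over_non hS h2 hsp hχ₀ (hη'i k) (hover' k) hs
      refine val_link hS h2 hs F hn3 (fun i => (hfacts _ (hbL i)).2.2.1) η η' hηi hη'i hinj hinj' hcross
        (fun k i e => triv_ne_non hS h2 (hηi k) (htriv k) (e ▸ (hfacts _ (hbL i)).2.2.1)) (fun k i e => ?_) hsupp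
        htriv hnon' ?_ hX i
      · obtain ⟨-, χ, ν', hr, hf, hne'⟩ := mem_phiSet hS h2 hsp (hbL i)
        obtain ⟨g, hg⟩ := over_ne _ (phi_irr hS h2 hsp χ ν') (phi_irr hS h2 hsp χ₀ ν) (hη'i k)
          (by rw [e]; exact hne') (hover' k)
        rw [conj_phi] at hg
        obtain ⟨e1, e2⟩ := phi_inj hS h2 hsp hg
        have hf0 := free_conj hS h2 hsp g hf
        rw [e1, e2] at hf0
        refine hne ((Subgroup.eq_bot_iff_forall _).mpr fun d hd => hf0 d hd.1 hd.2 (hfix d hd))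
      · intro x hx
        show b F.i0 x - (∑ k, η k) x = 0
        rw [← hsum]
        by_cases hx1 : x = 1
        · subst hx1
          rw [(hfacts _ (hbL F.i0)).2.2.2.1, indFun_apply_one, ZO_relIndex hS h2 hsp, hrel, hQ, one_mul,
            phi_one hS h2 hsp, sub_self]
        · rw [(hfacts _ (hbL F.i0)).2.1 x hx hx1, indFun_normal_apply_not_mem _ _ fun hxC =>
            hx (Q_sup hS (ZO_le_qA hS h2 hsp hxC) fun e => hx1 (Subtype.ext e)), sub_self]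
    · rw [← weight_eq hS h2 hsp ν, ← hL, Finset.sum_empty, add_zero]
      refine le_of_eq ?_
      rw [Finset.sum_congr rfl fun ξ hξ => by rw [(hfacts ξ hξ).2.2.2.1], Finset.sum_const, nsmul_eq_mul,
        show F.b F.i0 1 = _ from (hfacts _ (hbL F.i0)).2.2.2.1]

end Class

end CfsgLib.SuzukiRankOne
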