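import Cfsg.Agent.Lib.SuzukiRankOne.KernelFree
import Cfsg.Agent.Lib.SuzukiRankOne.CharLink
import Cfsg.Agent.Lib.CharTheory.ExtCriteria

/-!
The linked characters over a character of `O` with a stabiliser of prime order when `Q = Z O`.

Blueprint: `blueprint/bender/B2.md`, section 2, case B.
-/

set_option autoImplicit false
set_option linter.unusedSectionVars false
set_option linter.style.haveILetI false

namespace CfsgLib.SuzukiRankOne

open MulAction Cfsg CfsgLib.RankOne CfsgLib.CharTheory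
open CfsgLib.AfterFT.SplitRankOne (invGroup)
open scoped ComplexConjugate

universe u v

variable {G : Type u} {Ω : Type v} [Group G] [Finite G] [MulAction G Ω] [FaithfulSMul G Ω] {a : Ω} {t : G}
  {Q S O : Subgroup G} (hS : IsRankOneSetup G Ω a t Q) (h2 : Four G) (hsp : Split Q S O)
  [(ZO hS h2 hsp).Normal]
include hS h2 hsp

/-- The linked characters. -/
theorem exists_linked [Fintype G] [Fintype (stabilizer G a)] [Fintype (ZO hS h2 hsp)]
    {ν : IrrCharacter O} {p : ℕ} (hp : p.Prime) (hpo : Odd p) (hcard : Nat.card (Mst hS h2 hsp ν) = p)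
    (hZO : qA Q a ≤ ZO hS h2 hsp) {χ₀ : IrrCharacter (invGroup hS h2)}
    (hfix : ∀ d ∈ Mst hS h2 hsp ν, cZ hS h2 d χ₀ = χ₀) (hχ₀ : (χ₀ : invGroup hS h2 → ℂ) ≠ fun _ => 1) :
    ∃ η η' : Fin p → stabilizer G a → ℂ, (∀ k, IsIrrCharacter (stabilizer G a) (η k)) ∧
      (∀ k, IsIrrCharacter (stabilizer G a) (η' k)) ∧ Function.Injective η ∧ Function.Injective η' ∧
      (∀ k l, η k ≠ η' l) ∧
      (∀ k, classInner (fun c : ZO hS h2 hsp => η k c) (phi hS h2 hsp (triv1 hS h2) ν) ≠ 0) ∧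
      (∀ k, classInner (fun c : ZO hS h2 hsp => η' k c) (phi hS h2 hsp χ₀ ν) ≠ 0) ∧
      (∀ k, Supp a (η k - η' k)) ∧
      indFun (ZO hS h2 hsp) (phi hS h2 hsp (triv1 hS h2) ν) = ∑ k, η k := by
  classical
  haveI := Fact.mk hp
  haveI := qA_normal hS
  set θ := phi hS h2 hsp (triv1 hS h2) ν with hθdef
  set θ₀ := phi hS h2 hsp χ₀ ν with hθ₀def
  have hθ : IsIrrCharacter (ZO hS h2 hsp) θ := phi_irr hS h2 hsp _ _
  have hθ₀ : IsIrrCharacter (ZO hS h2 hsp) θ₀ := phi_irr hS h2 hsp _ _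
  set T := inertia (ZO hS h2 hsp) θ with hTdef
  have hmem : ∀ g, g ∈ T ↔ cO hS hsp g ν = ν := fun g => by
    rw [hTdef, hθdef, mem_inertia, conj_phi, cZ_triv hS h2 hsp]
    exact ⟨fun e => (phi_inj hS h2 hsp e).2, fun e => by rw [e]⟩
  have hfixT : ∀ g ∈ T, cZ hS h2 g χ₀ = χ₀ := fun g hg => by
    have h := (hmem g).mp hg
    obtain ⟨y, hy, d, hd, rfl⟩ := exists_qd hS g
    rw [cO_mul hS h2 hsp, cO_qA hS h2 hsp hy] at h
    rw [cZ_mul hS h2 hsp, cZ_qA hS h2 hsp hy, hfix d ⟨hd, h⟩]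
  have hT₀ : T = inertia (ZO hS h2 hsp) θ₀ := by
    ext g
    rw [hmem g, hθ₀def, mem_inertia, conj_phi]
    exact ⟨fun e => by rw [e, hfixT g ((hmem g).mpr e)], fun e => (phi_inj hS h2 hsp e).2⟩
  have hCT : (ZO hS h2 hsp) ≤ T := le_inertia _ (isClassFunction_irr hθ)
  haveI := Fintype.ofFinite T
  haveI := Fintype.ofFinite ((ZO hS h2 hsp).subgroupOf T)
  have hMT : ∀ d ∈ Mst hS h2 hsp ν, d ∈ T := fun d hd => (hmem d).mpr hd.2
  let f : Mst hS h2 hsp ν → T ⧸ (ZO hS h2 hsp).subgroupOf T := fun d => QuotientGroup.mk (⟨d, hMT d d.2⟩ : T)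
  have hsur : Function.Surjective f := fun x => by
    obtain ⟨⟨g, hg⟩, rfl⟩ := QuotientGroup.mk_surjective x
    have h := (hmem g).mp hg
    obtain ⟨y, hy, d, hd, rfl⟩ := exists_qd hS g
    rw [cO_mul hS h2 hsp, cO_qA hS h2 hsp hy] at h
    refine ⟨⟨d, hd, h⟩, QuotientGroup.eq.mpr (Subgroup.mem_subgroupOf.mpr ?_)⟩
    show d⁻¹ * (y * d) ∈ (ZO hS h2 hsp)
    rw [← mul_assoc]
    simpa using (inferInstance : (ZO hS h2 hsp).Normal).conj_mem y (hZO hy) d⁻¹
  have hbij : Function.Bijective f := by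
    refine ⟨fun d d' e => Subtype.ext ?_, hsur⟩
    have h : (d : stabilizer G a)⁻¹ * d' ∈ (ZO hS h2 hsp) := Subgroup.mem_subgroupOf.mp (QuotientGroup.eq.mp e)
    exact inv_mul_eq_one.mp (qd_inter hS (ZO_le_qA hS h2 hsp h) (mul_mem (inv_mem d.2.1) d'.2.1))
  have hidx : ((ZO hS h2 hsp).subgroupOf T).index = p := by
    rw [Subgroup.index_eq_card, ← Nat.card_eq_of_bijective f hbij, hcard]
  have hab : ∀ x y : T, x * y * x⁻¹ * y⁻¹ ∈ (ZO hS h2 hsp).subgroupOf T := by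
    intro x y
    obtain ⟨d, hd⟩ := hsur (QuotientGroup.mk x)
    obtain ⟨d', hd'⟩ := hsur (QuotientGroup.mk y)
    haveI : IsCyclic (Mst hS h2 hsp ν) := isCyclic_of_prime_card hcard
    have hc : d * d' = d' * d := (IsCyclic.commGroup (α := Mst hS h2 hsp ν)).mul_comm d d'
    rw [← QuotientGroup.eq_one_iff, QuotientGroup.mk_mul, QuotientGroup.mk_mul, QuotientGroup.mk_mul,
      QuotientGroup.mk_inv, QuotientGroup.mk_inv, ← hd, ← hd']
    simp only [f, ← QuotientGroup.mk_inv, ← QuotientGroup.mk_mul]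
    rw [QuotientGroup.eq_one_iff]
    have hc' : (d : stabilizer G a) * d' = d' * d := congrArg Subtype.val hc
    refine Subgroup.mem_subgroupOf.mpr ?_
    show (d : stabilizer G a) * d' * (d : stabilizer G a)⁻¹ * (d' : stabilizer G a)⁻¹ ∈ (ZO hS h2 hsp)
    rw [hc', mul_inv_cancel_right, mul_inv_cancel]
    exact one_mem _
  have hinv : ∀ g : T, conjNormFun ((ZO hS h2 hsp).subgroupOf T) g
      (fun x : (ZO hS h2 hsp).subgroupOf T => θ ⟨(x : T), Subgroup.mem_subgroupOf.mp x.2⟩) =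
      fun x : (ZO hS h2 hsp).subgroupOf T => θ ⟨(x : T), Subgroup.mem_subgroupOf.mp x.2⟩ := fun g =>
    funext fun x => congrFun ((mem_inertia (ZO hS h2 hsp)).mp g.2) ⟨(x : T), Subgroup.mem_subgroupOf.mp x.2⟩
  obtain ⟨e, C₀, he, hcount, hsum, hC, -⟩ :=
    exists_constituents_invariant ((ZO hS h2 hsp).subgroupOf T) (isIrr_subgroupOf (ZO hS h2 hsp) hCT hθ) hinv hab
  have he1 : e = 1 := by
    rw [hidx] at hcount
    rcases (Nat.dvd_prime hp).mp (Dvd.intro _ (show e * (e * C₀.card) = p by rw [← hcount]; ring)) with h | h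
    · exact h
    · subst h
      have : e * (e * C₀.card) = e * 1 := by rw [mul_one, ← mul_assoc, ← sq]; exact hcount
      have h2' := Nat.eq_of_mul_eq_mul_left he this
      exact Nat.eq_one_of_mul_eq_one_right h2'
  subst he1
  rw [hidx, one_pow, one_mul] at hcount
  simp only [Nat.cast_one, one_smul] at hsum hC
  let ψ : Fin p → T → ℂ := fun k => (C₀.equivFin.symm (finCongr hcount.symm k) : T → ℂ)
  have hψmem : ∀ k, ψ k ∈ C₀ := fun k => (C₀.equivFin.symm _).2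
  have hψinj : Function.Injective ψ :=
    Subtype.val_injective.comp (C₀.equivFin.symm.injective.comp (finCongr hcount.symm).injective)
  have hψres : ∀ k, (fun n : (ZO hS h2 hsp) => ψ k ⟨n, hCT n.2⟩) = θ := fun k => funext fun n =>
    congrFun (hC _ (hψmem k)).2 ⟨⟨n, hCT n.2⟩, Subgroup.mem_subgroupOf.mpr n.2⟩
  obtain ⟨f0, hf0⟩ := exists_hom_of_degree_one (isCharacter_of_irr χ₀.2) (chi_one hS h2 χ₀)
  have hχ : ∀ z, (χ₀ : invGroup hS h2 → ℂ) z = (f0 z : ℂ) := fun z => congrFun hf0 z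
  let φ : (ZO hS h2 hsp).subgroupOf T →* ℂˣ := f0.comp ((MonoidHom.fst _ _).comp ((pZO hS h2 hsp).comp
    (Subgroup.subgroupOfEquivOfLe hCT).toMonoidHom))
  let o1 : IrrCharacter O := ⟨fun _ => 1, isIrrCharacter_one⟩
  have hφval : ∀ x : (ZO hS h2 hsp).subgroupOf T, (φ x : ℂ) =
      phi hS h2 hsp χ₀ o1 ⟨(x : T), Subgroup.mem_subgroupOf.mp x.2⟩ := fun x => by
    rw [phi]
    show (f0 _ : ℂ) = _ * 1
    rw [mul_one, hχ]
    rfl
  have hφinv : ∀ (g : T) (x : (ZO hS h2 hsp).subgroupOf T), φ (MulAut.conjNormal g x) = φ x := fun g x => by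
    refine Units.ext ?_
    rw [hφval, hφval]
    have h := congrFun (conj_phi hS h2 hsp g χ₀ o1) ⟨(x : T), Subgroup.mem_subgroupOf.mp x.2⟩
    rw [hfixT g g.2, show cO hS hsp g o1 = o1 from rfl] at h
    refine Eq.trans ?_ h
    rfl
  have hφ2 : φ ^ 2 = 1 := MonoidHom.ext fun x => by
    show f0 _ ^ 2 = 1
    rw [← map_pow, sq, show ∀ z : invGroup hS h2, z * z = 1 from fun z => Subtype.ext z.2.2, map_one]
  have hcop : ((ZO hS h2 hsp).subgroupOf T).index.Coprime (orderOf φ) := by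
    rw [hidx]
    exact Nat.Coprime.coprime_dvd_right (orderOf_dvd_of_pow_eq_one hφ2) (Nat.coprime_two_right.mpr hpo)
  obtain ⟨μ, hμφ, hμord, -⟩ := exists_hom_extending_coprime φ hφinv hcop
  have hμ2 : μ ^ 2 = 1 := orderOf_dvd_iff_pow_eq_one.mp (hμord ▸ orderOf_dvd_of_pow_eq_one hφ2)
  have hμodd : ∀ y : T, Odd (orderOf y) → μ y = 1 := fun y ⟨m, hm⟩ => by
    have h1 : μ y ^ 2 = 1 := by rw [← MonoidHom.pow_apply, hμ2, MonoidHom.one_apply]
    calc μ y = μ y ^ (2 * m + 1) := by rw [pow_succ, pow_mul, h1, one_pow, one_mul]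
      _ = 1 := by rw [← hm, ← map_pow, pow_orderOf_eq_one, map_one]
  let ψ' : Fin p → T → ℂ := fun k => ψ k * fun y => (μ y : ℂ)
  have hψ'irr : ∀ k, IsIrrCharacter T (ψ' k) := fun k =>
    isIrrCharacter_mul_linear (hC _ (hψmem k)).1 (isIrrCharacter_linear μ) (by simp)
  have hψ'res : ∀ k, (fun n : (ZO hS h2 hsp) => ψ' k ⟨n, hCT n.2⟩) = θ₀ := fun k => funext fun n => by
    show ψ k ⟨n, hCT n.2⟩ * (μ ⟨n, hCT n.2⟩ : ℂ) = _
    rw [congrFun (hψres k) n, hμφ ⟨⟨n, hCT n.2⟩, Subgroup.mem_subgroupOf.mpr n.2⟩, hφval, hθdef, hθ₀def, phi, phi, phi]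
    show (1 : ℂ) * _ * (_ * 1) = _
    ring
  have hne : ∀ k, classInner (fun n : (ZO hS h2 hsp) => ψ k ⟨n, hCT n.2⟩) θ ≠ 0 := fun k => by
    rw [hψres, classInner_irr_self hθ]; exact one_ne_zero
  have hne' : ∀ k, classInner (fun n : (ZO hS h2 hsp) => ψ' k ⟨n, hCT n.2⟩) θ₀ ≠ 0 := fun k => by
    rw [hψ'res, classInner_irr_self hθ₀]; exact one_ne_zero
  have hη := fun k => clifford_correspondence (ZO hS h2 hsp) hθ hCT rfl (hC _ (hψmem k)).1 (hne k)
  have hη' := fun k => clifford_correspondence (ZO hS h2 hsp) hθ₀ hCT hT₀ (hψ'irr k) (hne' k)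
  have hover : ∀ k, classInner (fun c : (ZO hS h2 hsp) => indFun T (ψ k) c) θ ≠ 0 := fun k => by
    rw [(hη k).2]; exact hne k
  have hover' : ∀ k, classInner (fun c : (ZO hS h2 hsp) => indFun T (ψ' k) c) θ₀ ≠ 0 := fun k => by
    rw [(hη' k).2]; exact hne' k
  refine ⟨fun k => indFun T (ψ k), fun k => indFun T (ψ' k), fun k => (hη k).1, fun k => (hη' k).1,
    fun k l e' => hψinj (clifford_correspondence_inj (ZO hS h2 hsp) hθ hCT rfl (hC _ (hψmem k)).1 (hC _ (hψmem l)).1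
      (hne k) (hne l) e'), fun k l e' => ?_, fun k l e' => ?_, hover, hover', fun k => ?_, ?_⟩
  · have h := clifford_correspondence_inj (ZO hS h2 hsp) hθ₀ hCT hT₀ (hψ'irr k) (hψ'irr l) (hne' k) (hne' l) e'
    exact hψinj (funext fun y => mul_right_cancel₀ (Units.ne_zero (μ y)) (congrFun h y))
  · obtain ⟨g, hg⟩ := over_ne (ZO hS h2 hsp) hθ hθ₀ (hη k).1 (hover k)
      (by rw [show indFun T (ψ k) = indFun T (ψ' l) from e']; exact hover' l)
    rw [hθdef, hθ₀def, conj_phi, cZ_triv hS h2 hsp] at hg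
    exact hχ₀ (congrArg Subtype.val (phi_inj hS h2 hsp hg).1).symm
  · intro x hx
    show indFun T (ψ k) x - indFun T (ψ' k) x = 0
    rw [← Pi.sub_apply, ← indFun_sub]
    have hodd : Odd (orderOf x) := by
      rw [← Subgroup.orderOf_coe]
      exact Nat.not_even_iff_odd.mp fun hev => hx (sup_of_even hS x.2 hev)
    rw [indFun, Finset.sum_eq_zero, mul_zero]
    intro g _
    by_cases hgT : g⁻¹ * x * g ∈ T
    · rw [extendByZero_of_mem _ _ hgT]
      show ψ k _ - ψ k _ * (μ _ : ℂ) = 0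
      rw [hμodd _ ?_, Units.val_one, mul_one, sub_self]
      rw [← Subgroup.orderOf_coe]
      show Odd (orderOf (g⁻¹ * x * g))
      rw [show g⁻¹ * x * g = MulAut.conj g⁻¹ x by simp, MulEquiv.orderOf_eq]
      exact hodd
    · exact extendByZero_of_not_mem _ _ hgT
  · rw [← indFun_sum, show ∑ k, ψ k = ∑ χ ∈ C₀, χ from ?_, ← hsum]
    · exact (indFun_trans (ZO hS h2 hsp) T hCT θ).symm
    · rw [← Finset.sum_coe_sort C₀]
      exact ((finCongr hcount.symm).trans C₀.equivFin.symm).sum_comp (fun c : C₀ => (c : T → ℂ))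

end CfsgLib.SuzukiRankOne
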