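import Cfsg.Agent.Lib.SuzukiRankOne.TransferLocal
import Cfsg.Agent.Lib.Suzuki.SubgroupBasics

/-!
`|Q| = q ^ 2` with `r ^ 2 ≠ 1` and a non-trivial centraliser of `t` in the two-point stabiliser: the transfer.
-/

set_option autoImplicit false
set_option linter.unusedSectionVars false
set_option linter.style.haveILetI false

namespace CfsgLib.SuzukiRankOne

open MulAction Cfsg CfsgLib.RankOne

universe u v

variable {G : Type u} {Ω : Type v} [Group G] [MulAction G Ω] [Finite G] [FaithfulSMul G Ω] {a : Ω} {t : G}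
  {Q : Subgroup G}

namespace Tr

variable {p q0 : ℕ} {v : G} (T : Tr a t Q p q0 v) (hd : p ∣ qZ G a ^ 2 + 1)

include T hd

/-- The conjugates of `v` in a Sylow subgroup `R`: each fixes `q₀ ^ 2 + 1` points, and `R` is semiregular elsewhere. -/
theorem card_conj {R : Subgroup G} (hR : IsPGroup p R) :
    Nat.card R ∣ Nat.card Ω - Nat.card {w : G // w ∈ R ∧ ∃ g : G, g * v * g⁻¹ = w} * (q0 ^ 2 + 1) ∧
      Nat.card {w : G // w ∈ R ∧ ∃ g : G, g * v * g⁻¹ = w} * (q0 ^ 2 + 1) ≤ Nat.card Ω := by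
  classical
  haveI := Fact.mk T.prime
  haveI := finite_points T.setup
  haveI := pretransitive T.setup
  haveI := T.cyc
  letI : CommGroup (Vt a t) := IsCyclic.commGroup
  obtain ⟨θ, hθ, hker⟩ := T.exists_theta
  set CR := {w : G // w ∈ R ∧ ∃ g : G, g * v * g⁻¹ = w} with hCR
  -- the projection at a point
  have hpt : ∀ c : Ω, ∃ g : G, g • a = c := exists_smul_eq G a
  have huniq : ∀ (w w' : CR) (c : Ω), (w : G) • c = c → (w' : G) • c = c → w = w' := by
    intro w w' c hw hw'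
    obtain ⟨g, rfl⟩ := hpt c
    have hm : ∀ {z : G}, z • g • a = g • a → g⁻¹ * z * g ∈ stabilizer G a := fun {z} hz => by
      rw [mem_stabilizer_iff, mul_smul, mul_smul, hz, inv_smul_smul]
    have hval : ∀ (z : CR) (hz : (z : G) • g • a = g • a), θ ⟨_, hm hz⟩ = ⟨v, T.mem⟩ := by
      intro z hz
      obtain ⟨h, hh⟩ := z.2.2
      have e : g⁻¹ * (z : G) * g = (h⁻¹ * g)⁻¹ * v * (h⁻¹ * g) := by rw [← hh]; group
      rw [show (⟨_, hm hz⟩ : stabilizer G a) = ⟨_, e ▸ hm hz⟩ from Subtype.ext e]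
      exact T.theta_conj hθ (e ▸ hm hz)
    let P : Subgroup (stabilizer G a) := (R.map (MulAut.conj g⁻¹).toMonoidHom).subgroupOf (stabilizer G a)
    have hP : IsPGroup p P := (hR.map _).comap_of_injective _ (Subgroup.subtype_injective _)
    have hmem : ∀ (z : CR) (hz : (z : G) • g • a = g • a), (⟨_, hm hz⟩ : stabilizer G a) ∈ P := fun z hz =>
      ⟨z, z.2.1, by simp⟩
    have h1 := T.theta_inj hd hker hP (mul_mem (inv_mem (hmem w hw)) (hmem w' hw'))
      (by rw [map_mul, map_inv, hval w hw, hval w' hw', inv_mul_cancel])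
    have h2 : g⁻¹ * (w : G) * g = g⁻¹ * (w' : G) * g := congrArg Subtype.val (inv_mul_eq_one.mp h1)
    exact Subtype.ext (mul_left_cancel (mul_right_cancel h2))
  let S1 : Set Ω := {c | ∃ w : CR, (w : G) • c = c}
  have hS1 : S1.ncard = Nat.card CR * (q0 ^ 2 + 1) := by
    rw [← Nat.card_coe_set_eq]
    have e : Nat.card S1 = Nat.card (Σ w : CR, {c : Ω // (w : G) • c = c}) := by
      refine (Nat.card_eq_of_bijective (fun z => (⟨z.2.1, z.1, z.2.2⟩ : S1)) ⟨?_, ?_⟩).symm
      · rintro ⟨w, c, hc⟩ ⟨w', c', hc'⟩ h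
        obtain rfl : c = c' := congrArg Subtype.val h
        obtain rfl := huniq w w' c hc hc'
        rfl
      · rintro ⟨c, w, hw⟩
        exact ⟨⟨w, c, hw⟩, rfl⟩
    letI := Fintype.ofFinite CR
    rw [e, Nat.card_sigma]
    have : ∀ w : CR, Nat.card {c : Ω // (w : G) • c = c} = q0 ^ 2 + 1 := by
      rintro ⟨w, -, g, rfl⟩
      rw [← T.card_fix]
      refine Nat.card_congr
        { toFun := fun c => ⟨g⁻¹ • c.1, ?_⟩
          invFun := fun c => ⟨g • c.1, ?_⟩
          left_inv := fun c => Subtype.ext (smul_inv_smul g c.1)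
          right_inv := fun c => Subtype.ext (inv_smul_smul g c.1) }
      · have h : (g * v * g⁻¹) • c.1 = c.1 := c.2
        rw [mul_smul, mul_smul] at h
        exact eq_inv_smul_iff.mpr h
      · show (g * v * g⁻¹) • g • c.1 = g • c.1
        rw [mul_smul, inv_smul_smul, mul_smul, c.2]
    simp only [this, Finset.sum_const, Finset.card_univ, smul_eq_mul, Nat.card_eq_fintype_card]
  have hadd := Set.ncard_add_ncard_compl S1
  refine ⟨?_, hS1 ▸ (by omega)⟩
  rw [← hS1, show Nat.card Ω - S1.ncard = S1ᶜ.ncard by omega]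
  refine CfsgLib.Suzuki.free_card_dvd _ ?_ ?_
  · rintro ⟨g, hg⟩ c hc ⟨⟨w, hwR, h, hh⟩, hw⟩
    refine hc ⟨⟨g⁻¹ * w * g, mul_mem (mul_mem (inv_mem hg) hwR) hg, g⁻¹ * h, by rw [← hh]; group⟩, ?_⟩
    show (g⁻¹ * w * g) • c = c
    rw [mul_smul, mul_smul]
    exact inv_smul_eq_iff.mpr hw
  · rintro ⟨σ, hσ⟩ c hc hfix
    by_contra hne
    have hσ1 : σ ≠ 1 := fun e => hne (Subtype.ext e)
    have hfix' : σ • c = c := hfix
    obtain ⟨k, hk⟩ := hR ⟨σ, hσ⟩
    obtain ⟨e, -, he⟩ := (Nat.dvd_prime_pow T.prime).mp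
      (orderOf_dvd_of_pow_eq_one (congrArg Subtype.val hk : σ ^ p ^ k = 1))
    have hdvd : p ∣ orderOf σ := by
      rw [he]
      refine dvd_pow_self p ?_
      rintro rfl
      exact hσ1 (orderOf_eq_one_iff.mp (by rw [he, pow_zero]))
    set τ := σ ^ (orderOf σ / p) with hτ
    have hτo : orderOf τ = p := orderOf_pow_orderOf_div (orderOf_pos σ).ne' hdvd
    have hτc : τ • c = c := by
      have : σ ∈ stabilizer G c := hfix'
      exact mem_stabilizer_iff.mp (pow_mem this _)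
    obtain ⟨g, rfl⟩ := hpt c
    have hh : g⁻¹ * τ * g ∈ stabilizer G a := by
      rw [mem_stabilizer_iff, mul_smul, mul_smul, hτc, inv_smul_smul]
    set h : stabilizer G a := ⟨_, hh⟩ with hhdef
    have hhp : h ^ p = 1 := Subtype.ext (by
      have e : g⁻¹ * τ * g = g⁻¹ * τ * g⁻¹⁻¹ := by rw [inv_inv]
      rw [SubgroupClass.coe_pow, show (h : G) = g⁻¹ * τ * g⁻¹⁻¹ from e, conj_pow, ← hτo, pow_orderOf_eq_one, mul_one,
        mul_inv_cancel]
      rfl)
    let P : Subgroup (stabilizer G a) := (R.map (MulAut.conj g⁻¹).toMonoidHom).subgroupOf (stabilizer G a)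
    have hP : IsPGroup p P := (hR.map _).comap_of_injective _ (Subgroup.subtype_injective _)
    have hhP : h ∈ P := ⟨τ, pow_mem hσ _, by simp [h]⟩
    have hθo : orderOf ((θ h : G)) = p := by
      refine orderOf_eq_prime (by rw [← SubgroupClass.coe_pow, ← map_pow, hhp, map_one]; rfl) fun e => ?_
      have h1 := T.theta_inj hd hker hP hhP (Subtype.ext e)
      have h2 : g⁻¹ * τ * g = 1 := congrArg Subtype.val h1
      refine T.prime.one_lt.ne ?_
      rw [← hτo, orderOf_eq_one_iff.mpr (show τ = 1 from ?_)]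
      calc τ = g * (g⁻¹ * τ * g) * g⁻¹ := by group
        _ = 1 := by rw [h2, mul_one, mul_inv_cancel]
    obtain ⟨m, hm⟩ := Subgroup.mem_zpowers_iff.mp
      (mem_zpowers_of_cyclic T.cyc T.prime (θ h).2 hθo T.mem T.pow)
    have hθm : θ (h ^ m) = ⟨v, T.mem⟩ := by
      rw [map_zpow]
      exact Subtype.ext (by rw [Subgroup.coe_zpow]; exact hm)
    have hmp : ((h ^ m : stabilizer G a) : G) ^ p = 1 := by
      rw [← SubgroupClass.coe_pow, ← zpow_natCast, zpow_comm, zpow_natCast, hhp, one_zpow, OneMemClass.coe_one]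
    obtain ⟨z, hz, hzV⟩ := T.exists_conj_Vt hd (h ^ m).2 hmp
    set w' := z⁻¹ * ((h ^ m : stabilizer G a) : G) * z with hw'
    have hw'v : w' = v := by
      let z' : stabilizer G a := ⟨z, hz⟩
      have h1 : θ (z'⁻¹ * h ^ m * z') = ⟨w', hzV⟩ :=
        hθ _ 1 (one_mem _) ⟨w', hzV⟩ (by rw [one_mul]; rfl)
      rw [map_mul, map_mul, map_inv, hθm, mul_comm (θ z')⁻¹, inv_mul_cancel_right] at h1
      exact (congrArg Subtype.val h1).symm
    refine hc ⟨⟨τ ^ m, zpow_mem (pow_mem hσ _) m, g * z, ?_⟩, ?_⟩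
    · have e1 : ((h ^ m : stabilizer G a) : G) = g⁻¹ * τ ^ m * g := by
        rw [Subgroup.coe_zpow]
        show (g⁻¹ * τ * g) ^ m = _
        have : g⁻¹ * τ * g = g⁻¹ * τ * g⁻¹⁻¹ := by rw [inv_inv]
        rw [this, conj_zpow, inv_inv]
      rw [← hw'v, hw', e1]
      group
    · show τ ^ m • (g • a) = g • a
      exact mem_stabilizer_iff.mp (zpow_mem (mem_stabilizer_iff.mpr hτc) m)

/-- The case `p ∣ q ^ 2 + 1`. -/
theorem of_dvd (ih : IHyp.{u, v} (Nat.card G)) :
    ∃ L : Subgroup G, L.Normal ∧ L ≠ ⊤ ∧ Q ≤ L ∧ Odd L.index := by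
  classical
  haveI := Fact.mk T.prime
  have hS := T.setup
  obtain ⟨R, R₀, TT, x, j, y, W⟩ := T.exists_loc hd ih
  have C := W.core
  have h5 := T.five_le hd
  set i := j * j
  set CR := {w : G // w ∈ R ∧ ∃ g : G, g * v * g⁻¹ = w} with hCR
  -- the congruence
  obtain ⟨M, hM, hMp, hpM, hpM2⟩ := T.exists_ratio hd
  obtain ⟨hdiv, hle⟩ := T.card_conj hd C.pgrp
  have hN : Nat.card Ω = (q0 ^ 2 + 1) * M := by rw [card_points hS, T.card, hM]
  have hmod : (p : ℤ) ^ 2 ∣ (Nat.card CR : ℤ) - p := by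
    have hN0 : q0 ^ 2 + 1 ≠ 0 := by omega
    obtain ⟨c, u, hu, hcu⟩ := Nat.exists_eq_pow_mul_and_not_dvd hN0 p T.prime.ne_one
    have hfu : (q0 ^ 2 + 1).factorization p = c := by
      rw [hcu, Nat.factorization_mul (pow_ne_zero _ T.prime.ne_zero) (fun e => hu (by rw [e]; exact dvd_zero p)), Finsupp.add_apply,
        T.prime.factorization_pow, Finsupp.single_eq_same, Nat.factorization_eq_zero_of_not_dvd hu, add_zero]
    have hR2 : p ^ (c + 2) ∣ Nat.card R := by
      rw [W.syl]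
      refine pow_dvd_pow p ?_
      rw [← T.prime.pow_dvd_iff_le_factorization Nat.card_pos.ne', card_group hS, T.card, T.card_D, hM,
        show c + 2 = c + 1 + 1 from rfl, pow_succ, pow_succ]
      refine Dvd.dvd.trans ?_ (dvd_of_eq (show (q0 ^ 2 + 1) * M * Nat.card (Vt a t) * (qZ G a ^ 2 * (qZ G a - 1)) =
        qZ G a ^ 2 * (Nat.card (Vt a t) * (qZ G a - 1)) * ((q0 ^ 2 + 1) * M) by ring))
      refine dvd_mul_of_dvd_left (mul_dvd_mul (mul_dvd_mul ?_ hpM) T.dvd_card_Vt) _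
      exact hcu ▸ dvd_mul_right _ _
    have h1 : (p : ℤ) ^ (c + 2) ∣ ((q0 ^ 2 + 1 : ℕ) : ℤ) * ((M : ℤ) - Nat.card CR) := by
      have h2 : ((p ^ (c + 2) : ℕ) : ℤ) ∣ ((Nat.card Ω - Nat.card CR * (q0 ^ 2 + 1) : ℕ) : ℤ) :=
        Int.natCast_dvd_natCast.mpr (hR2.trans hdiv)
      rw [Nat.cast_sub hle, hN, Nat.cast_mul, Nat.cast_mul, Nat.cast_pow] at h2
      rw [mul_sub, mul_comm _ (Nat.card CR : ℤ)]
      exact h2
    rw [hcu, Nat.cast_mul, Nat.cast_pow, pow_add, mul_assoc] at h1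
    have h3 := Int.dvd_of_mul_dvd_mul_left (pow_ne_zero c (by exact_mod_cast T.prime.ne_zero)) h1
    have hcop : IsCoprime ((p : ℤ) ^ 2) (u : ℤ) := by
      refine IsCoprime.pow_left ?_
      exact (Nat.isCoprime_iff_coprime.mpr (T.prime.coprime_iff_not_dvd.mpr hu))
    have h4 := hcop.dvd_of_dvd_mul_left h3
    have := dvd_sub hMp h4
    rwa [show (M : ℤ) - p - ((M : ℤ) - Nat.card CR) = (Nat.card CR : ℤ) - p by ring] at this
  -- the bound
  have hCR_ne : ∀ (w : CR) (m : ℤ) {z : G}, Odd (Nat.card ↥(Subgroup.centralizer {z})) → (w : G) ^ m ≠ z := by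
    intro w m z hz e
    obtain ⟨g, hg⟩ := w.2.2
    exact T.not_odd_cen (g := g) (k := m) (by rw [← e, ← hg, conj_zpow]) hz
  have hyo : orderOf y = p := orderOf_eq_prime W.yp W.y1
  have hyR : y ∈ R := C.T_le W.yT
  have hwp : ∀ w : CR, (w : G) ^ p = 1 := fun w => by
    obtain ⟨g, hg⟩ := w.2.2
    rw [← hg, conj_pow, T.pow, mul_one, mul_inv_cancel]
  have hwo : ∀ w : CR, orderOf (w : G) = p := fun w => orderOf_eq_prime (hwp w) fun e => by
    obtain ⟨g, hg⟩ := w.2.2
    exact T.ne (conj_eq_one_iff.mp (hg.trans e))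
  have hwinj : ∀ (w w' : CR) (k k' : ℕ), k ≠ 0 → k < p → k' ≠ 0 → k' < p → (w : G) ^ k = (w' : G) ^ k' →
      w = w' ∧ k = k' := by
    intro w w' k k' hk hkp hk' hkp' e
    obtain ⟨g, hg⟩ := w.2.2
    obtain ⟨g', hg'⟩ := w'.2.2
    have hkk : k = k' := by
      haveI := T.cyc
      letI : CommGroup (Vt a t) := IsCyclic.commGroup
      have h1 : (g'⁻¹ * g) * v ^ k * (g'⁻¹ * g)⁻¹ = v ^ k' := by
        rw [← hg, ← hg', conj_pow, conj_pow] at e
        calc (g'⁻¹ * g) * v ^ k * (g'⁻¹ * g)⁻¹ = g'⁻¹ * (g * v ^ k * g⁻¹) * g' := by group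
          _ = _ := by rw [e]; group
      obtain ⟨z, hz, hze⟩ := conj_in_V hS {v ^ k} (Set.singleton_subset_iff.mpr (pow_mem T.mem k)) (g'⁻¹ * g) (by
        rintro _ ⟨x, hx, rfl⟩
        rw [Set.mem_singleton_iff.mp hx]
        show g'⁻¹ * g * v ^ k * (g'⁻¹ * g)⁻¹ ∈ _
        rw [h1]
        exact pow_mem T.mem k')
      rw [Set.image_singleton, Set.image_singleton, Set.singleton_eq_singleton_iff, h1,
        T.comm_Vt hz (pow_mem T.mem k), mul_inv_cancel_right] at hze
      exact (pow_injOn_Iio_orderOf (G := G) (x := v)) (by rw [Set.mem_Iio, T.orderOf_v]; exact hkp)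
        (by rw [Set.mem_Iio, T.orderOf_v]; exact hkp') hze
    subst hkk
    refine ⟨Subtype.ext ?_, rfl⟩
    have hcop : Nat.Coprime k p := (T.prime.coprime_iff_not_dvd.mpr (Nat.not_dvd_of_pos_of_lt
      (Nat.pos_of_ne_zero hk) hkp)).symm
    have := Nat.gcd_eq_gcd_ab k p
    rw [hcop, Nat.cast_one] at this
    rw [← zpow_one (w : G), ← zpow_one (w' : G), this, zpow_add, zpow_add, zpow_mul, zpow_mul, zpow_mul, zpow_mul,
      zpow_natCast, zpow_natCast, zpow_natCast, zpow_natCast, e, hwp, hwp]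
  let S := {g : G // g ∈ R ∧ g ^ p = 1}
  have hS3 : Nat.card S ≤ p ^ 3 := C.card_omega
  let Ff : CR × {k : Fin p // (k : ℕ) ≠ 0} → S := fun z =>
    ⟨(z.1 : G) ^ (z.2.1 : ℕ), pow_mem z.1.2.1 _, by rw [← pow_mul, mul_comm, pow_mul, hwp, one_pow]⟩
  let Fy : Fin p → S := fun k =>
    ⟨y ^ (k : ℕ), pow_mem hyR _, by rw [← pow_mul, mul_comm, pow_mul, W.yp, one_pow]⟩
  have hFf : Function.Injective Ff := by
    rintro ⟨w, k, hk⟩ ⟨w', k', hk'⟩ e
    obtain ⟨rfl, h2⟩ := hwinj w w' k k' hk k.2 hk' k'.2 (congrArg Subtype.val e)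
    exact Prod.ext rfl (Subtype.ext (Fin.ext h2))
  have hFy : Function.Injective Fy := fun k k' e => Fin.ext ((pow_injOn_Iio_orderOf (G := G) (x := y))
    (by rw [Set.mem_Iio, hyo]; exact k.2) (by rw [Set.mem_Iio, hyo]; exact k'.2) (congrArg Subtype.val e))
  have hdis : ∀ z k, Ff z ≠ Fy k := by
    intro z k e
    have e' : (z.1 : G) ^ (z.2.1 : ℕ) = y ^ (k : ℕ) := congrArg Subtype.val e
    by_cases hk : (k : ℕ) = 0
    · rw [hk, pow_zero, ← orderOf_dvd_iff_pow_eq_one, hwo] at e'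
      have := Nat.le_of_dvd (Nat.pos_of_ne_zero z.2.2) e'
      have := z.2.1.2
      omega
    · have hcop : Nat.Coprime (k : ℕ) p := (T.prime.coprime_iff_not_dvd.mpr (Nat.not_dvd_of_pos_of_lt
        (Nat.pos_of_ne_zero hk) k.2)).symm
      have := Nat.gcd_eq_gcd_ab (k : ℕ) p
      rw [hcop, Nat.cast_one] at this
      refine hCR_ne z.1 (((z.2.1 : ℕ) : ℤ) * Nat.gcdA (k : ℕ) p) W.oddy ?_
      conv_rhs => rw [← zpow_one y, this, zpow_add, zpow_mul, zpow_mul, zpow_natCast, zpow_natCast, W.yp, one_zpow,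
        mul_one, ← e']
      rw [zpow_mul, zpow_natCast]
  have hcardk : Nat.card {k : Fin p // (k : ℕ) ≠ 0} = p - 1 := by
    haveI : NeZero p := ⟨T.prime.ne_zero⟩
    rw [Nat.card_congr (Equiv.subtypeEquivRight (q := fun k : Fin p => k ≠ 0) fun k => Fin.val_ne_zero_iff),
      Nat.card_eq_fintype_card, Fintype.card_subtype_compl, Fintype.card_subtype_eq, Fintype.card_fin]
  let cls : R ⧸ R₀.subgroupOf R → CR := fun q =>
    ⟨(q.out : G) * v * (q.out : G)⁻¹, mul_mem (mul_mem q.out.2 (C.le C.vR)) (inv_mem q.out.2), _, rfl⟩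
  have hstab : ∀ r r' : R, (r : G) * v * (r : G)⁻¹ = r' * v * (r' : G)⁻¹ → (r : G)⁻¹ * r' ∈ R₀ := by
    intro r r' e
    have hm : (r : G)⁻¹ * r' ∈ R ⊓ cen v := by
      refine Subgroup.mem_inf.mpr ⟨mul_mem (inv_mem r.2) r'.2, Subgroup.mem_centralizer_singleton_iff.mpr ?_⟩
      calc (r : G)⁻¹ * r' * v = (r : G)⁻¹ * (r' * v * (r' : G)⁻¹) * r' := by group
        _ = _ := by rw [← e]; group
    exact W.cent ▸ hm
  have hcls : Function.Injective cls := fun q q' e => by
    have h := hstab q.out q'.out (congrArg Subtype.val e)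
    rw [← q.out_eq, ← q'.out_eq]
    exact QuotientGroup.eq.mpr h
  have hclass : p ≤ Nat.card CR := by
    rw [← show Nat.card (R ⧸ R₀.subgroupOf R) = p from C.idx]
    exact Nat.card_le_card_of_injective cls hcls
  have hup : Nat.card CR ≤ p ^ 2 + p - 1 := by
    by_cases hE : ∃ g : S, (g : G) ∉ R₀
    · obtain ⟨⟨g, hgR, hgp⟩, hg0⟩ := hE
      set g' := (i * g * i⁻¹)⁻¹ with hg'
      have hg'R : g' ∈ R := inv_mem (W.iR g hgR)
      have hg'p : g' ^ p = 1 := by rw [hg', inv_pow, conj_pow, hgp, mul_one, mul_inv_cancel, inv_one]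
      set w1 := g * g' with hw1
      have hw1p : w1 ^ p = 1 := C.mul_pow_one hgR hg'R hgp hg'p
      have hw1i : i * w1 * i⁻¹ = w1⁻¹ := by
        have e : i * (i * g * i⁻¹) * i⁻¹ = g := by
          calc i * (i * g * i⁻¹) * i⁻¹ = i * i * g * (i * i)⁻¹ := by group
            _ = g := by rw [W.ii, one_mul, inv_one, mul_one]
        calc i * w1 * i⁻¹ = i * g * i⁻¹ * (i * (i * g * i⁻¹) * i⁻¹)⁻¹ := by rw [hw1, hg']; group
          _ = _ := by rw [e, hw1, hg']; group
      have hw10 : w1 ∉ R₀ := by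
        intro h
        obtain ⟨h0, hh0, n, rfl⟩ := C.exists_factor g hgR
        have hx0 : ∀ m : ℤ, x ^ m ∈ R₀ → (p : ℤ) ∣ m := by
          intro m hm
          by_contra hn
          obtain ⟨α, β, hab⟩ := (Nat.prime_iff_prime_int.mp T.prime).coprime_iff_not_dvd.mpr hn
          refine C.xR₀ ?_
          haveI : (R₀.subgroupOf R).Normal := ⟨fun h hh g => C.norm₀ g g.2 h hh⟩
          have hxp : x ^ p ∈ R₀ := by
            have := Subgroup.pow_index_mem (R₀.subgroupOf R) ⟨x, C.xR⟩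
            rwa [show (R₀.subgroupOf R).index = p from C.idx] at this
          rw [← zpow_one x, ← hab, zpow_add, mul_comm α (p : ℤ), zpow_mul, zpow_natCast, mul_comm β m, zpow_mul]
          exact mul_mem (zpow_mem hxp α) (zpow_mem hm β)
        have e : w1 = h0 * x ^ (2 * n) * (i * h0 * i⁻¹)⁻¹ := by
          have e1 : i * (h0 * x ^ n) * i⁻¹ = i * h0 * i⁻¹ * (x ^ n)⁻¹ := by
            calc i * (h0 * x ^ n) * i⁻¹ = i * h0 * i⁻¹ * (i * x ^ n * i⁻¹) := by group
              _ = _ := by rw [← conj_zpow, W.ix, inv_zpow]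
          rw [hw1, hg', e1, two_mul, zpow_add]
          group
        rw [e] at h
        have h2 : x ^ (2 * n) ∈ R₀ := by
          have := mul_mem (mul_mem (inv_mem hh0) h) (W.iR₀ h0 hh0)
          rwa [show h0⁻¹ * (h0 * x ^ (2 * n) * (i * h0 * i⁻¹)⁻¹) * (i * h0 * i⁻¹) = x ^ (2 * n) by group] at this
        rcases (Nat.prime_iff_prime_int.mp T.prime).dvd_mul.mp (hx0 _ h2) with h3 | h3
        · have h4 : p ∣ 2 := by exact_mod_cast h3
          have := Nat.le_of_dvd two_pos h4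
          omega
        · obtain ⟨k, rfl⟩ := h3
          refine hg0 (mul_mem hh0 ?_)
          haveI : (R₀.subgroupOf R).Normal := ⟨fun h hh g => C.norm₀ g g.2 h hh⟩
          have hxp : x ^ p ∈ R₀ := by
            have := Subgroup.pow_index_mem (R₀.subgroupOf R) ⟨x, C.xR⟩
            rwa [show (R₀.subgroupOf R).index = p from C.idx] at this
          rw [zpow_mul, zpow_natCast]
          exact zpow_mem hxp k
      have hw11 : w1 ≠ 1 := fun e => hw10 (e ▸ one_mem _)
      have hw12 : w1 * w1 ≠ 1 := by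
        intro e
        have h2 : orderOf w1 ∣ 2 := orderOf_dvd_of_pow_eq_one (by rw [pow_two]; exact e)
        rw [orderOf_eq_prime hw1p hw11] at h2
        have := Nat.le_of_dvd two_pos h2
        omega
      have hodd1 := T.odd_cen_inverted W.ii W.jj hw1i hw12
      let Fw : CR × {k : Fin p // (k : ℕ) ≠ 0} ⊕ Fin p ⊕ Unit → S :=
        Sum.elim Ff (Sum.elim Fy fun _ => ⟨w1, mul_mem hgR hg'R, hw1p⟩)
      have hFw : Function.Injective Fw := by
        refine hFf.sumElim (hFy.sumElim (Function.injective_of_subsingleton _) ?_) ?_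
        · intro k _ e
          refine hw10 ?_
          have e' : y ^ (k : ℕ) = w1 := congrArg Subtype.val e
          rw [← e']
          exact C.ltT (pow_mem W.yT _)
        · rintro z (k | _) e
          · exact hdis z k e
          · refine hCR_ne z.1 ((z.2.1 : ℕ) : ℤ) hodd1 ?_
            rw [zpow_natCast]
            exact congrArg Subtype.val e
      have h := (Nat.card_le_card_of_injective Fw hFw).trans hS3
      rw [Nat.card_sum, Nat.card_sum, Nat.card_prod, hcardk, Nat.card_fin, Nat.card_unique (α := Unit)] at h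
      obtain ⟨k, rfl⟩ : ∃ k, p = k + 1 := ⟨p - 1, by omega⟩
      rw [Nat.add_sub_cancel] at h
      by_contra hlt
      have h6 : (k + 1) ^ 2 + (k + 1) ≤ Nat.card CR := by omega
      have h7 := Nat.mul_le_mul_right k h6
      nlinarith
    · push Not at hE
      have h : Nat.card CR * (p - 1) ≤ p ^ 2 := by
        let E2 : CR × {k : Fin p // (k : ℕ) ≠ 0} → Fin p × Fin p := fun z =>
          if h : ∃ m n : Fin p, (Ff z : G) = v ^ (m : ℕ) * y ^ (n : ℕ) then (h.choose, h.choose_spec.choose)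
          else (⟨0, T.prime.pos⟩, ⟨0, T.prime.pos⟩)
        have hE2 : ∀ z, ∃ m n : Fin p, (Ff z : G) = v ^ (m : ℕ) * y ^ (n : ℕ) := by
          intro z
          obtain ⟨d, hd'⟩ := C.omega _ (hE (Ff z)) (by rw [(Ff z).2.2]; exact one_mem _)
          have hzp : ((v ^ d)⁻¹ * (Ff z : G)) ^ p = 1 := by
            have hc : Commute v (Ff z : G) := by
              have hm : (Ff z : G) ∈ R ⊓ cen v := W.cent.symm ▸ hE (Ff z)
              exact (cen_comm (Subgroup.mem_inf.mp hm).2).symm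
            rw [((hc.pow_left d).inv_left).mul_pow, inv_pow, ← pow_mul, mul_comm, pow_mul, T.pow, one_pow, inv_one,
              one_mul, (Ff z).2.2]
          obtain ⟨n, hn⟩ := (IsOfFinOrder.mem_powers_iff_mem_zpowers (isOfFinOrder_of_finite y)).mpr
            (mem_zpowers_of_cyclic C.cyc T.prime W.yT hyo hd' hzp)
          refine ⟨⟨d % p, Nat.mod_lt _ T.prime.pos⟩, ⟨n % p, Nat.mod_lt _ T.prime.pos⟩, ?_⟩
          show (Ff z : G) = v ^ (d % p) * y ^ (n % p)
          rw [← pow_eq_pow_mod d T.pow, ← pow_eq_pow_mod n W.yp, show y ^ n = _ from hn, mul_inv_cancel_left]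
        have := Nat.card_le_card_of_injective E2 (fun z z' e => by
          refine hFf (Subtype.ext ?_)
          simp only [E2, dif_pos (hE2 z), dif_pos (hE2 z'), Prod.mk.injEq] at e
          rw [(hE2 z).choose_spec.choose_spec, (hE2 z').choose_spec.choose_spec, e.2, e.1])
        rwa [Nat.card_prod, hcardk, Nat.card_prod, Nat.card_fin, ← pow_two] at this
      obtain ⟨k, rfl⟩ : ∃ k, p = k + 1 := ⟨p - 1, by omega⟩
      rw [Nat.add_sub_cancel] at h
      by_contra hlt
      have h6 : (k + 1) ^ 2 + (k + 1) ≤ Nat.card CR := by omega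
      have h7 := Nat.mul_le_mul_right k h6
      nlinarith
  have hCRp : Nat.card CR = p := by
    obtain ⟨k, hk⟩ := hmod
    have h1 : 0 ≤ k := by nlinarith [(by exact_mod_cast hclass : (p : ℤ) ≤ Nat.card CR)]
    rcases h1.eq_or_lt with h2 | h2
    · rw [← h2, mul_zero, sub_eq_zero] at hk
      exact_mod_cast hk
    · exfalso
      have h3 : (Nat.card CR : ℤ) ≤ (p : ℤ) ^ 2 + p - 1 := by
        have : Nat.card CR + 1 ≤ p ^ 2 + p := by
          have := T.prime.pos
          omega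
        push_cast [← Int.ofNat_le] at this
        linarith
      nlinarith
  -- all conjugates have the same image
  haveI hTn : (TT.subgroupOf R).Normal :=
    ⟨fun τ hτ g => (Subgroup.mem_normalizer_iff.mp (C.R_le_normalizer g.2) τ).mp hτ⟩
  letI cg : CommGroup (R ⧸ TT.subgroupOf R) :=
    { (inferInstance : Group (R ⧸ TT.subgroupOf R)) with
      mul_comm := fun a b => by
        induction a using QuotientGroup.induction_on with
        | H a =>
          induction b using QuotientGroup.induction_on with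
          | H b =>
            rw [← mul_inv_eq_one, mul_inv_rev, ← mul_assoc, ← QuotientGroup.mk_mul, ← QuotientGroup.mk_inv,
              ← QuotientGroup.mk_inv, ← QuotientGroup.mk_mul, ← QuotientGroup.mk_mul, QuotientGroup.eq_one_iff]
            exact C.comm_mem a a.2 b b.2 }
  let θ : R →* R ⧸ TT.subgroupOf R := QuotientGroup.mk' (TT.subgroupOf R)
  have hmemCR : ∀ w : CR, ∃ r : R, (r : G) * v * (r : G)⁻¹ = w := by
    have hbij : Function.Bijective cls := (Nat.bijective_iff_injective_and_card cls).mpr ⟨hcls, by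
      rw [show Nat.card (R ⧸ R₀.subgroupOf R) = p from C.idx, hCRp]⟩
    intro w
    obtain ⟨q, hq⟩ := hbij.2 w
    exact ⟨q.out, congrArg Subtype.val hq⟩
  let vR : R := ⟨v, C.le C.vR⟩
  have hidx : ¬ p ∣ R.index := by
    let P : Sylow p G := Sylow.ofCard R W.syl
    have h := P.not_dvd_index
    rwa [show (P : Subgroup G) = R from Sylow.coe_ofCard R W.syl] at h
  refine exists_normal_of_fixed θ ?_ T.prime T.pow (α := θ vR) ?_ ?_ hidx ?_ Q T.two
  · refine Odd.of_dvd_nat ?_ (Subgroup.card_quotient_dvd_card _)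
    rw [W.syl]
    exact T.odd.pow
  · rw [← map_pow, show vR ^ p = 1 from Subtype.ext (by rw [SubgroupClass.coe_pow]; exact T.pow), map_one]
  · intro e
    exact C.vT ((QuotientGroup.eq_one_iff vR).mp e)
  · intro g h
    obtain ⟨r, hr⟩ := hmemCR ⟨g⁻¹ * v * g, h, g⁻¹, by rw [inv_inv]⟩
    rw [show (⟨g⁻¹ * v * g, h⟩ : R) = r * vR * r⁻¹ from Subtype.ext hr.symm, map_mul, map_mul, map_inv,
      mul_comm (θ r), mul_inv_cancel_right]

end Tr

/-- Transfer: `Q` lies in a proper normal subgroup of odd index. -/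
theorem transfer (hS : IsRankOneSetup G Ω a t Q) (h2 : Four G) (ih : IHyp.{u, v} (Nat.card G))
    (hQ2 : IsPGroup 2 Q) (hq : Nat.card Q = qZ G a ^ 2) (hns : ∃ x ∈ Q, x * x ≠ 1) (hr : ¬ Rsq a t Q)
    (hW : NoW a t) (hV : ∃ v ∈ CfsgLib.RankOne.D a t, v ≠ 1 ∧ t * v = v * t) :
    ∃ L : Subgroup G, L.Normal ∧ L ≠ ⊤ ∧ Q ≤ L ∧ Odd L.index := by
  obtain ⟨w, hw, hw1, hwt⟩ := hV
  have hcard : 1 < Nat.card (Vt a t) :=
    Finite.one_lt_card_iff_nontrivial.mpr ⟨⟨⟨w, mem_Vt.mpr ⟨hw, hwt⟩⟩, 1, fun e => hw1 (congrArg Subtype.val e)⟩⟩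
  obtain ⟨p, hp, hpd⟩ := Nat.exists_prime_and_dvd (show Nat.card (Vt a t) ≠ 1 by omega)
  obtain ⟨v', q0, T⟩ := exists_tr hS h2 hQ2 hq hr hW hp hpd
  by_cases hd : p ∣ qZ G a ^ 2 + 1
  · exact T.of_dvd hd ih
  · exact T.of_not_dvd hd

end CfsgLib.SuzukiRankOne
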