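import Cfsg.Agent.Lib.SuzukiRankOne.SubSetup
import Cfsg.Agent.Lib.SuzukiRankOne.CubeShape
import Cfsg.Agent.Lib.SuzukiRankOne.Unitary
import Cfsg.Agent.Lib.SuzukiRankOne.Transfer
import Cfsg.Agent.Lib.Bender.RecogLinear

/-!
The inductive step of Suzuki's theorem, given that `Q` is a 2-group and the orders of abelian `Q`.
-/

set_option autoImplicit false
set_option linter.unusedSectionVars false
set_option linter.style.haveILetI false

namespace CfsgLib.SuzukiRankOne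

open MulAction Cfsg CfsgLib.RankOne

universe u v

variable {G : Type u} {Ω : Type v} [Group G] [Finite G] [MulAction G Ω] [FaithfulSMul G Ω] {a : Ω} {t : G}
  {Q : Subgroup G}

theorem concl_step (hS : IsRankOneSetup G Ω a t Q) (h2 : Four G) (ih : IHyp.{u, v} (Nat.card G))
    (hQ2 : IsPGroup 2 Q)
    (hab : (∀ x ∈ Q, ∀ y ∈ Q, x * y = y * x) → (∀ x ∈ Q, x * x = 1) ∨ Nat.card Q = qZ G a ^ 2) :
    Concl a t Q := by
  classical
  by_cases hel : ∀ x ∈ Q, x * x = 1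
  · obtain ⟨L, hLn, hLi, hL⟩ := CfsgLib.Bender.RecogLinear.recognition_linear hS h2 hel
    exact ⟨hQ2, Or.inl hel, L, hLn, hLi, Or.inl hL⟩
  rcases minimal_or_concl hS h2 ih with hmin | hC
  swap
  · exact hC
  have hq3 := three_le_qZ hS h2
  rcases card_cases hS hQ2 h2 hab hel with hQ | ⟨hQ, hsq, hna⟩
  · -- Suzuki groups
    have hnr : ¬ Rsq a t Q := by
      intro h
      have h1 := free_dvd hS h2 hQ2 h
      rw [hQ] at h1
      have h2' : 0 < qZ G a ^ 2 - qZ G a := by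
        have : qZ G a * 2 ≤ qZ G a ^ 2 := by rw [pow_two]; exact Nat.mul_le_mul_left _ (by omega)
        omega
      have h3 := Nat.le_of_dvd h2' h1
      have h4 : 3 * (qZ G a ^ 2 - 1) ≤ qZ G a * (qZ G a ^ 2 - 1) := Nat.mul_le_mul_right _ hq3
      omega
    have hW := noW hS h2 ih hQ2 (Or.inl hQ) hnr
    by_cases hV : ∀ d ∈ D a t, t * d = d * t → d = 1
    · obtain ⟨-, hna, hsz⟩ := zassenhaus_case hS h2 hQ2 hmin hQ.ge hV
      obtain ⟨F, i1, i2, m, hm, hF, ⟨e⟩⟩ := hsz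
      exact ⟨hQ2, Or.inr ⟨hna, Or.inr ⟨hQ, hnr⟩⟩, ⊤, inferInstance, by rw [Subgroup.index_top]; exact odd_one,
        Or.inr (Or.inl ⟨F, i1, i2, m, hm, hF, ⟨Subgroup.topEquiv.trans e⟩⟩)⟩
    · push Not at hV
      obtain ⟨d, hd, hdt, hd1⟩ := hV
      push Not at hel
      obtain ⟨L, hLn, hLne, hQL, -⟩ := transfer hS h2 ih hQ2 hQ hel hnr hW ⟨d, hd, hd1, hdt⟩
      exact absurd (hmin L hLn hQL) hLne
  · -- unitary groups
    have hr := cube_rsq hS h2 ih hQ2 hmin hQ hsq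
    obtain ⟨L, hLn, hLi, hL⟩ := unitary hS h2 hQ2 hsq hr hQ
    exact ⟨hQ2, Or.inr ⟨hna, Or.inl ⟨hQ, hr⟩⟩, L, hLn, hLi, Or.inr (Or.inr hL)⟩

end CfsgLib.SuzukiRankOne
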