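import Cfsg.Agent.Lib.SuzukiRankOne.Basics

/-!
The normal closure of `Q` carries the same set-up; the conclusion passes from it to the whole group.
-/

set_option autoImplicit false
set_option linter.unusedSectionVars false
set_option linter.style.haveILetI false

namespace CfsgLib.SuzukiRankOne

open MulAction Cfsg CfsgLib.RankOne

universe u v

variable {G : Type u} {Ω : Type v} [Group G] [Finite G] [MulAction G Ω] [FaithfulSMul G Ω] {a : Ω} {t : G}
  {Q : Subgroup G} (hS : IsRankOneSetup G Ω a t Q)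

include hS

theorem odd_index_of_le {N : Subgroup G} (hQN : Q ≤ N) : Odd N.index := by
  haveI := Fact.mk Nat.prime_two
  obtain ⟨P, hP⟩ := exists_sylow_le hS
  have h1 : ¬ 2 ∣ (P : Subgroup G).index := P.not_dvd_index
  have h2 : Odd (P : Subgroup G).index := Nat.not_even_iff_odd.mp fun h => h1 h.two_dvd
  exact h2.of_dvd_nat (Subgroup.index_dvd_of_le (hP.trans hQN))

theorem invol_mem_normal {N : Subgroup G} [N.Normal] (hQN : Q ≤ N) {u : G} (hu : u ≠ 1) (hu2 : u * u = 1) :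
    u ∈ N := by
  obtain ⟨s, hsa, hs1, hs2⟩ := exists_invol hS
  obtain ⟨g, hg⟩ := invol_conj hS hs1 hs2 hu hu2
  rw [← hg]
  exact Subgroup.Normal.conj_mem inferInstance s (hQN (invol_mem_Q hS hsa hs2)) g

theorem exists_to_a {N : Subgroup G} (hQN : Q ≤ N) (htN : t ∈ N) (c : Ω) : ∃ g ∈ N, g • a = c := by
  by_cases hc : c = a
  · exact ⟨1, one_mem _, by rw [one_smul, hc]⟩
  · obtain ⟨x, hx, rfl⟩ := exists_Q_ta hS hc
    exact ⟨x * t, mul_mem (hQN hx) htN, mul_smul _ _ _⟩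

theorem sub_setup {N : Subgroup G} (hQN : Q ≤ N) (htN : t ∈ N) :
    IsRankOneSetup N Ω a ⟨t, htN⟩ (Q.subgroupOf N) := by
  refine ⟨?_, Subtype.ext hS.mul_self, fun e => hS.ne_one (congrArg Subtype.val e), fun h => hS.not_mem ?_,
    fun x hx => ?_, fun h hh x hx => ?_, ?_, ?_, ?_, ?_⟩
  · rw [is_two_pretransitive_iff]
    have key : ∀ p q : Ω, p ≠ q → ∃ g : N, g • p = a ∧ g • q = t • a := by
      intro p q hpq
      obtain ⟨g, hg, rfl⟩ := exists_to_a hS hQN htN p
      have hne : g⁻¹ • q ≠ a := fun e => hpq ((inv_smul_eq_iff.mp e).symm)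
      obtain ⟨x, hx, hx'⟩ := exists_Q_ta hS hne
      refine ⟨⟨x⁻¹ * g⁻¹, mul_mem (inv_mem (hQN hx)) (inv_mem hg)⟩, ?_, ?_⟩
      · show (x⁻¹ * g⁻¹) • g • a = a
        rw [mul_smul, inv_smul_smul, inv_smul_eq_iff, mem_Q_a hS hx]
      · show (x⁻¹ * g⁻¹) • q = t • a
        rw [mul_smul, inv_smul_eq_iff, hx']
    intro p q p' q' h h'
    obtain ⟨g, hg1, hg2⟩ := key p q h
    obtain ⟨g', hg1', hg2'⟩ := key p' q' h'
    exact ⟨g'⁻¹ * g, by rw [mul_smul, hg1, inv_smul_eq_iff, hg1'], by rw [mul_smul, hg2, inv_smul_eq_iff, hg2']⟩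
  · exact mem_stabilizer_iff.mpr (mem_stabilizer_iff.mp h)
  · exact mem_stabilizer_iff.mpr (mem_Q_a hS (Subgroup.mem_subgroupOf.mp hx))
  · exact Subgroup.mem_subgroupOf.mpr (conj_Q hS (mem_stabilizer_iff.mp hh) (Subgroup.mem_subgroupOf.mp hx))
  · rw [eq_bot_iff]
    rintro x ⟨hx, hx'⟩
    exact Subtype.ext (eq_one_of_fix_ta hS (Subgroup.mem_subgroupOf.mp hx) (mem_stabilizer_iff.mp hx'))
  · apply le_antisymm
    · exact sup_le (fun x hx => mem_stabilizer_iff.mpr (mem_Q_a hS (Subgroup.mem_subgroupOf.mp hx))) inf_le_left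
    · intro g hg
      obtain ⟨y, hy, d, hd, e⟩ := exists_decomp hS (show (g : G) • a = a from mem_stabilizer_iff.mp hg)
      have hdN : d ∈ N := by
        have := mul_mem (inv_mem (hQN hy)) g.2
        rwa [e, inv_mul_cancel_left] at this
      rw [show g = ⟨y, hQN hy⟩ * ⟨d, hdN⟩ from Subtype.ext e]
      exact Subgroup.mul_mem_sup (Subgroup.mem_subgroupOf.mpr hy)
        (Subgroup.mem_inf.mpr ⟨mem_stabilizer_iff.mpr ((mem_D hS).mp hd).1,
          mem_stabilizer_iff.mpr ((mem_D hS).mp hd).2⟩)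
  · rw [Nat.card_congr (Subgroup.subgroupOfEquivOfLe hQN).toEquiv]
    exact hS.even_card
  · refine hS.odd_card.of_dvd_nat ?_
    rw [← Subgroup.card_map_of_injective N.subtype_injective]
    refine Subgroup.card_dvd_of_le ?_
    rintro _ ⟨g, hg, rfl⟩
    exact ⟨mem_stabilizer_iff.mpr (mem_stabilizer_iff.mp hg.1), mem_stabilizer_iff.mpr (mem_stabilizer_iff.mp hg.2)⟩

/-- Either the normal closure of `Q` is everything, or the conclusion follows by induction. -/
theorem minimal_or_concl (h2 : Four G) (ih : IHyp.{u, v} (Nat.card G)) :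
    (∀ N : Subgroup G, N.Normal → Q ≤ N → N = ⊤) ∨ Concl a t Q := by
  classical
  set N := Subgroup.normalClosure (Q : Set G) with hN
  by_cases htop : N = ⊤
  · exact Or.inl fun L hL hQL => top_le_iff.mp (htop ▸ Subgroup.normalClosure_le_normal hQL)
  right
  haveI : N.Normal := Subgroup.normalClosure_normal
  have hQN : Q ≤ N := Subgroup.le_normalClosure
  have htN : t ∈ N := invol_mem_normal hS hQN hS.ne_one hS.mul_self
  have hT := sub_setup hS hQN htN
  have hlt : Nat.card N < Nat.card G := by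
    by_contra hge
    exact htop (Subgroup.eq_top_of_card_eq N
      (le_antisymm (Nat.card_le_card_of_injective _ Subtype.val_injective) (not_lt.mp hge)))
  haveI : FaithfulSMul N Ω := ⟨fun {g g'} h => Subtype.ext (eq_of_smul_eq_smul h)⟩
  obtain ⟨x, y, hx, hy, hxy, hx2, hy2, hc⟩ := h2
  have h4 : Four N := ⟨⟨x, invol_mem_normal hS hQN hx hx2⟩, ⟨y, invol_mem_normal hS hQN hy hy2⟩,
    fun e => hx (congrArg Subtype.val e), fun e => hy (congrArg Subtype.val e),
    fun e => hxy (congrArg Subtype.val e), Subtype.ext hx2, Subtype.ext hy2, Subtype.ext hc⟩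
  obtain ⟨hp, hsh, L, hLn, hLi, hLt⟩ := ih N Ω a _ _ hT h4 hlt
  have hp' : IsPGroup 2 Q := hp.of_equiv (Subgroup.subgroupOfEquivOfLe hQN)
  refine ⟨hp', ?_, N, inferInstance, odd_index_of_le hS hQN, ?_⟩
  · -- the shape
    have hqz : qZ N a = qZ G a := by
      unfold qZ
      congr 1
      exact Nat.card_congr
        { toFun := fun z => ⟨((z : N) : G), mem_stabilizer_iff.mpr (mem_stabilizer_iff.mp z.2.1),
            fun e => z.2.2.1 (Subtype.ext e), congrArg Subtype.val z.2.2.2⟩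
          invFun := fun z => ⟨⟨z, hQN (invol_mem hS z.2)⟩, mem_stabilizer_iff.mpr (mem_stabilizer_iff.mp z.2.1),
            fun e => z.2.2.1 (congrArg Subtype.val e), Subtype.ext z.2.2.2⟩
          left_inv := fun z => rfl
          right_inv := fun z => rfl }
    have hcard : Nat.card (Q.subgroupOf N) = Nat.card Q := Nat.card_congr (Subgroup.subgroupOfEquivOfLe hQN).toEquiv
    have hrsq : Rsq a (⟨t, htN⟩ : N) (Q.subgroupOf N) ↔ Rsq a t Q := by
      constructor
      · intro h s r hs hr he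
        have hsN : s ∈ N := hQN (invol_mem hS hs)
        exact congrArg Subtype.val (h ⟨s, hsN⟩ ⟨r, hQN hr⟩ ⟨mem_stabilizer_iff.mpr (mem_stabilizer_iff.mp hs.1),
          fun e => hs.2.1 (congrArg Subtype.val e), Subtype.ext hs.2.2⟩ (Subgroup.mem_subgroupOf.mpr hr) (Subtype.ext he))
      · intro h s r hs hr he
        exact Subtype.ext (h s r ⟨mem_stabilizer_iff.mpr (mem_stabilizer_iff.mp hs.1),
          fun e => hs.2.1 (Subtype.ext e), congrArg Subtype.val hs.2.2⟩ (Subgroup.mem_subgroupOf.mp hr)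
          (congrArg Subtype.val he))
    rcases hsh with hel | ⟨⟨p, hp1, q, hq1, hpq⟩, hk⟩
    · exact Or.inl fun z hz => congrArg Subtype.val (hel ⟨z, hQN hz⟩ (Subgroup.mem_subgroupOf.mpr hz))
    · refine Or.inr ⟨⟨p, Subgroup.mem_subgroupOf.mp hp1, q, Subgroup.mem_subgroupOf.mp hq1,
        fun e => hpq (Subtype.ext e)⟩, ?_⟩
      rw [hqz, hcard, hrsq] at hk
      exact hk
  · -- the target
    haveI := hLn
    have hQL : ∀ z ∈ Q, ∀ hz : z ∈ N, (⟨z, hz⟩ : N) ∈ L := by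
      intro z hzQ hz
      obtain ⟨k, hk⟩ := hp' ⟨z, hzQ⟩
      have h1 : (QuotientGroup.mk ⟨z, hz⟩ : N ⧸ L) ^ 2 ^ k = 1 := by
        rw [← QuotientGroup.mk_pow, show (⟨z, hz⟩ : N) ^ 2 ^ k = 1 from
          Subtype.ext (by rw [SubgroupClass.coe_pow]; exact congrArg Subtype.val hk)]
        rfl
      have h2' : (QuotientGroup.mk ⟨z, hz⟩ : N ⧸ L) ^ L.index = 1 := pow_card_eq_one'
      have h3 := pow_gcd_eq_one.mpr ⟨h1, h2'⟩
      rw [show Nat.gcd (2 ^ k) L.index = 1 from (Nat.coprime_two_left.mpr hLi).pow_left k, pow_one] at h3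
      exact (QuotientGroup.eq_one_iff _).mp h3
    have hle : N ≤ L.map N.subtype := by
      refine hN.le.trans ((Subgroup.closure_le _).mpr ?_)
      intro g hg
      obtain ⟨z, hz, hcj⟩ := Group.mem_conjugatesOfSet_iff.mp hg
      obtain ⟨c, hc'⟩ := isConj_iff.mp hcj
      obtain ⟨n, hn, hna⟩ := exists_to_a hS hQN htN (c • a)
      have hh : (n⁻¹ * c) • a = a := by rw [mul_smul, ← hna, inv_smul_smul]
      have hz' := conj_Q hS hh hz
      refine ⟨⟨n, hn⟩ * ⟨_, hQN hz'⟩ * ⟨n, hn⟩⁻¹, hLn.conj_mem _ (hQL _ hz' (hQN hz')) _, ?_⟩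
      show n * (n⁻¹ * c * z * (n⁻¹ * c)⁻¹) * n⁻¹ = g
      rw [← hc']
      group
    have hLtop : L = ⊤ := by
      refine eq_top_iff.mpr fun g _ => ?_
      obtain ⟨l, hl, e⟩ := hle g.2
      rwa [show g = l from Subtype.ext e.symm]
    subst hLtop
    rcases hLt with ⟨F, i1, i2, hn, ⟨f⟩⟩ | ⟨F, i1, i2, m, hm, hcF, ⟨f⟩⟩ | ⟨F, i1, i2, n, hn, hcF, ⟨f⟩⟩
    · exact Or.inl ⟨F, i1, i2, hn, ⟨Subgroup.topEquiv.symm.trans f⟩⟩
    · exact Or.inr (Or.inl ⟨F, i1, i2, m, hm, hcF, ⟨Subgroup.topEquiv.symm.trans f⟩⟩)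
    · exact Or.inr (Or.inr ⟨F, i1, i2, n, hn, hcF, ⟨Subgroup.topEquiv.symm.trans f⟩⟩)

end CfsgLib.SuzukiRankOne
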