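import Cfsg.Agent.Lib.SuzukiRankOne.TransferModel
import Cfsg.Agent.Lib.SuzukiRankOne.TransferTools

/-!
The Sylow `p`-subgroup of the centraliser of `v`.
-/

set_option autoImplicit false
set_option linter.unusedSectionVars false
set_option linter.style.haveILetI false

namespace CfsgLib.SuzukiRankOne

open MulAction Cfsg CfsgLib.RankOne

universe u v

variable {G : Type u} {Ω : Type v} [Group G] [MulAction G Ω] [Finite G] [FaithfulSMul G Ω] {a : Ω} {t : G}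
  {Q : Subgroup G}

/-- A Sylow `p`-subgroup `R₀` of the centraliser of `v` with its part `TT` inverted by the involution `j * j`. -/
structure Base (p : ℕ) (v : G) (R₀ TT : Subgroup G) (j y : G) : Prop where
  pgrp : IsPGroup p R₀
  cardR : Nat.card R₀ = p ^ (Nat.card (cen v)).factorization p
  le : R₀ ≤ cen v
  ltT : TT ≤ R₀
  cyc : IsCyclic TT
  normT : ∀ g ∈ R₀, ∀ τ ∈ TT, g * τ * g⁻¹ ∈ TT
  commT : ∀ g ∈ R₀, ∀ h ∈ R₀, g * h * g⁻¹ * h⁻¹ ∈ TT
  vR : v ∈ R₀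
  vT : v ∉ TT
  omega : ∀ g ∈ R₀, g ^ p ∈ TT → ∃ d : ℕ, (v ^ d)⁻¹ * g ∈ TT
  jfix : ∀ g ∈ R₀, j * g * j⁻¹ * g⁻¹ ∈ TT
  j4 : j ^ 4 = 1
  jj : j * j ≠ 1
  jv : j ∈ cen v
  jR : ∀ g ∈ R₀, j * g * j⁻¹ ∈ R₀
  jT : ∀ τ ∈ TT, j * τ * j⁻¹ ∈ TT
  inv : ∀ τ ∈ TT, j * j * τ * (j * j)⁻¹ = τ⁻¹
  split : ∀ g ∈ R₀, j * j * g * (j * j)⁻¹ = g⁻¹ → g ∈ TT
  yT : y ∈ TT
  yp : y ^ p = 1
  y1 : y ≠ 1
  oddy : Odd (Nat.card ↥(Subgroup.centralizer {y}))
  yc : ∀ g ∈ R₀, g * y = y * g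
  el : ∀ g ∈ R₀, g ^ p = 1 → ∃ m n : ℤ, g = v ^ m * y ^ n

namespace Tr

variable {p q0 : ℕ} {v : G} (T : Tr a t Q p q0 v)

include T

/-- The kernel on the fixed points lies in `C_D(t)`. -/
theorem ker_mem_Vt {n : cen v} (hn : n ∈ (fixHom Ω v).ker) : (n : G) ∈ Vt a t := by
  have hS := T.setup
  have hfix : ∀ c : Ω, v • c = c → (n : G) • c = c := fun c hc =>
    congrArg Subtype.val (Equiv.congr_fun (MonoidHom.mem_ker.mp hn) (⟨c, hc⟩ : Fix Ω v))
  obtain ⟨hva, hvb⟩ := (mem_D hS).mp T.vD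
  have hnD : (n : G) ∈ D a t := (mem_D hS).mpr ⟨hfix a hva, hfix _ hvb⟩
  obtain ⟨⟨s, r⟩, ⟨hs, hr, he⟩, -⟩ := structure_eq hS
  have hsv : s * v = v * s := cent_s_of_cent_t hS hs hr he T.vD T.vt
  have hsQ : s ∈ Q := invol_mem_Q hS (mem_stabilizer_iff.mp hs.1) hs.2.2
  have hfs : v • s • t • a = s • t • a := by rw [← mul_smul, ← hsv, mul_smul, hvb]
  have h1 : ((n : G) * s * (n : G)⁻¹) • t • a = s • t • a := by
    rw [mul_smul, mul_smul, inv_smul_eq_iff.mpr (hfix _ hvb).symm, hfix _ hfs]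
  have h2 := Q_ta_inj hS (conj_Q hS ((mem_D hS).mp hnD).1 hsQ) hsQ h1
  exact mem_Vt.mpr ⟨hnD, cent_t_of_cent_s hS hs hr he hnD (mul_inv_eq_iff_eq_mul.mp h2).symm⟩

/-- The involutions of the centraliser centralise the kernel on the fixed points. -/
theorem invol_comm_ker {i n : cen v} (hi : i * i = 1) (hi1 : i ≠ 1) (hn : n ∈ (fixHom Ω v).ker) :
    i * n = n * i := by
  have hS := T.setup
  have hiG : (i : G) * i = 1 := congrArg Subtype.val hi
  have hi1G : (i : G) ≠ 1 := fun e => hi1 (Subtype.ext e)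
  obtain ⟨c, hc⟩ := exists_fix hS hi1G hiG
  have hvc : v • c = c := by
    refine fix_unique hS hi1G hiG ?_ hc
    rw [← mul_smul, cen_comm i.2, mul_smul, hc]
  obtain ⟨g, hg, hgc⟩ := cent_to_a hS (sub_D hS T.vD T.vt) (fixed_three hS T.vD T.vt) (b := c)
    (fun z hz => by rw [Set.mem_singleton_iff.mp hz]; exact hvc)
  set u := g * (i : G) * g⁻¹ with hu
  have hua : u • a = a := by rw [hu, mul_smul, mul_smul, inv_smul_eq_iff.mpr hgc.symm, hc, hgc]
  have hu2 : u * u = 1 := by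
    rw [hu, show g * (i : G) * g⁻¹ * (g * i * g⁻¹) = g * ((i : G) * i) * g⁻¹ by group, hiG, mul_one, mul_inv_cancel]
  have huQ := invol_mem_Q hS hua hu2
  let g' : cen v := ⟨g, hg⟩
  let m : cen v := g' * n * g'⁻¹
  have hm : m ∈ (fixHom Ω v).ker := (MonoidHom.normal_ker _).conj_mem n hn g'
  have hfix : ∀ e : Ω, v • e = e → (m : G) • e = e := fun e he =>
    congrArg Subtype.val (Equiv.congr_fun (MonoidHom.mem_ker.mp hm) (⟨e, he⟩ : Fix Ω v))
  obtain ⟨hva, hvb⟩ := (mem_D hS).mp T.vD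
  have huv : u * v = v * u := cen_comm (mul_mem (mul_mem hg i.2) (inv_mem hg))
  have hfu : v • u • t • a = u • t • a := by rw [← mul_smul, ← huv, mul_smul, hvb]
  have h1 : ((m : G) * u * (m : G)⁻¹) • t • a = u • t • a := by
    rw [mul_smul, mul_smul, inv_smul_eq_iff.mpr (hfix _ hvb).symm, hfix _ hfu]
  have h2 := mul_inv_eq_iff_eq_mul.mp (Q_ta_inj hS (conj_Q hS (hfix a hva) huQ) huQ h1)
  apply Subtype.ext
  show (i : G) * n = n * i
  have h3 : g * (n : G) * g⁻¹ * (g * i * g⁻¹) = g * i * g⁻¹ * (g * n * g⁻¹) := h2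
  calc (i : G) * n = g⁻¹ * (g * i * g⁻¹ * (g * n * g⁻¹)) * g := by group
    _ = _ := by rw [← h3]; group

/-- The Sylow subgroup of the centraliser. -/
theorem exists_base (hd : p ∣ qZ G a ^ 2 + 1) (ih : IHyp.{u, v} (Nat.card G)) :
    ∃ (R₀ TT : Subgroup G) (j y : G), Base p v R₀ TT j y := by
  classical
  haveI := Fact.mk T.prime
  have hS := T.setup
  obtain ⟨L, Tb, jb, hL, hTL, hTc, hTp, hTne, hTidx, hjL, hjb4, hjbn, hjbi⟩ := T.subdata hd ih
  haveI := hL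
  haveI := hTc
  set N0 := (fixHom Ω v).ker with hN0
  set π := toBar Ω v with hπ
  have hπk : ∀ {g : cen v}, π g = 1 ↔ g ∈ N0 := fun {g} => QuotientGroup.eq_one_iff g
  have hNcomm : ∀ {n m : cen v}, n ∈ N0 → m ∈ N0 → n * m = m * n := fun hn hm =>
    Subtype.ext (T.comm_Vt (T.ker_mem_Vt hn) (T.ker_mem_Vt hm))
  have hNodd : Odd (Nat.card N0) := by
    refine hS.odd_card.of_dvd_nat ?_
    rw [← Subgroup.card_map_of_injective (cen v).subtype_injective]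
    refine Subgroup.card_dvd_of_le ?_
    rintro _ ⟨n, hn, rfl⟩
    exact (Subgroup.mem_inf.mp (T.ker_mem_Vt hn)).1
  have hTodd : Odd (Nat.card Tb) := by
    obtain ⟨k, hk⟩ := IsPGroup.iff_card.mp hTp
    exact hk ▸ T.odd.pow
  -- the element of order four
  obtain ⟨j, hj4, hjπ⟩ : ∃ j : cen v, j ^ 4 = 1 ∧ π j = jb := by
    obtain ⟨g, hg⟩ := QuotientGroup.mk'_surjective _ jb
    obtain ⟨k, hk⟩ := hNodd
    refine ⟨g ^ (Nat.card N0 * Nat.card N0), ?_, ?_⟩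
    · have h1 : g ^ 4 ∈ N0 := hπk.mp (by rw [map_pow, hπ, hg, hjb4])
      have h2 : (g ^ 4) ^ Nat.card N0 = 1 := congrArg Subtype.val (pow_card_eq_one' (G := N0) (x := ⟨_, h1⟩))
      rw [← pow_mul, mul_comm, pow_mul, pow_mul, h2, one_pow]
    · rw [map_pow, hπ, hg, show Nat.card N0 * Nat.card N0 = 4 * (k * k + k) + 1 by rw [hk]; ring, pow_succ, pow_mul,
        hjb4, one_pow, one_mul]
  set i := j * j with hi
  have hii : i * i = 1 := by rw [hi, ← hj4, pow_succ j 3, pow_succ j 2, pow_two]; simp only [mul_assoc]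
  have hiπ : π i = jb * jb := by rw [hi, map_mul, hjπ]
  have hi1 : i ≠ 1 := by
    intro e
    refine hTne ((Subgroup.eq_bot_iff_forall _).mpr fun τ hτ => ?_)
    have h1 := hjbi τ hτ
    rw [← hiπ, e, map_one, one_mul, inv_one, mul_one] at h1
    exact Inverted.eq_one_of_sq hTodd hτ (by nth_rw 2 [h1]; rw [mul_inv_cancel])
  have hji : j * i = i * j := by rw [hi, mul_assoc]
  have hiN : ∀ n ∈ N0, i * n = n * i := fun n hn => T.invol_comm_ker hii hi1 hn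
  -- the preimage of the cyclic subgroup
  set Y := Tb.comap π with hY
  have hNY : N0 ≤ Y := fun n hn => Subgroup.mem_comap.mpr (by rw [hπk.mpr hn]; exact one_mem _)
  have hYodd : ∀ g ∈ Y, Odd (orderOf g) := by
    intro g hg
    obtain ⟨k, hk⟩ := hTp ⟨π g, hg⟩
    have h1 : g ^ p ^ k ∈ N0 := hπk.mp (by rw [map_pow]; exact congrArg Subtype.val hk)
    have h2 : (g ^ p ^ k) ^ Nat.card N0 = 1 := congrArg Subtype.val (pow_card_eq_one' (G := N0) (x := ⟨_, h1⟩))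
    rw [← pow_mul] at h2
    exact ((T.odd.pow (n := k)).mul hNodd).of_dvd_nat (orderOf_dvd_of_pow_eq_one h2)
  have hcentral : ∀ g ∈ Y, ∀ n ∈ N0, g * n = n * g := by
    intro g hg n hn
    refine (comm_of_comm_sq (hYodd g hg) (show Commute (g * g) n from ?_)).eq
    have hn1 : g * (i * g * i⁻¹) ∈ N0 := hπk.mp (by
      rw [map_mul, map_mul, map_mul, map_inv, hiπ, hjbi _ hg, mul_inv_cancel])
    set n' := g * (i * g * i⁻¹) with hn'
    have hc : g * n * g⁻¹ ∈ N0 := (MonoidHom.normal_ker _).conj_mem n hn g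
    have h1 : i * (g * n * g⁻¹) * i⁻¹ = g * n * g⁻¹ := mul_inv_eq_iff_eq_mul.mpr (hiN _ hc)
    have h2 : i * n * i⁻¹ = n := mul_inv_eq_iff_eq_mul.mpr (hiN n hn)
    have h3 : g⁻¹ * n * g = g * n * g⁻¹ := by
      calc g⁻¹ * n * g = g⁻¹ * (n' * n * n'⁻¹) * g := by rw [hNcomm hn1 hn, mul_inv_cancel_right]
        _ = i * g * i⁻¹ * n * (i * g * i⁻¹)⁻¹ := by rw [hn']; group
        _ = i * g * i⁻¹ * (i * n * i⁻¹) * (i * g * i⁻¹)⁻¹ := by rw [h2]
        _ = i * (g * n * g⁻¹) * i⁻¹ := by group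
        _ = _ := h1
    show g * g * n = n * (g * g)
    calc g * g * n = g * (g * n * g⁻¹) * g := by group
      _ = g * (g⁻¹ * n * g) * g := by rw [h3]
      _ = _ := by group
  have hYcomm : ∀ g ∈ Y, ∀ h ∈ Y, g * h = h * g := by
    intro g hg h hh
    let f : Y →* Tb := (π.comp Y.subtype).codRestrict Tb fun z => z.2
    have hf : f.ker ≤ Subgroup.center Y := fun z hz => Subgroup.mem_center_iff.mpr fun w => Subtype.ext
      (hcentral w w.2 z (hπk.mp (congrArg Subtype.val (MonoidHom.mem_ker.mp hz))))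
    exact congrArg Subtype.val (commutative_of_cyclic_center_quotient f hf (⟨g, hg⟩ : Y) ⟨h, hh⟩)
  have hiY : ∀ g ∈ Y, i * g * i⁻¹ ∈ Y := fun g hg => by
    rw [hY, Subgroup.mem_comap, map_mul, map_mul, map_inv, hiπ, hjbi _ hg]
    exact inv_mem hg
  let TT : Subgroup (cen v) :=
    { carrier := {g | g ∈ Y ∧ i * g * i⁻¹ = g⁻¹}
      one_mem' := ⟨one_mem _, by simp⟩
      mul_mem' := fun {g h} hg hh => ⟨mul_mem hg.1 hh.1, by
        calc i * (g * h) * i⁻¹ = i * g * i⁻¹ * (i * h * i⁻¹) := by group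
          _ = _ := by rw [hg.2, hh.2, ← mul_inv_rev, hYcomm h hh.1 g hg.1]⟩
      inv_mem' := fun {g} hg => ⟨inv_mem hg.1, by
        rw [show i * g⁻¹ * i⁻¹ = (i * g * i⁻¹)⁻¹ by group, hg.2]⟩ }
  have hTTY : TT ≤ Y := fun g hg => hg.1
  have hTN : ∀ g ∈ TT, π g = 1 → g = 1 := by
    intro g hg h
    have h1 : g⁻¹ = g := by rw [← hg.2, hiN g (hπk.mp h), mul_inv_cancel_right]
    exact Inverted.eq_one_of_sq hNodd (hπk.mp h) (by nth_rw 1 [← h1]; rw [inv_mul_cancel])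
  let fT : TT →* Tb := (π.comp TT.subtype).codRestrict Tb fun z => z.2.1
  have hfT : Function.Injective fT := (injective_iff_map_eq_one _).mpr fun z hz =>
    Subtype.ext (hTN z z.2 (congrArg Subtype.val hz))
  have hTTcyc : IsCyclic TT := isCyclic_of_injective fT hfT
  have hTTp : IsPGroup p TT := hTp.of_injective fT hfT
  have hsurj : ∀ τ ∈ Tb, ∃ g ∈ TT, π g = τ := by
    intro τ hτ
    obtain ⟨σ, hσ, hσσ⟩ := Inverted.exists_sqrt hTodd hτ
    obtain ⟨g, rfl⟩ := QuotientGroup.mk'_surjective _ σ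
    have hgY : g ∈ Y := hσ
    refine ⟨g * (i * g * i⁻¹)⁻¹, ⟨mul_mem hgY (inv_mem (hiY g hgY)), ?_⟩, ?_⟩
    · have h1 : i * (i * g * i⁻¹) * i⁻¹ = g := by
        calc i * (i * g * i⁻¹) * i⁻¹ = i * i * g * (i * i)⁻¹ := by group
          _ = g := by rw [hii, one_mul, inv_one, mul_one]
      calc i * (g * (i * g * i⁻¹)⁻¹) * i⁻¹ = i * g * i⁻¹ * (i * (i * g * i⁻¹) * i⁻¹)⁻¹ := by group
        _ = _ := by rw [h1]; group
    · rw [map_mul, map_inv, map_mul, map_mul, map_inv, hiπ, hjbi _ hσ, inv_inv]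
      exact hσσ
  -- an element of order `p`
  obtain ⟨y, hyT, hyo⟩ : ∃ y ∈ TT, orderOf y = p := by
    haveI : Nontrivial TT := by
      obtain ⟨τ, hτ, hτ1⟩ := (Subgroup.ne_bot_iff_exists_ne_one.mp hTne : ∃ τ : Tb, τ ≠ 1) |>
        fun ⟨τ, hτ1⟩ => (⟨τ, τ.2, fun e => hτ1 (Subtype.ext e)⟩ : ∃ τ : Bar Ω v, τ ∈ Tb ∧ τ ≠ 1)
      obtain ⟨g, hg, hgτ⟩ := hsurj τ hτ
      exact ⟨⟨⟨g, hg⟩, 1, fun e => hτ1 (by rw [← hgτ, show g = 1 from congrArg Subtype.val e, map_one])⟩⟩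
    obtain ⟨n, hn0, hn⟩ := hTTp.nontrivial_iff_card.mp inferInstance
    obtain ⟨y, hy⟩ := exists_prime_orderOf_dvd_card' (G := TT) p (by rw [hn]; exact dvd_pow_self p (by omega))
    exact ⟨y, y.2, by rw [Subgroup.orderOf_coe, hy]⟩
  have hyp : y ^ p = 1 := hyo ▸ pow_orderOf_eq_one y
  have hy1 : y ≠ 1 := fun e => T.prime.one_lt.ne (by rw [← hyo, e, orderOf_one])
  have hy1' : π y ≠ 1 := fun e => hy1 (hTN y hyT e)
  have hyo' : orderOf (π y) = p := orderOf_eq_prime (by rw [← map_pow, hyp, map_one]) hy1'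
  have hoddy : Odd (Nat.card ↥(Subgroup.centralizer {(y : G)})) := by
    refine T.odd_cen_inverted (i := (i : G)) (congrArg Subtype.val hii) (fun e => hi1 (Subtype.ext e))
      (congrArg Subtype.val hyT.2) fun e => hy1 ?_
    have h5 := T.prime.two_le
    have h2 : orderOf y ∣ 2 := orderOf_dvd_of_pow_eq_one (Subtype.ext (by rw [pow_two]; exact e))
    rw [hyo] at h2
    have h6 := T.five_le hd
    have := Nat.le_of_dvd two_pos h2
    omega
  -- the group containing a Sylow subgroup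
  set W := (Subgroup.normalizer (Tb : Set (Bar Ω v)) ⊓ Subgroup.centralizer {π y}).comap π with hW
  have hWn : ∀ {g : cen v}, g ∈ W → ∀ τ ∈ Tb, π g * τ * (π g)⁻¹ ∈ Tb := fun hg τ hτ =>
    (Subgroup.mem_normalizer_iff.mp (Subgroup.mem_inf.mp hg).1 τ).mp hτ
  have hWy : ∀ {g : cen v}, g ∈ W → π g * π y = π y * π g := fun hg =>
    Subgroup.mem_centralizer_singleton_iff.mp (Subgroup.mem_inf.mp hg).2
  have hnorm : ∀ g : Bar Ω v, (∀ τ ∈ Tb, g * τ * g⁻¹ ∈ Tb) → g ∈ Subgroup.normalizer (Tb : Set (Bar Ω v)) := by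
    intro g hg
    rw [Subgroup.mem_normalizer_iff_map_conj_eq]
    refine Subgroup.eq_of_le_of_card_ge ?_ (Subgroup.card_map_of_injective (MulAut.conj g).injective).ge
    rintro _ ⟨τ, hτ, rfl⟩
    exact hg τ hτ
  have hYW : Y ≤ W := fun g hg => Subgroup.mem_inf.mpr ⟨hnorm _ fun τ hτ => mul_mem (mul_mem hg hτ) (inv_mem hg),
    Subgroup.mem_centralizer_singleton_iff.mpr (by
      rw [← map_mul, ← map_mul, hYcomm g hg y hyT.1])⟩
  have hWodd : Odd (Nat.card W) := by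
    rw [← Nat.not_even_iff_odd, even_iff_two_dvd]
    intro h
    haveI := Fact.mk Nat.prime_two
    obtain ⟨⟨g, hgW⟩, hg⟩ := exists_prime_orderOf_dvd_card' (G := W) 2 h
    rw [Subgroup.orderOf_mk] at hg
    obtain ⟨hgg, hg1⟩ := CfsgLib.Involutions.orderOf_eq_two_iff'.mp hg
    set n := y⁻¹ * (g * y * g⁻¹) with hn
    have hnN : n ∈ N0 := hπk.mp (by
      rw [map_mul, map_mul, map_mul, map_inv, map_inv, hWy hgW, mul_inv_cancel_right, inv_mul_cancel])
    have hgn : g * n * g⁻¹ = n := mul_inv_eq_iff_eq_mul.mpr (T.invol_comm_ker hgg hg1 hnN)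
    have e1 : g * y * g⁻¹ = y * n := by rw [hn, mul_inv_cancel_left]
    have h1 : y * (n * n) = y := by
      calc y * (n * n) = g * y * g⁻¹ * (g * n * g⁻¹) := by rw [hgn, e1]; exact (mul_assoc y n n).symm
        _ = g * (y * n) * g⁻¹ := by group
        _ = g * g * y * (g * g)⁻¹ := by rw [← e1]; group
        _ = y := by rw [hgg, one_mul, inv_one, mul_one]
    rw [Inverted.eq_one_of_sq hNodd hnN (mul_eq_left.mp h1), mul_one] at e1
    have hmem : (g : G) ∈ Subgroup.centralizer {(y : G)} :=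
      Subgroup.mem_centralizer_singleton_iff.mpr (congrArg Subtype.val (mul_inv_eq_iff_eq_mul.mp e1))
    refine Nat.not_even_iff_odd.mpr hoddy (even_iff_two_dvd.mpr ?_)
    rw [← hg, ← Subgroup.orderOf_coe, ← Subgroup.orderOf_mk (g : G) hmem]
    exact orderOf_dvd_natCard _
  -- the intersection with `L` of a `p`-subgroup containing the inverted part
  have hKL : ∀ K : Subgroup (cen v), IsPGroup p K → TT ≤ K → ∀ g ∈ K, π g ∈ L → π g ∈ Tb := by
    intro K hK hTK g hg hgL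
    have hle : Tb ≤ K.map π ⊓ L := by
      intro τ hτ
      obtain ⟨h, hh, rfl⟩ := hsurj τ hτ
      exact Subgroup.mem_inf.mpr ⟨⟨h, hTK hh, rfl⟩, hTL hτ⟩
    have hp' : IsPGroup p ↥(K.map π ⊓ L) := (hK.map π).to_le inf_le_left
    obtain ⟨n, hn⟩ := IsPGroup.iff_card.mp hp'
    have hmul := (Tb.subgroupOf (K.map π ⊓ L)).card_mul_index
    rw [hn] at hmul
    obtain ⟨k, -, hk⟩ := (Nat.dvd_prime_pow T.prime).mp (Dvd.intro_left _ hmul)
    have hrel : Tb.relIndex (K.map π ⊓ L) = 1 := by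
      rcases Nat.eq_zero_or_pos k with rfl | hk0
      · exact hk
      · refine absurd ?_ hTidx
        rw [← Subgroup.relIndex_mul_relIndex Tb (K.map π ⊓ L) L hle inf_le_right]
        exact dvd_mul_of_dvd_left (show p ∣ Tb.relIndex _ by
          show p ∣ (Tb.subgroupOf (K.map π ⊓ L)).index
          rw [hk]
          exact dvd_pow_self p hk0.ne') _
    exact Subgroup.relIndex_eq_one.mp hrel (Subgroup.mem_inf.mpr ⟨⟨g, hg, rfl⟩, hgL⟩)
  obtain ⟨S, hTS⟩ := hTTp.exists_le_sylow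
  have hSW : (S : Subgroup (cen v)) ≤ W := by
    intro g hg
    have hn : ∀ τ ∈ Tb, π g * τ * (π g)⁻¹ ∈ Tb := by
      intro τ hτ
      obtain ⟨h, hh, rfl⟩ := hsurj τ hτ
      rw [← map_mul, ← map_inv, ← map_mul]
      refine hKL S S.isPGroup' hTS _ (mul_mem (mul_mem hg (hTS hh)) (inv_mem hg)) ?_
      rw [map_mul, map_mul, map_inv]
      exact hL.conj_mem _ (hTL hτ) _
    refine Subgroup.mem_inf.mpr ⟨hnorm _ hn, Subgroup.mem_centralizer_singleton_iff.mpr ?_⟩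
    obtain ⟨k, hk⟩ := S.isPGroup' ⟨g, hg⟩
    refine (comm_of_pow_norm T.prime hyo' (e := k) ?_ ?_).eq
    · rw [← map_pow, show g ^ p ^ k = 1 from congrArg Subtype.val hk, map_one]
    · refine mem_zpowers_of_cyclic hTc T.prime hyT.1 hyo' (hn _ hyT.1) ?_
      rw [conj_pow, ← map_pow, hyp, map_one, mul_one, mul_inv_cancel]
  have hfW : (Nat.card W).factorization p = (Nat.card (cen v)).factorization p := by
    refine le_antisymm ((Nat.factorization_le_iff_dvd Nat.card_pos.ne' Nat.card_pos.ne').mpr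
      (Subgroup.card_subgroup_dvd_card W) p) ?_
    rw [← T.prime.pow_dvd_iff_le_factorization Nat.card_pos.ne', ← S.card_eq_multiplicity]
    exact Subgroup.card_dvd_of_le hSW
  obtain ⟨R, hRW, hRp, hRc, hjR⟩ := exists_invariant_sylow_four (p := p) (K := W) (x := j) hWodd hj4 (by
    intro g hg
    refine Subgroup.mem_inf.mpr ⟨?_, ?_⟩
    · rw [map_mul, map_mul, map_inv, hjπ]
      have hjn := hnorm jb hjbn
      exact mul_mem (mul_mem hjn (Subgroup.mem_inf.mp hg).1) (inv_mem hjn)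
    · rw [Subgroup.mem_centralizer_singleton_iff, map_mul, map_mul, map_inv, hjπ]
      have hzT := hjbn _ (show π y ∈ Tb from hyT.1)
      have hzo : orderOf (jb * π y * jb⁻¹) = p := by
        rw [← MulAut.conj_apply, MulEquiv.orderOf_eq, hyo']
      obtain ⟨k, hk⟩ := Subgroup.mem_zpowers_iff.mp
        (mem_zpowers_of_cyclic hTc T.prime hzT hzo hyT.1 (by rw [← map_pow, hyp, map_one]))
      rw [← hk]
      refine ((show Commute (jb * π g * jb⁻¹) (jb * π y * jb⁻¹) from ?_).zpow_right k).eq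
      show jb * π g * jb⁻¹ * (jb * π y * jb⁻¹) = jb * π y * jb⁻¹ * (jb * π g * jb⁻¹)
      calc jb * π g * jb⁻¹ * (jb * π y * jb⁻¹) = jb * (π g * π y) * jb⁻¹ := by group
        _ = _ := by rw [hWy hg]; group)
  -- the `p`-elements of the abelian preimage
  let A : Subgroup (cen v) :=
    { carrier := {g | g ∈ Y ∧ ∃ k : ℕ, g ^ p ^ k = 1}
      one_mem' := ⟨one_mem _, 0, one_pow _⟩
      mul_mem' := fun {g h} hg hh => ⟨mul_mem hg.1 hh.1, by
        obtain ⟨k, hk⟩ := hg.2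
        obtain ⟨l, hl⟩ := hh.2
        refine ⟨k + l, ?_⟩
        rw [(show Commute g h from hYcomm g hg.1 h hh.1).mul_pow, pow_add, pow_mul, hk, one_pow, one_mul,
          mul_comm, pow_mul, hl, one_pow]⟩
      inv_mem' := fun {g} hg => ⟨inv_mem hg.1, by
        obtain ⟨k, hk⟩ := hg.2
        exact ⟨k, by rw [inv_pow, hk, inv_one]⟩⟩ }
  have hAp : IsPGroup p A := fun g => by
    obtain ⟨k, hk⟩ := g.2.2
    exact ⟨k, Subtype.ext (by rw [SubgroupClass.coe_pow]; exact hk)⟩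
  have hYn : ∀ g ∈ W, ∀ h ∈ Y, g * h * g⁻¹ ∈ Y := fun g hg h hh => by
    rw [hY, Subgroup.mem_comap, map_mul, map_mul, map_inv]
    exact hWn hg _ hh
  have hAR : A ≤ R := le_of_normalised hAp hRp hRW (fun g hg => hYW hg.1) (fun g hg h hh =>
    ⟨hYn g (hRW hg) h hh.1, by
      obtain ⟨k, hk⟩ := hh.2
      exact ⟨k, by rw [conj_pow, hk, mul_one, mul_inv_cancel]⟩⟩) hRc
  have hTR : TT ≤ R := fun g hg => hAR ⟨hg.1, by
    obtain ⟨k, hk⟩ := hTTp ⟨g, hg⟩
    exact ⟨k, congrArg Subtype.val hk⟩⟩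
  let v' : cen v := ⟨v, Subgroup.mem_centralizer_singleton_iff.mpr rfl⟩
  have hv'c : ∀ g : cen v, g * v' = v' * g := fun g => Subtype.ext (cen_comm g.2)
  have hvp : v' ^ p = 1 := Subtype.ext (by rw [SubgroupClass.coe_pow]; exact T.pow)
  have hvo : orderOf v' = p := by rw [← Subgroup.orderOf_coe]; exact T.orderOf_v
  have hvN : v' ∈ N0 := MonoidHom.mem_ker.mpr (Equiv.ext fun c => Subtype.ext c.2)
  have hvR : v' ∈ R := hAR ⟨hNY hvN, 1, by rw [pow_one, hvp]⟩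
  have hRodd : Odd (Nat.card R) := by rw [hRc]; exact T.odd.pow
  have hiR : ∀ g ∈ R, i * g * i⁻¹ ∈ R := fun g hg => by
    rw [hi, show j * j * g * (j * j)⁻¹ = j * (j * g * j⁻¹) * j⁻¹ by group]
    exact hjR _ (hjR g hg)
  have hRL : ∀ g ∈ R, π g ∈ L → π g ∈ Tb := hKL R hRp hTR
  have hsplit : ∀ k ∈ R, i * k * i⁻¹ = k⁻¹ → k ∈ TT := by
    intro k hk hki
    refine ⟨Subgroup.mem_comap.mpr (hRL k hk ?_), hki⟩
    have hiL : π i ∈ L := by rw [hiπ]; exact mul_mem hjL hjL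
    refine mem_of_sq_mem ?_ ?_
    · exact (odd_orderOf_of_pgroup T.odd hRp hk).of_dvd_nat (orderOf_map_dvd π k)
    · have e : π k * π k = π k * π i * (π k)⁻¹ * (π i)⁻¹ := by
        rw [← map_inv π k, ← map_inv π i, ← map_mul, ← map_mul, ← map_mul, ← map_mul]
        congr 1
        calc k * k = k * (i * k * i⁻¹)⁻¹ := by rw [hki, inv_inv]
          _ = _ := by group
      rw [e]
      exact mul_mem (hL.conj_mem _ hiL _) (inv_mem hiL)
  -- the fixed part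
  let P : Subgroup (cen v) := R ⊓ Subgroup.centralizer {i}
  have hPc : ∀ {c : cen v}, c ∈ P → c * i = i * c := fun hc =>
    Subgroup.mem_centralizer_singleton_iff.mp (Subgroup.mem_inf.mp hc).2
  have hPR : ∀ {c : cen v}, c ∈ P → c ∈ R := fun hc => (Subgroup.mem_inf.mp hc).1
  have hPcyc : IsCyclic P := by
    have hiG : (i : G) * i = 1 := congrArg Subtype.val hii
    have hi1G : (i : G) ≠ 1 := fun e => hi1 (Subtype.ext e)
    obtain ⟨c₀, hc₀⟩ := exists_fix hS hi1G hiG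
    have hK : IsCyclic (P.map (cen v).subtype) := T.cyclic_of_fix hd ((hRp.to_le inf_le_left).map _) (c := c₀) (by
      rintro _ ⟨c, hc, rfl⟩
      exact not_fix_of_commute hS hi1G hiG hc₀ (congrArg Subtype.val (hPc hc)).symm)
    exact isCyclic_of_surjective _ (P.equivMapOfInjective _ (cen v).subtype_injective).symm.surjective
  have hvP : v' ∈ P := Subgroup.mem_inf.mpr ⟨hvR, Subgroup.mem_centralizer_singleton_iff.mpr (hv'c i).symm⟩
  have hdec : ∀ g ∈ R, ∃ c ∈ P, ∃ k ∈ TT, g = c * k := by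
    intro g hg
    obtain ⟨⟨c, k⟩, ⟨hc, hk, e⟩, -⟩ := Inverted.decomp hRodd hiR hii hg
    exact ⟨c, hc, k, hsplit k hk.1 hk.2, e⟩
  have hPT : ∀ c ∈ P, ∀ τ ∈ TT, c * τ * c⁻¹ ∈ TT := by
    intro c hc τ hτ
    refine ⟨hYn c (hRW (hPR hc)) τ hτ.1, ?_⟩
    calc i * (c * τ * c⁻¹) * i⁻¹ = i * c * τ * (i * c)⁻¹ := by group
      _ = c * (i * τ * i⁻¹) * c⁻¹ := by rw [← hPc hc]; group
      _ = _ := by rw [hτ.2]; group
  have hTc' : ∀ τ ∈ TT, ∀ σ ∈ TT, τ * σ = σ * τ := fun τ hτ σ hσ => hYcomm τ hτ.1 σ hσ.1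
  have hnormT : ∀ g ∈ R, ∀ τ ∈ TT, g * τ * g⁻¹ ∈ TT := by
    intro g hg τ hτ
    obtain ⟨c, hc, k, hk, rfl⟩ := hdec g hg
    rw [show c * k * τ * (c * k)⁻¹ = c * (k * τ * k⁻¹) * c⁻¹ by group, hTc' k hk τ hτ, mul_inv_cancel_right]
    exact hPT c hc τ hτ
  have hPcomm : ∀ c ∈ P, ∀ c' ∈ P, c * c' = c' * c := by
    haveI := hPcyc
    letI : CommGroup P := IsCyclic.commGroup
    intro c hc c' hc'
    exact congrArg Subtype.val (mul_comm (⟨c, hc⟩ : P) ⟨c', hc'⟩)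
  have hcommT : ∀ g ∈ R, ∀ h ∈ R, g * h * g⁻¹ * h⁻¹ ∈ TT := by
    intro g hg h hh
    obtain ⟨c, hc, k, hk, rfl⟩ := hdec g hg
    obtain ⟨c', hc', k', hk', rfl⟩ := hdec h hh
    have e : c * k * (c' * k') * (c * k)⁻¹ * (c' * k')⁻¹ =
        c * k * c⁻¹ * (c * c' * (k' * k⁻¹) * (c * c')⁻¹) * (c * c' * c⁻¹ * k'⁻¹ * c'⁻¹) := by group
    rw [e, show c * c' * c⁻¹ = c' by rw [hPcomm c hc c' hc', mul_inv_cancel_right]]
    exact mul_mem (mul_mem (hPT c hc k hk) (hPT _ (mul_mem hc hc') _ (mul_mem hk' (inv_mem hk))))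
      (hPT c' hc' _ (inv_mem hk'))
  have homega : ∀ g ∈ R, g ^ p ∈ TT → ∃ d : ℕ, (v' ^ d)⁻¹ * g ∈ TT := by
    intro g hg hgp
    obtain ⟨c, hc, k, hk, rfl⟩ := hdec g hg
    have hn : ∀ n : ℕ, (c * k) ^ n * (c ^ n)⁻¹ ∈ TT := by
      intro n
      induction n with
      | zero => simp
      | succ n ih =>
        rw [show (c * k) ^ (n + 1) * (c ^ (n + 1))⁻¹ =
          (c * k) ^ n * (c ^ n)⁻¹ * (c ^ (n + 1) * k * (c ^ (n + 1))⁻¹) by rw [pow_succ, pow_succ]; group]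
        exact mul_mem ih (hnormT _ (pow_mem (hPR hc) _) k hk)
    have h1 : c ^ p ∈ TT := by
      have := mul_mem (inv_mem (hn p)) hgp
      rwa [mul_inv_rev, inv_inv, inv_mul_cancel_right] at this
    have h2 : c ^ p = 1 := by
      refine Inverted.eq_one_of_sq hRodd (hTR h1) ?_
      have h3 := h1.2
      rw [← ((show Commute c i from hPc hc).pow_left p).eq, mul_inv_cancel_right] at h3
      nth_rw 1 [h3]
      rw [inv_mul_cancel]
    obtain ⟨d, hd'⟩ := (IsOfFinOrder.mem_powers_iff_mem_zpowers (isOfFinOrder_of_finite v')).mpr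
      (mem_zpowers_of_cyclic hPcyc T.prime hvP hvo hc h2)
    exact ⟨d, by rw [show v' ^ d = c from hd', inv_mul_cancel_left]; exact hk⟩
  have hjT : ∀ τ ∈ TT, j * τ * j⁻¹ ∈ TT := by
    intro τ hτ
    refine ⟨?_, ?_⟩
    · rw [hY, Subgroup.mem_comap, map_mul, map_mul, map_inv, hjπ]
      exact hjbn _ hτ.1
    · calc i * (j * τ * j⁻¹) * i⁻¹ = i * j * τ * (i * j)⁻¹ := by group
        _ = j * (i * τ * i⁻¹) * j⁻¹ := by rw [← hji]; group
        _ = _ := by rw [hτ.2]; group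
  have hjP : ∀ c ∈ P, j * c * j⁻¹ = c := by
    intro c hc
    have hjc : j * c * j⁻¹ ∈ P := Subgroup.mem_inf.mpr ⟨hjR c (hPR hc),
      Subgroup.mem_centralizer_singleton_iff.mpr (by
        calc j * c * j⁻¹ * i = j * c * j⁻¹ * (i * j) * j⁻¹ := by group
          _ = j * (c * i) * j⁻¹ := by rw [← hji]; group
          _ = j * i * c * j⁻¹ := by rw [hPc hc]; group
          _ = _ := by rw [hji]; group)⟩
    set w := c⁻¹ * (j * c * j⁻¹) with hw
    have hwP : w ∈ P := mul_mem (inv_mem hc) hjc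
    have hwinv : j * w * j⁻¹ = w⁻¹ := by
      have e : i * c * i⁻¹ = c := mul_inv_eq_iff_eq_mul.mpr (hPc hc).symm
      calc j * w * j⁻¹ = (j * c * j⁻¹)⁻¹ * (i * c * i⁻¹) := by rw [hw, hi]; group
        _ = _ := by rw [e, hw]; group
    rcases eq_or_ne w 1 with h1 | h1
    · rw [hw, inv_mul_eq_one] at h1
      exact h1.symm
    · exfalso
      obtain ⟨k, hk⟩ := (hRp.to_le (inf_le_left : P ≤ R)) ⟨w, hwP⟩
      obtain ⟨e, -, he⟩ := (Nat.dvd_prime_pow T.prime).mp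
        (orderOf_dvd_of_pow_eq_one (congrArg Subtype.val hk : w ^ p ^ k = 1))
      have hdvd : p ∣ orderOf w := by
        rw [he]
        refine dvd_pow_self p ?_
        rintro rfl
        exact h1 (orderOf_eq_one_iff.mp (by rw [he, pow_zero]))
      have hσo : orderOf (w ^ (orderOf w / p)) = p := orderOf_pow_orderOf_div (orderOf_pos w).ne' hdvd
      obtain ⟨n, hn⟩ := Subgroup.mem_zpowers_iff.mp
        (mem_zpowers_of_cyclic hPcyc T.prime (pow_mem hwP _) hσo hvP hvp)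
      have h2 : j * v' * j⁻¹ = v'⁻¹ := by
        rw [← hn, ← conj_zpow, ← conj_pow, hwinv, inv_pow, inv_zpow]
      rw [hv'c j, mul_inv_cancel_right] at h2
      refine T.ne (congrArg Subtype.val (Inverted.eq_one_of_sq hRodd hvR ?_))
      nth_rw 1 [h2]
      rw [inv_mul_cancel]
  have hjfix : ∀ g ∈ R, j * g * j⁻¹ * g⁻¹ ∈ TT := by
    intro g hg
    obtain ⟨c, hc, k, hk, rfl⟩ := hdec g hg
    rw [show j * (c * k) * j⁻¹ * (c * k)⁻¹ = j * c * j⁻¹ * (j * k * j⁻¹ * k⁻¹) * c⁻¹ by group, hjP c hc]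
    exact hPT c hc _ (mul_mem (hjT k hk) (inv_mem hk))
  have hyc : ∀ g ∈ R, g * y = y * g := by
    intro g hg
    obtain ⟨c, hc, k, hk, rfl⟩ := hdec g hg
    obtain ⟨e, he⟩ := hRp ⟨c, hPR hc⟩
    have h1 : c * y = y * c := (comm_of_pow_norm T.prime hyo (congrArg Subtype.val he)
      (mem_zpowers_of_cyclic hTTcyc T.prime hyT hyo (hPT c hc y hyT)
        (by rw [conj_pow, hyp, mul_one, mul_inv_cancel]))).eq
    rw [mul_assoc, hTc' k hk y hyT, ← mul_assoc, h1, mul_assoc]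
  have hvT : v' ∉ TT := fun h => by
    have h1 := h.2
    rw [hv'c i, mul_inv_cancel_right] at h1
    refine T.ne (congrArg Subtype.val (Inverted.eq_one_of_sq hRodd hvR ?_))
    nth_rw 1 [h1]
    rw [inv_mul_cancel]
  have hel : ∀ g ∈ R, g ^ p = 1 → ∃ m n : ℤ, g = v' ^ m * y ^ n := by
    intro g hg hgp
    obtain ⟨d, hd'⟩ := homega g hg (hgp ▸ one_mem _)
    have hk : ((v' ^ d)⁻¹ * g) ^ p = 1 := by
      rw [((show Commute g v' from hv'c g).symm.pow_left d).inv_left.mul_pow, inv_pow, ← pow_mul, mul_comm,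
        pow_mul, hvp, one_pow, inv_one, one_mul, hgp]
    obtain ⟨n, hn⟩ := Subgroup.mem_zpowers_iff.mp (mem_zpowers_of_cyclic hTTcyc T.prime hyT hyo hd' hk)
    exact ⟨d, n, by rw [hn, zpow_natCast, mul_inv_cancel_left]⟩
  -- the result in the whole group
  refine ⟨R.map (cen v).subtype, TT.map (cen v).subtype, j, y, ⟨hRp.map _, ?_, Subgroup.map_subtype_le _,
    Subgroup.map_mono hTR, ?_, ?_, ?_, ⟨v', hvR, rfl⟩, ?_, ?_, ?_, congrArg Subtype.val hj4,
    fun e => hi1 (Subtype.ext e), j.2, ?_, ?_, ?_, ?_, ⟨y, hyT, rfl⟩, congrArg Subtype.val hyp,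
    fun e => hy1 (Subtype.ext e), hoddy, ?_, ?_⟩⟩
  · rw [Subgroup.card_map_of_injective (cen v).subtype_injective, hRc, hfW]
  · haveI := hTTcyc
    exact isCyclic_of_surjective _ (TT.equivMapOfInjective _ (cen v).subtype_injective).surjective
  · rintro _ ⟨g, hg, rfl⟩ _ ⟨τ, hτ, rfl⟩
    exact ⟨_, hnormT g hg τ hτ, rfl⟩
  · rintro _ ⟨g, hg, rfl⟩ _ ⟨h, hh, rfl⟩
    exact ⟨_, hcommT g hg h hh, rfl⟩
  · rintro ⟨g, hg, e⟩
    exact hvT ((Subtype.ext e : g = v') ▸ hg)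
  · rintro _ ⟨g, hg, rfl⟩ ⟨τ, hτ, e⟩
    obtain ⟨d, hd'⟩ := homega g hg ((Subtype.ext (by simpa using e) : τ = g ^ p) ▸ hτ)
    exact ⟨d, _, hd', rfl⟩
  · rintro _ ⟨g, hg, rfl⟩
    exact ⟨_, hjfix g hg, rfl⟩
  · rintro _ ⟨g, hg, rfl⟩
    exact ⟨_, hjR g hg, rfl⟩
  · rintro _ ⟨g, hg, rfl⟩
    exact ⟨_, hjT g hg, rfl⟩
  · rintro _ ⟨g, hg, rfl⟩
    exact congrArg Subtype.val hg.2
  · rintro _ ⟨g, hg, rfl⟩ e
    exact ⟨g, hsplit g hg (Subtype.ext e), rfl⟩
  · rintro _ ⟨g, hg, rfl⟩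
    exact congrArg Subtype.val (hyc g hg)
  · rintro _ ⟨g, hg, rfl⟩ e
    obtain ⟨m, n, e'⟩ := hel g hg (Subtype.ext (by simpa using e))
    exact ⟨m, n, by rw [e']; simp [v']⟩

end Tr

end CfsgLib.SuzukiRankOne
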