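import Mathlib

/-!
A `p`-group `R` with a subgroup `R₀` of index `p` having a cyclic normal subgroup `T`, acted on by `j` with weights:
`T` is normal in `R`, `R / T` is abelian, and `R` has at most `p ^ 3` solutions of `g ^ p = 1`.
-/

set_option autoImplicit false
set_option linter.unusedSectionVars false
set_option linter.style.haveILetI false

namespace CfsgLib.SuzukiRankOne

universe u

variable {G : Type u} [Group G] [Finite G]

/-- The weighted configuration. -/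
structure Core (G : Type u) [Group G] (p : ℕ) (R R₀ T : Subgroup G) (v x j : G) : Prop where
  prime : p.Prime
  odd : Odd p
  pgrp : IsPGroup p R
  le : R₀ ≤ R
  ltT : T ≤ R₀
  idx : R₀.relIndex R = p
  cyc : IsCyclic T
  norm₀ : ∀ g ∈ R, ∀ h ∈ R₀, g * h * g⁻¹ ∈ R₀
  normT : ∀ g ∈ R₀, ∀ τ ∈ T, g * τ * g⁻¹ ∈ T
  commT : ∀ g ∈ R₀, ∀ h ∈ R₀, g * h * g⁻¹ * h⁻¹ ∈ T
  vR : v ∈ R₀
  vp : v ^ p = 1
  vT : v ∉ T
  vcomm : ∀ τ ∈ T, v * τ = τ * v
  omega : ∀ g ∈ R₀, g ^ p ∈ T → ∃ d : ℕ, (v ^ d)⁻¹ * g ∈ T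
  xR : x ∈ R
  xR₀ : x ∉ R₀
  xv : x * v * x⁻¹ * v⁻¹ ∈ T
  fixp : ∀ g ∈ R, ∀ τ ∈ T, τ ^ p = 1 → g * τ = τ * g
  jfix : ∀ g ∈ R₀, j * g * j⁻¹ * g⁻¹ ∈ T
  weight : ∃ μ Λ : ℕ, 1 ≤ μ ∧ ¬ (μ : ℤ) ≡ 1 [ZMOD p] ∧ ¬ ((μ * Λ : ℕ) : ℤ) ≡ 1 [ZMOD p] ∧
    (∃ r ∈ R₀, j * x * j⁻¹ = r * x ^ μ) ∧ ∀ τ ∈ T, j * τ * j⁻¹ = τ ^ Λ

namespace Core

variable {p : ℕ} {R R₀ T : Subgroup G} {v x j : G}

/-- A geometric sum congruence. -/
theorem geom_cong {p : ℕ} (hodd : Odd p) {a : ℤ} (ha : a ≡ 1 [ZMOD p]) :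
    (p : ℤ) ^ 2 ∣ (∑ i ∈ Finset.range p, a ^ i) - p := by
  obtain ⟨b, hb⟩ := Int.modEq_iff_dvd.mp ha.symm
  have key : ∀ n : ℕ, ((p : ℤ) ^ 2 ∣ (∑ i ∈ Finset.range n, a ^ i) - (n + p * b * (n.choose 2 : ℕ))) ∧
      ((p : ℤ) ^ 2 ∣ a ^ n - (1 + p * b * n)) := by
    intro n
    induction n with
    | zero => simp
    | succ n ih =>
      obtain ⟨⟨u, hu⟩, ⟨w, hw⟩⟩ := ih
      have ea : a = 1 + p * b := by linarith
      refine ⟨?_, ⟨w * a + b * b * n, ?_⟩⟩
      · rw [Finset.sum_range_succ, Nat.choose_succ_succ, Nat.choose_one_right]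
        exact ⟨u + w, by push_cast; linear_combination hu + hw⟩
      · rw [pow_succ]
        push_cast
        linear_combination a * hw + (1 + (p : ℤ) * b * n) * ea
  obtain ⟨k, hk⟩ := hodd
  have hc : p.choose 2 = p * k := by
    rw [Nat.choose_two_right, hk, Nat.add_sub_cancel,
      show (2 * k + 1) * (2 * k) = (2 * k + 1) * k * 2 by ring, Nat.mul_div_cancel _ two_pos]
  obtain ⟨w, hw⟩ := (key p).1
  rw [hc] at hw
  push_cast at hw
  exact ⟨w + b * k, by linear_combination hw⟩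

/-- A congruence used for counting. -/
theorem not_sq_dvd_geom {p : ℕ} (hp : p.Prime) (hodd : Odd p) {a : ℤ} (ha : a ≡ 1 [ZMOD p]) :
    ¬ ((p : ℤ) ^ 2 ∣ ∑ i ∈ Finset.range p, a ^ i) := by
  intro hd
  have h2 : (p : ℤ) ^ 2 ∣ (p : ℤ) := by
    have := dvd_sub hd (geom_cong hodd ha)
    rwa [sub_sub_cancel] at this
  have h3 : (p ^ 2 : ℕ) ∣ p := by exact_mod_cast h2
  have := Nat.le_of_dvd hp.pos h3
  nlinarith [hp.two_le]

variable (C : Core G p R R₀ T v x j)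
include C

theorem pow_v_mem {n : ℤ} (h : v ^ n ∈ T) : (p : ℤ) ∣ n := by
  by_contra hn
  have hc : IsCoprime (p : ℤ) n := (Nat.prime_iff_prime_int.mp C.prime).coprime_iff_not_dvd.mpr hn
  obtain ⟨a, b, hab⟩ := hc
  refine C.vT ?_
  have : v = (v ^ n) ^ b := by
    conv_lhs => rw [← zpow_one v, ← hab, zpow_add, mul_comm a (p : ℤ), zpow_mul, zpow_natCast, C.vp, one_zpow,
      one_mul, mul_comm b n, zpow_mul]
  exact this ▸ zpow_mem h b

theorem T_le : T ≤ R := C.ltT.trans C.le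

/-- Congruence modulo `T` on `R₀`. -/
theorem conj_cong {r g : G} {d : ℕ} (hr : r ∈ R₀) (hg : (v ^ d)⁻¹ * g ∈ T) :
    (v ^ d)⁻¹ * (r * g * r⁻¹) ∈ T := by
  have hgR : g ∈ R₀ := by
    have := mul_mem (pow_mem C.vR d) (C.ltT hg)
    rwa [mul_inv_cancel_left] at this
  have e : (v ^ d)⁻¹ * (r * g * r⁻¹) = (v ^ d)⁻¹ * (r * g * r⁻¹ * g⁻¹) * v ^ d * ((v ^ d)⁻¹ * g) := by group
  rw [e]
  refine mul_mem ?_ hg
  have := C.normT _ (inv_mem (pow_mem C.vR d)) _ (C.commT r hr g hgR)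
  rwa [inv_inv] at this

theorem x_pow_fix {τ : G} (hτ : τ ∈ T) (h : τ ^ p = 1) (n : ℕ) : x ^ n * τ * (x ^ n)⁻¹ = τ := by
  rw [C.fixp _ (pow_mem C.xR n) τ hτ h, mul_inv_cancel_right]

/-- `x` normalises `T`. -/
theorem x_normT : ∀ τ ∈ T, x * τ * x⁻¹ ∈ T := by
  haveI : Fact p.Prime := ⟨C.prime⟩
  suffices H : ∀ k : ℕ, ∀ τ ∈ T, τ ^ p ^ k = 1 → x * τ * x⁻¹ ∈ T by
    intro τ hτ
    obtain ⟨k, hk⟩ := C.pgrp ⟨τ, C.T_le hτ⟩
    exact H k τ hτ (congrArg Subtype.val hk)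
  intro k
  induction k with
  | zero =>
    intro τ hτ h
    rw [pow_zero, pow_one] at h
    simp [h]
  | succ k ih =>
    intro τ hτ h
    by_cases hk0 : k = 0
    · subst hk0
      rw [zero_add, pow_one] at h
      rw [C.fixp x C.xR τ hτ h, mul_inv_cancel_right]
      exact hτ
    -- the image modulo `T`
    have hgR : x * τ * x⁻¹ ∈ R₀ := C.norm₀ x C.xR τ (C.ltT hτ)
    have hσ : x * τ ^ p * x⁻¹ ∈ T := ih _ (pow_mem hτ p) (by rw [← pow_mul, ← pow_succ']; exact h)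
    obtain ⟨d, hd⟩ := C.omega _ hgR (by rwa [conj_pow])
    -- linearity in the power of `x`
    have hlin : ∀ n : ℕ, (v ^ (n * d))⁻¹ * (x ^ n * τ * (x ^ n)⁻¹) ∈ T := by
      intro n
      induction n with
      | zero => simpa using hτ
      | succ n ihn =>
        set τn := (v ^ (n * d))⁻¹ * (x ^ n * τ * (x ^ n)⁻¹) with hτn
        have hdiff : x * (τn * τ⁻¹) * x⁻¹ ∈ T := by
          refine ih _ (mul_mem ihn (inv_mem hτ)) ?_
          have hcomm : Commute τn τ⁻¹ := by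
            have := C.cyc
            exact congrArg Subtype.val
              (IsCyclic.commGroup.mul_comm (⟨τn, ihn⟩ : T) ⟨τ⁻¹, inv_mem hτ⟩)
          have hcv : Commute (v ^ (n * d)) τn := Commute.pow_left (C.vcomm τn ihn) _
          have e1 : x ^ n * τ * (x ^ n)⁻¹ = v ^ (n * d) * τn := by rw [hτn, mul_inv_cancel_left]
          have hτk : (τ ^ p ^ k) ^ p = 1 := by rw [← pow_mul, ← pow_succ]; exact h
          have e2 : τn ^ p ^ k = τ ^ p ^ k := by
            have e3 := congrArg (· ^ p ^ k) e1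
            simp only [conj_pow, hcv.mul_pow] at e3
            obtain ⟨k', rfl⟩ := Nat.exists_eq_succ_of_ne_zero hk0
            rw [← pow_mul v, show n * d * p ^ (k' + 1) = p * (n * d * p ^ k') by ring, pow_mul v, C.vp, one_pow,
              one_mul, C.x_pow_fix (pow_mem hτ _) hτk n] at e3
            exact e3.symm
          rw [hcomm.mul_pow, e2, inv_pow, mul_inv_cancel]
        have e : x ^ (n + 1) * τ * (x ^ (n + 1))⁻¹ =
            (x * v * x⁻¹) ^ (n * d) * (x * (τn * τ⁻¹) * x⁻¹) * (x * τ * x⁻¹) := by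
          rw [conj_pow, hτn, pow_succ']
          group
        have hv' : (v ^ (n * d))⁻¹ * (x * v * x⁻¹) ^ (n * d) ∈ T := by
          have e4 : x * v * x⁻¹ = (x * v * x⁻¹ * v⁻¹) * v := by group
          rw [e4, (show Commute (x * v * x⁻¹ * v⁻¹) v from
            (C.vcomm _ C.xv).symm).mul_pow, (show Commute ((x * v * x⁻¹ * v⁻¹) ^ (n * d)) (v ^ (n * d)) from
            (show Commute (x * v * x⁻¹ * v⁻¹) v from (C.vcomm _ C.xv).symm).pow_pow _ _).eq, inv_mul_cancel_left]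
          exact pow_mem C.xv _
        rw [e]
        set A := x * (τn * τ⁻¹) * x⁻¹
        have hA : A * v ^ d = v ^ d * A :=
          (Commute.pow_left (C.vcomm A hdiff) d).eq.symm
        rw [show (v ^ ((n + 1) * d))⁻¹ * ((x * v * x⁻¹) ^ (n * d) * A * (x * τ * x⁻¹)) =
          (v ^ d)⁻¹ * ((v ^ (n * d))⁻¹ * (x * v * x⁻¹) ^ (n * d)) * (A * v ^ d) * ((v ^ d)⁻¹ * (x * τ * x⁻¹)) by
            rw [add_mul, one_mul, pow_add]; group, hA]
        refine mul_mem ?_ hd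
        rw [show (v ^ d)⁻¹ * ((v ^ (n * d))⁻¹ * (x * v * x⁻¹) ^ (n * d)) * (v ^ d * A) =
          (v ^ d)⁻¹ * ((v ^ (n * d))⁻¹ * (x * v * x⁻¹) ^ (n * d)) * v ^ d * A by group]
        have := C.normT _ (inv_mem (pow_mem C.vR d)) _ hv'
        rw [inv_inv] at this
        exact mul_mem this hdiff
    obtain ⟨μ, Λ, -, -, hμΛ, ⟨r, hr, hjx⟩, hΛ⟩ := C.weight
    have h2 : (v ^ d)⁻¹ * (j * (x * τ * x⁻¹) * j⁻¹) ∈ T := by
      have h3 := C.normT _ (inv_mem (pow_mem C.vR d)) _ (C.jfix _ hgR)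
      rw [inv_inv] at h3
      have := mul_mem h3 hd
      rwa [show (v ^ d)⁻¹ * (j * (x * τ * x⁻¹) * j⁻¹ * (x * τ * x⁻¹)⁻¹) * v ^ d * ((v ^ d)⁻¹ * (x * τ * x⁻¹)) =
        (v ^ d)⁻¹ * (j * (x * τ * x⁻¹) * j⁻¹) by group] at this
    have h4 : (v ^ (μ * d * Λ))⁻¹ * (j * (x * τ * x⁻¹) * j⁻¹) ∈ T := by
      set z := (v ^ (μ * d))⁻¹ * (x ^ μ * τ * (x ^ μ)⁻¹) with hz
      have hcz : Commute (v ^ (μ * d)) z := Commute.pow_left (C.vcomm z (hlin μ)) _
      have e : j * (x * τ * x⁻¹) * j⁻¹ = r * (v ^ (μ * d) * z) ^ Λ * r⁻¹ := by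
        rw [hz, mul_inv_cancel_left, conj_pow, ← hΛ τ hτ,
          show j * (x * τ * x⁻¹) * j⁻¹ = j * x * j⁻¹ * (j * τ * j⁻¹) * (j * x * j⁻¹)⁻¹ by group, hjx]
        group
      rw [e, hcz.mul_pow, ← pow_mul]
      refine C.conj_cong hr ?_
      rw [inv_mul_cancel_left]
      exact pow_mem (hlin μ) Λ
    have h5 : v ^ ((d : ℤ) - (μ * d * Λ : ℕ)) ∈ T := by
      have hcv : v ^ ((d : ℤ) - (μ * d * Λ : ℕ)) = (v ^ (μ * d * Λ))⁻¹ * v ^ d := by
        rw [zpow_sub, zpow_natCast, zpow_natCast]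
        exact ((Commute.refl v).pow_pow d (μ * d * Λ)).inv_right.eq
      rw [hcv]
      have := mul_mem h4 (inv_mem h2)
      rwa [show (v ^ (μ * d * Λ))⁻¹ * (j * (x * τ * x⁻¹) * j⁻¹) * ((v ^ d)⁻¹ * (j * (x * τ * x⁻¹) * j⁻¹))⁻¹ =
        (v ^ (μ * d * Λ))⁻¹ * v ^ d by group] at this
    have h6 := C.pow_v_mem h5
    rw [show (d : ℤ) - (μ * d * Λ : ℕ) = (d : ℤ) * (1 - (μ * Λ : ℕ)) by push_cast; ring] at h6
    rcases (Nat.prime_iff_prime_int.mp C.prime).dvd_mul.mp h6 with h7 | h7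
    · obtain ⟨e, rfl⟩ : p ∣ d := by exact_mod_cast h7
      rwa [pow_mul, C.vp, one_pow, inv_one, one_mul] at hd
    · exact absurd (Int.modEq_iff_dvd.mpr h7) hμΛ

theorem exists_factor : ∀ g ∈ R, ∃ h ∈ R₀, ∃ n : ℤ, g = h * x ^ n := by
  have hidx : (R₀.subgroupOf R).index = p := C.idx
  haveI : (R₀.subgroupOf R).Normal := ⟨fun h hh g => C.norm₀ g g.2 h hh⟩
  haveI : Fact p.Prime := ⟨C.prime⟩
  have hc : Nat.card (R ⧸ R₀.subgroupOf R) = p := hidx
  intro g hg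
  have hne : (QuotientGroup.mk ⟨x, C.xR⟩ : R ⧸ R₀.subgroupOf R) ≠ 1 := fun e =>
    C.xR₀ ((QuotientGroup.eq_one_iff (⟨x, C.xR⟩ : R)).mp e)
  obtain ⟨n, hn⟩ := Subgroup.mem_zpowers_iff.mp
    ((zpowers_eq_top_of_prime_card hc hne).ge (Subgroup.mem_top (QuotientGroup.mk ⟨g, hg⟩ : R ⧸ R₀.subgroupOf R)))
  refine ⟨g * (x ^ n)⁻¹, ?_, n, by group⟩
  have h1 : ((⟨g, hg⟩ : R) * ((⟨x, C.xR⟩ : R) ^ n)⁻¹) ∈ R₀.subgroupOf R := (QuotientGroup.eq_one_iff _).mp (by
    rw [QuotientGroup.mk_mul, QuotientGroup.mk_inv, QuotientGroup.mk_zpow, hn, mul_inv_cancel])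
  exact h1

theorem R_le_normalizer : R ≤ Subgroup.normalizer (T : Set G) := by
  intro g hg
  obtain ⟨h, hh, n, rfl⟩ := C.exists_factor g hg
  refine mul_mem ?_ (zpow_mem ?_ n)
  · refine Subgroup.mem_normalizer_iff.mpr fun τ => ⟨C.normT h hh τ, fun hτ => ?_⟩
    have := C.normT _ (inv_mem hh) _ hτ
    rwa [show h⁻¹ * (h * τ * h⁻¹) * h⁻¹⁻¹ = τ by group] at this
  · exact Subgroup.mem_normalizer_iff_map_conj_eq.mpr (Subgroup.eq_of_le_of_card_ge
      (fun y hy => by obtain ⟨τ, hτ, rfl⟩ := hy; exact C.x_normT τ hτ)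
      (Subgroup.card_map_of_injective (MulAut.conj x).injective).ge)

/-- `R / T` is abelian. -/
theorem comm_mem : ∀ g ∈ R, ∀ h ∈ R, g * h * g⁻¹ * h⁻¹ ∈ T := by
  haveI hn : (T.subgroupOf (Subgroup.normalizer (T : Set G))).Normal := Subgroup.normal_in_normalizer
  set N := Subgroup.normalizer (T : Set G) with hN
  set f := QuotientGroup.mk' (T.subgroupOf N)
  have hRN := C.R_le_normalizer
  let el : ∀ g ∈ R, N := fun g hg => ⟨g, hRN hg⟩
  have hk : ∀ a b : N, Commute (f a) (f b) ↔ (a : G) * b * (a : G)⁻¹ * (b : G)⁻¹ ∈ T := fun a b => by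
    rw [show (a : G) * b * (a : G)⁻¹ * (b : G)⁻¹ = ((a * b * a⁻¹ * b⁻¹ : N) : G) by push_cast; rfl]
    rw [← Subgroup.mem_subgroupOf (K := N), ← QuotientGroup.eq_one_iff]
    show _ ↔ f (a * b * a⁻¹ * b⁻¹) = 1
    rw [map_mul, map_mul, map_mul, map_inv, map_inv, mul_inv_eq_one, mul_inv_eq_iff_eq_mul]
    exact Iff.rfl
  have hx : ∀ π (hπ : π ∈ R₀), Commute (f (el x C.xR)) (f (el π (C.le hπ))) := by
    intro π hπ
    obtain ⟨μ, Λ, hμ1, hμ, -, ⟨r, hr, hjx⟩, -⟩ := C.weight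
    set X := f (el x C.xR)
    set P := f (el π (C.le hπ))
    have hxπ := C.norm₀ x C.xR π hπ
    have hr' : ∀ q (hq : q ∈ R₀), Commute (f (el r (C.le hr))) (f (el q (C.le hq))) := fun q hq =>
      (hk _ _).mpr (C.commT r hr q hq)
    have key : X ^ μ * P * (X ^ μ)⁻¹ = X * P * X⁻¹ := by
      have hy := C.jfix π hπ
      have hz := C.jfix _ hxπ
      set y := j * π * j⁻¹ with hydef
      have hyR : y ∈ R₀ := by
        have := mul_mem (C.ltT hy) hπ
        rwa [inv_mul_cancel_right] at this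
      have ey : f (el y (C.le hyR)) = P := by
        rw [← mul_inv_eq_one, ← map_inv, ← map_mul]
        exact (QuotientGroup.eq_one_iff _).mpr hy
      set w := x ^ μ * y * (x ^ μ)⁻¹ with hwdef
      have hw : w ∈ R₀ := C.norm₀ _ (pow_mem C.xR μ) y hyR
      have e0 : j * (x * π * x⁻¹) * j⁻¹ = r * w * r⁻¹ := by
        rw [show j * (x * π * x⁻¹) * j⁻¹ = j * x * j⁻¹ * (j * π * j⁻¹) * (j * x * j⁻¹)⁻¹ by group, hjx, ← hydef,
          hwdef]
        group
      rw [e0] at hz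
      have e1 : f (el r (C.le hr)) * f (el w (C.le hw)) * (f (el r (C.le hr)))⁻¹ = X * P * X⁻¹ := by
        rw [← mul_inv_eq_one]
        simp only [X, P, ← map_mul, ← map_inv]
        exact (QuotientGroup.eq_one_iff _).mpr hz
      rw [(hr' w hw).eq, mul_inv_cancel_right] at e1
      rw [← e1, ← ey]
      simp only [X, ← map_pow, ← map_mul, ← map_inv]
      rfl
    have h1 : Commute (X ^ (μ - 1)) P := by
      show _ = _
      refine mul_inv_eq_iff_eq_mul.mp ?_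
      obtain ⟨m, rfl⟩ : ∃ m, μ = m + 1 := ⟨μ - 1, by omega⟩
      rw [Nat.add_sub_cancel]
      rw [pow_succ'] at key
      calc X ^ m * P * (X ^ m)⁻¹ = X⁻¹ * (X * X ^ m * P * (X * X ^ m)⁻¹) * X := by group
        _ = P := by rw [key]; group
    have h2 : Commute (X ^ p) P := by
      have hxp : x ^ p ∈ R₀ := by
        haveI : (R₀.subgroupOf R).Normal := ⟨fun h hh g => C.norm₀ g g.2 h hh⟩
        have := Subgroup.pow_index_mem (R₀.subgroupOf R) ⟨x, C.xR⟩
        rwa [show (R₀.subgroupOf R).index = p from C.idx] at this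
      have := (hk (el (x ^ p) (C.le hxp)) (el π (C.le hπ))).mpr (C.commT _ hxp π hπ)
      simp only [X, ← map_pow]
      exact this
    have hcop : Nat.Coprime (μ - 1) p := by
      refine (C.prime.coprime_iff_not_dvd.mpr fun h => hμ ?_).symm
      refine (Int.modEq_iff_dvd.mpr ?_).symm
      have h' : (p : ℤ) ∣ ((μ - 1 : ℕ) : ℤ) := by exact_mod_cast h
      rwa [Nat.cast_sub hμ1, Nat.cast_one] at h'
    have := Nat.gcd_eq_gcd_ab (μ - 1) p
    rw [hcop, Nat.cast_one] at this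
    rw [← zpow_one X, this, zpow_add, zpow_mul, zpow_mul, zpow_natCast, zpow_natCast]
    exact (h1.zpow_left _).mul_left (h2.zpow_left _)
  have hall : ∀ g (hg : g ∈ R) h (hh : h ∈ R), Commute (f (el g hg)) (f (el h hh)) := by
    intro g hg h hh
    obtain ⟨g₀, hg₀, n, rfl⟩ := C.exists_factor g hg
    obtain ⟨h₀, hh₀, m, rfl⟩ := C.exists_factor h hh
    have e : ∀ q (hq : q ∈ R₀) (k : ℤ) (hqk : q * x ^ k ∈ R),
        f (el (q * x ^ k) hqk) = f (el q (C.le hq)) * f (el x C.xR) ^ k := fun q hq k hqk => by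
      rw [← map_zpow, ← map_mul]; rfl
    rw [e g₀ hg₀ n hg, e h₀ hh₀ m hh]
    exact ((show Commute _ _ from (hk _ _).mpr (C.commT g₀ hg₀ h₀ hh₀)).mul_right
      ((hx g₀ hg₀).symm.zpow_right m)).mul_left
      (((hx h₀ hh₀).zpow_left n).mul_right ((Commute.refl _).zpow_zpow n m))
  exact fun g hg h hh => (hk (el g hg) (el h hh)).mp (hall g hg h hh)

/-- In a fibre over `R / T` the solutions of `g ^ p = 1` differ by solutions. -/
theorem fib : ∀ g τ : G, g ∈ R → τ ∈ T → g ^ p = 1 → (g * τ) ^ p = 1 → τ ^ p = 1 := by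
  haveI : Fact p.Prime := ⟨C.prime⟩
  intro g τ hg hτ hgp hgτ
  have := C.cyc
  obtain ⟨γ, hγ⟩ := IsCyclic.exists_generator (α := T)
  have hinj : (γ : G) * g = g * γ → ∀ σ ∈ T, Commute σ g := fun h σ hσ => by
    obtain ⟨n, hn⟩ := Subgroup.mem_zpowers_iff.mp (hγ ⟨σ, hσ⟩)
    have : (γ : G) ^ n = σ := by rw [← Subgroup.coe_zpow, hn]
    exact this ▸ Commute.zpow_left h n
  obtain ⟨a, ha⟩ : ∃ a : ℤ, g⁻¹ * (γ : G) * g = (γ : G) ^ a := by
    have hm : g⁻¹ * (γ : G) * g ∈ T := (Subgroup.mem_normalizer_iff''.mp (C.R_le_normalizer hg) _).mp γ.2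
    obtain ⟨n, hn⟩ := Subgroup.mem_zpowers_iff.mp (hγ ⟨_, hm⟩)
    exact ⟨n, by rw [← Subgroup.coe_zpow, hn]⟩
  have hconj : ∀ σ ∈ T, g⁻¹ * σ * g = σ ^ a := by
    intro σ hσ
    obtain ⟨n, hn⟩ := Subgroup.mem_zpowers_iff.mp (hγ ⟨σ, hσ⟩)
    have e : σ = (γ : G) ^ n := by rw [← Subgroup.coe_zpow, hn]
    rw [e, show g⁻¹ * (γ : G) ^ n * g = g⁻¹ * (γ : G) ^ n * g⁻¹⁻¹ by group, ← conj_zpow, inv_inv, ha,
      ← zpow_mul, ← zpow_mul, mul_comm]
  by_cases hτ1 : τ = 1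
  · simp [hτ1]
  obtain ⟨k, hk⟩ := C.pgrp ⟨τ, C.T_le hτ⟩
  have hk' : τ ^ p ^ k = 1 := congrArg Subtype.val hk
  obtain ⟨e, -, he⟩ := (Nat.dvd_prime_pow C.prime).mp (orderOf_dvd_of_pow_eq_one hk')
  obtain ⟨e', rfl⟩ : ∃ e', e = e' + 1 := by
    refine Nat.exists_eq_succ_of_ne_zero fun h => hτ1 ?_
    rw [← orderOf_eq_one_iff, he, h, pow_zero]
  have ha1 : a ≡ 1 [ZMOD p] := by
    set σ := τ ^ p ^ e' with hσdef
    have hσp : σ ^ p = 1 := by rw [hσdef, ← pow_mul, ← pow_succ, ← he, pow_orderOf_eq_one]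
    have hσ1 : orderOf σ = p := orderOf_eq_prime hσp (by
      intro h
      have := orderOf_dvd_of_pow_eq_one h
      rw [he] at this
      have := (Nat.pow_dvd_pow_iff_le_right C.prime.one_lt).mp this
      omega)
    have h1 : σ ^ a = σ ^ (1 : ℤ) := by
      rw [zpow_one, ← hconj σ (pow_mem hτ _), mul_assoc, ← C.fixp g hg σ (pow_mem hτ _) hσp,
        inv_mul_cancel_left]
    rw [zpow_eq_zpow_iff_modEq, hσ1] at h1
    exact h1
  have hexp : ∀ n : ℕ, (g * τ) ^ n = g ^ n * τ ^ (∑ i ∈ Finset.range n, a ^ i) := by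
    intro n
    induction n with
    | zero => simp
    | succ n ih =>
      set S := ∑ i ∈ Finset.range n, a ^ i
      have e1 : τ ^ S * g = g * τ ^ (a * S) := by
        rw [mul_comm a S, zpow_mul, ← hconj _ (zpow_mem hτ _)]
        group
      rw [pow_succ, ih, pow_succ g n, Finset.sum_range_succ' (fun i => a ^ i) n, pow_zero, zpow_add, zpow_one,
        Finset.sum_congr rfl (fun i _ => pow_succ' a i), ← Finset.mul_sum,
        show g ^ n * τ ^ S * (g * τ) = g ^ n * (τ ^ S * g) * τ by group, e1]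
      simp only [S]
      group
  have h2 := hexp p
  rw [hgτ, hgp, one_mul, eq_comm, ← orderOf_dvd_iff_zpow_eq_one, he] at h2
  rcases Nat.eq_zero_or_pos e' with rfl | hpos
  · rw [← pow_one p, ← zero_add 1, ← he, pow_orderOf_eq_one]
  · refine absurd (Dvd.dvd.trans ?_ h2) (not_sq_dvd_geom C.prime C.odd ha1)
    exact_mod_cast pow_dvd_pow p (by omega : 2 ≤ e' + 1)

/-- At most `p ^ 3` solutions of `g ^ p = 1`. -/
theorem card_omega : Nat.card {g : G // g ∈ R ∧ g ^ p = 1} ≤ p ^ 3 := by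
  classical
  haveI : Fact p.Prime := ⟨C.prime⟩
  haveI hTn : (T.subgroupOf R).Normal :=
    ⟨fun τ hτ g => (Subgroup.mem_normalizer_iff.mp (C.R_le_normalizer g.2) τ).mp hτ⟩
  haveI : (R₀.subgroupOf R).Normal := ⟨fun h hh g => C.norm₀ g g.2 h hh⟩
  let cg : CommGroup (R ⧸ T.subgroupOf R) :=
    { (inferInstance : Group (R ⧸ T.subgroupOf R)) with
      mul_comm := fun a b => by
        induction a using QuotientGroup.induction_on with
        | H a =>
          induction b using QuotientGroup.induction_on with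
          | H b =>
            rw [← mul_inv_eq_one, mul_inv_rev, ← mul_assoc, ← QuotientGroup.mk_mul, ← QuotientGroup.mk_inv,
              ← QuotientGroup.mk_inv, ← QuotientGroup.mk_mul, ← QuotientGroup.mk_mul, QuotientGroup.eq_one_iff]
            exact C.comm_mem a a.2 b b.2 }
  letI := cg
  -- the elements killed by `p` modulo `T`
  set K : Subgroup (R ⧸ T.subgroupOf R) := (powMonoidHom p).ker
  have hK : Nat.card K ≤ p ^ 2 := by
    let ψ : R ⧸ T.subgroupOf R →* R ⧸ R₀.subgroupOf R :=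
      QuotientGroup.map _ _ (MonoidHom.id R) fun τ hτ => C.ltT hτ
    set L : Subgroup K := (ψ.comp K.subtype).ker
    have h1 : L.index ≤ p := by
      rw [Subgroup.index_ker]
      refine (Nat.card_le_card_of_injective _ Subtype.val_injective).trans (le_of_eq ?_)
      exact C.idx
    have h2 : Nat.card L ≤ p := by
      let g : Fin p → R ⧸ T.subgroupOf R := fun d => QuotientGroup.mk ⟨v ^ (d : ℕ), C.le (pow_mem C.vR _)⟩
      have hL : ∀ l : L, ((l : K) : R ⧸ T.subgroupOf R) ∈ Set.range g := by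
        rintro ⟨⟨q, hq⟩, hl⟩
        obtain ⟨a, rfl⟩ := QuotientGroup.mk_surjective q
        have ha : (a : G) ∈ R₀ := (QuotientGroup.eq_one_iff a).mp hl
        have hap : (a : G) ^ p ∈ T := by
          have : QuotientGroup.mk (s := T.subgroupOf R) (a ^ p) = 1 := hq
          exact (QuotientGroup.eq_one_iff (a ^ p)).mp this
        obtain ⟨d, hd⟩ := C.omega _ ha hap
        refine ⟨⟨d % p, Nat.mod_lt _ C.prime.pos⟩, QuotientGroup.eq.mpr ?_⟩
        show (v ^ (d % p))⁻¹ * (a : G) ∈ T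
        rwa [← pow_eq_pow_mod d C.vp]
      refine (Nat.card_le_card_of_injective (fun l : L => (⟨_, hL l⟩ : Set.range g)) ?_).trans ?_
      · intro l l' e
        exact Subtype.ext (Subtype.ext (congrArg Subtype.val e : _))
      · exact (Nat.card_le_card_of_surjective (Set.rangeFactorization g) Set.rangeFactorization_surjective).trans
          (le_of_eq (Nat.card_fin p))
    have := L.card_mul_index
    calc Nat.card K = Nat.card L * L.index := this.symm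
      _ ≤ p * p := Nat.mul_le_mul h2 h1
      _ = p ^ 2 := (sq p).symm
  -- the fibres
  have hfib := C.fib
  have hTp : Nat.card {τ : T // τ ^ p = 1} ≤ p := by
    have := C.cyc
    letI := Fintype.ofFinite T
    rw [Nat.card_eq_fintype_card, Fintype.card_subtype]
    exact IsCyclic.card_pow_eq_one_le C.prime.pos
  let φ : {g : G // g ∈ R ∧ g ^ p = 1} → K := fun g => ⟨QuotientGroup.mk ⟨g, g.2.1⟩, by
    show QuotientGroup.mk (s := T.subgroupOf R) ((⟨g, g.2.1⟩ : R) ^ p) = 1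
    rw [show (⟨g, g.2.1⟩ : R) ^ p = 1 from Subtype.ext g.2.2]
    rfl⟩
  let out : ∀ q ∈ Set.range φ, {g : G // g ∈ R ∧ g ^ p = 1} := fun q hq => hq.choose
  have hout : ∀ q hq, φ (out q hq) = q := fun q hq => hq.choose_spec
  let Φ : {g : G // g ∈ R ∧ g ^ p = 1} → K × {τ : T // τ ^ p = 1} := fun g =>
    (φ g, ⟨⟨(out (φ g) ⟨g, rfl⟩ : G)⁻¹ * g, by
      have h := congrArg Subtype.val (hout (φ g) ⟨g, rfl⟩)
      exact (QuotientGroup.eq.mp h : _)⟩, by
      refine Subtype.ext ?_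
      set g₁ := out (φ g) ⟨g, rfl⟩
      have hm : (g₁ : G)⁻¹ * g ∈ T := (QuotientGroup.eq.mp (congrArg Subtype.val (hout (φ g) ⟨g, rfl⟩)) : _)
      exact hfib g₁ _ g₁.2.1 hm g₁.2.2 (by rw [mul_inv_cancel_left]; exact g.2.2)⟩)
  have hΦ : Function.Injective Φ := by
    intro g g' h
    have h1 : φ g = φ g' := congrArg Prod.fst h
    have h2 := congrArg (fun z : K × {τ : T // τ ^ p = 1} => ((z.2 : T) : G)) h
    simp only [Φ] at h2
    have e : out (φ g) ⟨g, rfl⟩ = out (φ g') ⟨g', rfl⟩ := by simp only [h1]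
    rw [e] at h2
    exact Subtype.ext (mul_left_cancel h2)
  calc Nat.card {g : G // g ∈ R ∧ g ^ p = 1} ≤ Nat.card (K × {τ : T // τ ^ p = 1}) :=
        Nat.card_le_card_of_injective Φ hΦ
    _ = Nat.card K * Nat.card {τ : T // τ ^ p = 1} := Nat.card_prod _ _
    _ ≤ p ^ 2 * p := Nat.mul_le_mul hK hTp
    _ = p ^ 3 := by ring

/-- The solutions of `g ^ p = 1` form a subgroup. -/
theorem mul_pow_one {g h : G} (hg : g ∈ R) (hh : h ∈ R) (hgp : g ^ p = 1) (hhp : h ^ p = 1) :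
    (g * h) ^ p = 1 := by
  set τ := g⁻¹ * h * g * h⁻¹ with hτdef
  have hτ : τ ∈ T := by
    have := C.comm_mem g⁻¹ (inv_mem hg) h hh
    rwa [inv_inv] at this
  -- `h g h⁻¹ = g τ`
  have e1 : h * g * h⁻¹ = g * τ := by rw [hτdef]; group
  have hτp : τ ^ p = 1 := C.fib g τ hg hτ hgp (by rw [← e1, conj_pow, hgp, mul_one, mul_inv_cancel])
  have cg : Commute g τ := C.fixp g hg τ hτ hτp
  have ch : Commute h τ := C.fixp h hh τ hτ hτp
  have e2 : ∀ n : ℕ, h ^ n * g = g * h ^ n * τ ^ n := by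
    intro n
    induction n with
    | zero => simp
    | succ n ih =>
      have e : h * g = g * h * τ := by
        rw [mul_assoc g h τ, ch.eq, ← mul_assoc, ← e1, inv_mul_cancel_right]
      calc h ^ (n + 1) * g = h * (h ^ n * g) := by rw [pow_succ', mul_assoc]
        _ = h * g * (h ^ n * τ ^ n) := by rw [ih]; simp only [mul_assoc]
        _ = g * h * (τ * h ^ n) * τ ^ n := by rw [e]; simp only [mul_assoc]
        _ = g * h * (h ^ n * τ) * τ ^ n := by rw [(ch.pow_left n).eq]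
        _ = g * (h * h ^ n) * (τ * τ ^ n) := by simp only [mul_assoc]
        _ = _ := by rw [← pow_succ', ← pow_succ']
  have e3 : ∀ n : ℕ, (g * h) ^ n = g ^ n * h ^ n * τ ^ (n.choose 2) := by
    intro n
    induction n with
    | zero => simp
    | succ n ih =>
      have hch : n.choose 2 + n = (n + 1).choose 2 := by
        rw [Nat.choose_succ_succ n 1, Nat.choose_one_right, add_comm]
      calc (g * h) ^ (n + 1) = g ^ n * h ^ n * (τ ^ n.choose 2 * (g * h)) := by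
            rw [pow_succ, ih, mul_assoc (g ^ n * h ^ n)]
        _ = g ^ n * h ^ n * (g * h * τ ^ n.choose 2) := by
            rw [((cg.pow_right (n.choose 2)).mul_left (ch.pow_right (n.choose 2))).eq]
        _ = g ^ n * (h ^ n * g) * h * τ ^ n.choose 2 := by simp only [mul_assoc]
        _ = g ^ n * g * h ^ n * (τ ^ n * h) * τ ^ n.choose 2 := by rw [e2]; simp only [mul_assoc]
        _ = g ^ n * g * h ^ n * (h * τ ^ n) * τ ^ n.choose 2 := by rw [(ch.pow_right n).eq]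
        _ = g ^ n * g * (h ^ n * h) * (τ ^ n * τ ^ n.choose 2) := by simp only [mul_assoc]
        _ = _ := by rw [← pow_succ g, ← pow_succ h, ← pow_add, add_comm n (n.choose 2), hch]
  obtain ⟨k, hk⟩ := C.odd
  have hc : p.choose 2 = p * k := by
    rw [Nat.choose_two_right, hk, Nat.add_sub_cancel,
      show (2 * k + 1) * (2 * k) = (2 * k + 1) * k * 2 by ring, Nat.mul_div_cancel _ two_pos]
  rw [e3, hgp, hhp, hc, pow_mul, hτp, one_pow, one_mul, one_mul]

end Core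

end CfsgLib.SuzukiRankOne
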