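import Cfsg.Agent.Lib.SuzukiRankOne.FixedSetup
import Cfsg.Agent.Lib.SuzukiRankOne.Galois
import Cfsg.Agent.Lib.SuzukiRankOne.TransferHom
import Cfsg.Agent.Lib.SuzukiRankOne.TransferCore
import Cfsg.Agent.Lib.Chev.Aut.FieldCyclic

/-!
An element of prime order in `C_D(t)`: its fixed points, and the transfer when `p` is prime to the degree.
-/

set_option autoImplicit false
set_option linter.unusedSectionVars false
set_option linter.style.haveILetI false

namespace CfsgLib.SuzukiRankOne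

open MulAction Cfsg CfsgLib.RankOne
open CfsgLib.AfterFT.SplitRankOne (invGroup conj_mem_invGroup)

universe u v

variable {G : Type u} {Ω : Type v} [Group G] [MulAction G Ω]

/-- The standing data of an element `v` of prime order `p` in `C_D(t)`. -/
structure Tr (a : Ω) (t : G) (Q : Subgroup G) (p q0 : ℕ) (v : G) : Prop where
  setup : IsRankOneSetup G Ω a t Q
  four : Four G
  two : IsPGroup 2 Q
  card : Nat.card Q = qZ G a ^ 2
  nr : ¬ Rsq a t Q
  prime : p.Prime
  odd : Odd p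
  cyc : IsCyclic (Vt a t)
  mem : v ∈ Vt a t
  pow : v ^ p = 1
  ne : v ≠ 1
  qpow : qZ G a = q0 ^ p
  qtwo : ∃ n, 1 ≤ n ∧ q0 = 2 ^ n
  fixQ : Nat.card ↥(cen v ⊓ Q) = q0 ^ 2
  fixE : Nat.card {x : G // x ∈ involutionsIn (stabilizer G a : Set G) ∧ x * v = v * x} + 1 = q0

variable [Finite G] [FaithfulSMul G Ω] {a : Ω} {t : G} {Q : Subgroup G}

/-- Members of `C_D(t)`. -/
theorem mem_Vt {w : G} : w ∈ Vt a t ↔ w ∈ D a t ∧ t * w = w * t := by
  rw [Subgroup.mem_inf, Subgroup.mem_centralizer_singleton_iff, eq_comm (a := w * t)]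

section Exists

variable (hS : IsRankOneSetup G Ω a t Q) (h2 : Four G)

include hS h2

/-- Every prime divisor of `|C_D(t)|` gives the data. -/
theorem exists_tr (hQ2 : IsPGroup 2 Q) (hq : Nat.card Q = qZ G a ^ 2) (hr : ¬ Rsq a t Q) (hW : NoW a t)
    {p : ℕ} (hp : p.Prime) (hpd : p ∣ Nat.card (Vt a t)) : ∃ (v : G) (q0 : ℕ), Tr a t Q p q0 v := by
  classical
  haveI := Fact.mk hp
  obtain ⟨⟨s, r⟩, ⟨hs, hr', he⟩, huniq⟩ := structure_eq hS
  have hrr : r * r ≠ 1 := by
    intro h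
    refine hr fun s' r' hs' hr'' he' => ?_
    have e := huniq (s', r') ⟨hs', hr'', he'⟩
    rw [show r' = r from congrArg Prod.snd e, h]
  obtain ⟨C, F, instF, finF, ι, κ, σ, hC, hcardF, hchar, hι, hιadd, hι1, hκ, hκι, hσι, hσker⟩ :=
    exists_galois hS h2 hs hr' he
  have hCmem : ∀ {k : G}, k ∈ C → k ∈ invertedBy (D a t) t := fun {k} hk => by rwa [← SetLike.mem_coe, hC] at hk
  -- the semilinear action is faithful
  have hσinj : Function.Injective σ := (injective_iff_map_eq_one σ).mpr fun w hw =>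
    Subtype.ext (hW _ (Subgroup.mem_inf.mp w.2).1 ((hσker w).mp hw))
  haveI : IsCyclic (RingAut F) := CfsgLib.Chev.ringAut_cyclic_finite F
  haveI hcyc : IsCyclic (Vt a t) :=
    isCyclic_of_injective (σ : Vt a t →* RingAut F) hσinj
  obtain ⟨w, hw⟩ := exists_prime_orderOf_dvd_card' (G := Vt a t) p hpd
  have hw1 : w ≠ 1 := fun e => hp.one_lt.ne (by rw [← hw, e, orderOf_one])
  have hwp : (w : G) ^ p = 1 := by
    rw [← SubgroupClass.coe_pow, ← hw, pow_orderOf_eq_one, OneMemClass.coe_one]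
  obtain ⟨hwD, hwt⟩ := mem_Vt.mp w.2
  have hws : s * (w : G) = w * s := cent_s_of_cent_t hS hs hr' he hwD hwt
  have hwr : r * (w : G) = w * r := r_comm hS hwD hwt hs hr' he
  have hodd : Odd p := hS.odd_card.of_dvd_nat (hpd.trans (Subgroup.card_dvd_of_le inf_le_left))
  set ψ : RingAut F := σ w with hψ
  set q0 := Nat.card {x : F // ψ x = x} with hq0
  -- the degree of the extension
  have hord : orderOf ψ = p := by rw [hψ, orderOf_injective σ hσinj, hw]
  have hqpow : qZ G a = q0 ^ p := by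
    haveI : Finite F := finF
    haveI : Finite (RingAut F) := Finite.of_injective (fun f => (f : F → F)) DFunLike.coe_injective
    letI : Fintype (Subgroup.zpowers ψ) := Fintype.ofFinite _
    haveI : FaithfulSMul (Subgroup.zpowers ψ) F :=
      ⟨fun {f g} h => Subtype.ext (RingEquiv.ext h)⟩
    have h1 : Module.finrank (FixedPoints.subfield (Subgroup.zpowers ψ) F) F = p := by
      rw [FixedPoints.finrank_eq_card, ← Nat.card_eq_fintype_card, Nat.card_zpowers, hord]
    have h2' : Nat.card (FixedPoints.subfield (Subgroup.zpowers ψ) F) = q0 := by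
      refine Nat.card_congr (Equiv.subtypeEquivRight fun x => ⟨fun h => h ⟨ψ, Subgroup.mem_zpowers ψ⟩, ?_⟩)
      intro h g
      have : g.1 ∈ stabilizer (RingAut F) x :=
        (Subgroup.zpowers_le (H := stabilizer (RingAut F) x)).mpr (mem_stabilizer_iff.mpr h) g.2
      exact mem_stabilizer_iff.mp this
    rw [← hcardF, Module.natCard_eq_pow_finrank (K := FixedPoints.subfield (Subgroup.zpowers ψ) F) (V := F), h1,
      h2']
  have hq02 : 2 ≤ q0 := by
    haveI : Finite F := finF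
    haveI : Nontrivial {x : F // ψ x = x} :=
      ⟨⟨⟨0, map_zero ψ⟩, ⟨1, map_one ψ⟩, fun e => zero_ne_one (congrArg Subtype.val e)⟩⟩
    exact Finite.one_lt_card
  have hqtwo : ∃ n, 1 ≤ n ∧ q0 = 2 ^ n := by
    haveI := hchar
    haveI : Finite F := finF
    letI : Fintype F := Fintype.ofFinite F
    obtain ⟨f, -, hf⟩ := FiniteField.card F 2
    rw [← Nat.card_eq_fintype_card, hcardF, hqpow] at hf
    obtain ⟨n, -, hn⟩ := (Nat.dvd_prime_pow Nat.prime_two).mp (hf ▸ dvd_pow_self q0 hp.ne_zero)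
    exact ⟨n, Nat.one_le_iff_ne_zero.mpr fun h => by rw [hn, h] at hq02; omega, hn⟩
  -- the bijection onto `Q`
  let E := invGroup hS h2
  have hEQ : ∀ z : E, (z : G) ∈ Q := fun z => invol_mem_Q hS (mem_stabilizer_iff.mp z.2.1) z.2.2
  have hEc : ∀ (z : E) {y : G}, y ∈ Q → (z : G) * y = y * z := by
    intro z y hy
    by_cases hz : (z : G) = 1
    · rw [hz, one_mul, mul_one]
    · exact invol_central hS h2 ⟨z.2.1, hz, z.2.2⟩ hy
  have hka : ∀ k : C, (k : G) • a = a := fun k => ((mem_D hS).mp (hCmem k.2).1).1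
  let Φ : Option C × E → Q := fun x =>
    ⟨x.1.elim 1 (fun k => (k : G) * r * (k : G)⁻¹) * x.2, mul_mem (by
      cases x.1 with
      | none => exact one_mem _
      | some k => exact conj_Q hS (hka k) hr') (hEQ x.2)⟩
  have hι0 : ι 1 = 0 := by
    have := hιadd 1 1
    rw [one_mul, left_eq_add] at this
    exact this
  have hrE : ∀ z : E, r ≠ z := fun z e => hrr (by rw [e]; exact z.2.2)
  -- no non-trivial element of `C` fixes the coset of `r`
  have hfree : ∀ (l : C) (z : E), (l : G) * r * (l : G)⁻¹ = r * z → l = 1 := by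
    intro l z hlz
    by_contra hl
    haveI := hchar
    have hl' : (κ l : F) + 1 ≠ 0 := fun e => hl (hκ.1 (by
      rw [map_one]
      refine Units.ext ?_
      rw [Units.val_one]
      exact CharTwo.add_eq_zero.mp e))
    obtain ⟨w', hw'⟩ := hι.2 (ι z * ((κ l : F) + 1)⁻¹)
    let lw : E := ⟨(l : G) * w' * (l : G)⁻¹, conj_mem_invGroup hS h2 (hCmem l.2).1 w'.2⟩
    have h1 : z * lw = w' := hι.1 (by
      rw [hιadd, hκι l w' lw rfl, hw']
      have h4 : ι z * ((κ l : F) + 1)⁻¹ * ((κ l : F) + 1) = ι z := by rw [mul_assoc, inv_mul_cancel₀ hl', mul_one]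
      linear_combination -h4 + (CharTwo.two_eq_zero (R := F)) * (ι z * ((κ l : F) + 1)⁻¹ * (κ l : F)))
    have h3 : r * (w' : G) = 1 := by
      refine inverted_cent_Q hS (hCmem l.2) (fun e => hl (Subtype.ext e)) (mul_mem hr' (hEQ w')) ?_
      refine mul_inv_eq_iff_eq_mul.mp ?_
      calc (l : G) * (r * w') * (l : G)⁻¹ = (l : G) * r * (l : G)⁻¹ * ((l : G) * w' * (l : G)⁻¹) := by group
        _ = r * ((z : G) * (lw : G)) := by rw [hlz, mul_assoc r]
        _ = r * (w' : G) := by rw [← Subgroup.coe_mul, h1]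
    exact hrE w'⁻¹ (by rw [Subgroup.coe_inv]; exact eq_inv_of_mul_eq_one_left h3)
  have hΦinj : Function.Injective Φ := by
    have mixed : ∀ (k : C) (z w' : E), (k : G) * r * (k : G)⁻¹ * z = w' → False := by
      intro k z w' h
      have h1 : (k : G) * r * (k : G)⁻¹ = ((w' * z⁻¹ : E) : G) := by
        rw [Subgroup.coe_mul, Subgroup.coe_inv, ← h, mul_inv_cancel_right]
      refine hrr ?_
      have h2' : (k : G) * r * (k : G)⁻¹ * ((k : G) * r * (k : G)⁻¹) = 1 := by rw [h1]; exact (w' * z⁻¹ : E).2.2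
      calc r * r = (k : G)⁻¹ * ((k : G) * r * (k : G)⁻¹ * ((k : G) * r * (k : G)⁻¹)) * k := by group
        _ = 1 := by rw [h2', mul_one, inv_mul_cancel]
    rintro ⟨o, z⟩ ⟨o', z'⟩ h
    have h' := congrArg Subtype.val h
    cases o with
    | none =>
      cases o' with
      | none =>
        simp only [Φ, Option.elim_none, one_mul] at h'
        rw [Subtype.ext h' (a2 := z')]
      | some k' =>
        simp only [Φ, Option.elim_none, Option.elim_some, one_mul] at h'
        exact (mixed k' z' z h'.symm).elim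
    | some k =>
      cases o' with
      | none =>
        simp only [Φ, Option.elim_none, Option.elim_some, one_mul] at h'
        exact (mixed k z z' h').elim
      | some k' =>
        simp only [Φ, Option.elim_some] at h'
        let e' : E := z' * z⁻¹
        let z'' : E := ⟨(k' : G)⁻¹ * e' * ((k' : G)⁻¹)⁻¹,
          conj_mem_invGroup hS h2 (inv_mem (hCmem k'.2).1) e'.2⟩
        have hkk : k'⁻¹ * k = 1 := hfree _ z'' (by
          simp only [z'', e', Subgroup.coe_mul, Subgroup.coe_inv]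
          calc (k' : G)⁻¹ * k * r * ((k' : G)⁻¹ * k)⁻¹
              = (k' : G)⁻¹ * ((k : G) * r * (k : G)⁻¹ * z * (z : G)⁻¹) * k' := by group
            _ = _ := by rw [h']; group)
        obtain rfl := (inv_mul_eq_one.mp hkk).symm
        rw [Subtype.ext (mul_left_cancel h') (a2 := z')]
  haveI : Finite (Option C × E) := Finite.of_injective Φ hΦinj
  have hE : Nat.card E = qZ G a := card_invGroup hS h2
  have hCcard : Nat.card C + 1 = qZ G a := by
    have h : Nat.card C = Nat.card (invertedBy (D a t) t) := Nat.card_congr (Equiv.setCongr hC)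
    rw [qZ, h, card_inverted hS]
  have hΦbij : Function.Bijective Φ := (Nat.bijective_iff_injective_and_card Φ).mpr ⟨hΦinj, by
    rw [Nat.card_prod, Finite.card_option, hCcard, hE, hq, pow_two]⟩
  -- the induced action of `w`
  let cC : C → C := fun k => ⟨(w : G) * k * (w : G)⁻¹, by
    rw [← SetLike.mem_coe, hC]
    refine ⟨mul_mem (mul_mem hwD (hCmem k.2).1) (inv_mem hwD), ?_⟩
    have e : t * (w : G) * t⁻¹ = w := by rw [hwt, mul_inv_cancel_right]
    calc t * ((w : G) * k * (w : G)⁻¹) * t⁻¹ = t * w * t⁻¹ * (t * k * t⁻¹) * (t * (w : G) * t⁻¹)⁻¹ := by group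
      _ = _ := by rw [e, (hCmem k.2).2]; group⟩
  let cE : E → E := fun z => ⟨(w : G) * z * (w : G)⁻¹, conj_mem_invGroup hS h2 hwD z.2⟩
  have hΦc : ∀ o z, (Φ (Option.map cC o, cE z) : G) = w * Φ (o, z) * (w : G)⁻¹ := by
    intro o z
    cases o with
    | none => simp only [Φ, cE, Option.map_none, Option.elim_none, one_mul]
    | some k =>
      simp only [Φ, cC, cE, Option.map_some, Option.elim_some]
      calc (w : G) * k * (w : G)⁻¹ * r * ((w : G) * k * (w : G)⁻¹)⁻¹ * ((w : G) * z * (w : G)⁻¹)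
          = (w : G) * k * ((w : G)⁻¹ * (r * w)) * (k : G)⁻¹ * z * (w : G)⁻¹ := by group
        _ = _ := by rw [hwr]; group
  let eC : Option C → F := fun o => o.elim 0 fun k => (κ k : F)
  have heC : Function.Bijective eC := by
    constructor
    · rintro (_ | k) (_ | k') h
      · rfl
      · exact absurd h.symm (κ k').ne_zero
      · exact absurd h (κ k).ne_zero
      · exact congrArg some (hκ.1 (Units.ext h))
    · intro x
      by_cases hx : x = 0
      · exact ⟨none, hx.symm⟩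
      · obtain ⟨k, hk⟩ := hκ.2 (Units.mk0 x hx)
        exact ⟨some k, congrArg Units.val hk⟩
  have heCc : ∀ o, eC (Option.map cC o) = ψ (eC o) := by
    rintro (_ | k)
    · exact (map_zero ψ).symm
    · let s' : E := ⟨(k : G) * s * (k : G)⁻¹, conj_mem_invGroup hS h2 (hCmem k.2).1 ⟨hs.1, hs.2.2⟩⟩
      have h1 : ι s' = (κ k : F) := by rw [hκι k ⟨s, hs.1, hs.2.2⟩ s' rfl, hι1, mul_one]
      have h2' : ι (cE s') = (κ (cC k) : F) := by
        rw [hκι (cC k) ⟨s, hs.1, hs.2.2⟩ (cE s') ?_, hι1, mul_one]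
        simp only [cE, cC, s']
        calc (w : G) * ((k : G) * s * (k : G)⁻¹) * (w : G)⁻¹
            = (w : G) * k * (w : G)⁻¹ * ((w : G) * s * (w : G)⁻¹) * ((w : G) * k * (w : G)⁻¹)⁻¹ := by group
          _ = _ := by rw [← hws, mul_inv_cancel_right]
      show (κ (cC k) : F) = ψ (κ k : F)
      rw [← h2', ← h1]
      exact hσι w s' (cE s') rfl
  have hιc : ∀ z, ι (cE z) = ψ (ι z) := fun z => hσι w z (cE z) rfl
  have hO : Nat.card {o : Option C // Option.map cC o = o} = q0 :=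
    Nat.card_congr ((Equiv.ofBijective eC heC).subtypeEquiv fun o =>
      ⟨fun h => (heCc o).symm.trans (congrArg eC h), fun h => heC.1 ((heCc o).trans h)⟩)
  have hZ : Nat.card {z : E // cE z = z} = q0 :=
    Nat.card_congr ((Equiv.ofBijective ι hι).subtypeEquiv fun z =>
      ⟨fun h => (hιc z).symm.trans (congrArg ι h), fun h => hι.1 ((hιc z).trans h)⟩)
  refine ⟨w, q0, hS, h2, hQ2, hq, hr, hp, hodd, hcyc, w.2, hwp, fun e => hw1 (Subtype.ext e), hqpow, hqtwo, ?_, ?_⟩
  · -- `C_Q(w)`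
    rw [pow_two]
    refine Eq.trans ?_ ((Nat.card_prod {o : Option C // Option.map cC o = o} {z : E // cE z = z}).trans
      (congrArg₂ (· * ·) hO hZ))
    refine (Nat.card_eq_of_bijective (fun x => (⟨Φ (x.1.1, x.2.1), Subgroup.mem_inf.mpr ⟨?_, (Φ _).2⟩⟩ :
      ↥(cen (w : G) ⊓ Q))) ⟨?_, ?_⟩).symm
    · rw [Subgroup.mem_centralizer_singleton_iff]
      have := hΦc x.1.1 x.2.1
      rw [x.1.2, x.2.2] at this
      exact (mul_inv_eq_iff_eq_mul.mp this.symm).symm
    · intro x y h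
      have h' := hΦinj (Subtype.ext (congrArg (fun z : ↥(cen (w : G) ⊓ Q) => (z : G)) h) : Φ (x.1.1, x.2.1) = Φ (y.1.1, y.2.1))
      exact Prod.ext (Subtype.ext (congrArg Prod.fst h')) (Subtype.ext (congrArg Prod.snd h'))
    · rintro ⟨y, hy⟩
      obtain ⟨hyc, hyQ⟩ := Subgroup.mem_inf.mp hy
      obtain ⟨⟨o, z⟩, hoz⟩ := hΦbij.2 ⟨y, hyQ⟩
      have hy' : (Φ (o, z) : G) = y := congrArg Subtype.val hoz
      have hfix : Φ (Option.map cC o, cE z) = Φ (o, z) := Subtype.ext (by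
        rw [hΦc, hy', ← cen_comm hyc, mul_inv_cancel_right])
      have h' := hΦinj hfix
      exact ⟨(⟨o, congrArg Prod.fst h'⟩, ⟨z, congrArg Prod.snd h'⟩), Subtype.ext hy'⟩
  · -- the centralised involutions
    rw [← hZ, ← Finite.card_option]
    refine Nat.card_congr
      { toFun := fun o => o.elim ⟨1, Subtype.ext (by simp [cE])⟩ fun x => ⟨⟨x, x.2.1.1, x.2.1.2.2⟩,
          Subtype.ext (show (w : G) * x * (w : G)⁻¹ = x by rw [← x.2.2, mul_inv_cancel_right])⟩
        invFun := fun z => if h : (z.1 : G) = 1 then none else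
          some ⟨z.1, ⟨z.1.2.1, h, z.1.2.2⟩, (mul_inv_eq_iff_eq_mul.mp
            (show (w : G) * z.1 * (w : G)⁻¹ = z.1 from congrArg Subtype.val z.2)).symm⟩
        left_inv := fun o => ?_
        right_inv := fun z => ?_ }
    · cases o with
      | none => simp
      | some x => simp [x.2.1.2.1]
    · dsimp only
      split
      · exact Subtype.ext (Subtype.ext (by simpa using ‹(z.1 : G) = 1›.symm))
      · rfl

end Exists

namespace Tr

variable {p q0 : ℕ} {v : G} (T : Tr a t Q p q0 v)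

include T

theorem vD : v ∈ D a t := (mem_Vt.mp T.mem).1

theorem vt : t * v = v * t := (mem_Vt.mp T.mem).2

theorem orderOf_v : orderOf v = p := by
  haveI := Fact.mk T.prime
  exact orderOf_eq_prime T.pow T.ne

theorem dvd_card_Vt : p ∣ Nat.card (Vt a t) := by
  rw [← T.orderOf_v, ← Subgroup.orderOf_mk v T.mem]
  exact orderOf_dvd_natCard _

theorem two_le_q0 : 2 ≤ q0 := by
  obtain ⟨n, hn, rfl⟩ := T.qtwo
  exact le_self_pow₀ one_le_two (by omega)

theorem comm_Vt {x y : G} (hx : x ∈ Vt a t) (hy : y ∈ Vt a t) : x * y = y * x := by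
  haveI := T.cyc
  letI : CommGroup (Vt a t) := IsCyclic.commGroup
  exact congrArg Subtype.val (mul_comm (⟨x, hx⟩ : Vt a t) ⟨y, hy⟩)

theorem qZ_bar' : qZ (Bar Ω v) (fixA T.setup T.vD) = q0 := by
  rw [qZ_bar T.setup T.vD T.vt, T.fixE]

theorem card_fix : Nat.card (Fix Ω v) = q0 ^ 2 + 1 := by
  rw [card_points (fixed_setup T.setup T.vD T.vt), card_barQ T.setup T.vD T.vt, T.fixQ]

theorem card_D : Nat.card (D a t) = Nat.card (Vt a t) * (qZ G a - 1) := by
  rw [Inverted.card_eq T.setup.odd_card (D_norm T.setup) T.setup.mul_self, card_inverted T.setup, qZ,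
    Nat.add_sub_cancel]

theorem card_stab_eq : Nat.card (stabilizer G a) = qZ G a ^ 2 * (qZ G a - 1) * Nat.card (Vt a t) := by
  rw [card_stab T.setup, T.card, T.card_D]
  ring

/-- The projection of a point stabiliser onto `C_D(t)`. -/
theorem exists_theta : ∃ θ : stabilizer G a →* Vt a t,
    (∀ (g : stabilizer G a), ∀ x ∈ Q, ∀ w : Vt a t, (g : G) = x * w → θ g = w) ∧
      Nat.card θ.ker = qZ G a ^ 2 * (qZ G a - 1) := by
  have hS := T.setup
  obtain ⟨C, hC, -, hCn⟩ := Cfsg.Agent.S1131.result hS T.four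
  have hCmem : ∀ {k : G}, k ∈ C ↔ k ∈ invertedBy (D a t) t := fun {k} => by rw [← SetLike.mem_coe, hC]
  have hex : ∀ g : stabilizer G a, ∃ w : Vt a t, ∃ x ∈ Q, ∃ k ∈ C, (g : G) = x * w * k := by
    intro g
    obtain ⟨x, hx, d, hd, e⟩ := exists_decomp hS (mem_stabilizer_iff.mp g.2)
    obtain ⟨⟨w, k⟩, ⟨hw, hk, hwk⟩, -⟩ := Inverted.decomp hS.odd_card (D_norm hS) hS.mul_self hd
    exact ⟨⟨w, hw⟩, x, hx, k, hCmem.mpr hk, by
      rw [e, show d = w * k from hwk, ← mul_assoc]⟩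
  choose f hf using hex
  have huniq : ∀ (g : stabilizer G a) (w : Vt a t), ∀ x ∈ Q, ∀ k ∈ C, (g : G) = x * w * k → f g = w := by
    intro g w x hx k hk e
    obtain ⟨x', hx', k', hk', e'⟩ := hf g
    have hd : (w : G) * k ∈ D a t := mul_mem (Subgroup.mem_inf.mp w.2).1 (hCmem.mp hk).1
    have hd' : (f g : G) * k' ∈ D a t := mul_mem (Subgroup.mem_inf.mp (f g).2).1 (hCmem.mp hk').1
    have hxx : x' = x := Q_ta_inj hS hx' hx (by
      have h1 := congrArg (fun z : G => z • t • a) (e'.symm.trans e)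
      simp only [mul_assoc, mul_smul] at h1
      rwa [← mul_smul (w : G) k, ((mem_D hS).mp hd).2, ← mul_smul (f g : G) k', ((mem_D hS).mp hd').2] at h1)
    subst hxx
    have h2 : (f g : G) * k' = w * k :=
      mul_left_cancel (a := x') (by rw [← mul_assoc, ← mul_assoc, ← e', e])
    obtain ⟨pr, -, hu⟩ := Inverted.decomp hS.odd_card (D_norm hS) hS.mul_self hd
    exact Subtype.ext (congrArg Prod.fst ((hu ((f g : G), k') ⟨(f g).2, hCmem.mp hk', h2.symm⟩).trans
      (hu ((w : G), k) ⟨w.2, hCmem.mp hk, rfl⟩).symm))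
  let θ : stabilizer G a →* Vt a t :=
    { toFun := f
      map_one' := huniq 1 1 1 (one_mem _) 1 (one_mem _) (by simp)
      map_mul' := fun g g' => by
        obtain ⟨x, hx, k, hk, e⟩ := hf g
        obtain ⟨x', hx', k', hk', e'⟩ := hf g'
        have hd : (f g : G) * k ∈ D a t := mul_mem (Subgroup.mem_inf.mp (f g).2).1 (hCmem.mp hk).1
        refine huniq (g * g') (f g * f g') (x * ((f g : G) * k * x' * ((f g : G) * k)⁻¹))
          (mul_mem hx (conj_Q hS ((mem_D hS).mp hd).1 hx')) (((f g' : G))⁻¹ * k * f g' * k') ?_ ?_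
        · refine mul_mem ?_ hk'
          have := hCn _ (inv_mem (Subgroup.mem_inf.mp (f g').2).1) k hk
          rwa [inv_inv] at this
        · rw [Subgroup.coe_mul, e, e', Subgroup.coe_mul]
          group }
  refine ⟨θ, fun g x hx w e => huniq g w x hx 1 (one_mem _) (by rw [mul_one]; exact e), ?_⟩
  have hsurj : Function.Surjective θ := fun w =>
    ⟨⟨w, D_le hS (Subgroup.mem_inf.mp w.2).1⟩, huniq _ w 1 (one_mem _) 1 (one_mem _) (by simp)⟩
  have h := θ.ker.card_mul_index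
  rw [Subgroup.index_ker, MonoidHom.range_eq_top.mpr hsurj, Subgroup.card_top, T.card_stab_eq] at h
  exact Nat.eq_of_mul_eq_mul_right Nat.card_pos h

variable {θ : stabilizer G a →* Vt a t}
  (hθ : ∀ (g : stabilizer G a), ∀ x ∈ Q, ∀ w : Vt a t, (g : G) = x * w → θ g = w)

include hθ

/-- A conjugate of `v` in the point stabiliser has the image `v`. -/
theorem theta_conj {g : G} (h : g⁻¹ * v * g ∈ stabilizer G a) : θ ⟨_, h⟩ = ⟨v, T.mem⟩ := by
  haveI := T.cyc
  letI : CommGroup (Vt a t) := IsCyclic.commGroup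
  have hS := T.setup
  set H := g⁻¹ * v * g with hH
  have hfix : ∀ {c : Ω}, v • c = c → H • g⁻¹ • c = g⁻¹ • c := by
    intro c hc
    rw [hH, mul_smul, mul_smul, smul_inv_smul, hc]
  obtain ⟨b, c, d, hbc, hbd, hcd, hf⟩ := fixed_three hS T.vD T.vt
  obtain ⟨hb, hc, hd⟩ := hf v rfl
  -- a second fixed point
  obtain ⟨e, hea, he⟩ : ∃ e, e ≠ a ∧ H • e = e := by
    by_cases h1 : g⁻¹ • b = a
    · exact ⟨g⁻¹ • c, fun h2 => hbc (smul_left_cancel _ (h1.trans h2.symm)), hfix hc⟩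
    · exact ⟨_, h1, hfix hb⟩
  obtain ⟨y, hy, hye⟩ := exists_Q_ta hS hea
  set H' := y⁻¹ * H * y with hH'
  have hH'D : H' ∈ D a t := by
    rw [mem_D hS, hH']
    simp only [mul_smul]
    rw [hye, he, ← hye, inv_smul_smul, mem_Q_a hS hy, mem_stabilizer_iff.mp h, mem_Q_a hS (inv_mem hy)]
    exact ⟨rfl, rfl⟩
  have h3 : ∃ b c d : Ω, b ≠ c ∧ b ≠ d ∧ c ≠ d ∧
      ∀ x ∈ ({H'} : Set G), x • b = b ∧ x • c = c ∧ x • d = d := by
    have hk : ∀ {p : Ω}, v • p = p → H' • (y⁻¹ • g⁻¹ • p) = y⁻¹ • g⁻¹ • p := by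
      intro p hp
      rw [hH', mul_smul, mul_smul, smul_inv_smul, hfix hp]
    refine ⟨y⁻¹ • g⁻¹ • b, y⁻¹ • g⁻¹ • c, y⁻¹ • g⁻¹ • d, ?_, ?_, ?_, fun x hx => ?_⟩
    · exact fun e => hbc (smul_left_cancel _ (smul_left_cancel _ e))
    · exact fun e => hbd (smul_left_cancel _ (smul_left_cancel _ e))
    · exact fun e => hcd (smul_left_cancel _ (smul_left_cancel _ e))
    · rw [Set.mem_singleton_iff.mp hx]
      exact ⟨hk hb, hk hc, hk hd⟩
  obtain ⟨k, hk, hkt⟩ := conj_into_cent_t hS (Set.singleton_subset_iff.mpr hH'D) h3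
  have hmem : k * H' * k⁻¹ ∈ Vt a t :=
    mem_Vt.mpr ⟨mul_mem (mul_mem hk hH'D) (inv_mem hk), (hkt H' rfl).symm⟩
  have heq : k * H' * k⁻¹ = v := by
    obtain ⟨w, hw, hwe⟩ := conj_in_V hS {v} (Set.singleton_subset_iff.mpr T.mem) (k * y⁻¹ * g⁻¹) (by
      rintro _ ⟨x, hx, rfl⟩
      rw [Set.mem_singleton_iff.mp hx]
      have e : k * y⁻¹ * g⁻¹ * v * (k * y⁻¹ * g⁻¹)⁻¹ = k * H' * k⁻¹ := by rw [hH', hH]; group
      show k * y⁻¹ * g⁻¹ * v * (k * y⁻¹ * g⁻¹)⁻¹ ∈ _
      rw [e]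
      exact hmem)
    rw [Set.image_singleton, Set.image_singleton, Set.singleton_eq_singleton_iff] at hwe
    rw [show k * H' * k⁻¹ = k * y⁻¹ * g⁻¹ * v * (k * y⁻¹ * g⁻¹)⁻¹ by rw [hH', hH]; group, ← hwe,
      T.comm_Vt hw T.mem, mul_inv_cancel_right]
  let k' : stabilizer G a := ⟨k, D_le hS hk⟩
  let y' : stabilizer G a := ⟨y, hS.le hy⟩
  let v' : stabilizer G a := ⟨v, D_le hS T.vD⟩
  have e : (⟨H, h⟩ : stabilizer G a) = y' * (k'⁻¹ * v' * k') * y'⁻¹ := Subtype.ext (by
    show H = y * (k⁻¹ * v * k) * y⁻¹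
    rw [← heq, hH']
    group)
  rw [e, map_mul, map_mul, map_mul, map_mul, map_inv, map_inv,
    hθ v' 1 (one_mem _) ⟨v, T.mem⟩ (by simp [v']), mul_comm (θ k')⁻¹, inv_mul_cancel_right, mul_comm (θ y'),
    mul_inv_cancel_right]

omit hθ

/-- The case `p ∤ q ^ 2 + 1`. -/
theorem of_not_dvd (h : ¬ p ∣ qZ G a ^ 2 + 1) :
    ∃ L : Subgroup G, L.Normal ∧ L ≠ ⊤ ∧ Q ≤ L ∧ Odd L.index := by
  haveI := T.cyc
  letI : CommGroup (Vt a t) := IsCyclic.commGroup
  haveI := pretransitive T.setup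
  obtain ⟨θ, hθ, -⟩ := T.exists_theta
  refine exists_normal_of_fixed θ (T.setup.odd_card.of_dvd_nat (Subgroup.card_dvd_of_le inf_le_left)) T.prime
    T.pow (α := ⟨v, T.mem⟩) (Subtype.ext (by rw [SubgroupClass.coe_pow]; exact T.pow))
    (fun e => T.ne (congrArg Subtype.val e)) ?_ (fun g hg => T.theta_conj hθ hg) Q T.two
  rwa [MulAction.index_stabilizer_of_transitive, card_points T.setup, T.card]

/-- The order of the centraliser. -/
theorem card_cen : Nat.card (cen v) = (q0 ^ 2 + 1) * Nat.card ↥(cen v ⊓ stabilizer G a) := by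
  have hS := T.setup
  haveI : IsPretransitive (cen v) (Fix Ω v) := ⟨fun x y => by
    have hX := sub_D hS T.vD T.vt
    have h3 := fixed_three hS T.vD T.vt
    obtain ⟨g, hg, eg⟩ := cent_to_a hS hX h3 (b := (x : Ω)) (fun z hz => by
      rw [Set.mem_singleton_iff.mp hz]; exact x.2)
    obtain ⟨g', hg', eg'⟩ := cent_to_a hS hX h3 (b := (y : Ω)) (fun z hz => by
      rw [Set.mem_singleton_iff.mp hz]; exact y.2)
    exact ⟨⟨g'⁻¹ * g, mul_mem (inv_mem hg') hg⟩, Subtype.ext (by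
      show (g'⁻¹ * g) • (x : Ω) = y
      rw [mul_smul, eg, ← eg', inv_smul_smul])⟩⟩
  rw [← Subgroup.card_mul_index (stabilizer (cen v) (fixA hS T.vD)),
    MulAction.index_stabilizer_of_transitive, T.card_fix, mul_comm]
  congr 1
  refine Nat.card_congr
    { toFun := fun g => ⟨(g : G), Subgroup.mem_inf.mpr ⟨g.1.2,
        mem_stabilizer_iff.mpr (congrArg Subtype.val (mem_stabilizer_iff.mp g.2))⟩⟩
      invFun := fun g => ⟨⟨g, (Subgroup.mem_inf.mp g.2).1⟩,
        mem_stabilizer_iff.mpr (Subtype.ext (mem_stabilizer_iff.mp (Subgroup.mem_inf.mp g.2).2))⟩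
      left_inv := fun g => rfl
      right_inv := fun g => rfl }

section Dvd

variable (hd : p ∣ qZ G a ^ 2 + 1)

include hd

theorem dvd_q0 : p ∣ q0 ^ 2 + 1 := by
  haveI := Fact.mk T.prime
  rw [← ZMod.natCast_eq_zero_iff] at hd ⊢
  rw [T.qpow] at hd
  push_cast at hd ⊢
  rwa [ZMod.pow_card] at hd

theorem five_le : 5 ≤ p := by
  have h := T.dvd_q0 hd
  have h2 := T.prime.two_le
  obtain ⟨k, hk⟩ := T.odd
  by_contra hlt
  have hp3 : p = 3 := by omega
  subst hp3
  have h3 : q0 % 3 < 3 := Nat.mod_lt _ (by norm_num)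
  have h4 := Nat.mod_eq_zero_of_dvd h
  rw [Nat.add_mod, Nat.pow_mod] at h4
  interval_cases hc : q0 % 3 <;> simp_all

theorem not_dvd_stab : ¬ p ∣ qZ G a ^ 2 * (qZ G a - 1) := by
  intro h
  have h2 : ¬ p ∣ qZ G a := fun h' => T.prime.not_dvd_one
    ((Nat.dvd_add_right (dvd_pow h' two_ne_zero)).mp hd)
  rcases T.prime.dvd_mul.mp h with h' | h'
  · exact h2 (T.prime.dvd_of_dvd_pow h')
  · have h3 : p ∣ qZ G a ^ 2 - 1 := by
      rw [show qZ G a ^ 2 - 1 = (qZ G a + 1) * (qZ G a - 1) by rw [← Nat.sq_sub_sq, one_pow]]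
      exact dvd_mul_of_dvd_right h' _
    have h4 : 1 ≤ qZ G a ^ 2 := Nat.one_le_pow _ _ (by rw [qZ]; omega)
    have h5 := Nat.dvd_sub hd h3
    rw [show qZ G a ^ 2 + 1 - (qZ G a ^ 2 - 1) = 2 by omega] at h5
    have := Nat.le_of_dvd two_pos h5
    have := T.five_le hd
    omega

/-- The quotient `(q ^ 2 + 1) / (q₀ ^ 2 + 1)`. -/
theorem exists_ratio : ∃ M : ℕ, qZ G a ^ 2 + 1 = (q0 ^ 2 + 1) * M ∧ (p : ℤ) ^ 2 ∣ (M : ℤ) - p ∧
    p ∣ M ∧ ¬ p ^ 2 ∣ M := by
  have h0 : (-((q0 : ℤ) ^ 2)) ≡ 1 [ZMOD p] := by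
    refine Int.modEq_iff_dvd.mpr ?_
    obtain ⟨c, hc⟩ := T.dvd_q0 hd
    exact ⟨c, by rw [sub_neg_eq_add, add_comm]; exact_mod_cast hc⟩
  have h1 := Core.geom_cong T.odd h0
  set S : ℤ := ∑ i ∈ Finset.range p, (-((q0 : ℤ) ^ 2)) ^ i with hSd
  have h2 : ((q0 : ℤ) ^ 2 + 1) * S = ((qZ G a : ℕ) : ℤ) ^ 2 + 1 := by
    have h := mul_neg_geom_sum (-((q0 : ℤ) ^ 2)) p
    rw [← hSd, sub_neg_eq_add, T.odd.neg_pow, sub_neg_eq_add, add_comm] at h
    rw [h, T.qpow]
    push_cast
    rw [← pow_mul, ← pow_mul]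
    ring
  have hS0 : 0 ≤ S := by
    by_contra hneg
    nlinarith [sq_nonneg (q0 : ℤ), sq_nonneg ((qZ G a : ℕ) : ℤ)]
  lift S to ℕ using hS0 with M hM
  refine ⟨M, by exact_mod_cast h2.symm, h1, ?_, ?_⟩
  · have h3 : (p : ℤ) ∣ (M : ℤ) := by
      have h4 := dvd_add ((dvd_pow_self (p : ℤ) two_ne_zero).trans h1) (dvd_refl (p : ℤ))
      rwa [sub_add_cancel] at h4
    exact_mod_cast h3
  · intro h
    refine Core.not_sq_dvd_geom T.prime T.odd h0 ?_
    rw [← hSd]
    exact_mod_cast h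

/-- The `p`-part of the centraliser. -/
theorem factorization_eq :
    (Nat.card G).factorization p = (Nat.card (cen v)).factorization p + 1 := by
  have hS := T.setup
  haveI := pretransitive hS
  have hns := T.not_dvd_stab hd
  obtain ⟨M, hM, -, hpM, hpM2⟩ := T.exists_ratio hd
  have hV : Vt a t ≤ cen v ⊓ stabilizer G a := fun w hw => Subgroup.mem_inf.mpr
    ⟨Subgroup.mem_centralizer_singleton_iff.mpr (T.comm_Vt hw T.mem), D_le hS (Subgroup.mem_inf.mp hw).1⟩
  have h1 := Subgroup.card_dvd_of_le hV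
  have h2 := Subgroup.card_dvd_of_le (inf_le_right : cen v ⊓ stabilizer G a ≤ stabilizer G a)
  rw [T.card_stab_eq] at h2
  set B := Nat.card ↥(cen v ⊓ stabilizer G a) with hB
  have hB0 : B ≠ 0 := Nat.card_pos.ne'
  have hz0 : qZ G a ^ 2 * (qZ G a - 1) ≠ 0 := fun e => hns (e ▸ dvd_zero p)
  have hBf : B.factorization p = (Nat.card (Vt a t)).factorization p := by
    refine le_antisymm ?_ ((Nat.factorization_le_iff_dvd Nat.card_pos.ne' hB0).mpr h1 p)
    refine ((Nat.factorization_le_iff_dvd hB0 (mul_ne_zero hz0 Nat.card_pos.ne')).mpr h2 p).trans ?_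
    rw [Nat.factorization_mul hz0 Nat.card_pos.ne', Finsupp.add_apply, Nat.factorization_eq_zero_of_not_dvd hns,
      zero_add]
  have hG : Nat.card G = (q0 ^ 2 + 1) * M * (qZ G a ^ 2 * (qZ G a - 1)) * Nat.card (Vt a t) := by
    rw [card_group hS, T.card, T.card_D, hM]
    ring
  have hM0 : M ≠ 0 := fun e => hpM2 (e ▸ dvd_zero _)
  have hMf : M.factorization p = 1 := by
    have h3 := (T.prime.pow_dvd_iff_le_factorization hM0).mp (by rwa [pow_one] : p ^ 1 ∣ M)
    have h4 := mt (T.prime.pow_dvd_iff_le_factorization hM0).mpr hpM2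
    omega
  rw [hG, T.card_cen, ← hB, Nat.factorization_mul (by positivity) hB0,
    Nat.factorization_mul (mul_ne_zero (mul_ne_zero (by positivity) hM0) hz0) Nat.card_pos.ne',
    Nat.factorization_mul (mul_ne_zero (by positivity) hM0) hz0, Nat.factorization_mul (by positivity) hM0]
  simp only [Finsupp.add_apply, hBf, hMf, Nat.factorization_eq_zero_of_not_dvd hns]
  omega

variable {θ : stabilizer G a →* Vt a t} (hk : Nat.card θ.ker = qZ G a ^ 2 * (qZ G a - 1))

include hk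

/-- The projection is injective on the `p`-subgroups. -/
theorem theta_inj {P : Subgroup (stabilizer G a)} (hP : IsPGroup p P) {x : stabilizer G a} (hx : x ∈ P)
    (h : θ x = 1) : x = 1 := by
  obtain ⟨n, hn⟩ := hP ⟨x, hx⟩
  have h1 : orderOf x ∣ p ^ n := orderOf_dvd_of_pow_eq_one (congrArg Subtype.val hn)
  have h2 : orderOf x ∣ qZ G a ^ 2 * (qZ G a - 1) := by
    rw [← hk, ← Subgroup.orderOf_mk x (MonoidHom.mem_ker.mpr h)]
    exact orderOf_dvd_natCard _
  exact orderOf_eq_one_iff.mp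
    (Nat.eq_one_of_dvd_coprimes ((T.prime.coprime_iff_not_dvd.mpr (T.not_dvd_stab hd)).pow_left n) h1 h2)

omit hk

/-- The `p`-elements of the point stabiliser are conjugate into `C_D(t)`. -/
theorem exists_conj_Vt {h : G} (hh : h ∈ stabilizer G a) (hp : h ^ p = 1) :
    ∃ g ∈ stabilizer G a, g⁻¹ * h * g ∈ Vt a t := by
  haveI := Fact.mk T.prime
  let H : Subgroup (stabilizer G a) := (Vt a t).subgroupOf (stabilizer G a)
  have hidx : ¬ p ∣ Nat.card (stabilizer G a ⧸ H) := by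
    have h1 := H.card_mul_index
    rw [Nat.card_congr (Subgroup.subgroupOfEquivOfLe
      ((inf_le_left : Vt a t ≤ D a t).trans (D_le T.setup))).toEquiv, T.card_stab_eq,
      mul_comm (qZ G a ^ 2 * (qZ G a - 1))] at h1
    show ¬ p ∣ H.index
    rw [Nat.eq_of_mul_eq_mul_left Nat.card_pos h1]
    exact T.not_dvd_stab hd
  have hP : IsPGroup p (Subgroup.zpowers (⟨h, hh⟩ : stabilizer G a)) := by
    obtain ⟨i, -, hi⟩ := (Nat.dvd_prime_pow T.prime).1
      (show orderOf (⟨h, hh⟩ : stabilizer G a) ∣ p ^ 1 by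
        rw [pow_one]; exact orderOf_dvd_of_pow_eq_one (Subtype.ext hp))
    exact IsPGroup.of_card (n := i) (by rw [Nat.card_zpowers, hi])
  obtain ⟨c, hc⟩ := hP.nonempty_fixed_point_of_prime_not_dvd_card (stabilizer G a ⧸ H) hidx
  obtain ⟨g, rfl⟩ := QuotientGroup.mk_surjective c
  refine ⟨g, g.2, ?_⟩
  have h1 := hc ⟨⟨h, hh⟩, Subgroup.mem_zpowers _⟩
  have h2 : (QuotientGroup.mk ((⟨h, hh⟩ : stabilizer G a) * g) : stabilizer G a ⧸ H) = QuotientGroup.mk g := h1
  have h4 : ((g⁻¹ * ((⟨h, hh⟩ : stabilizer G a) * g) : stabilizer G a) : G) ∈ Vt a t := by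
    have h5 := QuotientGroup.eq.mp h2.symm
    exact h5
  simpa [mul_assoc] using h4

end Dvd

end Tr

end CfsgLib.SuzukiRankOne
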