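import Cfsg.Agent.Lib.SuzukiRankOne.TransferBase

/-!
The Sylow `p`-subgroup of the whole group.
-/

set_option autoImplicit false
set_option linter.unusedSectionVars false
set_option linter.style.haveILetI false

namespace CfsgLib.SuzukiRankOne

open MulAction Cfsg CfsgLib.RankOne

universe u v

variable {G : Type u} {Ω : Type v} [Group G] [MulAction G Ω] [Finite G] [FaithfulSMul G Ω] {a : Ω} {t : G}
  {Q : Subgroup G}

/-- The Sylow `p`-subgroup `R` with its weights. -/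
structure Loc (p : ℕ) (v : G) (R R₀ TT : Subgroup G) (x j y : G) : Prop where
  core : Core G p R R₀ TT v x j
  syl : Nat.card R = p ^ (Nat.card G).factorization p
  cent : R ⊓ cen v = R₀
  iR : ∀ g ∈ R, j * j * g * (j * j)⁻¹ ∈ R
  iR₀ : ∀ g ∈ R₀, j * j * g * (j * j)⁻¹ ∈ R₀
  ix : j * j * x * (j * j)⁻¹ = x⁻¹
  ii : j * j * (j * j) = 1
  jj : j * j ≠ 1
  yT : y ∈ TT
  yp : y ^ p = 1
  y1 : y ≠ 1
  oddy : Odd (Nat.card ↥(Subgroup.centralizer {y}))

namespace Tr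

variable {p q0 : ℕ} {v : G} (T : Tr a t Q p q0 v)

include T

/-- The weighted Sylow subgroup. -/
theorem exists_loc (hd : p ∣ qZ G a ^ 2 + 1) (ih : IHyp.{u, v} (Nat.card G)) :
    ∃ (R R₀ TT : Subgroup G) (x j y : G), Loc p v R R₀ TT x j y := by
  classical
  haveI := Fact.mk T.prime
  have hS := T.setup
  obtain ⟨R₀, TT, j, y, B⟩ := T.exists_base hd ih
  have h5 := T.five_le hd
  set i := j * j with hi
  have hii : i * i = 1 := by rw [hi, ← B.j4, pow_succ j 3, pow_succ j 2, pow_two]; simp only [mul_assoc]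
  have hyo : orderOf y = p := orderOf_eq_prime B.yp B.y1
  have hvc : ∀ {g : G}, g ∈ R₀ → g * v = v * g := fun hg => cen_comm (B.le hg)
  have hvy : Commute v y := (B.yc v B.vR)
  have hind : ∀ m n : ℤ, v ^ m * y ^ n = 1 → (p : ℤ) ∣ m ∧ (p : ℤ) ∣ n := by
    intro m n h
    have hm : v ^ m ∈ TT := by
      rw [mul_eq_one_iff_eq_inv.mp h]
      exact inv_mem (zpow_mem B.yT n)
    have hpm : (p : ℤ) ∣ m := by
      by_contra hn
      obtain ⟨α, β, hab⟩ := (Nat.prime_iff_prime_int.mp T.prime).coprime_iff_not_dvd.mpr hn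
      refine B.vT ?_
      have : v = (v ^ m) ^ β := by
        conv_lhs => rw [← zpow_one v, ← hab, zpow_add, mul_comm α (p : ℤ), zpow_mul, zpow_natCast, T.pow, one_zpow,
          one_mul, mul_comm β m, zpow_mul]
      exact this ▸ zpow_mem hm β
    obtain ⟨k, rfl⟩ := hpm
    rw [zpow_mul, zpow_natCast, T.pow, one_zpow, one_mul, ← orderOf_dvd_iff_zpow_eq_one, hyo] at h
    exact ⟨dvd_mul_right _ _, h⟩
  -- the centraliser of `v`
  have hmem : ∀ {g : G} {e : ℕ}, g ^ p ^ e = 1 → g ∈ cen v → (∀ h ∈ R₀, g * h * g⁻¹ ∈ R₀) → g ∈ R₀ := by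
    intro g e hge hgv hgn
    have hA : IsPGroup p (Subgroup.zpowers g) := by
      obtain ⟨k, -, hk⟩ := (Nat.dvd_prime_pow T.prime).1 (orderOf_dvd_of_pow_eq_one hge)
      exact IsPGroup.of_card (n := k) (by rw [Nat.card_zpowers, hk])
    have hgN : g ∈ Subgroup.normalizer (R₀ : Set G) := by
      rw [Subgroup.mem_normalizer_iff_map_conj_eq]
      refine Subgroup.eq_of_le_of_card_ge ?_ (Subgroup.card_map_of_injective (MulAut.conj g).injective).ge
      rintro _ ⟨h, hh, rfl⟩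
      exact hgn h hh
    obtain ⟨k, hk⟩ := IsPGroup.iff_card.mp (hA.to_sup_of_normal_right' B.pgrp (Subgroup.zpowers_le.mpr hgN))
    have h1 : Nat.card ↥(Subgroup.zpowers g ⊔ R₀) ∣ Nat.card (cen v) :=
      Subgroup.card_dvd_of_le (sup_le (Subgroup.zpowers_le.mpr hgv) B.le)
    rw [hk, T.prime.pow_dvd_iff_le_factorization Nat.card_pos.ne'] at h1
    have h2 : R₀ = Subgroup.zpowers g ⊔ R₀ := Subgroup.eq_of_le_of_card_ge le_sup_right (by
      rw [hk, B.cardR]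
      exact Nat.pow_le_pow_right T.prime.pos h1)
    rw [h2]
    exact Subgroup.mem_sup_left (Subgroup.mem_zpowers g)
  have hkey : ∀ {g : G} {e : ℕ}, g ^ p ^ e = 1 → (∀ h ∈ R₀, g * h * g⁻¹ ∈ R₀) →
      Commute g y ∧ ∃ d : ℤ, g * v * g⁻¹ = v * y ^ d := by
    intro g e hge hgn
    refine unipotent_pair T.pow B.yp hvy hind (B.el _ (hgn v B.vR) ?_) (B.el _ (hgn y (B.ltT B.yT)) ?_) hge ?_ ?_
    · rw [conj_pow, T.pow, mul_one, mul_inv_cancel]
    · rw [conj_pow, B.yp, mul_one, mul_inv_cancel]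
    · intro n m hm
      exfalso
      refine T.not_odd_cen (g := (g ^ n)⁻¹) (k := m) ?_ B.oddy
      rw [← hm]
      group
    · intro hgv
      exact B.yc g (hmem hge (Subgroup.mem_centralizer_singleton_iff.mpr hgv.eq) hgn)
  -- the group containing a Sylow subgroup
  set X := Subgroup.centralizer ({y} : Set G) ⊓ Subgroup.normalizer (R₀ : Set G) with hX
  have hXodd : Odd (Nat.card X) := B.oddy.of_dvd_nat (Subgroup.card_dvd_of_le inf_le_left)
  have hfact := T.factorization_eq hd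
  obtain ⟨K, hKc, hRK⟩ := Sylow.exists_subgroup_card_pow_succ (p := p) (n := (Nat.card (cen v)).factorization p)
    (G := G) (by rw [← hfact]; exact Nat.ordProj_dvd _ _) B.cardR
  have hKp : IsPGroup p K := IsPGroup.of_card hKc
  have hKn : ∀ g ∈ K, ∀ h ∈ R₀, g * h * g⁻¹ ∈ R₀ := by
    haveI : (R₀.subgroupOf K).Normal := Subgroup.normal_of_index_eq_minFac_card (by
      have h := (R₀.subgroupOf K).card_mul_index
      rw [Nat.card_congr (Subgroup.subgroupOfEquivOfLe hRK).toEquiv, hKc, B.cardR, pow_succ] at h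
      rw [Nat.eq_of_mul_eq_mul_left (pow_pos T.prime.pos _) h, hKc,
        Nat.Prime.pow_minFac T.prime (Nat.succ_ne_zero _)])
    intro g hg h hh
    exact Subgroup.Normal.conj_mem (H := R₀.subgroupOf K) inferInstance ⟨h, hRK hh⟩ hh ⟨g, hg⟩
  have hKX : K ≤ X := by
    intro g hg
    obtain ⟨e, he⟩ := hKp ⟨g, hg⟩
    refine Subgroup.mem_inf.mpr ⟨Subgroup.mem_centralizer_singleton_iff.mpr
      (hkey (congrArg Subtype.val he) (hKn g hg)).1.eq, ?_⟩
    rw [Subgroup.mem_normalizer_iff_map_conj_eq]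
    refine Subgroup.eq_of_le_of_card_ge ?_ (Subgroup.card_map_of_injective (MulAut.conj g).injective).ge
    rintro _ ⟨h, hh, rfl⟩
    exact hKn g hg h hh
  have hfX : (Nat.card X).factorization p = (Nat.card G).factorization p := by
    refine le_antisymm ((Nat.factorization_le_iff_dvd Nat.card_pos.ne' Nat.card_pos.ne').mpr
      (Subgroup.card_subgroup_dvd_card X) p) ?_
    rw [← T.prime.pow_dvd_iff_le_factorization Nat.card_pos.ne', hfact, ← hKc]
    exact Subgroup.card_dvd_of_le hKX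
  have hjy : j * y * j⁻¹ ∈ Subgroup.zpowers y :=
    mem_zpowers_of_cyclic B.cyc T.prime B.yT hyo (B.jT y B.yT) (by rw [conj_pow, B.yp, mul_one, mul_inv_cancel])
  have hjN : j ∈ Subgroup.normalizer (R₀ : Set G) := by
    rw [Subgroup.mem_normalizer_iff_map_conj_eq]
    refine Subgroup.eq_of_le_of_card_ge ?_ (Subgroup.card_map_of_injective (MulAut.conj j).injective).ge
    rintro _ ⟨h, hh, rfl⟩
    exact B.jR h hh
  obtain ⟨R, hRX, hRp, hRc, hjR⟩ := exists_invariant_sylow_four (p := p) (K := X) (x := j) hXodd B.j4 (by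
    intro g hg
    obtain ⟨hgy, hgn⟩ := Subgroup.mem_inf.mp hg
    refine Subgroup.mem_inf.mpr ⟨?_, mul_mem (mul_mem hjN hgn) (inv_mem hjN)⟩
    rw [Subgroup.mem_centralizer_singleton_iff]
    have hzo : orderOf (j * y * j⁻¹) = p := by rw [← MulAut.conj_apply, MulEquiv.orderOf_eq, hyo]
    obtain ⟨k, hk⟩ := Subgroup.mem_zpowers_iff.mp (mem_zpowers_of_cyclic B.cyc T.prime (B.jT y B.yT) hzo B.yT B.yp)
    conv_lhs => rw [← hk]
    conv_rhs => rw [← hk]
    refine ((show Commute (j * g * j⁻¹) (j * y * j⁻¹) from ?_).zpow_right k).eq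
    show j * g * j⁻¹ * (j * y * j⁻¹) = j * y * j⁻¹ * (j * g * j⁻¹)
    calc j * g * j⁻¹ * (j * y * j⁻¹) = j * (g * y) * j⁻¹ := by group
      _ = _ := by rw [Subgroup.mem_centralizer_singleton_iff.mp hgy]; group)
  rw [hfX] at hRc
  have hRy : ∀ g ∈ R, g * y = y * g := fun g hg =>
    Subgroup.mem_centralizer_singleton_iff.mp (Subgroup.mem_inf.mp (hRX hg)).1
  have hRn : ∀ g ∈ R, ∀ h ∈ R₀, g * h * g⁻¹ ∈ R₀ := fun g hg h hh =>
    (Subgroup.mem_normalizer_iff.mp (Subgroup.mem_inf.mp (hRX hg)).2 h).mp hh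
  have hR₀R : R₀ ≤ R := le_of_normalised B.pgrp hRp hRX (hRK.trans hKX) hRn (by rw [hRc, hfX])
  have hcent : R ⊓ cen v = R₀ := le_antisymm (fun g hg => by
    obtain ⟨hgR, hgv⟩ := Subgroup.mem_inf.mp hg
    obtain ⟨e, he⟩ := hRp ⟨g, hgR⟩
    exact hmem (congrArg Subtype.val he) hgv (hRn g hgR)) (le_inf hR₀R B.le)
  have hidx : R₀.relIndex R = p := by
    have h := (R₀.subgroupOf R).card_mul_index
    rw [Nat.card_congr (Subgroup.subgroupOfEquivOfLe hR₀R).toEquiv, hRc, B.cardR, hfact, pow_succ] at h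
    exact Nat.eq_of_mul_eq_mul_left (pow_pos T.prime.pos _) h
  have hRodd : Odd (Nat.card R) := by rw [hRc]; exact T.odd.pow
  have hiR : ∀ g ∈ R, i * g * i⁻¹ ∈ R := fun g hg => by
    rw [hi, show j * j * g * (j * j)⁻¹ = j * (j * g * j⁻¹) * j⁻¹ by group]
    exact hjR _ (hjR g hg)
  have hiR₀ : ∀ g ∈ R₀, i * g * i⁻¹ ∈ R₀ := fun g hg => by
    rw [hi, show j * j * g * (j * j)⁻¹ = j * (j * g * j⁻¹) * j⁻¹ by group]
    exact B.jR _ (B.jR g hg)
  -- the inverted element outside `R₀`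
  obtain ⟨x, hxR, hxR₀, hix⟩ : ∃ x ∈ R, x ∉ R₀ ∧ i * x * i⁻¹ = x⁻¹ := by
    by_contra hcon
    push Not at hcon
    have hle : R ≤ R₀ := by
      intro g hg
      obtain ⟨⟨c, k⟩, ⟨hc, hk, e⟩, -⟩ := Inverted.decomp hRodd hiR hii hg
      obtain ⟨c₀, hc₀⟩ := exists_fix hS B.jj hii
      have hP : IsCyclic ↥(R ⊓ Subgroup.centralizer {i}) :=
        T.cyclic_of_fix hd (hRp.to_le inf_le_left) (c := c₀) fun g hg =>
          not_fix_of_commute hS B.jj hii hc₀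
            (Subgroup.mem_centralizer_singleton_iff.mp (Subgroup.mem_inf.mp hg).2).symm
      letI := hP
      letI : CommGroup ↥(R ⊓ Subgroup.centralizer {i}) := IsCyclic.commGroup
      have hv : v ∈ R ⊓ Subgroup.centralizer {i} := Subgroup.mem_inf.mpr ⟨hR₀R B.vR,
        Subgroup.mem_centralizer_singleton_iff.mpr (cen_comm (mul_mem B.jv B.jv)).symm⟩
      have hcv : c * v = v * c :=
        congrArg Subtype.val (mul_comm (⟨c, hc⟩ : ↥(R ⊓ Subgroup.centralizer {i})) ⟨v, hv⟩)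
      have hk0 : k ∈ R₀ := by
        by_contra hk0
        exact hcon k hk.1 hk0 hk.2
      rw [show g = c * k from e]
      exact mul_mem (hcent ▸ Subgroup.mem_inf.mpr ⟨(Subgroup.mem_inf.mp hc).1,
        Subgroup.mem_centralizer_singleton_iff.mpr hcv⟩) hk0
    have h := Subgroup.relIndex_eq_one.mpr hle
    rw [hidx] at h
    exact T.prime.one_lt.ne h.symm
  obtain ⟨ex, hex⟩ := hRp ⟨x, hxR⟩
  obtain ⟨-, d, hxv⟩ := hkey (congrArg Subtype.val hex : x ^ p ^ ex = 1) (hRn x hxR)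
  have hd0 : ¬ (p : ℤ) ∣ d := by
    rintro ⟨k, rfl⟩
    rw [zpow_mul, zpow_natCast, B.yp, one_zpow, mul_one] at hxv
    refine hxR₀ (hcent ▸ Subgroup.mem_inf.mpr ⟨hxR, Subgroup.mem_centralizer_singleton_iff.mpr ?_⟩)
    exact mul_inv_eq_iff_eq_mul.mp hxv
  -- the weights
  haveI := B.cyc
  obtain ⟨γ, hγ⟩ := IsCyclic.exists_generator (α := TT)
  obtain ⟨Λ, hΛ⟩ : ∃ Λ : ℕ, ∀ τ ∈ TT, j * τ * j⁻¹ = τ ^ Λ := by
    obtain ⟨Λ, hΛ⟩ := (IsOfFinOrder.mem_powers_iff_mem_zpowers (isOfFinOrder_of_finite γ)).mpr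
      (hγ ⟨_, B.jT _ γ.2⟩)
    have hΛ' : (γ : G) ^ Λ = j * γ * j⁻¹ := by
      rw [← SubmonoidClass.coe_pow]
      exact congrArg Subtype.val hΛ
    refine ⟨Λ, fun τ hτ => ?_⟩
    obtain ⟨n, hn⟩ := Subgroup.mem_zpowers_iff.mp (hγ ⟨τ, hτ⟩)
    have e : τ = (γ : G) ^ n := by rw [← Subgroup.coe_zpow, hn]
    rw [e, ← conj_zpow, ← hΛ', ← zpow_natCast, ← zpow_natCast, ← zpow_mul, ← zpow_mul, mul_comm]
  have hΛy : j * y * j⁻¹ = y ^ (Λ : ℤ) := by rw [zpow_natCast]; exact hΛ y B.yT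
  have hΛ2 : ((Λ : ℤ) : ZMod p) * (Λ : ℤ) = -1 := by
    have h1 : y ^ ((Λ : ℤ) * Λ) = y ^ (-1 : ℤ) := by
      rw [zpow_neg_one, ← B.inv y B.yT, zpow_mul, ← hΛy, conj_zpow, ← hΛy]
      group
    rw [zpow_eq_zpow_iff_modEq, hyo, ← ZMod.intCast_eq_intCast_iff] at h1
    push_cast at h1 ⊢
    exact h1
  haveI hnR : (R₀.subgroupOf R).Normal := ⟨fun h hh g => hRn g g.2 h hh⟩
  have hxp : x ^ p ∈ R₀ := by
    have := Subgroup.pow_index_mem (R₀.subgroupOf R) ⟨x, hxR⟩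
    rwa [show (R₀.subgroupOf R).index = p from hidx] at this
  obtain ⟨μ, hμ1, r, hr, hjx⟩ : ∃ μ : ℕ, 1 ≤ μ ∧ ∃ r ∈ R₀, j * x * j⁻¹ = r * x ^ μ := by
    have hc : Nat.card (R ⧸ R₀.subgroupOf R) = p := hidx
    have hne : (QuotientGroup.mk ⟨x, hxR⟩ : R ⧸ R₀.subgroupOf R) ≠ 1 := fun e =>
      hxR₀ ((QuotientGroup.eq_one_iff (⟨x, hxR⟩ : R)).mp e)
    obtain ⟨n, hn⟩ := Subgroup.mem_zpowers_iff.mp ((zpowers_eq_top_of_prime_card hc hne).ge
      (Subgroup.mem_top (QuotientGroup.mk ⟨_, hjR x hxR⟩ : R ⧸ R₀.subgroupOf R)))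
    have h1 : j * x * j⁻¹ * (x ^ n)⁻¹ ∈ R₀ := by
      have h0 : ((⟨_, hjR x hxR⟩ : R) * ((⟨x, hxR⟩ : R) ^ n)⁻¹) ∈ R₀.subgroupOf R :=
        (QuotientGroup.eq_one_iff _).mp (by
          rw [QuotientGroup.mk_mul, QuotientGroup.mk_inv, QuotientGroup.mk_zpow, hn, mul_inv_cancel])
      exact h0
    obtain ⟨k, hk⟩ : ∃ k : ℤ, k = n / p - 1 := ⟨_, rfl⟩
    refine ⟨((n % p).toNat + p), le_add_left T.prime.one_lt.le,
      j * x * j⁻¹ * (x ^ n)⁻¹ * ((x ^ p) ^ k), mul_mem h1 (zpow_mem hxp _), ?_⟩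
    have e : (((n % p).toNat + p : ℕ) : ℤ) = n - p * k := by
      rw [Nat.cast_add, Int.toNat_of_nonneg (Int.emod_nonneg _ (by exact_mod_cast T.prime.ne_zero)), hk]
      linear_combination Int.emod_add_mul_ediv n p
    rw [← zpow_natCast x ((n % p).toNat + p), e, show n - (p : ℤ) * k = (p : ℤ) * (-k) + n by ring, zpow_add, zpow_mul,
      zpow_natCast, zpow_neg]
    group
  have hxy : ∀ n : ℕ, x ^ n * v * (x ^ n)⁻¹ = v * y ^ (d * n) := by
    intro n
    induction n with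
    | zero => simp
    | succ n ih =>
      calc x ^ (n + 1) * v * (x ^ (n + 1))⁻¹ = x * (x ^ n * v * (x ^ n)⁻¹) * x⁻¹ := by rw [pow_succ']; group
        _ = x * v * x⁻¹ * (x * y ^ (d * n) * x⁻¹) := by rw [ih]; group
        _ = v * y ^ d * y ^ (d * n) := by
          rw [hxv, ((show Commute x y from hRy x hxR).zpow_right (d * n)).eq, mul_inv_cancel_right]
        _ = _ := by rw [mul_assoc, ← zpow_add, Nat.cast_succ, mul_add, mul_one, add_comm]
  have hμΛ : ((μ : ℤ) : ZMod p) = (Λ : ℤ) := by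
    have h1 : v * y ^ (d * μ) = v * y ^ ((Λ : ℤ) * d) := by
      have e1 : j * (x * v * x⁻¹) * j⁻¹ = v * y ^ ((Λ : ℤ) * d) := by
        rw [hxv, zpow_mul, ← hΛy, conj_zpow]
        calc j * (v * y ^ d) * j⁻¹ = j * v * j⁻¹ * (j * y ^ d * j⁻¹) := by group
          _ = _ := by rw [cen_comm B.jv, mul_inv_cancel_right]
      have e2 : j * (x * v * x⁻¹) * j⁻¹ = v * y ^ (d * μ) := by
        calc j * (x * v * x⁻¹) * j⁻¹ = j * x * j⁻¹ * (j * v * j⁻¹) * (j * x * j⁻¹)⁻¹ := by group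
          _ = r * (x ^ μ * v * (x ^ μ)⁻¹) * r⁻¹ := by rw [cen_comm B.jv, mul_inv_cancel_right, hjx]; group
          _ = r * v * r⁻¹ * (r * y ^ (d * μ) * r⁻¹) := by rw [hxy]; group
          _ = _ := by
            rw [hvc hr, mul_inv_cancel_right,
              ((show Commute r y from B.yc r hr).zpow_right _).eq, mul_inv_cancel_right]
      rw [← e1, e2]
    have h2 := mul_left_cancel h1
    rw [zpow_eq_zpow_iff_modEq, hyo, ← ZMod.intCast_eq_intCast_iff] at h2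
    push_cast at h2 ⊢
    rw [mul_comm (Λ : ZMod p)] at h2
    exact mul_left_cancel₀ (fun e => hd0 ((ZMod.intCast_zmod_eq_zero_iff_dvd _ p).mp e)) h2
  have hne2 : (2 : ZMod p) ≠ 0 := by
    intro e
    have : p ∣ 2 := (ZMod.natCast_eq_zero_iff 2 p).mp (by exact_mod_cast e)
    have := Nat.le_of_dvd two_pos this
    omega
  refine ⟨R, R₀, TT, x, j, y, ⟨⟨T.prime, T.odd, hRp, hR₀R, B.ltT, hidx, B.cyc, hRn, B.normT, B.commT, B.vR, T.pow,
    B.vT, fun τ hτ => (hvc (B.ltT hτ)).symm, B.omega, hxR, hxR₀, ?_, ?_, B.jfix, ⟨μ, Λ, hμ1, ?_, ?_,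
      ⟨r, hr, hjx⟩, hΛ⟩⟩, hRc, hcent, hiR, hiR₀, hix, hii, B.jj, B.yT, B.yp, B.y1, B.oddy⟩⟩
  · rw [hxv, show v * y ^ d * v⁻¹ = y ^ d * (v * v⁻¹) by
      rw [(hvy.zpow_right d).eq, mul_assoc], mul_inv_cancel, mul_one]
    exact zpow_mem B.yT d
  · intro g hg τ hτ hτp
    obtain ⟨n, rfl⟩ := Subgroup.mem_zpowers_iff.mp (mem_zpowers_of_cyclic B.cyc T.prime B.yT hyo hτ hτp)
    exact ((show Commute g y from hRy g hg).zpow_right n).eq
  · intro h
    have h1 := (ZMod.intCast_eq_intCast_iff _ _ _).mpr h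
    rw [hμΛ, Int.cast_one] at h1
    rw [h1, mul_one] at hΛ2
    exact hne2 (by linear_combination hΛ2)
  · intro h
    have h1 := (ZMod.intCast_eq_intCast_iff _ _ _).mpr h
    rw [Nat.cast_mul, Int.cast_mul, hμΛ, hΛ2, Int.cast_one] at h1
    exact hne2 (by linear_combination -h1)

end Tr

end CfsgLib.SuzukiRankOne
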