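import Cfsg.Agent.Lib.SuzukiRankOne.TransferFixed
import Cfsg.Agent.Lib.Suzuki.Partition
import Cfsg.Agent.Lib.Suzuki.Lie
import Cfsg.Agent.S1137
import Cfsg.Agent.S1141

/-!
The group induced on the fixed points of `v`: a cyclic Sylow subgroup with an element of order four acting on it.
-/

set_option autoImplicit false
set_option linter.unusedSectionVars false
set_option linter.style.haveILetI false

namespace CfsgLib.SuzukiRankOne

open MulAction Cfsg CfsgLib.RankOne

universe u v w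

/-- A cyclic Sylow `p`-subgroup of a normal subgroup, normalised by an element of order four of it whose square
inverts it. -/
def SubData (B : Type u) [Group B] (p : ℕ) : Prop :=
  ∃ (L T : Subgroup B) (j : B), L.Normal ∧ T ≤ L ∧ IsCyclic T ∧ IsPGroup p T ∧ T ≠ ⊥ ∧ ¬ p ∣ T.relIndex L ∧
    j ∈ L ∧ j ^ 4 = 1 ∧ (∀ τ ∈ T, j * τ * j⁻¹ ∈ T) ∧ ∀ τ ∈ T, j * j * τ * (j * j)⁻¹ = τ⁻¹

/-- In a cyclic subgroup the solutions of `y ^ p = 1` are the powers of any element of order `p`. -/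
theorem mem_zpowers_of_cyclic {B : Type u} [Group B] [Finite B] {T : Subgroup B} (hT : IsCyclic T) {p : ℕ}
    (hp : p.Prime) {σ y : B} (hσ : σ ∈ T) (hσo : orderOf σ = p) (hy : y ∈ T) (hyp : y ^ p = 1) :
    y ∈ Subgroup.zpowers σ := by
  classical
  haveI := hT
  haveI := Fact.mk hp
  by_contra hny
  letI := Fintype.ofFinite T
  let f : Option (Subgroup.zpowers σ) → {x : T // x ^ p = 1} := fun o =>
    o.elim ⟨⟨y, hy⟩, Subtype.ext (by simpa using hyp)⟩ fun z =>
      ⟨⟨z, (Subgroup.zpowers_le.mpr hσ) z.2⟩, Subtype.ext (by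
        have h := pow_card_eq_one' (G := Subgroup.zpowers σ) (x := z)
        rw [Nat.card_zpowers, hσo] at h
        simpa using congrArg Subtype.val h)⟩
  have hf : Function.Injective f := by
    rintro (_ | z) (_ | z') h
    · rfl
    · refine absurd ?_ hny
      have e : y = (z' : B) := congrArg (fun x : {x : T // x ^ p = 1} => ((x : T) : B)) h
      exact e ▸ z'.2
    · refine absurd ?_ hny
      have e : y = (z : B) := (congrArg (fun x : {x : T // x ^ p = 1} => ((x : T) : B)) h).symm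
      exact e ▸ z.2
    · exact congrArg some (Subtype.ext (congrArg (fun x : {x : T // x ^ p = 1} => ((x : T) : B)) h))
  have h1 := Nat.card_le_card_of_injective f hf
  rw [Finite.card_option, Nat.card_zpowers, hσo] at h1
  have h2 : Nat.card {x : T // x ^ p = 1} ≤ p := by
    rw [Nat.card_eq_fintype_card, Fintype.card_subtype]
    exact IsCyclic.card_pow_eq_one_le hp.pos
  omega

/-- An element whose square centralises a cyclic `p`-group inverts it as soon as it moves an element of order `p`. -/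
theorem inv_of_invol {B : Type u} [Group B] [Finite B] {T : Subgroup B} (hT : IsCyclic T) {p : ℕ} (hp : p.Prime)
    (hP : IsPGroup p T) {i y : B} (hi : ∀ τ ∈ T, i * τ * i⁻¹ ∈ T) (hii : ∀ τ ∈ T, i * i * τ = τ * (i * i))
    (hy : y ∈ T) (hyp : y ^ p = 1) (hne : i * y ≠ y * i) : ∀ τ ∈ T, i * τ * i⁻¹ = τ⁻¹ := by
  haveI := hT
  haveI := Fact.mk hp
  intro τ hτ
  set u := τ * (i * τ * i⁻¹) with hu
  have huT : u ∈ T := mul_mem hτ (hi τ hτ)
  have huc : i * u * i⁻¹ = u := by
    have e : i * (i * τ * i⁻¹) * i⁻¹ = τ := by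
      calc i * (i * τ * i⁻¹) * i⁻¹ = i * i * τ * (i * i)⁻¹ := by group
        _ = τ := by rw [hii τ hτ, mul_inv_cancel_right]
    letI : CommGroup T := IsCyclic.commGroup
    have hc : i * τ * i⁻¹ * τ = τ * (i * τ * i⁻¹) :=
      congrArg Subtype.val (mul_comm (⟨_, hi τ hτ⟩ : T) ⟨τ, hτ⟩)
    calc i * u * i⁻¹ = i * τ * i⁻¹ * (i * (i * τ * i⁻¹) * i⁻¹) := by rw [hu]; group
      _ = u := by rw [e, hc, hu]
  rcases eq_or_ne u 1 with h1 | h1
  · exact (inv_eq_of_mul_eq_one_right h1).symm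
  · exfalso
    refine hne ?_
    obtain ⟨k, hk⟩ := hP ⟨u, huT⟩
    obtain ⟨e, -, he⟩ := (Nat.dvd_prime_pow hp).mp
      (orderOf_dvd_of_pow_eq_one (congrArg Subtype.val hk : u ^ p ^ k = 1))
    have hdvd : p ∣ orderOf u := by
      rw [he]
      refine dvd_pow_self p ?_
      rintro rfl
      exact h1 (orderOf_eq_one_iff.mp (by rw [he, pow_zero]))
    have hσo : orderOf (u ^ (orderOf u / p)) = p := orderOf_pow_orderOf_div (orderOf_pos u).ne' hdvd
    obtain ⟨n, hn⟩ := Subgroup.mem_zpowers_iff.mp (mem_zpowers_of_cyclic hT hp (pow_mem huT _) hσo hy hyp)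
    rw [← hn]
    exact (((show Commute i u from mul_inv_eq_iff_eq_mul.mp huc).pow_right _).zpow_right n).eq

section PSL

variable {F : Type w} [Field F] [Fintype F] [CharP F 2]

theorem sl2_sq_one {A : Matrix.SpecialLinearGroup (Fin 2) F} (h : A ^ 4 = 1) : A ^ 2 = 1 := by
  haveI : CharP (Matrix (Fin 2) (Fin 2) F) 2 := inferInstance
  set N : Matrix (Fin 2) (Fin 2) F := A.1 + 1
  have h4 : N ^ (2 ^ 2) = 0 := by
    rw [add_pow_char_pow_of_commute (p := 2) (x := A.1) (y := 1) 2 (Commute.one_right _), one_pow,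
      show A.1 ^ (2 ^ 2) = 1 by
        have := congrArg Subtype.val h
        simpa using this, CharTwo.add_self_eq_zero]
  have hd : N.det = 0 := by
    have h5 : N.det ^ (2 ^ 2) = 0 := by rw [← Matrix.det_pow, h4, Matrix.det_zero]
    exact eq_zero_of_pow_eq_zero h5
  have hsq : N * N = N.trace • N := by
    rw [Matrix.det_fin_two] at hd
    ext i j
    fin_cases i <;> fin_cases j <;>
      simp [Matrix.mul_apply, Fin.sum_univ_two, Matrix.trace_fin_two] <;>
      first
        | linear_combination -hd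
        | ring
  have hN : N * N = 0 := by
    by_cases htr : N.trace = 0
    · rw [hsq, htr, zero_smul]
    · exfalso
      have h6 : N ^ (2 ^ 2) = (N.trace ^ 3) • N := by
        rw [show (2 ^ 2 : ℕ) = 2 + 2 from rfl, pow_add, pow_two, hsq, smul_mul_smul_comm, hsq, smul_smul]
        ring_nf
      rw [h4, eq_comm, smul_eq_zero] at h6
      rcases h6 with h6 | h6
      · exact htr (eq_zero_of_pow_eq_zero h6)
      · exact htr (by rw [h6, Matrix.trace_zero])
  apply Subtype.ext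
  show A.1 ^ 2 = 1
  have h7 : N ^ (2 ^ 1) = A.1 ^ (2 ^ 1) + 1 := by
    rw [add_pow_char_pow_of_commute (p := 2) (x := A.1) (y := 1) 1 (Commute.one_right _), one_pow]
  rw [pow_one, pow_two N, hN] at h7
  exact CharTwo.add_eq_zero.mp h7.symm

theorem psl2_two_pow {g : Matrix.ProjectiveSpecialLinearGroup (Fin 2) F} {k : ℕ} (h : g ^ 2 ^ k = 1) :
    g ^ 2 = 1 := by
  have key : ∀ g : Matrix.ProjectiveSpecialLinearGroup (Fin 2) F, g ^ 4 = 1 → g ^ 2 = 1 := by
    intro g hg
    obtain ⟨A, rfl⟩ := QuotientGroup.mk_surjective g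
    rw [← QuotientGroup.mk_pow, QuotientGroup.eq_one_iff, Matrix.SpecialLinearGroup.mem_center_iff] at hg
    obtain ⟨c, hc, hA⟩ := hg
    rw [Fintype.card_fin] at hc
    have hc1 : c = 1 := CharTwo.sq_injective (show c ^ 2 = (1 : F) ^ 2 by rw [hc, one_pow])
    rw [← QuotientGroup.mk_pow, sl2_sq_one (A := A) (Subtype.ext (by rw [← hA, hc1]; simp))]
    rfl
  induction k using Nat.strong_induction_on generalizing g with
  | _ k ih =>
    match k with
    | 0 => rw [pow_zero, pow_one] at h; rw [h, one_pow]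
    | 1 => exact h
    | k + 2 =>
      refine ih (k + 1) (by omega) ?_
      have h1 := key (g ^ 2 ^ k) (by rw [← pow_mul, ← h, pow_add, show (2 : ℕ) ^ 2 = 4 from rfl])
      rwa [← pow_mul, ← pow_succ] at h1

end PSL

section Sz

open CfsgLib.Suzuki

variable {F : Type w} [Field F] [Fintype F] {m : ℕ} (hF : Fintype.card F = 2 ^ (2 * m + 1))

include hF

theorem torus_pick {p : ℕ} (hp : p.Prime) (hp2 : p ≠ 2) (A : Subgroup ↥(Cfsg.Sz F m)) (hA : IsCyclic A)
    (hC : ∀ u ∈ A, u ≠ 1 → Subgroup.centralizer ({u} : Set ↥(Cfsg.Sz F m)) = A)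
    (hN : Nat.card (Subgroup.normalizer (A : Set ↥(Cfsg.Sz F m))) = 4 * Nat.card A)
    (hpA : p ∣ Nat.card A) (hodd : Odd (Nat.card A)) {r : ℕ}
    (hG : Nat.card ↥(Cfsg.Sz F m) = Nat.card A * r) (hr : ¬ p ∣ r) :
    ∃ (T : Subgroup ↥(Cfsg.Sz F m)) (j : ↥(Cfsg.Sz F m)), IsCyclic T ∧ IsPGroup p T ∧ T ≠ ⊥ ∧ ¬ p ∣ T.index ∧
      j ^ 4 = 1 ∧ (∀ τ ∈ T, j * τ * j⁻¹ ∈ T) ∧ ∀ τ ∈ T, j * j * τ * (j * j)⁻¹ = τ⁻¹ := by
  classical
  haveI := Fact.mk hp
  haveI := hA
  letI : CommGroup A := IsCyclic.commGroup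
  let P : Sylow p A := default
  haveI hsub : Subsingleton (Sylow p A) := by
    haveI : (P : Subgroup A).Normal := inferInstance
    haveI := Sylow.unique_of_normal P inferInstance
    infer_instance
  set T := (P : Subgroup A).map A.subtype with hT
  have hTA : T ≤ A := Subgroup.map_subtype_le _
  have hTcyc : IsCyclic T :=
    isCyclic_of_surjective _ ((P : Subgroup A).equivMapOfInjective _ A.subtype_injective).surjective
  have hTp : IsPGroup p T := P.isPGroup'.map _
  have hTne : T ≠ ⊥ := by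
    intro e
    exact P.ne_bot_of_dvd_card hpA ((Subgroup.map_eq_bot_iff_of_injective _ A.subtype_injective).mp e)
  have hTidx : ¬ p ∣ T.index := by
    rw [hT, Subgroup.index_map_subtype]
    intro hd
    rcases hp.dvd_mul.mp hd with h | h
    · exact P.not_dvd_index h
    · refine hr ?_
      have h1 := A.card_mul_index
      rw [hG] at h1
      exact Nat.eq_of_mul_eq_mul_left Nat.card_pos h1 ▸ h
  have hmem : ∀ x ∈ A, IsPGroup p (Subgroup.zpowers x) → x ∈ T := by
    intro x hx hP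
    have hP' : IsPGroup p ((Subgroup.zpowers (⟨x, hx⟩ : A))) := by
      intro z
      obtain ⟨n, hn⟩ := Subgroup.mem_zpowers_iff.mp z.2
      obtain ⟨k, hk⟩ := hP ⟨x ^ n, ⟨n, rfl⟩⟩
      refine ⟨k, Subtype.ext ?_⟩
      rw [SubgroupClass.coe_pow, ← hn]
      exact Subtype.ext (by simpa using congrArg Subtype.val hk)
    obtain ⟨Q', hQ'⟩ := hP'.exists_le_sylow
    exact ⟨⟨x, hx⟩, by rw [← Subsingleton.elim Q' P]; exact hQ' (Subgroup.mem_zpowers _), rfl⟩
  set N := Subgroup.normalizer (A : Set ↥(Cfsg.Sz F m)) with hNdef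
  have hconj : ∀ n ∈ N, ∀ τ ∈ T, n * τ * n⁻¹ ∈ T := by
    intro n hn τ hτ
    refine hmem _ ((Subgroup.mem_normalizer_iff.mp hn τ).mp (hTA hτ)) fun z => ?_
    obtain ⟨k, hk⟩ := Subgroup.mem_zpowers_iff.mp z.2
    obtain ⟨e, he⟩ := hTp ⟨τ, hτ⟩
    have he' : τ ^ p ^ e = 1 := congrArg Subtype.val he
    refine ⟨e, Subtype.ext ?_⟩
    rw [SubgroupClass.coe_pow, ← hk, ← zpow_natCast, ← zpow_mul, mul_comm, zpow_mul, zpow_natCast, conj_pow, he',
      mul_one, mul_inv_cancel, one_zpow]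
    rfl
  obtain ⟨y, hy⟩ : ∃ y : T, orderOf y = p := by
    refine exists_prime_orderOf_dvd_card' p ?_
    haveI : Nontrivial T := (Subgroup.nontrivial_iff_ne_bot T).mpr hTne
    obtain ⟨n, hn0, hn⟩ := hTp.nontrivial_iff_card.mp inferInstance
    rw [hn]
    exact dvd_pow_self p (by omega)
  have hy1 : (y : ↥(Cfsg.Sz F m)) ≠ 1 := fun e => hp.one_lt.ne (by
    rw [← hy, orderOf_eq_one_iff.mpr (Subtype.ext e : y = 1)])
  have hyp : (y : ↥(Cfsg.Sz F m)) ^ p = 1 := by
    rw [← SubgroupClass.coe_pow, ← hy, pow_orderOf_eq_one, OneMemClass.coe_one]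
  -- an element of order four in the normaliser
  haveI : Fact (Nat.Prime 2) := ⟨Nat.prime_two⟩
  obtain ⟨X, hX⟩ := Sylow.exists_subgroup_card_pow_prime (G := N) 2 (n := 2) (by rw [hN]; exact dvd_mul_right _ _)
  have hXA : ∀ x : N, x ∈ X → (x : ↥(Cfsg.Sz F m)) ∈ A → x = 1 := by
    intro x hx hxA
    refine orderOf_eq_one_iff.mp (Nat.eq_one_of_dvd_coprimes ((Nat.coprime_two_left.mpr hodd).pow_left 2) ?_ ?_)
    · rw [← hX, ← Subgroup.orderOf_mk x hx]
      exact orderOf_dvd_natCard _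
    · rw [← Subgroup.orderOf_coe, ← Subgroup.orderOf_mk (x : ↥(Cfsg.Sz F m)) hxA]
      exact orderOf_dvd_natCard _
  have hinv : ∀ x : N, x ∈ X → x ≠ 1 → x * x = 1 →
      ∀ τ ∈ T, (x : ↥(Cfsg.Sz F m)) * τ * (x : ↥(Cfsg.Sz F m))⁻¹ = τ⁻¹ := by
    intro x hx hx1 hxx
    have hxx' : (x : ↥(Cfsg.Sz F m)) * x = 1 := congrArg Subtype.val hxx
    refine inv_of_invol hTcyc hp hTp (hconj _ x.2) (fun τ _ => by rw [hxx', one_mul, mul_one]) y.2 hyp ?_
    intro e
    refine hx1 (hXA x hx ?_)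
    rw [← hC _ (hTA y.2) hy1, Subgroup.mem_centralizer_singleton_iff]
    exact e
  obtain ⟨j, hj, hjj⟩ : ∃ j : N, j ∈ X ∧ j * j ≠ 1 := by
    by_contra hcon
    push Not at hcon
    have hle : Nat.card X ≤ 2 := by
      by_contra hlt
      letI := Fintype.ofFinite X
      rw [Nat.card_eq_fintype_card, not_le] at hlt
      obtain ⟨x₁, x₂, x₃, h12, h13, h23⟩ := Fintype.two_lt_card_iff.mp hlt
      have hu : ∀ x x' : X, x ≠ 1 → x' ≠ 1 → x = x' := by
        intro x x' hx hx'
        have e1 := hinv x x.2 (fun e => hx (Subtype.ext e)) (hcon x x.2) y y.2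
        have e2 := hinv x' x'.2 (fun e => hx' (Subtype.ext e)) (hcon x' x'.2) y y.2
        have h1 : (x' : N)⁻¹ * x = 1 := by
          refine hXA _ (mul_mem (inv_mem x'.2) x.2) ?_
          rw [← hC _ (hTA y.2) hy1, Subgroup.mem_centralizer_singleton_iff, Subgroup.coe_mul, Subgroup.coe_inv]
          set a := ((x : N) : ↥(Cfsg.Sz F m))
          set b := ((x' : N) : ↥(Cfsg.Sz F m))
          set z := (y : ↥(Cfsg.Sz F m))
          calc b⁻¹ * a * z = b⁻¹ * (a * z * a⁻¹) * a := by group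
            _ = b⁻¹ * (b * z * b⁻¹) * a := by rw [e1, e2]
            _ = _ := by group
        exact Subtype.ext (inv_mul_eq_one.mp h1).symm
      by_cases h1 : x₁ = 1
      · exact h23 (hu _ _ (fun e => h12 (h1.trans e.symm)) (fun e => h13 (h1.trans e.symm)))
      · by_cases h2 : x₂ = 1
        · exact h13 (hu _ _ h1 (fun e => h23 (h2.trans e.symm)))
        · exact h12 (hu _ _ h1 h2)
    omega
  have hj4 : j ^ 4 = 1 := by
    have h := pow_card_eq_one' (G := X) (x := ⟨j, hj⟩)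
    rw [hX] at h
    exact congrArg Subtype.val h
  refine ⟨T, j, hTcyc, hTp, hTne, hTidx, by rw [← SubgroupClass.coe_pow, hj4, OneMemClass.coe_one],
    hconj _ j.2, ?_⟩
  have h := hinv (j * j) (mul_mem hj hj) hjj (by rw [← hj4, pow_succ j 3, pow_succ j 2, pow_two]; simp only [mul_assoc])
  simpa using h

/-- A cyclic Sylow subgroup with an element of order four. -/
theorem sz_torus (hm : 1 ≤ m) {p : ℕ} (hp : p.Prime) (hp2 : p ≠ 2)
    (hdvd : p ∣ (2 ^ (2 * m + 1)) ^ 2 + 1) :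
    ∃ (T : Subgroup ↥(Cfsg.Sz F m)) (j : ↥(Cfsg.Sz F m)), IsCyclic T ∧ IsPGroup p T ∧ T ≠ ⊥ ∧ ¬ p ∣ T.index ∧
      j ^ 4 = 1 ∧ (∀ τ ∈ T, j * τ * j⁻¹ ∈ T) ∧ ∀ τ ∈ T, j * j * τ * (j * j)⁻¹ = τ⁻¹ := by
  obtain ⟨Ap, Am, cp, hAp, up, np, cm, hAm, um, nm, -⟩ := classify hF hm
  obtain ⟨-, c2, c3, c4, c5, c6⟩ := coprime_orders hF hm _ _ _ rfl rfl rfl
  obtain ⟨hprod, -, hs4, hq8, -, hq2, -⟩ := arith hF hm _ _ rfl rfl
  rw [← hAp] at c2 c4 c6 hprod np
  rw [← hAm] at c3 c5 c6 hprod nm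
  have hG := card_Sz hF hm
  set q := 2 ^ (2 * m + 1) with hq
  have hodd : ∀ {n : ℕ}, n ∣ q ^ 2 + 1 → Odd n := by
    intro n hn
    refine Odd.of_dvd_nat ?_ hn
    rw [Nat.odd_iff, Nat.add_mod, Nat.pow_mod, hq2]
  have hcop : ∀ {n k : ℕ}, Nat.Coprime k n → p ∣ n → ¬ p ∣ k := fun hc hn hk =>
    hp.ne_one (Nat.eq_one_of_dvd_coprimes hc hk hn)
  rw [← hprod] at hdvd
  rcases hp.dvd_mul.mp hdvd with h | h
  · refine torus_pick hF hp hp2 Ap cp up np h (hodd (Dvd.intro _ hprod)) (r := q ^ 2 * (q - 1) * Nat.card Am)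
      (by rw [hG, ← hprod]; ring) ?_
    intro hd
    rcases hp.dvd_mul.mp hd with h' | h'
    · rcases hp.dvd_mul.mp h' with h'' | h''
      · exact hcop c2 h h''
      · exact hcop c4 h h''
    · exact hcop c6.symm h h'
  · refine torus_pick hF hp hp2 Am cm um nm h (hodd (Dvd.intro_left _ hprod)) (r := q ^ 2 * (q - 1) * Nat.card Ap)
      (by rw [hG, ← hprod]; ring) ?_
    intro hd
    rcases hp.dvd_mul.mp hd with h' | h'
    · rcases hp.dvd_mul.mp h' with h'' | h''
      · exact hcop c3 h h''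
      · exact hcop c5 h h''
    · exact hcop c6 h h'

end Sz

section Bar

variable {B : Type u} {X : Type v} [Group B] [Finite B] [MulAction B X] [FaithfulSMul B X] {b : X} {τ : B}
  {P : Subgroup B} {q0 : ℕ} (hS : IsRankOneSetup B X b τ P)

include hS

/-- Four involutions and more: the group comes from a Suzuki group. -/
theorem subdata_large (hP : IsPGroup 2 P) (hc : Nat.card P = q0 ^ 2) (hq : qZ B b = q0) (hq4 : 4 ≤ q0)
    (hnr : ¬ Rsq b τ P) (h4 : Four B) (hC : Concl b τ P) {p : ℕ} (hp : p.Prime) (hp2 : p ≠ 2)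
    (hd : p ∣ q0 ^ 2 + 1) : SubData B p := by
  classical
  haveI := Fact.mk Nat.prime_two
  obtain ⟨-, hsh, L, hL, hodd, hT⟩ := hC
  haveI := hL
  have hns : ∃ x ∈ P, x * x ≠ 1 := by
    by_contra h
    push Not at h
    exact hnr fun _ r _ hr _ => h r hr
  have hPL : P ≤ L := by
    intro x hx
    obtain ⟨k, hk⟩ := hP ⟨x, hx⟩
    have h1 : (QuotientGroup.mk x : B ⧸ L) ^ 2 ^ k = 1 := by
      rw [← QuotientGroup.mk_pow, show x ^ 2 ^ k = 1 from congrArg Subtype.val hk]
      rfl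
    have h2 : (QuotientGroup.mk x : B ⧸ L) ^ L.index = 1 := pow_card_eq_one'
    have h3 := pow_gcd_eq_one.mpr ⟨h1, h2⟩
    rw [show Nat.gcd (2 ^ k) L.index = 1 from (Nat.coprime_two_left.mpr hodd).pow_left k, pow_one] at h3
    exact (QuotientGroup.eq_one_iff x).mp h3
  -- the two-part of the order of `L`
  have htwo : ∀ n : ℕ, q0 ^ 2 = 2 ^ n → (Nat.card L).factorization 2 = n := by
    intro n hn
    have hB : Nat.card B = 2 ^ n * (Nat.card (D b τ) * (q0 ^ 2 + 1)) := by rw [card_group hS, hc, hn, mul_assoc]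
    have h0 := L.card_mul_index
    have hne : ¬ 2 ∣ Nat.card (D b τ) * (q0 ^ 2 + 1) := by
      refine fun h => Nat.not_even_iff_odd.mpr (hS.odd_card.mul ?_) (even_iff_two_dvd.mpr h)
      rw [← hc]
      exact hS.even_card.add_one
    have h1 := congrArg (fun N : ℕ => N.factorization 2) (h0.trans hB)
    have hz : Nat.card (D b τ) * (q0 ^ 2 + 1) ≠ 0 := fun e => hne (by rw [e]; exact dvd_zero 2)
    have hz' : (2 : ℕ) ^ n ≠ 0 := pow_ne_zero n two_ne_zero
    simp only [Nat.factorization_mul Nat.card_pos.ne' hodd.pos.ne', Nat.factorization_mul hz' hz, Finsupp.add_apply, Nat.prime_two.factorization_pow, Finsupp.single_eq_same,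
      Nat.factorization_eq_zero_of_not_dvd hne,
      Nat.factorization_eq_zero_of_not_dvd (fun h => Nat.not_even_iff_odd.mpr hodd (even_iff_two_dvd.mpr h)),
      add_zero] at h1
    exact h1
  obtain ⟨n, hn⟩ : ∃ n, q0 ^ 2 = 2 ^ n := by
    obtain ⟨k, hk⟩ := IsPGroup.iff_card.mp hP
    exact ⟨k, by rw [← hc, hk]⟩
  rcases hT with ⟨F, _, _, ⟨k, -, hk⟩, ⟨e⟩⟩ | ⟨F, _, _, m, hm, hF, ⟨e⟩⟩ | ⟨F, _, _, k, hk2, hk, ⟨e⟩⟩
  · -- linear groups have no elements of order four
    exfalso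
    haveI : CharP F 2 := by
      obtain ⟨c, hcF⟩ := CharP.exists F
      obtain ⟨f, hf, hf'⟩ := FiniteField.card F c
      rw [hk] at hf'
      have : c ∣ 2 ^ k := hf' ▸ dvd_pow_self c f.ne_zero
      exact (Nat.prime_dvd_prime_iff_eq hf Nat.prime_two).mp (hf.dvd_of_dvd_pow this) ▸ hcF
    obtain ⟨x, hx, hxx⟩ := hns
    obtain ⟨l, hl⟩ := hP ⟨x, hx⟩
    have h1 : e ⟨x, hPL hx⟩ ^ 2 ^ l = 1 := by
      rw [← map_pow, show (⟨x, hPL hx⟩ : L) ^ 2 ^ l = 1 from
        Subtype.ext (by rw [SubgroupClass.coe_pow]; exact congrArg Subtype.val hl), map_one]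
    have h2 := psl2_two_pow h1
    rw [← map_pow, MulEquiv.map_eq_one_iff, pow_two] at h2
    exact hxx (congrArg Subtype.val h2)
  · -- Suzuki groups
    let φ : ↥(Cfsg.Sz F m) →* B :=
      L.subtype.comp (((CfsgLib.Suzuki.lieEquiv hF hm).trans e.symm).toMonoidHom)
    have hφ : Function.Injective φ := Subtype.val_injective.comp ((CfsgLib.Suzuki.lieEquiv hF hm).trans e.symm).injective
    have hrange : φ.range = L := by
      rw [MonoidHom.range_comp, MonoidHom.range_eq_top.mpr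
        ((CfsgLib.Suzuki.lieEquiv hF hm).trans e.symm).surjective, ← MonoidHom.range_eq_map, Subgroup.range_subtype]
    have hqq : q0 = 2 ^ (2 * m + 1) := by
      have hcard : Nat.card L = (2 ^ (2 * m + 1)) ^ 2 * ((2 ^ (2 * m + 1)) ^ 2 + 1) * (2 ^ (2 * m + 1) - 1) := by
        rw [← CfsgLib.Suzuki.card_Sz hF hm]
        exact (Nat.card_congr ((CfsgLib.Suzuki.lieEquiv hF hm).trans e.symm).toEquiv).symm
      have h2 := htwo n hn
      have hne : ¬ 2 ∣ ((2 ^ (2 * m + 1)) ^ 2 + 1) * (2 ^ (2 * m + 1) - 1) := by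
        rw [Nat.prime_two.dvd_mul, not_or, ← even_iff_two_dvd, ← even_iff_two_dvd, Nat.not_even_iff_odd,
          Nat.not_even_iff_odd]
        exact ⟨((even_two.pow_of_ne_zero (by omega)).pow_of_ne_zero two_ne_zero).add_one,
          Nat.Even.sub_odd Nat.one_le_two_pow (even_two.pow_of_ne_zero (by omega)) odd_one⟩
      have hz : ((2 ^ (2 * m + 1)) ^ 2 + 1) * (2 ^ (2 * m + 1) - 1) ≠ 0 := fun e => hne (by rw [e]; exact dvd_zero 2)
      have hz' : ((2 : ℕ) ^ (2 * m + 1)) ^ 2 ≠ 0 := pow_ne_zero _ (pow_ne_zero _ two_ne_zero)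
      rw [hcard, mul_assoc, Nat.factorization_mul hz' hz, Finsupp.add_apply,
        Nat.factorization_eq_zero_of_not_dvd hne, ← pow_mul, Nat.prime_two.factorization_pow,
        Finsupp.single_eq_same, add_zero] at h2
      refine Nat.pow_left_injective two_ne_zero ?_
      show q0 ^ 2 = (2 ^ (2 * m + 1)) ^ 2
      rw [hn, ← h2, ← pow_mul]
    obtain ⟨T, j, hTc, hTp, hTne, hTidx, hj4, hjn, hjj⟩ := sz_torus hF hm hp hp2 (hqq ▸ hd)
    refine ⟨L, T.map φ, φ j, hL, hrange ▸ Subgroup.map_le_range φ T, ?_, hTp.map φ, ?_, ?_, ?_, ?_, ?_, ?_⟩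
    · haveI := hTc
      exact isCyclic_of_surjective _ (T.equivMapOfInjective φ hφ).surjective
    · exact fun h => hTne ((Subgroup.map_eq_bot_iff_of_injective _ hφ).mp h)
    · rw [← hrange, MonoidHom.range_eq_map, Subgroup.relIndex_map_map_of_injective _ _ hφ, Subgroup.relIndex_top_right]
      exact hTidx
    · rw [← hrange]
      exact ⟨j, rfl⟩
    · rw [← map_pow, hj4, map_one]
    · rintro _ ⟨z, hz, rfl⟩
      exact ⟨_, hjn z hz, by simp⟩
    · rintro _ ⟨z, hz, rfl⟩
      rw [← map_inv φ z, ← hjj z hz]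
      simp
  · -- unitary groups have too small a centre
    exfalso
    set R : Subgroup (Cfsg.PSU 3 F (2 ^ k)) := (P.subgroupOf L).map e.toMonoidHom with hR
    have hRc : Nat.card R = q0 ^ 2 := by
      rw [hR, Subgroup.card_map_of_injective e.injective,
        Nat.card_congr (Subgroup.subgroupOfEquivOfLe hPL).toEquiv, hc]
    have hG : (Nat.card (Cfsg.PSU 3 F (2 ^ k))).factorization 2 = n := by
      rw [← Nat.card_congr e.toEquiv]
      exact htwo n hn
    let S : Sylow 2 (Cfsg.PSU 3 F (2 ^ k)) := Sylow.ofCard R (by rw [hRc, hG, hn])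
    have hSR : (S : Subgroup (Cfsg.PSU 3 F (2 ^ k))) = R := Sylow.coe_ofCard _ _
    obtain ⟨h1, h2, h3⟩ := Cfsg.Agent.S1141.result hk2 hk S
    obtain ⟨h5, h6⟩ := Cfsg.Agent.S1137.result h3
    have hcent : Nat.card {x : ↥(S : Subgroup (Cfsg.PSU 3 F (2 ^ k))) // x * x = 1} = 2 ^ k := by
      refine Eq.trans (Nat.card_congr (Equiv.subtypeEquivRight fun x => ⟨fun hx => ?_, h6 x⟩)) h2
      by_cases h : x = 1
      · rw [h]
        exact one_mem _
      · exact ((h5 x).mp ⟨h, hx⟩).1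
    rw [hSR] at h1 hcent
    let f : P ≃* R := (Subgroup.subgroupOfEquivOfLe hPL).symm.trans
      ((P.subgroupOf L).equivMapOfInjective _ e.injective)
    have hinv : Nat.card {x : P // x * x = 1} = q0 := by
      rw [← hq, ← card_invGroup hS h4]
      refine Nat.card_congr
        { toFun := fun x => ⟨(x : P), hS.le x.1.2,
            (by simpa using congrArg Subtype.val x.2 : ((x : P) : B) * ((x : P) : B) = 1)⟩
          invFun := fun x => ⟨⟨x, invol_mem_Q hS (mem_stabilizer_iff.mp x.2.1) x.2.2⟩, Subtype.ext x.2.2⟩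
          left_inv := fun x => rfl
          right_inv := fun x => rfl }
    have heq : q0 = 2 ^ k := by
      rw [← hinv, ← hcent]
      exact Nat.card_congr (f.toEquiv.subtypeEquiv fun x => by
        show x * x = 1 ↔ f x * f x = 1
        rw [← map_mul, MulEquiv.map_eq_one_iff])
    rw [hRc, heq, ← pow_mul, ← pow_mul] at h1
    have := Nat.pow_right_injective le_rfl h1
    omega

/-- Two involutions fixing a point: order twenty. -/
theorem subdata_small (hc : Nat.card P = 4) (hq : qZ B b = 2) (hnr : ¬ Rsq b τ P) : SubData B 5 := by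
  classical
  haveI := Fact.mk (by norm_num : Nat.Prime 5)
  haveI := Fact.mk Nat.prime_two
  obtain ⟨⟨s, r⟩, ⟨hs, hr, he⟩, huniq⟩ := structure_eq hS
  have hrr : r * r ≠ 1 := by
    intro h
    refine hnr fun s' r' hs' hr' he' => ?_
    have e := huniq (s', r') ⟨hs', hr', he'⟩
    rw [show r' = r from congrArg Prod.snd e, h]
  have hone : ∀ x, x ∈ involutionsIn (stabilizer B b : Set B) → x = s := by
    intro x hx
    have h1 : Nat.card {x : B // x ∈ involutionsIn (stabilizer B b : Set B)} = 1 := by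
      rw [qZ] at hq
      omega
    haveI := (Nat.card_eq_one_iff_unique.mp h1).1
    exact congrArg Subtype.val
      (Subsingleton.elim (⟨x, hx⟩ : {x : B // x ∈ involutionsIn (stabilizer B b : Set B)}) ⟨s, hs⟩)
  have ho : orderOf r = 4 := by
    have h1 : orderOf r ∣ 2 ^ 2 := by
      rw [show 2 ^ 2 = Nat.card P by rw [hc]; rfl, ← Subgroup.orderOf_mk r hr]
      exact orderOf_dvd_natCard _
    obtain ⟨k, hk, hk'⟩ := (Nat.dvd_prime_pow Nat.prime_two).mp h1
    interval_cases k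
    · exact absurd (by rw [orderOf_eq_one_iff.mp hk', mul_one]) hrr
    · exact absurd (by rw [← pow_two]; exact (show (2 : ℕ) ^ 1 = 2 from rfl) ▸ hk' ▸ pow_orderOf_eq_one r) hrr
    · exact hk'
  have hr4 : r ^ 4 = 1 := ho ▸ pow_orderOf_eq_one r
  have hPz : Subgroup.zpowers r = P := Subgroup.eq_of_le_of_card_ge (Subgroup.zpowers_le.mpr hr)
    (by rw [Nat.card_zpowers, ho, hc])
  have hss : r * r = s := hone _ ⟨mul_mem (hS.le hr) (hS.le hr), hrr, by rw [← hr4, pow_succ r 3, pow_succ r 2, pow_two]; simp only [mul_assoc]⟩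
  have hD : ∀ d ∈ D b τ, d = 1 := by
    intro d hd
    have hds : s * d = d * s := (mul_inv_eq_iff_eq_mul.mp (hone (d * s * d⁻¹)
      ⟨mul_mem (mul_mem (D_le hS hd) hs.1) (inv_mem (D_le hS hd)),
        fun e => hs.2.1 (conj_eq_one_iff.mp e),
        by rw [show d * s * d⁻¹ * (d * s * d⁻¹) = d * (s * s) * d⁻¹ by group, hs.2.2, mul_one,
          mul_inv_cancel]⟩)).symm
    have hdt := cent_t_of_cent_s hS hs hr he hd hds
    have hdr : r * d = d * r := r_comm hS hd hdt hs hr he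
    refine eq_of_smul_eq_smul (α := X) fun c => ?_
    rw [one_smul]
    by_cases hca : c = b
    · rw [hca, ((mem_D hS).mp hd).1]
    · obtain ⟨y, hy, rfl⟩ := exists_Q_ta hS hca
      rw [← hPz] at hy
      obtain ⟨n, rfl⟩ := Subgroup.mem_zpowers_iff.mp hy
      have hdy : Commute d (r ^ n) := (show Commute d r from hdr.symm).zpow_right n
      rw [← mul_smul, hdy.eq, mul_smul, ((mem_D hS).mp hd).2]
  have hB : Nat.card B = 20 := by
    have h1 : Nat.card (D b τ) = 1 := Nat.card_eq_one_iff_unique.mpr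
      ⟨⟨fun x y => Subtype.ext ((hD x x.2).trans (hD y y.2).symm)⟩, ⟨1⟩⟩
    rw [card_group hS, hc, h1]
  obtain ⟨T⟩ : Nonempty (Sylow 5 B) := inferInstance
  have hTc : Nat.card (T : Subgroup B) = 5 := by
    rw [T.card_eq_multiplicity, hB, show (20 : ℕ) = 5 ^ 1 * 4 by norm_num,
      Nat.factorization_mul (by norm_num) (by norm_num), Finsupp.add_apply, Nat.Prime.factorization_pow (by norm_num),
      Finsupp.single_eq_same, Nat.factorization_eq_zero_of_not_dvd (by norm_num), add_zero, pow_one]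
  have hTi : (T : Subgroup B).index = 4 := by
    have h := (T : Subgroup B).card_mul_index
    rw [hTc, hB] at h
    omega
  have hTn : (T : Subgroup B).Normal := by
    have h1 : Nat.card (Sylow 5 B) ∣ 4 := hTi ▸ T.card_dvd_index
    have h2 := card_sylow_modEq_one 5 B
    have h3 : Nat.card (Sylow 5 B) = 1 := by
      have := Nat.le_of_dvd (by norm_num) h1
      unfold Nat.ModEq at h2
      omega
    haveI := (Nat.card_eq_one_iff_unique.mp h3).1
    exact Sylow.normal_of_subsingleton T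
  haveI := hTn
  have hconj : ∀ g : B, ∀ z ∈ (T : Subgroup B), g * z * g⁻¹ ∈ (T : Subgroup B) := fun g z hz =>
    hTn.conj_mem z hz g
  have hTne : (T : Subgroup B) ≠ ⊥ := fun e => by
    rw [e, Subgroup.card_bot] at hTc
    omega
  haveI hcyc : IsCyclic (T : Subgroup B) := isCyclic_of_prime_card hTc
  obtain ⟨y, hy⟩ := exists_prime_orderOf_dvd_card' (G := (T : Subgroup B)) 5 (by rw [hTc])
  have hy5 : (y : B) ^ 5 = 1 := by
    have h := pow_orderOf_eq_one y
    rw [hy] at h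
    rw [← SubgroupClass.coe_pow, h, OneMemClass.coe_one]
  refine ⟨⊤, T, r, inferInstance, le_top, hcyc, T.isPGroup', hTne, ?_, Subgroup.mem_top r, hr4, hconj r, ?_⟩
  · rw [Subgroup.relIndex_top_right, hTi]
    norm_num
  · rw [hss]
    refine inv_of_invol hcyc (by norm_num) T.isPGroup' (hconj s) (fun z _ => by rw [hs.2.2, one_mul, mul_one]) y.2
      hy5 ?_
    intro e
    have hyb : (y : B) • b = b := not_fix_of_commute hS hs.2.1 hs.2.2 hs.1 e
    have h1 : orderOf (y : B) ∣ Nat.card (stabilizer B b) := by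
      rw [← Subgroup.orderOf_mk (y : B) (mem_stabilizer_iff.mpr hyb)]
      exact orderOf_dvd_natCard _
    have h2 : Nat.card (D b τ) = 1 := Nat.card_eq_one_iff_unique.mpr
      ⟨⟨fun x y => Subtype.ext ((hD x x.2).trans (hD y y.2).symm)⟩, ⟨1⟩⟩
    rw [card_stab hS, hc, h2, Subgroup.orderOf_coe, hy] at h1
    norm_num at h1

end Bar

namespace Tr

variable {G : Type u} {Ω : Type v} [Group G] [MulAction G Ω] [Finite G] [FaithfulSMul G Ω] {a : Ω} {t : G}
  {Q : Subgroup G} {p q0 : ℕ} {v : G} (T : Tr a t Q p q0 v)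

include T

/-- The group on the fixed points of `v`. -/
theorem subdata (hd : p ∣ qZ G a ^ 2 + 1) (ih : IHyp.{u, v} (Nat.card G)) : SubData (Bar Ω v) p := by
  classical
  have hS := T.setup
  have hB := fixed_setup hS T.vD T.vt
  have hc : Nat.card (barQ Ω Q v) = q0 ^ 2 := by rw [card_barQ hS T.vD T.vt, T.fixQ]
  have hnr : ¬ Rsq (fixA hS T.vD) (toBar Ω v (fixT T.vt)) (barQ Ω Q v) := fun h =>
    T.nr (rsq_of_bar hS T.vD T.vt h)
  have h5 := T.five_le hd
  by_cases h2 : q0 = 2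
  · subst h2
    have hp5 : p = 5 := by
      rcases (Nat.dvd_prime (by norm_num : Nat.Prime (2 ^ 2 + 1))).mp (T.dvd_q0 hd) with h | h
      · omega
      · exact h
    subst hp5
    exact subdata_small hB (by rw [hc]; rfl) T.qZ_bar' hnr
  · have hq4 : 4 ≤ q0 := by
      obtain ⟨n, hn, rfl⟩ := T.qtwo
      exact Nat.pow_le_pow_right two_pos (show 2 ≤ n by
        rcases n with _ | _ | n
        · omega
        · exact absurd rfl h2
        · omega)
    obtain ⟨z, z', hne⟩ : ∃ z z' : {x : G // x ∈ involutionsIn (stabilizer G a : Set G) ∧ x * v = v * x},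
        z ≠ z' := by
      have h := T.fixE
      letI := Fintype.ofFinite {x : G // x ∈ involutionsIn (stabilizer G a : Set G) ∧ x * v = v * x}
      rw [Nat.card_eq_fintype_card] at h
      exact Fintype.exists_pair_of_one_lt_card (by omega)
    have h4 : Four (Bar Ω v) := four_bar hS T.vD T.vt z.2.1 z'.2.1 (fun e => hne (Subtype.ext e)) z.2.2 z'.2.2
      (invol_central hS T.four z.2.1 (invol_mem_Q hS (mem_stabilizer_iff.mp z'.2.1.1) z'.2.1.2.2))
    have hP : IsPGroup 2 (barQ Ω Q v) :=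
      (T.two.comap_of_injective (cen v).subtype (cen v).subtype_injective).map _
    exact subdata_large hB hP hc T.qZ_bar' hq4 hnr h4
      (ih _ _ _ _ _ hB h4 (card_bar_lt hS T.vD T.vt T.ne)) T.prime (by omega) (T.dvd_q0 hd)

end Tr

end CfsgLib.SuzukiRankOne
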