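import Cfsg.Agent.Lib.RankOne.Central
import Cfsg.Agent.Lib.AfterFT.RankOne
import Cfsg.Agent.S1131
import Cfsg.Agent.S1121
import Mathlib.FieldTheory.Finite.GaloisField

/-! Suzuki's theorem, the case `r² = 1`: the field of the central involutions. -/

set_option autoImplicit false
set_option linter.unusedSectionVars false
set_option linter.style.haveILetI false

namespace CfsgLib.SuzukiRankOne

open MulAction Cfsg CfsgLib.RankOne

universe u v

variable {G : Type u} {Ω : Type v} [Group G] [Finite G] [MulAction G Ω] [FaithfulSMul G Ω]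

/-- The unitary case of the rank-one set-up. -/
structure UHyp (a : Ω) (t : G) (Q : Subgroup G) : Prop where
  setup : IsRankOneSetup G Ω a t Q
  two : ∃ x y : G, x ≠ 1 ∧ y ≠ 1 ∧ x ≠ y ∧ x * x = 1 ∧ y * y = 1 ∧ x * y = y * x
  str : ∃ s ∈ involutionsIn (stabilizer G a : Set G), t * s * t = s * t * s

variable {a : Ω} {t : G} {Q : Subgroup G}

/-- `r² = 1` forces `r = s`. -/
theorem str_of_sq (hS : IsRankOneSetup G Ω a t Q)
    (h2 : ∃ x y : G, x ≠ 1 ∧ y ≠ 1 ∧ x ≠ y ∧ x * x = 1 ∧ y * y = 1 ∧ x * y = y * x) {s r : G}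
    (hs : s ∈ involutionsIn (stabilizer G a : Set G)) (hr : r ∈ Q) (he : t * s * t = r⁻¹ * t * r)
    (hr2 : r * r = 1) : t * s * t = s * t * s := by
  have ht := hS.mul_self
  have hri : r⁻¹ = r := inv_eq_of_mul_eq_one_right hr2
  rw [hri] at he
  have hr1 : r ≠ 1 := by
    intro e
    rw [e, one_mul, mul_one] at he
    refine hS.not_mem ?_
    have : s = t := by
      calc s = t * (t * s * t) * t := by simp [mul_assoc, ← mul_assoc t t, ht]
        _ = t := by rw [he]; simp [mul_assoc, ht]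
    exact this ▸ hs.1
  have hodd : Odd (orderOf (r * t)) :=
    (Cfsg.Agent.S1121.result hS).1 r t (hS.le hr) hr1 hr2 hS.not_mem hS.ne_one ht
  have h3 : (r * t) ^ 3 = r * s := by
    calc (r * t) ^ 3 = r * (t * (r * t * r) * t) := by rw [pow_three]; group
      _ = r * s := by rw [← he]; simp [mul_assoc, ← mul_assoc t t, ht]
  have hodd3 : Odd (orderOf ((r * t) ^ 3)) := hodd.of_dvd_nat (orderOf_pow_dvd 3)
  rw [h3] at hodd3
  have hsq : (r * s) * (r * s) = 1 := by
    have hsQ := invol_mem_Q hS hs.1 hs.2.2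
    have hcomm : s * r = r * s := invol_central hS h2 hs hr
    calc r * s * (r * s) = r * (s * r) * s := by group
      _ = r * r * (s * s) := by rw [hcomm]; group
      _ = 1 := by rw [hr2, hs.2.2, mul_one]
  have h1 : r * s = 1 := by
    refine orderOf_eq_one_iff.1 (Nat.dvd_one.1 ?_)
    have hd : orderOf (r * s) ∣ 2 := orderOf_dvd_of_pow_eq_one (by rw [pow_two, hsq])
    exact ((Nat.coprime_two_left.2 hodd3).symm).dvd_of_dvd_mul_left (n := 1) (by rwa [mul_one])
  have hrs : r = s := by rw [← inv_eq_of_mul_eq_one_right h1]; exact hri.symm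
  rw [he, hrs]

variable (h : UHyp a t Q)

include h

theorem UHyp.z_mem {x : G} (hx : x ∈ Q) (hx2 : x * x = 1) {y : G} (hy : y ∈ Q) : x * y = y * x := by
  by_cases h1 : x = 1
  · rw [h1, one_mul, mul_one]
  · exact invol_central h.setup h.two ⟨h.setup.le hx, h1, hx2⟩ hy

/-- The central involutions. -/
def UHyp.Z : Subgroup G where
  carrier := {x | x ∈ Q ∧ x * x = 1}
  one_mem' := ⟨Q.one_mem, one_mul 1⟩
  mul_mem' := fun {x y} hx hy => ⟨Q.mul_mem hx.1 hy.1, by
    calc x * y * (x * y) = x * (y * x) * y := by group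
      _ = x * x * (y * y) := by rw [h.z_mem hy.1 hy.2 hx.1]; group
      _ = 1 := by rw [hx.2, hy.2, mul_one]⟩
  inv_mem' := fun {x} hx => ⟨Q.inv_mem hx.1, by
    rw [← mul_inv_rev, hx.2, inv_one]⟩

theorem UHyp.mem_Z {x : G} : x ∈ h.Z ↔ x ∈ Q ∧ x * x = 1 := Iff.rfl

/-- Coordinates for the central involutions and the inverted elements. -/
theorem UHyp.exists_coords : ∃ (F : Type) (_ : Field F) (_ : Fintype F) (_ : CharP F 2) (u : F → G)
    (k : Fˣ →* G),
    4 ≤ Fintype.card F ∧ Function.Injective u ∧ Function.Injective k ∧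
    (∀ x, x ∈ Q → x * x = 1 → ∃ l, u l = x) ∧
    (∀ l, u l ∈ Q ∧ u l * u l = 1) ∧
    (∀ l m, u (l + m) = u l * u m) ∧
    (∀ e, k e ∈ invertedBy (D a t) t) ∧
    (∀ c ∈ invertedBy (D a t) t, ∃ e, k e = c) ∧
    (∀ e l, k e * u l * (k e)⁻¹ = u ((e : F) * e * l)) ∧
    t * u 1 * t = u 1 * t * u 1 ∧
    Fintype.card F = Nat.card (involutionsIn (stabilizer G a : Set G)) + 1 ∧
    (∀ d ∈ D a t, ∀ e, ∃ e', d * k e * d⁻¹ = k e') := by
  classical
  have hS := h.setup
  obtain ⟨C, hC, hCcyc, hCn⟩ := Cfsg.Agent.S1131.result hS h.two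
  have hCmem : ∀ {k : G}, k ∈ C ↔ k ∈ invertedBy (D a t) t := fun {k} => by rw [← SetLike.mem_coe, hC]
  obtain ⟨s, hs, hst⟩ := h.str
  have hsZ : s ∈ h.Z := ⟨invol_mem_Q hS hs.1 hs.2.2, hs.2.2⟩
  have hcomm : ∀ k ∈ C, ∀ l ∈ C, k * l = l * k := fun k hk l hl => by
    letI := hCcyc.commGroup
    exact congrArg Subtype.val (mul_comm (⟨k, hk⟩ : C) ⟨l, hl⟩)
  have hkZ : ∀ k ∈ C, ∀ z ∈ h.Z, k * z * k⁻¹ ∈ h.Z := fun k hk z hz =>
    ⟨conj_Q hS ((mem_D hS).1 (hCmem.1 hk).1).1 hz.1, by
      calc k * z * k⁻¹ * (k * z * k⁻¹) = k * (z * z) * k⁻¹ := by group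
        _ = 1 := by rw [hz.2, mul_one, mul_inv_cancel]⟩
  have hreg : ∀ z ∈ h.Z, z ≠ 1 → ∃ k ∈ C, k * s * k⁻¹ = z := by
    intro z hz hz1
    obtain ⟨k, hk, e⟩ := exists_conj_inverted hS hs ⟨hS.le hz.1, hz1, hz.2⟩
    exact ⟨k⁻¹, C.inv_mem (hCmem.2 hk), by rw [inv_inv]; exact e⟩
  have hfree : ∀ k ∈ C, k * s * k⁻¹ = s → k = 1 := fun k hk e => by
    by_contra hk1
    exact hs.2.1 (inverted_cent_Q hS (hCmem.1 hk) hk1 hsZ.1 (mul_inv_eq_iff_eq_mul.1 e))
  have hinjk : ∀ k ∈ C, ∀ l ∈ C, k * s * k⁻¹ = l * s * l⁻¹ → k = l := fun k hk l hl e => by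
    refine (inv_mul_eq_one.1 (hfree (l⁻¹ * k) (C.mul_mem (C.inv_mem hl) hk) ?_)).symm
    calc l⁻¹ * k * s * (l⁻¹ * k)⁻¹ = l⁻¹ * (k * s * k⁻¹) * l := by group
      _ = s := by rw [e]; group
  choose kz hkzC hkz using hreg
  letI : CommGroup h.Z := CommGroup.mk fun x y => Subtype.ext (h.z_mem x.2.1 x.2.2 y.2.1)
  let R := Additive h.Z
  let act : G → R → R := fun k z =>
    if hk : k ∈ C then Additive.ofMul ⟨k * (z.toMul : G) * k⁻¹, hkZ k hk _ z.toMul.2⟩ else z
  have act_val : ∀ k, k ∈ C → ∀ z : R, ((act k z).toMul : G) = k * (z.toMul : G) * k⁻¹ := fun k hk z => by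
    simp [act, hk]
  have act_add : ∀ k, k ∈ C → ∀ y z : R, act k (y + z) = act k y + act k z := fun k hk y z => by
    refine Additive.toMul.injective (Subtype.ext ?_)
    rw [toMul_add, Subgroup.coe_mul, act_val k hk, act_val k hk, act_val k hk, toMul_add, Subgroup.coe_mul]
    group
  have act_zero : ∀ k, k ∈ C → act k 0 = 0 := fun k hk => by
    refine Additive.toMul.injective (Subtype.ext ?_)
    simp [act_val k hk]
  let one' : R := Additive.ofMul ⟨s, hsZ⟩
  have hne : ∀ z : R, z ≠ 0 → (z.toMul : G) ≠ 1 := fun z hz e =>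
    hz (Additive.toMul.injective (Subtype.ext e))
  let K : R → G := fun z => if hz : z = 0 then 1 else kz _ z.toMul.2 (hne z hz)
  have K_mem : ∀ z : R, K z ∈ C := fun z => by
    by_cases hz : z = 0
    · simp [K, hz, C.one_mem]
    · simp only [K, dif_neg hz]; exact hkzC _ _ _
  have K_one : ∀ z : R, z ≠ 0 → act (K z) one' = z := fun z hz => by
    refine Additive.toMul.injective (Subtype.ext ?_)
    rw [act_val _ (K_mem z)]
    simp only [K, dif_neg hz]
    exact hkz _ _ (hne z hz)
  let m : R → R → R := fun x y => if x = 0 then 0 else act (K x) y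
  have m_comm : ∀ x y, m x y = m y x := by
    intro x y
    by_cases hx : x = 0
    · by_cases hy : y = 0
      · rw [hx, hy]
      · simp [m, hx, hy, act_zero _ (K_mem y)]
    by_cases hy : y = 0
    · simp [m, hx, hy, act_zero _ (K_mem x)]
    simp only [m, if_neg hx, if_neg hy]
    refine Additive.toMul.injective (Subtype.ext ?_)
    rw [act_val _ (K_mem x), act_val _ (K_mem y)]
    conv_lhs => rw [← K_one y hy, act_val _ (K_mem y)]
    conv_rhs => rw [← K_one x hx, act_val _ (K_mem x)]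
    rw [show ∀ p q : G, p * (q * (one'.toMul : G) * q⁻¹) * p⁻¹ = p * q * (one'.toMul : G) * (p * q)⁻¹ from
      fun p q => by group, hcomm _ (K_mem x) _ (K_mem y)]
    group
  have m_add : ∀ x y z, m x (y + z) = m x y + m x z := fun x y z => by
    by_cases hx : x = 0
    · simp [m, hx]
    · simp only [m, if_neg hx]; exact act_add _ (K_mem x) y z
  have m_ne : ∀ x y, x ≠ 0 → y ≠ 0 → m x y ≠ 0 := fun x y hx hy e => by
    simp only [m, if_neg hx] at e
    refine hne y hy ?_
    have := congrArg (fun r : R => (r.toMul : G)) e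
    simp only [act_val _ (K_mem x), toMul_zero, Subgroup.coe_one] at this
    exact conj_eq_one_iff.1 this
  have m_one : ∀ x, m x one' = x := fun x => by
    by_cases hx : x = 0
    · simp [m, hx]
    · simp only [m, if_neg hx]; exact K_one x hx
  have K_m : ∀ x y, x ≠ 0 → y ≠ 0 → K (m x y) = K x * K y := fun x y hx hy => by
    have hxy := m_ne x y hx hy
    refine hinjk _ (K_mem _) _ (C.mul_mem (K_mem x) (K_mem y)) ?_
    have e := congrArg (fun r : R => (r.toMul : G)) (K_one _ hxy)
    simp only [act_val _ (K_mem _)] at e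
    refine e.trans ?_
    simp only [m, if_neg hx, act_val _ (K_mem x)]
    conv_lhs => rw [← K_one y hy, act_val _ (K_mem y)]
    show K x * (K y * s * (K y)⁻¹) * (K x)⁻¹ = _
    group
  have m_assoc : ∀ x y z, m (m x y) z = m x (m y z) := by
    intro x y z
    by_cases hx : x = 0
    · simp [m, hx]
    by_cases hy : y = 0
    · simp [m, hx, hy, act_zero _ (K_mem x)]
    have hxy := m_ne x y hx hy
    have e : K (m x y) = K x * K y := K_m x y hx hy
    show (if m x y = 0 then 0 else act (K (m x y)) z) = if x = 0 then 0 else act (K x) (if y = 0 then 0 else act (K y) z)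
    rw [if_neg hxy, if_neg hx, if_neg hy]
    refine Additive.toMul.injective (Subtype.ext ?_)
    rw [act_val _ (K_mem _), act_val _ (K_mem x), act_val _ (K_mem y), e]
    group
  have hone0 : one' ≠ 0 := fun e => hs.2.1 (congrArg (fun r : R => (r.toMul : G)) e)
  letI cr : CommRing R :=
    { (inferInstance : AddCommGroup R) with
      mul := m
      one := one'
      left_distrib := m_add
      right_distrib := fun x y z => by
        show m (x + y) z = m x z + m y z
        rw [m_comm, m_add, m_comm z x, m_comm z y]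
      zero_mul := fun x => if_pos rfl
      mul_zero := fun x => (m_comm x 0).trans (if_pos rfl)
      mul_assoc := m_assoc
      one_mul := fun x => (m_comm one' x).trans (m_one x)
      mul_one := m_one
      mul_comm := m_comm }
  haveI : Nontrivial R := ⟨one', 0, hone0⟩
  haveI : IsDomain R :=
    haveI : NoZeroDivisors R := ⟨fun {x y} e => by
      by_contra hc
      rw [not_or] at hc
      exact m_ne x y hc.1 hc.2 e⟩
    NoZeroDivisors.to_isDomain R
  letI : Fintype R := Fintype.ofFinite R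
  letI fR : Field R := Fintype.fieldOfDomain R
  haveI : CharP R 2 := CharTwo.of_one_ne_zero_of_two_eq_zero one_ne_zero (by
    rw [← one_add_one_eq_two]
    exact Additive.toMul.injective (Subtype.ext hs.2.2))
  obtain ⟨n, -, hn⟩ := FiniteField.card R 2
  haveI : Fact (Nat.Prime 2) := ⟨Nat.prime_two⟩
  have hcardR : Fintype.card R = Nat.card (involutionsIn (stabilizer G a : Set G)) + 1 := by
    have e : (h.Z : Set G) = insert 1 (involutionsIn (stabilizer G a : Set G)) := by
      ext x
      constructor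
      · intro hx
        by_cases hx1 : x = 1
        · exact Or.inl hx1
        · exact Or.inr ⟨hS.le hx.1, hx1, hx.2⟩
      · rintro (rfl | hx)
        · exact one_mem _
        · exact ⟨invol_mem_Q hS hx.1 hx.2.2, hx.2.2⟩
    rw [← Nat.card_eq_fintype_card, Nat.card_congr Additive.toMul, ← SetLike.coe_sort_coe,
      Nat.card_coe_set_eq, e, Set.ncard_insert_of_notMem (fun hx => hx.2.1 rfl) (Set.toFinite _),
      Nat.card_coe_set_eq]
  obtain ⟨x₁, hx₁, x₂, hx₂, h12⟩ := two_le_card_invol hS h.two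
  have h4 : 4 ≤ Fintype.card R := by
    have h3 : 2 ≤ Nat.card (involutionsIn (stabilizer G a : Set G)) :=
      Finite.one_lt_card_iff_nontrivial.2 ⟨⟨x₁, hx₁⟩, ⟨x₂, hx₂⟩, fun e => h12 (congrArg Subtype.val e)⟩
    have h1 : 3 ≤ 2 ^ (n : ℕ) := by omega
    have : 2 ≤ (n : ℕ) := by
      by_contra hc
      have : (2:ℕ) ^ (n : ℕ) ≤ 2 ^ 1 := Nat.pow_le_pow_right (by norm_num) (by omega)
      omega
    calc (4 : ℕ) = 2 ^ 2 := rfl
      _ ≤ 2 ^ (n : ℕ) := Nat.pow_le_pow_right (by norm_num) this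
      _ = _ := hn.symm
  letI : Fintype (GaloisField 2 n) := Fintype.ofFinite _
  have hcardF : Fintype.card (GaloisField 2 n) = Fintype.card R := by
    rw [hn, ← Nat.card_eq_fintype_card, GaloisField.card 2 n n.ne_zero]
  let φ : GaloisField 2 n ≃+* R := FiniteField.ringEquivOfCardEq hcardF
  let k : (GaloisField 2 n)ˣ →* G :=
    { toFun := fun e => K (φ e)
      map_one' := by
        refine hfree _ (K_mem _) ?_
        have e := congrArg (fun r : R => (r.toMul : G)) (K_one one' hone0)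
        simp only [act_val _ (K_mem _)] at e
        rw [Units.val_one, map_one]
        exact e
      map_mul' := fun e f => by
        rw [Units.val_mul, map_mul]
        exact K_m _ _ ((map_ne_zero φ).2 e.ne_zero) ((map_ne_zero φ).2 f.ne_zero) }
  have ksq : ∀ (e : (GaloisField 2 n)ˣ) (l : GaloisField 2 n),
      k e * ((φ l).toMul : G) * (k e)⁻¹ = ((φ ((e : GaloisField 2 n) * l)).toMul : G) := fun e l => by
    rw [map_mul]
    show K (φ e) * _ * _ = ((m (φ e) (φ l)).toMul : G)
    simp only [m, if_neg ((map_ne_zero φ).2 e.ne_zero), act_val _ (K_mem _)]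
    rfl
  have ksurj : ∀ c ∈ C, ∃ e : (GaloisField 2 n)ˣ, k.comp (powMonoidHom 2) e = c := by
    intro c hc
    let z : R := Additive.ofMul ⟨c * s * c⁻¹, hkZ c hc s hsZ⟩
    have hz : z ≠ 0 := fun e =>
      hs.2.1 (conj_eq_one_iff.1 (congrArg (fun r : R => (r.toMul : G)) e))
    obtain ⟨e, he⟩ : ∃ e, e ^ 2 = φ.symm z :=
      Finite.injective_iff_surjective.1 CharTwo.sq_injective (φ.symm z)
    have he0 : e ≠ 0 := fun e0 => hz (by
      have : φ.symm z = 0 := by rw [← he, e0]; simp
      simpa using congrArg φ this)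
    refine ⟨Units.mk0 e he0, hinjk _ (K_mem _) _ hc ?_⟩
    have := ksq ((Units.mk0 e he0) ^ 2) 1
    rw [mul_one, map_one, Units.val_pow_eq_pow_val, Units.val_mk0] at this
    refine this.trans ?_
    rw [he, RingEquiv.apply_symm_apply]
    rfl
  refine ⟨GaloisField 2 n, inferInstance, inferInstance, inferInstance, fun l => ((φ l).toMul : G),
    k.comp (powMonoidHom 2), hcardF ▸ h4, fun x y e => φ.injective (Additive.toMul.injective (Subtype.ext e)),
    ?_, ?_, fun l => (φ l).toMul.2, fun l m => by simp only [map_add]; rfl, fun e => hCmem.1 (K_mem _), ?_, ?_, ?_,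
    by rw [hcardF, hcardR], ?_⟩
  · intro e f hef
    have h0 := congrArg (fun g : G => g * s * g⁻¹) hef
    have he : ∀ e : (GaloisField 2 n)ˣ, k (e ^ 2) * s * (k (e ^ 2))⁻¹ = ((φ ((e : GaloisField 2 n) ^ 2)).toMul : G) := by
      intro e
      have := ksq (e ^ 2) 1
      rw [mul_one, map_one, Units.val_pow_eq_pow_val] at this
      exact this
    simp only [MonoidHom.comp_apply, powMonoidHom_apply, he] at h0
    exact Units.ext (CharTwo.sq_injective (φ.injective (Additive.toMul.injective (Subtype.ext h0))))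
  · intro x hx hx2
    exact ⟨φ.symm (Additive.ofMul ⟨x, hx, hx2⟩), by simp⟩
  · exact fun c hc => ksurj c (hCmem.2 hc)
  · intro e l
    have := ksq (e ^ 2) l
    rw [Units.val_pow_eq_pow_val, pow_two (e : GaloisField 2 n)] at this
    exact this
  · show t * ((φ 1).toMul : G) * t = _
    simp only [map_one]
    exact hst
  · intro d hd e
    obtain ⟨e', he'⟩ := ksurj _ (hCn d hd _ (K_mem (φ ((e ^ 2 : (GaloisField 2 n)ˣ) : GaloisField 2 n))))
    exact ⟨e', he'.symm⟩

end CfsgLib.SuzukiRankOne
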