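import Cfsg.Agent.Lib.SuzukiRankOne.UnitarySL2
import Cfsg.Agent.Lib.SuzukiRankOne.UnitaryField

/-! Suzuki's theorem, the case `r² = 1`: the subgroup `SL₂(q)` and its semiregular action outside one line. -/

set_option autoImplicit false
set_option linter.unusedSectionVars false
set_option linter.style.haveILetI false

namespace CfsgLib.SuzukiRankOne

open MulAction Cfsg CfsgLib.RankOne CfsgLib.Dickson OnePoint

universe u v

variable {G : Type u} {Ω : Type v} [Group G] [Finite G] [MulAction G Ω] [FaithfulSMul G Ω] {a : Ω} {t : G}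
  {Q : Subgroup G}

/-- The subgroup `SL₂(q)` of a set-up with `r² = 1`. -/
structure Chart (a : Ω) (t : G) (Q : Subgroup G) (F : Type) [Field F] [CharP F 2] where
  φ : SL2 F →* G
  w : φ wSL = t
  mem : ∀ x, φ (up x) ∈ Q
  invol : ∀ x ∈ Q, x * x = 1 → ∃ l, φ (up l) = x
  dia_mem : ∀ e, φ (dia e) ∈ invertedBy (D a t) t
  dia_surj : ∀ c ∈ invertedBy (D a t) t, ∃ e, φ (dia e) = c
  inj : Function.Injective φ
  conj : ∀ d ∈ D a t, ∀ e, ∃ e', d * φ (dia e) * d⁻¹ = φ (dia e')

/-- The line through `a` and `t • a`, given by a map of parameters. -/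
def lineMap {F : Type} (a : Ω) (t : G) (u : F → G) (p : OnePoint F) : Ω :=
  OnePoint.elim p a fun x => u x • t • a

variable (h : UHyp a t Q)

include h

theorem UHyp.exists_chart : ∃ (F : Type) (_ : Field F) (_ : Fintype F) (_ : CharP F 2),
    4 ≤ Fintype.card F ∧ Fintype.card F = Nat.card (involutionsIn (stabilizer G a : Set G)) + 1 ∧
    Nonempty (Chart a t Q F) := by
  classical
  obtain ⟨F, iF, iFt, iC, u, k, h4, uinj, kinj, usurj, umem, uadd, kmem, ksurj, kconj, hstr, hcard, hnorm⟩ :=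
    h.exists_coords
  refine ⟨F, iF, iFt, iC, h4, hcard, ?_⟩
  have hS := h.setup
  have ht := hS.mul_self
  have u0 : u 0 = 1 := by
    have := uadd 0 0
    rwa [add_zero, left_eq_mul] at this
  have kD : ∀ e, k e • a = a ∧ k e • t • a = t • a := fun e => (mem_D hS).1 (kmem e).1
  have kt : ∀ e, t * k e = (k e)⁻¹ * t := fun e => by
    rw [← (kmem e).2, inv_t hS]; simp [mul_assoc, ht]
  have kt' : ∀ e, k e * t = t * (k e)⁻¹ := fun e => by
    have := kt e⁻¹
    rw [map_inv, inv_inv] at this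
    exact this.symm
  have ku : ∀ e x, k e * u x = u ((e : F) * e * x) * k e := fun e x =>
    mul_inv_eq_iff_eq_mul.1 (kconj e x)
  have uk : ∀ e x, u x * k e = k e * u ((e⁻¹ : Fˣ) * (e⁻¹ : Fˣ) * x) := fun e x => by
    rw [ku e, show (e : F) * e * ((e⁻¹ : Fˣ) * (e⁻¹ : Fˣ) * x) = x by simp; field_simp]
  have tut : ∀ x : F, x ≠ 0 → ∃ e : Fˣ, (e : F) = x⁻¹ ∧ t * u x * t = u x⁻¹ * k e * t * u x⁻¹ := by
    intro x hx
    obtain ⟨f, hf⟩ : ∃ f : F, f ^ 2 = x⁻¹ := Finite.injective_iff_surjective.1 CharTwo.sq_injective x⁻¹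
    have hf0 : f ≠ 0 := fun e => inv_ne_zero hx (by rw [← hf, e]; simp)
    refine ⟨Units.mk0 x⁻¹ (inv_ne_zero hx), rfl, ?_⟩
    set e := Units.mk0 f hf0 with he
    have e1 : Units.mk0 x⁻¹ (inv_ne_zero hx) = e * e := Units.ext (by simp [he, ← hf, sq])
    have e2 : (e : F) * e * 1 = x⁻¹ := by simp [he, ← hf, sq]
    have e3 : ((e⁻¹ : Fˣ) : F) * (e⁻¹ : Fˣ) * 1 = x := by
      rw [Units.val_inv_eq_inv_val, mul_one, ← mul_inv, he, Units.val_mk0, ← sq, hf, inv_inv]
    have l1 : k e * (t * u 1 * t) * (k e)⁻¹ = t * u x * t := by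
      have h1 : u 1 * k e = k e * u x := by rw [uk e 1, e3]
      calc k e * (t * u 1 * t) * (k e)⁻¹ = k e * t * u 1 * (t * (k e)⁻¹) := by group
        _ = t * (k e)⁻¹ * u 1 * (k e * t) := by rw [kt', ← kt' e]
        _ = t * (k e)⁻¹ * (u 1 * k e) * t := by group
        _ = t * u x * t := by rw [h1]; group
    rw [← l1, hstr, e1, map_mul]
    have h2 : k e * u 1 = u x⁻¹ * k e := by rw [ku, e2]
    have h3 : u 1 * (k e)⁻¹ = (k e)⁻¹ * u x⁻¹ := by
      calc u 1 * (k e)⁻¹ = (k e)⁻¹ * (k e * u 1) * (k e)⁻¹ := by group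
        _ = (k e)⁻¹ * u x⁻¹ := by rw [h2]; group
    calc k e * (u 1 * t * u 1) * (k e)⁻¹ = k e * u 1 * t * (u 1 * (k e)⁻¹) := by group
      _ = u x⁻¹ * k e * (t * (k e)⁻¹) * u x⁻¹ := by rw [h2, h3]; group
      _ = u x⁻¹ * (k e * k e) * t * u x⁻¹ := by rw [← kt' e]; group
  -- normal forms
  let InP : G → Prop := fun g => ∃ p e, g = u p * k e
  let S : G → Prop := fun g => InP g ∨ ∃ p, InP p ∧ ∃ r, g = p * t * u r
  have hP_u : ∀ g x, InP g → InP (g * u x) := by
    rintro g x ⟨p, e, rfl⟩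
    exact ⟨p + (e : F) * e * x, e, by rw [mul_assoc, ku, uadd]; group⟩
  have hP_k : ∀ g f, InP g → InP (g * k f) := by
    rintro g f ⟨p, e, rfl⟩
    exact ⟨p, e * f, by rw [map_mul, mul_assoc]⟩
  have hS_u : ∀ g x, S g → S (g * u x) := by
    rintro g x (hg | ⟨p, hp, r, rfl⟩)
    · exact Or.inl (hP_u g x hg)
    · exact Or.inr ⟨p, hp, r + x, by rw [uadd]; group⟩
  have hS_k : ∀ g f, S g → S (g * k f) := by
    rintro g f (hg | ⟨p, hp, r, rfl⟩)
    · exact Or.inl (hP_k g f hg)
    · refine Or.inr ⟨p * k f⁻¹, hP_k _ _ hp, ((f⁻¹ : Fˣ) : F) * (f⁻¹ : Fˣ) * r, ?_⟩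
      rw [mul_assoc (p * t), uk, map_inv, mul_assoc p (k f)⁻¹ t, ← kt f]
      group
  have hS_t : ∀ g, S g → S (g * t) := by
    rintro g (hg | ⟨p, hp, r, rfl⟩)
    · exact Or.inr ⟨g, hg, 0, by rw [u0, mul_one]⟩
    by_cases hr : r = 0
    · refine Or.inl ?_
      rw [hr, u0, mul_one, mul_assoc, ht, mul_one]
      exact hp
    · obtain ⟨e, -, he⟩ := tut r hr
      refine Or.inr ⟨p * u r⁻¹ * k e, hP_k _ _ (hP_u _ _ hp), r⁻¹, ?_⟩
      calc p * t * u r * t = p * (t * u r * t) := by group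
        _ = _ := by rw [he]; group
  let L := Subgroup.closure (Set.range u ∪ Set.range k ∪ {t})
  have uL : ∀ x, u x ∈ L := fun x => Subgroup.subset_closure (Or.inl (Or.inl ⟨x, rfl⟩))
  have kL : ∀ e, k e ∈ L := fun e => Subgroup.subset_closure (Or.inl (Or.inr ⟨e, rfl⟩))
  have tL : t ∈ L := Subgroup.subset_closure (Or.inr rfl)
  have hform : ∀ g ∈ L, S g := by
    intro g hg
    induction hg using Subgroup.closure_induction_right with
    | one => exact Or.inl ⟨0, 1, by rw [u0, map_one, mul_one]⟩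
    | mul_right x _ y hy ih =>
      rcases hy with (⟨z, rfl⟩ | ⟨z, rfl⟩) | hy
      · exact hS_u _ _ ih
      · exact hS_k _ _ ih
      · rw [Set.mem_singleton_iff.1 hy]; exact hS_t _ ih
    | mul_inv_cancel x _ y hy ih =>
      rcases hy with (⟨z, rfl⟩ | ⟨z, rfl⟩) | hy
      · rw [inv_eq_of_mul_eq_one_right (umem z).2]; exact hS_u _ _ ih
      · rw [← map_inv]; exact hS_k _ _ ih
      · rw [Set.mem_singleton_iff.1 hy, inv_t hS]; exact hS_t _ ih
  let P := lineMap a t u
  have htriv : ∀ g ∈ L, g • a = a → g • t • a = t • a → g • u 1 • t • a = u 1 • t • a → g = 1 := by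
    intro g hg h1 h2 h3
    rcases hform g hg with ⟨p, e, rfl⟩ | ⟨_, ⟨p, e, rfl⟩, r, rfl⟩
    · rw [mul_smul, (kD e).2] at h2
      have hp := eq_one_of_fix_ta hS (umem p).1 h2
      rw [hp, one_mul] at h3 ⊢
      rw [← mul_smul, ku, mul_smul, (kD e).2] at h3
      have := uinj (Q_ta_inj hS (umem _).1 (umem 1).1 h3)
      rw [mul_one, ← sq, ← one_pow 2] at this
      rw [show e = 1 from Units.ext (CharTwo.sq_injective this), map_one]
    · exfalso
      rw [mul_smul, mul_smul, mem_Q_a hS (umem r).1, mul_smul, (kD e).2] at h1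
      exact ta_ne hS (smul_left_cancel (u p) (h1.trans (mem_Q_a hS (umem p).1).symm))
  -- the action on the line
  let Rel : SL2 F → G → Prop := fun g x => x ∈ L ∧ ∀ p, x • P p = P (mob g p)
  have hone : Rel 1 1 := ⟨one_mem _, fun p => by rw [one_smul, mob_one]⟩
  have hmul : ∀ {g g' x x'}, Rel g x → Rel g' x' → Rel (g * g') (x * x') := fun {g g' x x'} hx hx' =>
    ⟨mul_mem hx.1 hx'.1, fun p => by rw [mul_smul, hx'.2, hx.2, mob_mul]⟩
  have hu : ∀ y, Rel (up y) (u y) := fun y => ⟨uL y, fun p => by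
    cases p with
    | infty => rw [mob_up_infty]; exact mem_Q_a hS (umem y).1
    | coe x =>
      rw [mob_up]
      show u y • u x • t • a = u (x + y) • t • a
      rw [← mul_smul, add_comm, uadd]⟩
  have hk : ∀ e, Rel (dia e) (k e) := fun e => ⟨kL e, fun p => by
    cases p with
    | infty => rw [mob_dia_infty]; exact (kD e).1
    | coe x =>
      rw [mob_dia]
      show k e • u x • t • a = u _ • t • a
      rw [← mul_smul, ku, mul_smul, (kD e).2]⟩
  have hw : Rel wSL t := ⟨tL, fun p => by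
    cases p with
    | infty =>
      rw [mob_w_infty]
      show t • a = u 0 • t • a
      rw [u0, one_smul]
    | coe x =>
      rw [mob_w]
      show t • u x • t • a = _
      by_cases hx : x = 0
      · rw [if_pos hx, hx, u0, one_smul, smul_smul_t hS]
        rfl
      · rw [if_neg hx]
        obtain ⟨e, -, he⟩ := tut x hx
        show t • u x • t • a = u x⁻¹ • t • a
        rw [← mul_smul, ← mul_smul, he, mul_smul, mem_Q_a hS (umem _).1, mul_smul, mul_smul, ← mul_smul, ← mul_smul]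
        rw [mul_smul, mul_smul, (kD e).2]⟩
  have hex : ∀ g, ∃ x, Rel g x := gen_induction ⟨1, hone⟩ (fun _ y ⟨x, hx⟩ => ⟨_, hmul hx (hu y)⟩)
    (fun _ e ⟨x, hx⟩ => ⟨_, hmul hx (hk e)⟩) fun _ ⟨x, hx⟩ => ⟨_, hmul hx hw⟩
  have huniq : ∀ {g x x'}, Rel g x → Rel g x' → x = x' := fun {g x x'} hx hx' => by
    have e : ∀ p, (x'⁻¹ * x) • P p = P p := fun p => by rw [mul_smul, hx.2, ← hx'.2, inv_smul_smul]
    refine (inv_mul_eq_one.1 (htriv _ (mul_mem (inv_mem hx'.1) hx.1) (e ∞) ?_ (e ((1 : F) : OnePoint F)))).symm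
    have := e ((0 : F) : OnePoint F)
    simp only [P, lineMap, OnePoint.elim_some, u0, one_smul] at this
    exact this
  choose φ hφ using hex
  refine ⟨⟨MonoidHom.mk' φ fun g g' => huniq (hφ _) (hmul (hφ g) (hφ g')), huniq (hφ _) hw, ?_, ?_, ?_, ?_, ?_, ?_⟩⟩
  · intro x
    show φ (up x) ∈ Q
    rw [huniq (hφ _) (hu x)]; exact (umem x).1
  · intro x hx hx2
    obtain ⟨l, rfl⟩ := usurj x hx hx2
    exact ⟨l, huniq (hφ _) (hu l)⟩
  · intro e
    show φ (dia e) ∈ _
    rw [huniq (hφ _) (hk e)]; exact kmem e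
  · intro c hc
    obtain ⟨e, rfl⟩ := ksurj c hc
    exact ⟨e, huniq (hφ _) (hk e)⟩
  · refine (injective_iff_map_eq_one _).2 fun g hg => mob_faithful fun p => ?_
    have hP : Function.Injective P := by
      intro p q e
      have hne : ∀ x, u x • t • a ≠ a := fun x e =>
        ta_ne hS (smul_left_cancel (u x) (e.trans (mem_Q_a hS (umem x).1).symm))
      cases p with
      | infty =>
        cases q with
        | infty => rfl
        | coe y => exact absurd e.symm (hne y)
      | coe x =>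
        cases q with
        | infty => exact absurd e (hne x)
        | coe y => exact congrArg _ (uinj (Q_ta_inj hS (umem x).1 (umem y).1 e))
    exact hP (by rw [← (hφ g).2 p, show φ g = 1 from hg, one_smul])
  · intro d hd e
    obtain ⟨e', he'⟩ := hnorm d hd e
    refine ⟨e', ?_⟩
    show d * φ (dia e) * d⁻¹ = φ (dia e')
    rw [huniq (hφ _) (hk e), huniq (hφ _) (hk e'), he']

omit h

variable {F : Type} [Field F] [CharP F 2] (hS : IsRankOneSetup G Ω a t Q) (C : Chart a t Q F)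

namespace Chart

/-- The point of parameter `p` of the basic line. -/
def pt (p : OnePoint F) : Ω := lineMap a t (fun x => C.φ (up x)) p

theorem pt_infty : C.pt ∞ = a := rfl

theorem pt_coe (x : F) : C.pt (x : OnePoint F) = C.φ (up x) • t • a := rfl

theorem pt_zero : C.pt ((0 : F) : OnePoint F) = t • a := by rw [pt_coe, up_zero, map_one, one_smul]

include hS

theorem dia_fix (e : Fˣ) : C.φ (dia e) • a = a ∧ C.φ (dia e) • t • a = t • a := (mem_D hS).1 (C.dia_mem e).1

theorem up_fix (x : F) : C.φ (up x) • a = a := mem_Q_a hS (C.mem x)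

variable [DecidableEq F]

theorem smul_pt (g : SL2 F) (p : OnePoint F) : C.φ g • C.pt p = C.pt (mob g p) := by
  revert p
  refine gen_induction (P := fun g => ∀ p, C.φ g • C.pt p = C.pt (mob g p)) ?_ ?_ ?_ ?_ g
  · intro p; rw [map_one, one_smul, mob_one]
  · intro g x hg p
    rw [map_mul, mul_smul, mob_mul, ← hg]
    congr 1
    cases p with
    | infty => rw [mob_up_infty, pt_infty, up_fix hS C]
    | coe y => rw [mob_up, pt_coe, pt_coe, ← mul_smul, ← map_mul, up_mul, add_comm]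
  · intro g e hg p
    rw [map_mul, mul_smul, mob_mul, ← hg]
    congr 1
    cases p with
    | infty => rw [mob_dia_infty, pt_infty, (dia_fix hS C e).1]
    | coe y =>
      rw [mob_dia, pt_coe, pt_coe, ← mul_smul, ← map_mul, dia_up, map_mul, mul_smul, (dia_fix hS C e).2]
  · intro g hg p
    rw [map_mul, mul_smul, mob_mul, ← hg]
    congr 1
    cases p with
    | infty => rw [mob_w_infty, pt_infty, pt_zero, C.w]
    | coe y =>
      rw [mob_w, pt_coe, C.w]
      by_cases hy : y = 0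
      · rw [if_pos hy, hy, up_zero, map_one, one_smul, smul_smul_t hS, pt_infty]
      · rw [if_neg hy, pt_coe]
        have e : t * C.φ (up y) * t =
            C.φ (up y⁻¹) * (C.φ (dia (Units.mk0 _ (inv_ne_zero hy))) * t) * C.φ (up y⁻¹) := by
          have hid : (wSL : SL2 F) * up y * wSL = up y⁻¹ * (dia (Units.mk0 _ (inv_ne_zero hy)) * wSL) * up y⁻¹ := by
            apply ext_entries <;> simp [mul_entry] <;> field_simp <;> ring_nf <;> simp [CharTwo.two_eq_zero]
          have := congrArg C.φ hid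
          simpa only [map_mul, C.w] using this
        calc t • C.φ (up y) • t • a = (t * C.φ (up y) * t) • a := by simp only [mul_smul]
          _ = _ := by rw [e, mul_smul, mul_smul, mul_smul, up_fix hS C, (dia_fix hS C _).2]

end Chart

end CfsgLib.SuzukiRankOne
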