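import Cfsg.Agent.Lib.SuzukiRankOne.UnitaryOrbit

/-! Suzuki's theorem, the case `r² = 1`: the quadratic form of the squaring map of `Q`. -/

set_option autoImplicit false
set_option linter.unusedSectionVars false
set_option linter.style.haveILetI false

namespace CfsgLib.SuzukiRankOne

open MulAction Cfsg CfsgLib.RankOne CfsgLib.Dickson OnePoint

universe u v

section field

variable {F : Type} [Field F] [Fintype F] [CharP F 2]

theorem exists_not_one (h4 : 4 ≤ Fintype.card F) : ∃ e : F, e ≠ 0 ∧ e ≠ 1 := by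
  classical
  by_contra hc
  push Not at hc
  have : Finset.univ ⊆ ({0, 1} : Finset F) := fun x _ => by
    by_cases hx : x = 0
    · simp [hx]
    · simp [hc x hx]
  have h1 := Finset.card_le_card this
  have h2 := Finset.card_le_two (a := (0 : F)) (b := 1)
  rw [Finset.card_univ] at h1
  omega

/-- Two semilinear corrections differing by a translation force the identity. -/
theorem sigma_eq_id {σ : F → F} (hadd : ∀ x y, σ (x + y) = σ x + σ y) (hone : σ 1 = 1) (h4 : 4 ≤ Fintype.card F)
    (h : ∀ l₁ : F, l₁ ≠ 0 → ∃ T : F → F, (∀ x y, T (x + y) = T x + T y) ∧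
      ∀ l, l ≠ 0 → T l = σ l + σ l₁ + l₁ * σ l / l) (l₁ : F) : σ l₁ = l₁ := by
  obtain ⟨e, he0, he1⟩ := exists_not_one h4
  have h2 := CharTwo.two_eq_zero (R := F)
  have hσ0 : σ 0 = 0 := by
    have := hadd 0 0
    rw [add_zero] at this
    linear_combination this + σ 0 * h2
  have he : (1 : F) + e ≠ 0 := fun e0 => he1 (CharTwo.add_eq_zero.1 e0).symm
  set R := σ (1 + e) / (1 + e) + σ 1 / 1 + σ e / e with hR
  have key : ∀ l₁ : F, l₁ ≠ 0 → σ l₁ + l₁ * R = 0 := by
    intro l₁ hl
    obtain ⟨T, hT, hTl⟩ := h l₁ hl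
    have h3 := hT 1 e
    rw [hTl _ he, hTl _ one_ne_zero, hTl _ he0, hadd] at h3
    rw [hR, hadd]
    linear_combination h3 + (σ l₁ + l₁ * σ 1 / 1 + l₁ * σ e / e) * h2
  by_cases hl : l₁ = 0
  · rw [hl, hσ0]
  have h1 := key l₁ hl
  have h11 := key 1 one_ne_zero
  rw [hone, one_mul] at h11
  rw [← CharTwo.add_eq_zero.1 h11, mul_one] at h1
  exact CharTwo.add_eq_zero.1 h1

/-- The normalised binary quadratic form. -/
def qf (ε x y : F) : F := x * x + x * y + ε * y * y

theorem exists_eps : ∃ ε : F, ∀ τ, τ * τ + τ ≠ ε := by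
  by_contra hc
  push Not at hc
  have hs : Function.Surjective fun τ : F => τ * τ + τ := hc
  have := Finite.injective_iff_surjective.2 hs
  exact zero_ne_one (this (a₁ := 0) (a₂ := 1) (by simp [CharTwo.add_self_eq_zero]))

theorem artinSchreier_index {c d : F} (hc : ∀ τ, τ * τ + τ ≠ c) (hd : ∀ τ, τ * τ + τ ≠ d) :
    ∃ τ, τ * τ + τ = c + d := by
  classical
  let f : F →+ F := AddMonoidHom.mk' (fun τ => τ * τ + τ) fun x y => by
    linear_combination (x * y) * (CharTwo.two_eq_zero (R := F))
  have hker : Nat.card f.ker ≤ 2 := by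
    refine (Nat.card_le_card_of_injective (fun x : f.ker => decide ((x : F) = 0)) ?_).trans (by simp)
    intro x y hxy
    have hx : (x : F) * x + x = 0 := x.2
    have hy : (y : F) * y + y = 0 := y.2
    have hx' : (x : F) = 0 ∨ (x : F) = 1 := by
      rcases mul_eq_zero.1 (show (x : F) * ((x : F) + 1) = 0 by linear_combination hx) with h | h
      · exact Or.inl h
      · exact Or.inr (CharTwo.add_eq_zero.1 h)
    have hy' : (y : F) = 0 ∨ (y : F) = 1 := by
      rcases mul_eq_zero.1 (show (y : F) * ((y : F) + 1) = 0 by linear_combination hy) with h | h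
      · exact Or.inl h
      · exact Or.inr (CharTwo.add_eq_zero.1 h)
    apply Subtype.ext
    rcases hx' with h | h <;> rcases hy' with h' | h' <;> simp [h, h'] at hxy ⊢
  have hidx : f.range.index ≤ 2 := by
    have h1 := AddSubgroup.card_mul_index f.range
    have h2 := AddSubgroup.card_mul_index f.ker
    rw [AddSubgroup.index_ker] at h2
    have hpos : 0 < Nat.card f.range := Nat.card_pos
    nlinarith
  have hne : f.range.index ≠ 1 := fun e => by
    rw [AddSubgroup.index_eq_one] at e
    obtain ⟨τ, hτ⟩ : c ∈ f.range := by rw [e]; exact AddSubgroup.mem_top _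
    exact hc τ hτ
  have h2 : f.range.index = 2 := by
    have := f.range.index_ne_zero_of_finite
    omega
  obtain ⟨τ, hτ⟩ : c + d ∈ f.range := (AddSubgroup.add_mem_iff_of_index_two h2).2
    ⟨fun ⟨τ, hτ⟩ => (hc τ hτ).elim, fun ⟨τ, hτ⟩ => (hd τ hτ).elim⟩
  exact ⟨τ, hτ⟩

end field

end CfsgLib.SuzukiRankOne
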