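import Cfsg.Agent.Lib.SuzukiRankOne.UnitaryPerm
import Cfsg.Agent.Lib.SuzukiRankOne.UnitaryFree
import Cfsg.Agent.Lib.Local

/-! Suzuki's theorem, the case `r² = 1`: `⟨Q, t⟩` is normal of odd index. -/

set_option autoImplicit false
set_option linter.unusedSectionVars false
set_option linter.style.haveILetI false

namespace CfsgLib.SuzukiRankOne

open MulAction Cfsg CfsgLib.RankOne CfsgLib.Dickson

universe u v

variable {G : Type u} {Ω : Type v} [Group G] [Finite G] [MulAction G Ω] [FaithfulSMul G Ω] {a : Ω} {t : G}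
  {Q : Subgroup G}

variable {F : Type} [Field F] [CharP F 2] (hS : IsRankOneSetup G Ω a t Q) (C : Chart a t Q F)

include hS C

theorem Chart.mem_closure (g : SL2 F) : C.φ g ∈ Subgroup.closure ((Q : Set G) ∪ {t}) := by
  have hu : ∀ x, C.φ (up x) ∈ Subgroup.closure ((Q : Set G) ∪ {t}) := fun x =>
    Subgroup.subset_closure (Or.inl (C.mem x))
  have hw : C.φ wSL ∈ Subgroup.closure ((Q : Set G) ∪ {t}) := by
    rw [C.w]; exact Subgroup.subset_closure (Or.inr rfl)
  have hd : ∀ e : Fˣ, C.φ (dia e) ∈ Subgroup.closure ((Q : Set G) ∪ {t}) := fun e => by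
    have he : dia e = up (e : F) * (wSL * up ((e : F))⁻¹ * wSL) * up (e : F) * wSL := by
      rw [w_up_w]
      apply ext_entries <;> simp [mul_entry, CharTwo.add_self_eq_zero]
    rw [he]
    simp only [map_mul]
    exact mul_mem (mul_mem (mul_mem (hu _) (mul_mem (mul_mem hw (hu _)) hw)) (hu _)) hw
  refine gen_induction (P := fun g => C.φ g ∈ Subgroup.closure ((Q : Set G) ∪ {t})) ?_ ?_ ?_ ?_ g
  · rw [map_one]; exact one_mem _
  · intro g x hg; rw [map_mul]; exact mul_mem hg (hu x)
  · intro g e hg; rw [map_mul]; exact mul_mem hg (hd e)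
  · intro g hg; rw [map_mul]; exact mul_mem hg hw

theorem Chart.normal_closure :
    (Subgroup.closure ((Q : Set G) ∪ {t})).Normal ∧ Odd (Subgroup.closure ((Q : Set G) ∪ {t})).index := by
  set L := Subgroup.closure ((Q : Set G) ∪ {t}) with hL
  have hQL : Q ≤ L := fun x hx => Subgroup.subset_closure (Or.inl hx)
  have htL : t ∈ L := Subgroup.subset_closure (Or.inr rfl)
  have ht := hS.mul_self
  have hti : t⁻¹ = t := inv_t hS
  have hDn : ∀ d ∈ D a t, d ∈ Subgroup.normalizer (L : Set G) := by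
    intro d hd
    have hgen : ((Q : Set G) ∪ {t}) ⊆ (L.comap (MulAut.conj d).toMonoidHom : Subgroup G) := by
      rintro y (hy | hy)
      · exact hQL (conj_Q hS ((mem_D hS).1 hd).1 hy)
      · rw [Set.mem_singleton_iff.1 hy]
        show d * t * d⁻¹ ∈ L
        have he' : t * d * t * d⁻¹ ∈ invertedBy (D a t) t := by
          refine ⟨mul_mem (t_conj_D hS hd) (inv_mem hd), ?_⟩
          show t * (t * d * t * d⁻¹) * t⁻¹ = (t * d * t * d⁻¹)⁻¹
          rw [mul_inv_rev, mul_inv_rev, mul_inv_rev, inv_inv, hti]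
          simp [mul_assoc, ← mul_assoc t t, ht]
        obtain ⟨e, he⟩ := C.dia_surj _ he'
        rw [show d * t * d⁻¹ = t * (t * d * t * d⁻¹) by simp [mul_assoc, ← mul_assoc t t, ht], ← he]
        exact L.mul_mem htL (C.mem_closure hS _)
    refine Local.mem_normalizer_of_map_conj_eq (Subgroup.eq_of_le_of_card_ge ?_ ?_)
    · rw [Subgroup.map_le_iff_le_comap]
      exact (Subgroup.closure_le _).2 hgen
    · exact (Subgroup.card_map_of_injective (MulAut.conj d).injective).ge
  have hLle : L ≤ Subgroup.normalizer (L : Set G) := Subgroup.le_normalizer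
  have hstabn : ∀ g : G, g • a = a → g ∈ Subgroup.normalizer (L : Set G) := fun g hg => by
    obtain ⟨x, hx, d, hd, rfl⟩ := exists_decomp hS hg
    exact mul_mem (hLle (hQL hx)) (hDn d hd)
  refine ⟨Subgroup.normalizer_eq_top_iff.1 <| eq_top_iff.2 fun g _ => ?_, ?_⟩
  · by_cases hga : g • a = a
    · exact hstabn g hga
    · obtain ⟨p, y, hp, hy, rfl⟩ := exists_form hS hga
      exact mul_mem (mul_mem (hstabn p hp) (hLle htL)) (hLle (hQL hy))
  · obtain ⟨P, hPQ⟩ := exists_sylow_le hS
    haveI : Fact (Nat.Prime 2) := ⟨Nat.prime_two⟩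
    exact (Nat.not_even_iff_odd.1 fun e => P.not_dvd_index e.two_dvd).of_dvd_nat
      (Subgroup.index_dvd_of_le (hPQ.trans hQL))

end CfsgLib.SuzukiRankOne
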