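import Cfsg.Agent.Lib.SuzukiRankOne.UnitarySquare

/-! Suzuki's theorem, the case `r² = 1`: `⟨Q, t⟩` is determined by the field. -/

set_option autoImplicit false
set_option linter.unusedSectionVars false
set_option linter.style.haveILetI false

namespace CfsgLib.SuzukiRankOne

open MulAction Cfsg CfsgLib.RankOne CfsgLib.Dickson OnePoint

universe u v u' v'

section rows

variable {F : Type} [Field F] [CharP F 2]

/-- Proportional bottom rows. -/
def Par (g h : SL2 F) : Prop := g.1 1 0 * h.1 1 1 + g.1 1 1 * h.1 1 0 = 0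

theorem par_symm {g h : SL2 F} (e : Par g h) : Par h g := by
  unfold Par at *; linear_combination e

theorem par_trans {g h k : SL2 F} (e : Par g h) (e' : Par h k) : Par g k := by
  unfold Par at *
  have h2 := CharTwo.two_eq_zero (R := F)
  by_cases h0 : h.1 1 0 = 0
  · have hd := det2 h
    rw [h0, mul_zero, add_zero] at hd
    have h1 := right_ne_zero_of_mul_eq_one hd
    rw [h0] at e e'
    have eg : g.1 1 0 = 0 := by simpa [h1] using e
    have ek : k.1 1 0 = 0 := by simpa [h1] using e'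
    rw [eg, ek]; ring
  · refine mul_left_cancel₀ h0 (?_ : _ = h.1 1 0 * 0)
    linear_combination k.1 1 0 * e + g.1 1 0 * e' - (g.1 1 0 * h.1 1 1 * k.1 1 0) * h2

theorem par_up (x : F) (g : SL2 F) : Par (up x * g) g := by
  simp [Par, mul_entry, mul_comm, CharTwo.add_self_eq_zero]

theorem not_par_lo {g : SL2 F} {l : F} (hl : l ≠ 0) : ¬ Par (lo l * g) g := by
  intro e
  simp [Par, mul_entry] at e
  refine hl ?_
  linear_combination e - l * det2 g - (g.1 1 0 * g.1 1 1) * CharTwo.two_eq_zero (R := F)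

theorem par_iff (g h : SL2 F) : Par g h ↔ (h * g⁻¹).1 1 0 = 0 := by
  obtain ⟨i00, i01, i10, i11⟩ := inv_entries g
  simp only [Par, mul_entry h g⁻¹, i00, i10, CharTwo.neg_eq]
  constructor <;> intro e <;> linear_combination e

theorem par_lower {g h : SL2 F} {x : F} (e : h = up x * g) : Par g h := e ▸ par_symm (par_up x g)

/-- Parameters of an element outside the upper triangular group. -/
theorem lower_decomp {m : SL2 F} (hm : m.1 1 0 ≠ 0) :
    m = up ((m.1 0 0 + 1) / m.1 1 0) * lo (m.1 1 0) * up ((m.1 1 1 + 1) / m.1 1 0) := by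
  have hd := det2 m
  have h2 := CharTwo.two_eq_zero (R := F)
  apply ext_entries <;> simp [mul_entry] <;> field_simp
  · linear_combination (-1 : F) * h2
  · linear_combination hd - (m.1 0 0 * m.1 1 1 + m.1 0 0 + m.1 1 1 + 1) * h2
  · linear_combination (-1 : F) * h2

/-- The image of the point of parameter `h` under the element of parameter `g`, in general position. -/
noncomputable def good (ε : F) (g h : SL2 F) : SL2 F :=
  let m := h * g⁻¹
  let θ := (m.1 0 0 + 1) / m.1 1 0
  let κ := (m.1 1 1 + 1) / m.1 1 0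
  let g' := up κ * g
  let d := (qf ε (g'.1 1 0) (g'.1 1 1))⁻¹
  up θ * up κ * (up d * lo (qf ε (g'.1 1 0) (g'.1 1 1) / (qf ε ((wSL * g').1 1 0) ((wSL * g').1 1 1) * m.1 1 0))
    * up d * g')

end rows

variable {G : Type u} {Ω : Type v} [Group G] [Finite G] [MulAction G Ω] [FaithfulSMul G Ω] {a : Ω} {t : G}
  {Q : Subgroup G} {F : Type} [Field F] [Fintype F] [CharP F 2]

/-- A base whose squaring map is the normalised form. -/
structure Frame (a : Ω) (t : G) (Q : Subgroup G) (F : Type) [Field F] [Fintype F] [CharP F 2] (ε : F)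
    extends UBase a t Q F where
  quad : ∀ g, toUBase.Dv g = qf ε (g.1 1 0) (g.1 1 1)

namespace Frame

variable {ε : F} (B : Frame a t Q F ε)

theorem delta_quad (g : SL2 F) : B.δ g = (qf ε (g.1 1 0) (g.1 1 1))⁻¹ := by
  rw [B.toUBase.delta_eq, B.quad]

theorem X_good (h4 : 4 ≤ Fintype.card F) {g h : SL2 F} (hp : ¬ Par g h) :
    B.X g • B.φ h • B.c₀ = B.φ (good ε g h) • B.c₀ ∧ ¬ Par g (good ε g h) := by
  rw [par_iff] at hp
  set m := h * g⁻¹ with hm
  set θ := (m.1 0 0 + 1) / m.1 1 0 with hθ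
  set κ := (m.1 1 1 + 1) / m.1 1 0 with hκ
  set g' := up κ * g with hg'
  have hh : h = up θ * (lo (m.1 1 0) * g') := by
    rw [hg', ← mul_assoc, ← mul_assoc, ← lower_decomp hp, hm, inv_mul_cancel_right]
  have hX : B.X g = B.φ (up κ) * B.X g' := by
    rw [B.X_up, hg', ← mul_assoc, up_sq, one_mul]
  have hgood : good ε g h = up θ * up κ * (up (B.δ g') * lo (B.Dv g' / (B.Dv (wSL * g') * m.1 1 0))
      * up (B.δ g') * g') := by
    rw [B.delta_quad, B.quad, B.quad]
    rfl
  refine ⟨?_, ?_⟩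
  · rw [hgood, hh, map_mul _ (up θ) (lo _ * g'), mul_smul, ← mul_smul (B.X g), ← B.central θ _ (B.X_mem g),
      mul_smul, hX, mul_smul, (B.toUBase.Dv_quad g' h4 _).2 hp, map_mul _ (up θ * up κ), map_mul _ (up θ)]
    simp only [mul_smul]
  · intro hpar
    have h1 : Par g' (good ε g h) := par_trans (par_up κ g) hpar
    have hne : B.Dv g' / (B.Dv (wSL * g') * m.1 1 0) ≠ 0 :=
      div_ne_zero (B.Dv_ne _) (mul_ne_zero (B.Dv_ne _) hp)
    rw [par_iff, hgood] at h1
    simp only [← mul_assoc, mul_inv_cancel_right] at h1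
    simp [mul_entry] at h1
    rcases h1 with e | e | e
    · exact B.Dv_ne _ e
    · exact B.Dv_ne _ e
    · exact hp e

theorem X_taCase (θ : F) (g : SL2 F) :
    B.X g • B.φ (up θ * g) • B.c₀ = B.φ (up (θ + B.δ g)) • t • a := by
  rw [map_mul, mul_smul, ← mul_smul (B.X g), ← B.central θ _ (B.X_mem g), mul_smul, B.X_self, ← mul_smul,
    ← map_mul, up_mul]

/-- The points of `Ω` by parameters. -/
def point : OnePoint F ⊕ SL2 F → Ω
  | Sum.inl p => B.toChart.pt p
  | Sum.inr g => B.φ g • B.c₀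

theorem point_bijective : Function.Bijective B.point := by
  refine ⟨fun x y e => ?_, fun ω => ?_⟩
  · cases x with
    | inl p =>
      cases y with
      | inl q => exact congrArg _ (B.toChart.pt_injective B.setup e)
      | inr g => exact absurd ⟨p, e⟩ (B.out g)
    | inr g =>
      cases y with
      | inl q => exact absurd ⟨q, e.symm⟩ (B.out g)
      | inr g' => exact congrArg _ (B.inj₀ _ _ e)
  · classical
    by_cases hω : B.toChart.OnLine ω
    · obtain ⟨p, hp⟩ := hω; exact ⟨Sum.inl p, hp⟩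
    · obtain ⟨g, hg⟩ := B.cover ω hω; exact ⟨Sum.inr g, hg⟩

end Frame

section compare

variable {G' : Type u'} {Ω' : Type v'} [Group G'] [Finite G'] [MulAction G' Ω'] [FaithfulSMul G' Ω'] {a' : Ω'}
  {t' : G'} {Q' : Subgroup G'} {ε : F} (B : Frame a t Q F ε) (B' : Frame a' t' Q' F ε)

/-- The identification of the points of two set-ups. -/
noncomputable def pointEquiv : Ω ≃ Ω' :=
  (Equiv.ofBijective _ B.point_bijective).symm.trans (Equiv.ofBijective _ B'.point_bijective)

theorem pointEquiv_point (x : OnePoint F ⊕ SL2 F) : pointEquiv B B' (B.point x) = B'.point x := by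
  simp [pointEquiv]

theorem pointEquiv_pt (p : OnePoint F) : pointEquiv B B' (B.toChart.pt p) = B'.toChart.pt p :=
  pointEquiv_point B B' (Sum.inl p)

theorem pointEquiv_out (g : SL2 F) : pointEquiv B B' (B.φ g • B.c₀) = B'.φ g • B'.c₀ :=
  pointEquiv_point B B' (Sum.inr g)

theorem pointEquiv_phi (g : SL2 F) (ω : Ω) :
    pointEquiv B B' (B.φ g • ω) = B'.φ g • pointEquiv B B' ω := by
  classical
  obtain ⟨x, rfl⟩ := B.point_bijective.2 ω
  cases x with
  | inl p =>
    show pointEquiv B B' (B.φ g • B.toChart.pt p) = B'.φ g • pointEquiv B B' (B.toChart.pt p)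
    rw [B.toChart.smul_pt B.setup, pointEquiv_pt, pointEquiv_pt, B'.toChart.smul_pt B'.setup]
  | inr h =>
    show pointEquiv B B' (B.φ g • B.φ h • B.c₀) = B'.φ g • pointEquiv B B' (B.φ h • B.c₀)
    rw [← mul_smul, ← map_mul, pointEquiv_out, pointEquiv_out, map_mul, mul_smul]

theorem pointEquiv_ta : pointEquiv B B' (t • a) = t' • a' := by
  rw [← B.toChart.pt_zero, pointEquiv_pt, B'.toChart.pt_zero]

theorem pointEquiv_easy (h4 : 4 ≤ Fintype.card F) {g h : SL2 F} (hgh : ¬ Par g h ∨ ∃ θ, h = up θ * g) :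
    pointEquiv B B' (B.X g • B.φ h • B.c₀) = B'.X g • B'.φ h • B'.c₀ := by
  rcases hgh with hgh | ⟨θ, rfl⟩
  · rw [(B.X_good h4 hgh).1, (B'.X_good h4 hgh).1, pointEquiv_out]
  · rw [B.X_taCase, B'.X_taCase, pointEquiv_phi, pointEquiv_ta, B.delta_quad, B'.delta_quad]

theorem pointEquiv_X (h4 : 4 ≤ Fintype.card F) (g : SL2 F) (ω : Ω) :
    pointEquiv B B' (B.X g • ω) = B'.X g • pointEquiv B B' ω := by
  classical
  obtain ⟨x, rfl⟩ := B.point_bijective.2 ω
  cases x with
  | inl p =>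
    show pointEquiv B B' (B.X g • B.toChart.pt p) = B'.X g • pointEquiv B B' (B.toChart.pt p)
    rw [pointEquiv_pt]
    cases p with
    | infty =>
      rw [Chart.pt_infty, Chart.pt_infty, mem_Q_a B.setup (B.X_mem g), mem_Q_a B'.setup (B'.X_mem g)]
      exact pointEquiv_pt B B' ∞
    | coe y =>
      rw [Chart.pt_coe, Chart.pt_coe, ← mul_smul (B.X g), ← B.central y _ (B.X_mem g), mul_smul, B.X_ta,
        ← mul_smul (B'.X g), ← B'.central y _ (B'.X_mem g), mul_smul, B'.X_ta, pointEquiv_phi, pointEquiv_out]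
  | inr h =>
    show pointEquiv B B' (B.X g • B.φ h • B.c₀) = B'.X g • pointEquiv B B' (B.φ h • B.c₀)
    rw [pointEquiv_out]
    by_cases hgh : ¬ Par g h ∨ ∃ θ, h = up θ * g
    · exact pointEquiv_easy B B' h4 hgh
    rw [not_or, not_not] at hgh
    obtain ⟨hpar, hnu⟩ := hgh
    -- a third parameter in general position
    obtain ⟨g₁, hg₁, hg₁'⟩ : ∃ g₁, ¬ Par g₁ g ∧ ∀ g₀, B.X g • B.φ h • B.c₀ = B.φ g₀ • B.c₀ → ¬ Par g₁ g₀ := by
      obtain ⟨e, he0, he1⟩ := exists_not_one h4
      by_cases hex : ∃ g₀, B.X g • B.φ h • B.c₀ = B.φ g₀ • B.c₀ ∧ Par (lo 1 * g) g₀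
      · obtain ⟨g₀, h₀, hp₀⟩ := hex
        refine ⟨lo e * g, not_par_lo he0, fun g₀' h₀' hp' => ?_⟩
        rw [B.inj₀ _ _ (h₀'.symm.trans h₀)] at hp'
        have h1 : ¬ Par (lo (e + 1) * (lo 1 * g)) (lo 1 * g) :=
          not_par_lo (fun h => he1 (CharTwo.add_eq_zero.1 h))
        rw [← mul_assoc, lo_mul, show e + 1 + 1 = e by rw [add_assoc, CharTwo.add_self_eq_zero, add_zero]] at h1
        exact h1 (par_trans hp' (par_symm hp₀))
      · push Not at hex
        exact ⟨lo 1 * g, not_par_lo one_ne_zero, hex⟩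
    set k := good ε g₁ g with hk
    have hk1 : ¬ Par g₁ k := (B.X_good h4 hg₁).2
    have hprod : B.X g = B.φ (up (B.δ g₁)) * B.X g₁ * B.X k := by
      have e : B.X g₁ * B.X g = B.X k := B.toUBase.eq_X (Q.mul_mem (B.X_mem _) (B.X_mem _))
        (by rw [mul_smul, B.X_ta, (B.X_good h4 hg₁).1])
      rw [← e, ← B.toUBase.X_inv]; group
    have hprod' : B'.X g = B'.φ (up (B.δ g₁)) * B'.X g₁ * B'.X k := by
      have e : B'.X g₁ * B'.X g = B'.X k := B'.toUBase.eq_X (Q'.mul_mem (B'.X_mem _) (B'.X_mem _))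
        (by rw [mul_smul, B'.X_ta, (B'.X_good h4 hg₁).1])
      rw [← e, B.delta_quad, ← B'.delta_quad, ← B'.toUBase.X_inv]; group
    have hkg : ¬ Par g k := by
      obtain ⟨θ, hθ⟩ := B.toUBase.comm_up (B.X_mem g) (B.X_mem g₁)
      have e := (B.X_good h4 (g := g) (h := g₁) fun hp => hg₁ (par_symm hp)).1
      rw [← B.X_ta, ← mul_smul, hθ, mul_smul, mul_smul, B.X_ta, (B.X_good h4 hg₁).1, ← mul_smul, ← map_mul] at e
      have e' := B.inj₀ _ _ e
      intro hp
      refine (B.X_good h4 (g := g) (h := g₁) fun hp => hg₁ (par_symm hp)).2 ?_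
      rw [← e']
      exact par_trans hp (par_symm (par_up θ k))
    have hkh : ¬ Par k h := fun hp => hkg (par_trans hpar (par_symm hp))
    set h₂ := good ε k h with hh₂
    have h2X : B.X g • B.φ h • B.c₀ = B.φ (up (B.δ g₁)) • B.X g₁ • B.φ h₂ • B.c₀ := by
      rw [hprod, mul_smul, mul_smul, (B.X_good h4 hkh).1]
    have hg1h2 : ¬ Par g₁ h₂ ∨ ∃ θ, h₂ = up θ * g₁ := by
      by_cases hp : Par g₁ h₂
      · right
        have e3 : B.X g₁ • B.φ h₂ • B.c₀ = B.φ (up (B.δ g₁)) • B.X g • B.φ h • B.c₀ := by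
          rw [h2X, smul_smul (B.φ (up (B.δ g₁))) (B.φ (up (B.δ g₁))), ← map_mul, up_sq, map_one, one_smul]
        rcases B.toUBase.mem_cases (Q.mul_mem (B.X_mem g) (B.X_mem h)) with ⟨θ, hθ⟩ | ⟨g₀, hg₀⟩
        · refine ⟨θ, B.inj₀ _ _ ?_⟩
          refine smul_left_cancel (B.X g₁) ?_
          rw [e3, ← B.X_ta h, ← mul_smul (B.X g), hθ, B.X_taCase, ← mul_smul, ← map_mul, up_mul, add_comm]
        · exfalso
          have h₀ : B.X g • B.φ h • B.c₀ = B.φ g₀ • B.c₀ := by
            rw [← B.X_ta h, ← mul_smul, hg₀, B.X_ta]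
          rw [h₀, smul_smul (B.φ (up (B.δ g₁))) (B.φ g₀), ← map_mul] at e3
          have hn : ¬ Par g₁ (up (B.δ g₁) * g₀) := fun hp => hg₁' g₀ h₀ (par_trans hp (par_up _ _))
          have e4 := congrArg (B.X g₁ • ·) e3
          rw [← mul_smul, B.toUBase.X_sq, (B.X_good h4 hn).1, ← mul_smul, ← map_mul] at e4
          refine (B.X_good h4 hn).2 ?_
          rw [← B.inj₀ _ _ e4]
          exact par_trans hp (par_symm (par_up _ _))
      · exact Or.inl hp
    rw [h2X, hprod', mul_smul, mul_smul, (B'.X_good h4 hkh).1, pointEquiv_phi]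
    exact congrArg _ (pointEquiv_easy B B' h4 hg1h2)

include B B' in
/-- Conjugation by the identification of points carries `⟨Q, t⟩` to `⟨Q', t'⟩`. -/
theorem nonempty_iso (h4 : 4 ≤ Fintype.card F) :
    Nonempty ((Subgroup.closure ((Q : Set G) ∪ {t})) ≃* (Subgroup.closure ((Q' : Set G') ∪ {t'}))) := by
  classical
  let Φ := pointEquiv B B'
  let f : G →* Equiv.Perm Ω' := (Equiv.permCongrHom Φ).toMonoidHom.comp (MulAction.toPermHom G Ω)
  let f' : G' →* Equiv.Perm Ω' := MulAction.toPermHom G' Ω'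
  have hf : Function.Injective f := fun x y e => eq_of_smul_eq_smul fun ω : Ω => by
    have := congrArg (fun p : Equiv.Perm Ω' => p (Φ ω)) e
    simpa [f, Equiv.permCongrHom, Equiv.permCongr_apply] using this
  have hf' : Function.Injective f' := fun x y e => eq_of_smul_eq_smul fun ω : Ω' =>
    DFunLike.congr_fun e ω
  have key : ∀ x x', (∀ ω, Φ (x • ω) = x' • Φ ω) → f x = f' x' := fun x x' hx => Equiv.ext fun ω => by
    have := hx (Φ.symm ω)
    simpa [f, f', Equiv.permCongrHom, Equiv.permCongr_apply] using this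
  have hQ : f '' (Q : Set G) = f' '' (Q' : Set G') := by
    ext p
    constructor
    · rintro ⟨y, hy, rfl⟩
      rcases B.toUBase.mem_cases hy with ⟨x, rfl⟩ | ⟨g, rfl⟩
      · exact ⟨_, B'.mem x, (key _ _ (pointEquiv_phi B B' _)).symm⟩
      · exact ⟨_, B'.X_mem g, (key _ _ (pointEquiv_X B B' h4 g)).symm⟩
    · rintro ⟨y, hy, rfl⟩
      rcases B'.toUBase.mem_cases hy with ⟨x, rfl⟩ | ⟨g, rfl⟩
      · exact ⟨_, B.mem x, key _ _ (pointEquiv_phi B B' _)⟩
      · exact ⟨_, B.X_mem g, key _ _ (pointEquiv_X B B' h4 g)⟩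
  have ht : f t = f' t' := key _ _ (by
    intro ω
    have := pointEquiv_phi B B' wSL ω
    rwa [B.w, B'.w] at this)
  have hmap : (Subgroup.closure ((Q : Set G) ∪ {t})).map f = (Subgroup.closure ((Q' : Set G') ∪ {t'})).map f' := by
    rw [MonoidHom.map_closure, MonoidHom.map_closure, Set.image_union, Set.image_union, Set.image_singleton,
      Set.image_singleton, hQ, ht]
  exact ⟨((Subgroup.closure ((Q : Set G) ∪ {t})).equivMapOfInjective f hf).trans
    ((MulEquiv.subgroupCongr hmap).trans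
      ((Subgroup.closure ((Q' : Set G') ∪ {t'})).equivMapOfInjective f' hf').symm)⟩

end compare

end CfsgLib.SuzukiRankOne
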