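import Mathlib.Topology.Compactification.OnePoint.ProjectiveLine
import Cfsg.Agent.Lib.Dickson.Basic
import Cfsg.Agent.Lib.SLCard

/-! `SL₂` over a field of characteristic two: Bruhat cells and the projective line. -/

set_option autoImplicit false
set_option linter.unusedSectionVars false

namespace CfsgLib.SuzukiRankOne

open Matrix CfsgLib.Dickson

variable {F : Type*} [Field F]

/-- `SL₂`. -/
abbrev SL2 (F : Type*) [Field F] : Type _ := Matrix.SpecialLinearGroup (Fin 2) F

/-- A diagonal matrix. -/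
def dia (e : Fˣ) : SL2 F := ⟨!![(e : F), 0; 0, ((e⁻¹ : Fˣ) : F)], by simp [Matrix.det_fin_two]⟩

@[simp] theorem coe_dia (e : Fˣ) : (dia e).1 = !![(e : F), 0; 0, ((e⁻¹ : Fˣ) : F)] := rfl

theorem dia_mul (e f : Fˣ) : dia e * dia f = dia (e * f) := by
  apply ext_entries <;> simp [mul_entry, mul_comm]

theorem dia_one : dia (1 : Fˣ) = 1 := by
  apply ext_entries <;> simp

/-- Conjugation of a transvection by a diagonal matrix. -/
theorem dia_up (e : Fˣ) (x : F) : dia e * up x = up ((e : F) * e * x) * dia e := by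
  apply ext_entries <;> simp [mul_entry]
  field_simp

section char2

variable [CharP F 2]

theorem det2 (g : SL2 F) : g.1 0 0 * g.1 1 1 + g.1 0 1 * g.1 1 0 = 1 := by
  have h := det_eq g
  rw [CharTwo.sub_eq_add] at h
  exact h

/-- The Weyl element. -/
def wSL : SL2 F := ⟨!![0, 1; 1, 0], by simp [Matrix.det_fin_two, CharTwo.neg_eq]⟩

@[simp] theorem coe_wSL : (wSL : SL2 F).1 = !![0, 1; 1, 0] := rfl

theorem wSL_sq : (wSL : SL2 F) * wSL = 1 := by
  apply ext_entries <;> simp [mul_entry]

theorem w_up_w (x : F) : wSL * up x * wSL = lo x := by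
  apply ext_entries <;> simp [mul_entry]

theorem up_sq (x : F) : up x * up x = 1 := by rw [up_mul, CharTwo.add_self_eq_zero, up_zero]

theorem up_inv2 (x : F) : (up x)⁻¹ = up x := by rw [up_inv, CharTwo.neg_eq]

/-- Bruhat decomposition. -/
theorem bruhat (g : SL2 F) :
    (∃ p : F, ∃ e : Fˣ, g = up p * dia e) ∨ ∃ p : F, ∃ e : Fˣ, ∃ r : F, g = up p * dia e * wSL * up r := by
  have hd := det2 g
  by_cases hc : g.1 1 0 = 0
  · rw [hc, mul_zero, add_zero] at hd
    refine Or.inl ⟨g.1 0 0 * g.1 0 1, Units.mk0 _ (left_ne_zero_of_mul_eq_one hd), ?_⟩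
    have h0 := left_ne_zero_of_mul_eq_one hd
    apply ext_entries <;> simp [mul_entry, hc]
    · field_simp
    · exact eq_inv_of_mul_eq_one_right hd
  · refine Or.inr ⟨g.1 0 0 / g.1 1 0, Units.mk0 _ (inv_ne_zero hc), g.1 1 1 / g.1 1 0, ?_⟩
    apply ext_entries <;> simp [mul_entry]
    · field_simp
    · field_simp
      linear_combination (-1 : F) * hd + (g.1 0 1 * g.1 1 0 - 1) * (CharTwo.two_eq_zero (R := F))
    · field_simp

/-- Induction along generators. -/
theorem gen_induction {P : SL2 F → Prop} (h1 : P 1) (hu : ∀ g x, P g → P (g * up x))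
    (hd : ∀ g e, P g → P (g * dia e)) (hw : ∀ g, P g → P (g * wSL)) (g : SL2 F) : P g := by
  rcases bruhat g with ⟨p, e, rfl⟩ | ⟨p, e, r, rfl⟩
  · simpa using hd _ e (hu 1 p h1)
  · exact hu _ r (hw _ (by simpa using hd _ e (hu 1 p h1)))

variable [DecidableEq F]

/-- The action on the projective line. -/
def mob (g : SL2 F) (p : OnePoint F) : OnePoint F := SpecialLinearGroup.toGL g • p

theorem mob_one (p : OnePoint F) : mob 1 p = p := by simp [mob]

theorem mob_mul (g h : SL2 F) (p : OnePoint F) : mob (g * h) p = mob g (mob h p) := by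
  simp [mob, map_mul, mul_smul]

theorem mob_up_infty (x : F) : mob (up x) OnePoint.infty = OnePoint.infty := by
  simp [mob, OnePoint.smul_infty_eq_ite]

theorem mob_up (x y : F) : mob (up x) (y : OnePoint F) = ((y + x : F) : OnePoint F) := by
  simp [mob, OnePoint.smul_some_eq_ite]

theorem mob_dia_infty (e : Fˣ) : mob (dia e) OnePoint.infty = OnePoint.infty := by
  simp [mob, OnePoint.smul_infty_eq_ite]

theorem mob_dia (e : Fˣ) (y : F) : mob (dia e) (y : OnePoint F) = (((e : F) * e * y : F) : OnePoint F) := by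
  simp [mob, OnePoint.smul_some_eq_ite]
  field_simp

theorem mob_w_infty : mob (wSL : SL2 F) OnePoint.infty = ((0 : F) : OnePoint F) := by
  simp [mob, OnePoint.smul_infty_eq_ite]

theorem mob_w (y : F) :
    mob (wSL : SL2 F) (y : OnePoint F) = if y = 0 then OnePoint.infty else ((y⁻¹ : F) : OnePoint F) := by
  simp [mob, OnePoint.smul_some_eq_ite, one_div]

theorem mob_faithful {g : SL2 F} (h : ∀ p, mob g p = p) : g = 1 := by
  have h10 : g.1 1 0 = 0 := by
    have := h OnePoint.infty
    rw [mob, OnePoint.smul_infty_eq_self_iff] at this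
    simpa using this
  have e0 := h ((0 : F) : OnePoint F)
  have e1 := h ((1 : F) : OnePoint F)
  have hd := det2 g
  rw [h10, mul_zero, add_zero] at hd
  have h11 : g.1 1 1 ≠ 0 := right_ne_zero_of_mul_eq_one hd
  simp [mob, OnePoint.smul_some_eq_ite, h10, h11, div_eq_iff] at e0 e1
  rw [e0, add_zero] at e1
  rw [e1, ← sq] at hd
  have h1 : g.1 1 1 = 1 := CharTwo.sq_injective (by simpa using hd)
  apply ext_entries <;> simp [e0, e1, h1, h10]

end char2

end CfsgLib.SuzukiRankOne
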