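import Cfsg.Agent.Lib.SuzukiRankOne.UnitaryForm

/-! Suzuki's theorem, the case `r² = 1`: the squaring map of `Q` is a quadratic form. -/

set_option autoImplicit false
set_option linter.unusedSectionVars false
set_option linter.style.haveILetI false

namespace CfsgLib.SuzukiRankOne

open MulAction Cfsg CfsgLib.RankOne CfsgLib.Dickson OnePoint

universe u v

variable {G : Type u} {Ω : Type v} [Group G] [Finite G] [MulAction G Ω] [FaithfulSMul G Ω] {a : Ω} {t : G}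
  {Q : Subgroup G} {F : Type} [Field F] [Fintype F] [CharP F 2]

/-- A chart with a base point outside the basic line. -/
structure UBase (a : Ω) (t : G) (Q : Subgroup G) (F : Type) [Field F] [CharP F 2] extends Chart a t Q F where
  setup : IsRankOneSetup G Ω a t Q
  c₀ : Ω
  out : ∀ g, ¬ toChart.OnLine (φ g • c₀)
  inj₀ : ∀ g g', φ g • c₀ = φ g' • c₀ → g = g'
  cover : ∀ ω, ¬ toChart.OnLine ω → ∃ g, φ g • c₀ = ω
  central : ∀ x, ∀ y ∈ Q, φ (up x) * y = y * φ (up x)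
  sq : ∀ y ∈ Q, ∃ l, y * y = φ (up l)

namespace UBase

variable (B : UBase a t Q F)

theorem phi_up_inj {x y : F} (h : B.φ (up x) = B.φ (up y)) : x = y := by
  simpa using congrArg (fun m : SL2 F => m.1 0 1) (B.inj h)

theorem phi_ne_a (g : SL2 F) : B.φ g • B.c₀ ≠ a := fun e => B.out g (by rw [e]; exact B.toChart.onLine_a)

/-- The element of `Q` carrying `t • a` to the point of parameter `g`. -/
noncomputable def X (g : SL2 F) : G := Classical.choose (exists_Q_ta B.setup (B.phi_ne_a g))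

theorem X_mem (g : SL2 F) : B.X g ∈ Q := (Classical.choose_spec (exists_Q_ta B.setup (B.phi_ne_a g))).1

theorem X_ta (g : SL2 F) : B.X g • t • a = B.φ g • B.c₀ :=
  (Classical.choose_spec (exists_Q_ta B.setup (B.phi_ne_a g))).2

theorem eq_X {y : G} (hy : y ∈ Q) {g : SL2 F} (h : y • t • a = B.φ g • B.c₀) : y = B.X g :=
  Q_ta_inj B.setup hy (B.X_mem g) (h.trans (B.X_ta g).symm)

theorem X_up (x : F) (g : SL2 F) : B.φ (up x) * B.X g = B.X (up x * g) :=
  B.eq_X (Q.mul_mem (B.mem x) (B.X_mem g)) (by rw [mul_smul, B.X_ta, map_mul, mul_smul])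

theorem X_dia (e : Fˣ) (g : SL2 F) : B.φ (dia e) * B.X g * (B.φ (dia e))⁻¹ = B.X (dia e * g) := by
  obtain ⟨h1, h2⟩ := B.toChart.dia_fix B.setup e
  refine B.eq_X (conj_Q B.setup h1 (B.X_mem g)) ?_
  rw [mul_smul, mul_smul, inv_smul_eq_iff.2 h2.symm, B.X_ta, map_mul, mul_smul]

theorem X_not_up (g : SL2 F) (x : F) : B.X g ≠ B.φ (up x) := fun e =>
  B.out g ⟨(x : OnePoint F), by rw [Chart.pt_coe, ← e, B.X_ta]⟩

theorem mem_cases {y : G} (hy : y ∈ Q) : (∃ x, y = B.φ (up x)) ∨ ∃ g, y = B.X g := by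
  classical
  by_cases h : B.toChart.OnLine (y • t • a)
  · obtain ⟨p, hp⟩ := h
    cases p with
    | infty =>
      exact absurd (smul_left_cancel y (hp.symm.trans (mem_Q_a B.setup hy).symm)) (ta_ne B.setup)
    | coe x => exact Or.inl ⟨x, Q_ta_inj B.setup hy (B.mem x) hp.symm⟩
  · obtain ⟨g, hg⟩ := B.cover _ h
    exact Or.inr ⟨g, B.eq_X hy hg.symm⟩

/-- The square of `X g`. -/
noncomputable def δ (g : SL2 F) : F := Classical.choose (B.sq (B.X g) (B.X_mem g))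

theorem X_sq (g : SL2 F) : B.X g * B.X g = B.φ (up (B.δ g)) :=
  Classical.choose_spec (B.sq (B.X g) (B.X_mem g))

theorem X_inv (g : SL2 F) : (B.X g)⁻¹ = B.φ (up (B.δ g)) * B.X g := by
  refine inv_eq_of_mul_eq_one_left ?_
  rw [mul_assoc, B.X_sq, ← map_mul, up_sq, map_one]

theorem delta_ne (g : SL2 F) : B.δ g ≠ 0 := fun e => by
  have h := B.X_sq g
  rw [e, up_zero, map_one] at h
  obtain ⟨l, hl⟩ := B.invol _ (B.X_mem g) h
  exact B.X_not_up g l hl.symm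

theorem delta_up (x : F) (g : SL2 F) : B.δ (up x * g) = B.δ g := by
  apply B.phi_up_inj
  rw [← B.X_sq, ← B.X_sq, ← B.X_up]
  calc B.φ (up x) * B.X g * (B.φ (up x) * B.X g) = B.φ (up x) * (B.X g * B.φ (up x)) * B.X g := by group
    _ = B.φ (up x) * B.φ (up x) * (B.X g * B.X g) := by rw [← B.central x _ (B.X_mem g)]; group
    _ = _ := by rw [← map_mul, up_sq, map_one, one_mul]

theorem delta_dia (e : Fˣ) (g : SL2 F) : B.δ (dia e * g) = (e : F) * e * B.δ g := by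
  apply B.phi_up_inj
  rw [← B.X_sq, ← B.X_dia, conj_mul, B.X_sq, ← map_inv, ← map_mul, ← map_mul, dia_up, mul_assoc, mul_inv_cancel,
    mul_one]

theorem delta_row {g g' : SL2 F} (h0 : g.1 1 0 = g'.1 1 0) (h1 : g.1 1 1 = g'.1 1 1) : B.δ g = B.δ g' := by
  obtain ⟨i00, i01, i10, i11⟩ := inv_entries g'
  have hd := det2 g'
  have h : g * g'⁻¹ = up ((g * g'⁻¹).1 0 1) := by
    have hg := det2 g
    apply ext_entries <;> simp [mul_entry, i00, i01, i10, i11, CharTwo.neg_eq]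
    · rw [← h0, ← h1]; linear_combination hg
    · rw [← h0, ← h1]; linear_combination (g.1 1 0 * g.1 1 1) * (CharTwo.two_eq_zero (R := F))
    · rw [h0, h1]; linear_combination hd
  calc B.δ g = B.δ (g * g'⁻¹ * g') := by rw [inv_mul_cancel_right]
    _ = B.δ g' := by rw [h, B.delta_up]

/-- The inverse of the squaring map. -/
noncomputable def Dv (g : SL2 F) : F := (B.δ g)⁻¹

theorem Dv_ne (g : SL2 F) : B.Dv g ≠ 0 := inv_ne_zero (B.delta_ne g)

theorem delta_eq (g : SL2 F) : B.δ g = (B.Dv g)⁻¹ := (inv_inv _).symm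

theorem Dv_row {g g' : SL2 F} (h0 : g.1 1 0 = g'.1 1 0) (h1 : g.1 1 1 = g'.1 1 1) : B.Dv g = B.Dv g' := by
  rw [Dv, Dv, B.delta_row h0 h1]

theorem Dv_dia (e : Fˣ) (g : SL2 F) : B.Dv (dia e * g) = B.Dv g / ((e : F) * e) := by
  rw [Dv, Dv, B.delta_dia, mul_inv, div_eq_mul_inv, mul_comm]

theorem X_self (g : SL2 F) : B.X g • B.φ g • B.c₀ = B.φ (up (B.δ g)) • t • a := by
  rw [← B.X_ta, ← mul_smul, B.X_sq]

/-- The restriction of `X g` to the line through `t • a` and the point of parameter `g`. -/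
theorem exists_semilinear (g : SL2 F) : ∃ c : F, c ≠ 0 ∧ ∃ σ : F → F, (∀ x y, σ (x + y) = σ x + σ y) ∧ σ 1 = 1 ∧
    (∀ l, l ≠ 0 → σ l ≠ 0) ∧
    ∀ l, l ≠ 0 → B.X g • B.φ (lo l * g) • B.c₀ =
      B.φ (up (B.δ g) * lo (c / σ l) * up (B.δ g) * g) • B.c₀ := by
  classical
  have hS := B.setup
  have ht := hS.mul_self
  set d0 := B.δ g with hd0
  set h₁ := t * B.X (wSL * g) with hh₁
  set h₂ := B.φ (up d0) * t * B.X (wSL * (up d0 * g)) with hh₂
  have key : ∀ (g₁ : SL2 F) (θ : F), (t * B.X (wSL * g₁)) • B.φ (up θ) • t • a = B.φ (lo θ * g₁) • B.c₀ := by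
    intro g₁ θ
    have e : B.φ (lo θ * g₁) = t * B.φ (up θ) * B.φ (wSL * g₁) := by
      rw [show lo θ * g₁ = wSL * up θ * (wSL * g₁) by rw [← mul_assoc, w_up_w], map_mul, map_mul, B.w]
    rw [← mul_smul, mul_assoc, ← B.central θ _ (B.X_mem _), mul_smul, mul_smul, B.X_ta, e, mul_smul, mul_smul]
  have hh₁θ := key g
  have hh₂θ : ∀ θ, h₂ • B.φ (up θ) • t • a = B.φ (up d0 * lo θ * up d0 * g) • B.c₀ := fun θ => by
    rw [hh₂, mul_assoc, mul_smul, key, ← mul_smul, ← map_mul]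
    simp only [mul_assoc]
  have hh₁a : h₁ • a = t • a := by rw [hh₁, mul_smul, mem_Q_a hS (B.X_mem _)]
  have hh₂a : h₂ • a = B.φ (up d0) • t • a := by
    rw [hh₂, mul_smul, mul_smul, mem_Q_a hS (B.X_mem _)]
  have hh₂ta : h₂ • t • a = B.φ g • B.c₀ := by
    have := hh₂θ 0
    rw [up_zero, map_one, one_smul, show (lo 0 : SL2 F) = 1 from ext_entries (by simp) (by simp) (by simp) (by simp),
      mul_one, up_sq, one_mul] at this
    exact this
  have hh₁ta : h₁ • t • a = B.φ g • B.c₀ := by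
    have := hh₁θ 0
    rw [up_zero, map_one, one_smul, show (lo 0 : SL2 F) = 1 from ext_entries (by simp) (by simp) (by simp) (by simp),
      one_mul] at this
    exact this
  set m := h₂⁻¹ * B.X g * h₁ with hm
  have hma : m • a = t • a := by rw [hm, mul_smul, mul_smul, hh₁a, B.X_ta, ← hh₂ta, inv_smul_smul]
  have hmb : m • t • a = a := by rw [hm, mul_smul, mul_smul, hh₁ta, B.X_self, ← hh₂a, inv_smul_smul]
  set d := t * m with hd
  have hdD : d ∈ D a t := by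
    rw [mem_D hS, hd, mul_smul, hma, smul_smul_t hS, mul_smul, hmb]
    exact ⟨rfl, rfl⟩
  obtain ⟨hda, hdb⟩ := (mem_D hS).1 hdD
  have hψ : ∀ l, ∃ l', d * B.φ (up l) * d⁻¹ = B.φ (up l') := fun l => by
    obtain ⟨l', hl'⟩ := B.invol _ (conj_Q hS hda (B.mem l))
      (by rw [conj_mul, ← map_mul, up_sq, map_one, mul_one, mul_inv_cancel])
    exact ⟨l', hl'.symm⟩
  choose ψ hψ using hψ
  have ψadd : ∀ x y, ψ (x + y) = ψ x + ψ y := fun x y => B.phi_up_inj (by
    rw [← hψ, ← up_mul, ← up_mul, map_mul, map_mul, ← hψ, ← hψ, conj_mul])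
  have ψne : ∀ x, x ≠ 0 → ψ x ≠ 0 := fun x hx e => hx (B.phi_up_inj (by
    have := hψ x
    rw [e, up_zero, map_one, conj_eq_one_iff] at this
    rw [this, up_zero, map_one]))
  have h10 : ψ 1 ≠ 0 := ψne 1 one_ne_zero
  refine ⟨(ψ 1)⁻¹, inv_ne_zero h10, fun l => ψ l / ψ 1, fun x y => by simp only [ψadd, add_div], div_self h10,
    fun l hl => div_ne_zero (ψne l hl) h10, fun l hl => ?_⟩
  have hm' : h₂ * m = B.X g * h₁ := by
    show h₂ * (h₂⁻¹ * B.X g * h₁) = _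
    group
  have htd : t * d = m := by rw [hd, ← mul_assoc, ht, one_mul]
  have hdl : B.φ (up (ψ l)) • t • a = d • B.φ (up l) • t • a := by
    rw [← hψ, mul_smul, mul_smul, inv_smul_eq_iff.2 hdb.symm]
  have e : B.X g • B.φ (lo l * g) • B.c₀ = h₂ • t • B.φ (up (ψ l)) • t • a :=
    calc B.X g • B.φ (lo l * g) • B.c₀ = (B.X g * h₁) • B.φ (up l) • t • a :=
          (congrArg (B.X g • ·) (hh₁θ l).symm).trans (mul_smul _ _ _).symm
      _ = (h₂ * (t * d)) • B.φ (up l) • t • a := by rw [htd, hm']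
      _ = h₂ • t • d • B.φ (up l) • t • a :=
          (mul_smul h₂ (t * d) _).trans (congrArg (h₂ • ·) (mul_smul t d _))
      _ = _ := by rw [hdl]
  simp only
  rw [e, show (ψ 1)⁻¹ / (ψ l / ψ 1) = (ψ l)⁻¹ by field_simp, ← hh₂θ]
  congr 1
  have := B.toChart.smul_pt hS wSL ((ψ l : F) : OnePoint F)
  rw [mob_w, if_neg (ψne l hl), B.w] at this
  exact this

theorem comm_up {x y : G} (hx : x ∈ Q) (hy : y ∈ Q) : ∃ θ, x * y = B.φ (up θ) * (y * x) := by
  obtain ⟨p, hp⟩ := B.sq _ (Q.mul_mem hx hy)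
  obtain ⟨q, hq⟩ := B.sq _ hx
  obtain ⟨r, hr⟩ := B.sq _ hy
  have hinv : ∀ (z : G) (l : F), z * z = B.φ (up l) → z⁻¹ = B.φ (up l) * z := fun z l h =>
    inv_eq_of_mul_eq_one_left (by rw [mul_assoc, h, ← map_mul, up_sq, map_one])
  refine ⟨p + r + q, ?_⟩
  calc x * y = x * y * (x * y) * (y⁻¹ * x⁻¹) := by group
    _ = B.φ (up p) * (B.φ (up r) * (y * B.φ (up q)) * x) := by rw [hp, hinv y r hr, hinv x q hq]; group
    _ = B.φ (up p) * B.φ (up r) * B.φ (up q) * (y * x) := by rw [← B.central q y hy]; group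
    _ = _ := by rw [← map_mul, ← map_mul, up_mul, up_mul]

/-- The addition formula. -/
theorem Dv_line (g : SL2 F) : ∃ k : F, k ≠ 0 ∧ ∃ σ : F → F, (∀ x y, σ (x + y) = σ x + σ y) ∧ σ 1 = 1 ∧
    (∀ l, l ≠ 0 → σ l ≠ 0) ∧
    (∀ l, l ≠ 0 → B.X g • B.φ (lo l * g) • B.c₀ =
      B.φ (up (B.δ g) * lo (B.Dv g / (k * σ l)) * up (B.δ g) * g) • B.c₀) ∧
    ∀ l, B.Dv (lo l * g) = B.Dv g + l + k * (l * σ l) := by
  obtain ⟨c, hc, σ, hadd, h1, hne, hf⟩ := B.exists_semilinear g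
  have hk : B.Dv g / c ≠ 0 := div_ne_zero (B.Dv_ne g) hc
  have hX : ∀ l, l ≠ 0 → B.Dv g / (B.Dv g / c * σ l) = c / σ l := fun l hl => by
    have := B.Dv_ne g; have := hne l hl; field_simp
  refine ⟨_, hk, σ, hadd, h1, hne, fun l hl => by rw [hX l hl]; exact hf l hl, fun l => ?_⟩
  by_cases hl : l = 0
  · subst hl
    rw [show (lo 0 : SL2 F) = 1 from ext_entries (by simp) (by simp) (by simp) (by simp), one_mul, zero_mul,
      mul_zero, add_zero, add_zero]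
  set g' := lo l * g with hg'
  obtain ⟨c', -, σ', -, -, hne', hf'⟩ := B.exists_semilinear g'
  have hgg : lo l * g' = g := by
    rw [hg', ← mul_assoc, lo_mul, CharTwo.add_self_eq_zero, show (lo 0 : SL2 F) = 1 from
      ext_entries (by simp) (by simp) (by simp) (by simp), one_mul]
  have e1 := hf l hl
  have e2 := hf' l hl
  rw [hgg] at e2
  rw [← hg', ← B.X_ta, ← mul_smul] at e1
  rw [← B.X_ta, ← mul_smul] at e2
  obtain ⟨θ, hθ⟩ := B.comm_up (B.X_mem g) (B.X_mem g')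
  rw [hθ, mul_smul, e2, ← mul_smul, ← map_mul] at e1
  have hm := B.inj₀ _ _ e1
  rw [hg'] at hm
  set μ := c / σ l with hμdef
  set μ' := c' / σ' l
  have hμ : μ ≠ 0 := div_ne_zero hc (hne l hl)
  set δ₁ := B.δ g with hδ
  set δ₂ := B.δ (lo l * g) with hδ'
  have hm' : up θ * (up δ₂ * lo μ' * up δ₂ * lo l) = up δ₁ * lo μ * up δ₁ := mul_right_cancel (b := g) (by
    rw [← hm]; simp only [mul_assoc])
  have r0 := congrArg (fun m : SL2 F => m.1 1 0) hm'
  have r1 := congrArg (fun m : SL2 F => m.1 1 1) hm'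
  simp [mul_entry] at r0 r1
  have hd1 : δ₁ ≠ 0 := B.delta_ne g
  have hd2 : δ₂ ≠ 0 := B.delta_ne _
  have key : μ * δ₁ = μ * δ₂ + l * δ₂ + μ * δ₁ * δ₂ * l := by
    linear_combination δ₂ * r0 - (1 + l * δ₂) * r1 - (l * δ₂ + μ * δ₁ * δ₂ * l) * (CharTwo.two_eq_zero (R := F))
  rw [hg', Dv, Dv, ← hδ, ← hδ']
  have hck : c = μ * σ l := by rw [hμdef, div_mul_cancel₀ _ (hne l hl)]
  have := hne l hl
  rw [hck]
  field_simp
  linear_combination key

theorem Dv_quad (g : SL2 F) (h4 : 4 ≤ Fintype.card F) (l : F) :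
    B.Dv (lo l * g) = B.Dv g + l + B.Dv (wSL * g) * (l * l) ∧
    (l ≠ 0 → B.X g • B.φ (lo l * g) • B.c₀ =
      B.φ (up (B.δ g) * lo (B.Dv g / (B.Dv (wSL * g) * l)) * up (B.δ g) * g) • B.c₀) := by
  have h2 := CharTwo.two_eq_zero (R := F)
  have hline : ∀ g, ∃ k : F, k ≠ 0 ∧ (∀ l, B.Dv (lo l * g) = B.Dv g + l + k * (l * l)) ∧
      ∀ l, l ≠ 0 → B.X g • B.φ (lo l * g) • B.c₀ =
        B.φ (up (B.δ g) * lo (B.Dv g / (k * l)) * up (B.δ g) * g) • B.c₀ := by
    intro g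
    obtain ⟨k, hk, σ, hadd, h1, -, hX, hD⟩ := B.Dv_line g
    have hσ : ∀ x, σ x = x := by
      refine sigma_eq_id hadd h1 h4 fun l₁ hl₁ => ?_
      obtain ⟨k₁, -, σ₁, hadd₁, -, -, -, hD₁⟩ := B.Dv_line (lo l₁ * g)
      refine ⟨fun x => k₁ / k * σ₁ x, fun x y => by simp only [hadd₁]; ring, fun x hx => ?_⟩
      have e := hD₁ x
      rw [← mul_assoc, lo_mul, hD (x + l₁), hD l₁, hadd] at e
      field_simp
      linear_combination (-1 : F) * e
    refine ⟨k, hk, fun l => by rw [hD l, hσ], fun l hl => by rw [hX l hl, hσ]⟩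
  obtain ⟨k, hk, hD, hX⟩ := hline g
  obtain ⟨k', -, hD', -⟩ := hline (wSL * g)
  have hrel : ∀ l, l ≠ 0 → B.Dv g + l + k * (l * l) = B.Dv (wSL * g) * (l * l) + l + k' := by
    intro l hl
    have e : B.Dv (lo l⁻¹ * (wSL * g)) = B.Dv (dia (Units.mk0 l hl) * (lo l * g)) := by
      apply B.Dv_row <;> simp [mul_entry] <;> field_simp <;> ring
    rw [B.Dv_dia, Units.val_mk0, hD', hD] at e
    field_simp at e
    linear_combination (-1 : F) * e
  obtain ⟨e, he0, he1⟩ := exists_not_one h4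
  have hkw : k = B.Dv (wSL * g) := by
    have hne : (1 : F) + e * e ≠ 0 := fun h => he1 (CharTwo.sq_injective (show e ^ 2 = 1 ^ 2 by
      rw [pow_two, one_pow]; exact (CharTwo.add_eq_zero.1 h).symm))
    refine CharTwo.add_eq_zero.1 ((mul_eq_zero.1 (show (k + B.Dv (wSL * g)) * (1 + e * e) = 0 from ?_)).resolve_right hne)
    linear_combination hrel 1 one_ne_zero + hrel e he0 + (B.Dv (wSL * g) * (1 + e * e) + k' - B.Dv g) * h2
  subst hkw
  exact ⟨hD l, hX l⟩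

/-- The squaring map is the quadratic form with coefficients `Dv wSL`, `Dv 1`. -/
theorem Dv_formula (h4 : 4 ≤ Fintype.card F) (g : SL2 F) :
    B.Dv g = B.Dv wSL * (g.1 1 0 * g.1 1 0) + g.1 1 0 * g.1 1 1 + B.Dv 1 * (g.1 1 1 * g.1 1 1) := by
  by_cases hy : g.1 1 1 = 0
  · have hx : g.1 1 0 ≠ 0 := fun hx => by
      have := det2 g
      rw [hx, hy] at this
      simp at this
    have e : B.Dv g = B.Dv (dia (Units.mk0 _ (inv_ne_zero hx)) * wSL) := by
      apply B.Dv_row <;> simp [mul_entry, hy]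
    rw [e, B.Dv_dia, hy, Units.val_mk0]
    field_simp
    ring
  · have e : B.Dv g = B.Dv (dia (Units.mk0 _ (inv_ne_zero hy)) * (lo (g.1 1 0 / g.1 1 1) * 1)) := by
      apply B.Dv_row <;> simp [mul_entry] <;> field_simp
    rw [e, B.Dv_dia, (B.Dv_quad 1 h4 _).1, mul_one, Units.val_mk0]
    field_simp
    ring

/-- A base with the same chart and another base point. -/
def rebase (h : SL2 F) : UBase a t Q F where
  toChart := B.toChart
  setup := B.setup
  c₀ := B.φ h • B.c₀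
  out g := by
    rw [← mul_smul, ← map_mul]
    exact B.out _
  inj₀ g g' e := by
    rw [← mul_smul, ← mul_smul, ← map_mul, ← map_mul] at e
    exact mul_right_cancel (B.inj₀ _ _ e)
  cover ω hω := by
    obtain ⟨g, rfl⟩ := B.cover ω hω
    exact ⟨g * h⁻¹, by rw [← mul_smul, ← map_mul, inv_mul_cancel_right]⟩
  central := B.central
  sq := B.sq

theorem rebase_X (h g : SL2 F) : (B.rebase h).X g = B.X (g * h) :=
  B.eq_X ((B.rebase h).X_mem g) (by
    rw [(B.rebase h).X_ta, map_mul, mul_smul]; rfl)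

theorem rebase_Dv (h g : SL2 F) : (B.rebase h).Dv g = B.Dv (g * h) := by
  rw [Dv, Dv]
  congr 1
  apply B.phi_up_inj
  show (B.rebase h).φ _ = _
  rw [← B.X_sq, ← (B.rebase h).X_sq, B.rebase_X]

include B in
theorem exists_normal (h4 : 4 ≤ Fintype.card F) {ε : F} (hε : ∀ τ, τ * τ + τ ≠ ε) :
    ∃ B' : UBase a t Q F, ∀ g, B'.Dv g = qf ε (g.1 1 0) (g.1 1 1) := by
  set A := B.Dv wSL with hA
  set K := B.Dv 1 with hK
  have hA0 : A ≠ 0 := B.Dv_ne _
  obtain ⟨α, hα⟩ : ∃ α : F, α ^ 2 = A⁻¹ := Finite.injective_iff_surjective.1 CharTwo.sq_injective _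
  have hAα : A * (α * α) = 1 := by rw [← pow_two, hα, mul_inv_cancel₀ hA0]
  have hα0 : α ≠ 0 := fun e => by rw [e] at hAα; simp at hAα
  have hCA : ∀ τ, τ * τ + τ ≠ K * A := by
    intro τ hτ
    refine B.Dv_ne (lo (τ / A)) ?_
    rw [B.Dv_formula h4, ← hA, ← hK]
    simp
    field_simp
    linear_combination hτ + (K * A) * (CharTwo.two_eq_zero (R := F))
  obtain ⟨τ, hτ⟩ := artinSchreier_index hCA hε
  obtain ⟨h, hh⟩ : ∃ h : SL2 F, h.1 = !![α, 0; α * τ, α⁻¹] :=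
    ⟨⟨_, by simp [Matrix.det_fin_two, hα0]⟩, rfl⟩
  refine ⟨B.rebase h, fun g => ?_⟩
  rw [B.rebase_Dv, B.Dv_formula h4, ← hA, ← hK]
  simp [mul_entry, qf, hh]
  rw [show α⁻¹ = A * α from inv_eq_of_mul_eq_one_left (by linear_combination hAα)]
  linear_combination ((g.1 1 0 + τ * g.1 1 1) * (g.1 1 0 + τ * g.1 1 1) + (g.1 1 0 + τ * g.1 1 1) * g.1 1 1 +
    K * A * (g.1 1 1 * g.1 1 1)) * hAα + (g.1 1 1 * g.1 1 1) * hτ +
    (K * A * (g.1 1 1 * g.1 1 1) + τ * g.1 1 0 * g.1 1 1) * (CharTwo.two_eq_zero (R := F))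

end UBase

end CfsgLib.SuzukiRankOne
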